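import Mathlib
import Cfsg.Prelude.Def_GeometricClasses
import Cfsg.Agent.Lib.Helper99.AschDefs

/-!
# Project ASCHSP (S5662): shared vocabulary for the symplectic Aschbacher theorem

Everything is stated for an abstract index type `ι` and an abstract two-argument form `f`, so that the modules of
helper99's project ASCH (stated for `Fin n`) can be used after one reindexing at the very end.  Only definitions and
`rfl`-lemmas here.
-/

set_option autoImplicit false

namespace Cfsg.Agent.Lib.Helper23.AschSp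

open Cfsg Cfsg.Geo Cfsg.Agent.Lib.Helper99.Asch
open scoped MatrixGroups Matrix Kronecker

variable {ι : Type} [Fintype ι] [DecidableEq ι] {F : Type*} [Field F]

/-- The isometry group in `GL(ι, F)` of a two-argument form (the frozen `preserving` at `glToMat`). -/
def isoGL (f : (ι → F) → (ι → F) → F) : Subgroup (GL ι F) :=
  preserving (glToMat ι F) f

theorem mem_isoGL {f : (ι → F) → (ι → F) → F} {g : GL ι F} :
    g ∈ isoGL f ↔ ∀ u v, f ((g : Matrix ι ι F) *ᵥ u) ((g : Matrix ι ι F) *ᵥ v) = f u v :=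
  Iff.rfl

theorem spGL_eq_isoGL (m : ℕ) : spGL m F = isoGL (sympForm m F) := rfl

/-! The eleven disjuncts of `Cfsg.Geo.InSymplecticClass`, for an abstract index type and an abstract form `f`
(isometry group `isoGL f`; `m` is half the dimension). -/

/-- class 1, totally singular subspace -/
def SpC1s (f : (ι → F) → (ι → F) → F) (M : Subgroup (GL ι F)) : Prop :=
  ∃ W : Submodule F (ι → F), W ≠ ⊥ ∧ IsTotallySingularFor f W ∧ M = subspaceStabilizer W ⊓ isoGL f

/-- class 1, nondegenerate subspace of dimension < m -/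
def SpC1n (m : ℕ) (f : (ι → F) → (ι → F) → F) (M : Subgroup (GL ι F)) : Prop :=
  ∃ W : Submodule F (ι → F), W ≠ ⊥ ∧ IsNondegenerateOn f W ∧ Module.finrank F W < m ∧
      M = subspaceStabilizer W ⊓ isoGL f

/-- class 2, nondegenerate decomposition -/
def SpC2n (f : (ι → F) → (ι → F) → F) (M : Subgroup (GL ι F)) : Prop :=
  ∃ (t k : ℕ) (D : Fin t → Submodule F (ι → F)), IsNondegenerateMDecomposition f k D ∧
      M = decompositionStabilizer D ⊓ isoGL f

/-- class 2, pair of totally singular subspaces (|F| odd) -/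
def SpC2s [Fintype F] (m : ℕ) (f : (ι → F) → (ι → F) → F) (M : Subgroup (GL ι F)) : Prop :=
  ∃ (D : Fin 2 → Submodule F (ι → F)), Odd (Fintype.card F) ∧ IsMDecomposition m D ∧
      (∀ i, IsTotallySingularFor f (D i)) ∧ M = decompositionStabilizer D ⊓ isoGL f

/-- class 5, subfield group -/
def SpC5 [Fintype F] (f : (ι → F) → (ι → F) → F) (M : Subgroup (GL ι F)) : Prop :=
  ∃ (F₀ : Subfield F) (r : ℕ) (P : GL ι F) (ζ : F), r.Prime ∧ Fintype.card F = Nat.card F₀ ^ r ∧ ζ ≠ 0 ∧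
      IsFormRationalStructure f F₀ ζ P ∧ M = subfieldSubgroup F₀ P ⊓ isoGL f

/-- class 6, normaliser of a 2-group of symplectic type, minus type, |F| = p; REFINED as in helper94's
`Cfsg.Agent.Lib.Helper94.BHRSP.InSymplecticClassR`: it also records `2 ^ k = 2 * m` (the dimension is `2 ^ k`). -/
def SpC6 [Fintype F] (m : ℕ) (f : (ι → F) → (ι → F) → F) (M : Subgroup (GL ι F)) : Prop :=
  ∃ (R : Subgroup (GL ι F)) (p k : ℕ), IsSymplecticTypeGroup 2 R ∧
      ActsAbsolutelyIrreducibly (matrixSet R) ∧ R ≤ similarityGroup f ∧ p.Prime ∧ Odd p ∧ Fintype.card F = p ∧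
      Nat.card R = 2 ^ (1 + 2 * k) ∧ Nat.card (Subgroup.center R) = 2 ∧ IsOfMinusType k R ∧
      2 ^ k = 2 * m ∧
      M = subgroupNormalizer R ⊓ isoGL f

/-- class 8, quadratic form polarising to `f` (|F| even) -/
def SpC8 [Fintype F] (f : (ι → F) → (ι → F) → F) (M : Subgroup (GL ι F)) : Prop :=
  ∃ Q : (ι → F) → F, ¬ Odd (Fintype.card F) ∧ IsNondegenerateQuadraticForm Q ∧
      (∀ u v, QuadraticMap.polar Q u v = f u v) ∧ M = quadSimilarityGroup Q ⊓ isoGL f

/-- class 3, self-adjoint field of prime degree -/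
def SpC3s (f : (ι → F) → (ι → F) → F) (M : Subgroup (GL ι F)) : Prop :=
  ∃ (r : ℕ) (K : Subalgebra F (Matrix ι ι F)), r.Prime ∧ IsFieldSubalgebra r K ∧
      IsSelfAdjointFor f K ∧ (∀ k ∈ K, ∀ v, f (k *ᵥ v) v = 0) ∧ M = subalgebraNormalizer K ⊓ isoGL f

/-- class 3, adjoint-closed quadratic field, not self-adjoint (|F| odd) -/
def SpC3u [Fintype F] (f : (ι → F) → (ι → F) → F) (M : Subgroup (GL ι F)) : Prop :=
  ∃ K : Subalgebra F (Matrix ι ι F), Odd (Fintype.card F) ∧ IsFieldSubalgebra 2 K ∧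
      IsAdjointClosedFor f K ∧ ¬ IsSelfAdjointFor f K ∧ M = subalgebraNormalizer K ⊓ isoGL f

/-- class 4, symplectic ⊗ symmetric (|F| odd) -/
def SpC4 [Fintype F] (f : (ι → F) → (ι → F) → F) (M : Subgroup (GL ι F)) : Prop :=
  ∃ (n₁ n₂ : ℕ) (e : ι ≃ Fin n₁ × Fin n₂) (P : GL ι F)
      (f₁ : (Fin n₁ → F) → (Fin n₁ → F) → F) (f₂ : (Fin n₂ → F) → (Fin n₂ → F) → F),
      Odd (Fintype.card F) ∧ 3 ≤ n₂ ∧ IsSymplecticForm f₁ ∧ IsSymmetricForm f₂ ∧
      IsTensorFormStructure id f f₁ f₂ e P ∧ M = tensorProductSubgroup n₁ n₂ e P ⊓ isoGL f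

/-- class 7, odd tensor power of a symplectic form (|F| odd) -/
def SpC7 [Fintype F] (f : (ι → F) → (ι → F) → F) (M : Subgroup (GL ι F)) : Prop :=
  ∃ (k t : ℕ) (e : ι ≃ (Fin t → Fin k)) (P : GL ι F) (f₁ : (Fin k → F) → (Fin k → F) → F),
      Odd (Fintype.card F) ∧ Odd t ∧ 3 ≤ t ∧ ¬ (Fintype.card F = 3 ∧ k = 2) ∧ IsSymplecticForm f₁ ∧
      IsTensorPowerFormStructure id f f₁ e P ∧ M = tensorWreathSubgroup k t e P ⊓ isoGL f

/-- `Cfsg.Geo.InSymplecticClass` (refined in class 6, see `SpC6`) for an abstract index type and an abstract form `f`. -/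
def InSpClassGen [Fintype F] (m : ℕ) (f : (ι → F) → (ι → F) → F) (M : Subgroup (GL ι F)) : Prop :=
  (SpC1s f M ∨ SpC1n m f M ∨ SpC2n f M ∨ SpC2s m f M ∨ SpC5 f M ∨ SpC6 m f M ∨ SpC8 f M) ∨
    SpC3s f M ∨ SpC3u f M ∨ SpC4 f M ∨ SpC7 f M

/-- the refined abstract class gives the frozen class -/
theorem inSymplecticClass_of [Fintype F] (m : ℕ) (M : Subgroup (GL (Fin m ⊕ Fin m) F))
    (h : InSpClassGen m (sympForm m F) M) : InSymplecticClass m F M := by
  rcases h with (h | h | h | h | h | h | h) | h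
  · exact Or.inl (Or.inl h)
  · exact Or.inl (Or.inr (Or.inl h))
  · exact Or.inl (Or.inr (Or.inr (Or.inl h)))
  · exact Or.inl (Or.inr (Or.inr (Or.inr (Or.inl h))))
  · exact Or.inl (Or.inr (Or.inr (Or.inr (Or.inr (Or.inl h)))))
  · obtain ⟨R, p, k, h1, h2, h3, h4, h5, h6, h7, h8, h9, -, h10⟩ := h
    exact Or.inl (Or.inr (Or.inr (Or.inr (Or.inr (Or.inr (Or.inl
      ⟨R, p, k, h1, h2, h3, h4, h5, h6, h7, h8, h9, h10⟩))))))
  · exact Or.inl (Or.inr (Or.inr (Or.inr (Or.inr (Or.inr (Or.inr h))))))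
  · exact Or.inr h

/-- `H` lies in a member of one of the eight classes for the isometry group of `f`. -/
def SGeo [Fintype F] (m : ℕ) (f : (ι → F) → (ι → F) → F) (H : Subgroup (GL ι F)) : Prop :=
  ∃ M : Subgroup (GL ι F), InSpClassGen m f M ∧ H ≤ M

section constructors
variable [Fintype F] {m : ℕ} {f : (ι → F) → (ι → F) → F} {H M : Subgroup (GL ι F)}

theorem SGeo.of_c1s (h : SpC1s f M) (hle : H ≤ M) : SGeo m f H := ⟨M, Or.inl (Or.inl h), hle⟩
theorem SGeo.of_c1n (h : SpC1n m f M) (hle : H ≤ M) : SGeo m f H := ⟨M, Or.inl (Or.inr (Or.inl h)), hle⟩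
theorem SGeo.of_c2n (h : SpC2n f M) (hle : H ≤ M) : SGeo m f H :=
  ⟨M, Or.inl (Or.inr (Or.inr (Or.inl h))), hle⟩
theorem SGeo.of_c2s (h : SpC2s m f M) (hle : H ≤ M) : SGeo m f H :=
  ⟨M, Or.inl (Or.inr (Or.inr (Or.inr (Or.inl h)))), hle⟩
theorem SGeo.of_c5 (h : SpC5 f M) (hle : H ≤ M) : SGeo m f H :=
  ⟨M, Or.inl (Or.inr (Or.inr (Or.inr (Or.inr (Or.inl h))))), hle⟩
theorem SGeo.of_c6 (h : SpC6 m f M) (hle : H ≤ M) : SGeo m f H :=
  ⟨M, Or.inl (Or.inr (Or.inr (Or.inr (Or.inr (Or.inr (Or.inl h)))))), hle⟩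
theorem SGeo.of_c8 (h : SpC8 f M) (hle : H ≤ M) : SGeo m f H :=
  ⟨M, Or.inl (Or.inr (Or.inr (Or.inr (Or.inr (Or.inr (Or.inr h)))))), hle⟩
theorem SGeo.of_c3s (h : SpC3s f M) (hle : H ≤ M) : SGeo m f H := ⟨M, Or.inr (Or.inl h), hle⟩
theorem SGeo.of_c3u (h : SpC3u f M) (hle : H ≤ M) : SGeo m f H := ⟨M, Or.inr (Or.inr (Or.inl h)), hle⟩
theorem SGeo.of_c4 (h : SpC4 f M) (hle : H ≤ M) : SGeo m f H :=
  ⟨M, Or.inr (Or.inr (Or.inr (Or.inl h))), hle⟩
theorem SGeo.of_c7 (h : SpC7 f M) (hle : H ≤ M) : SGeo m f H :=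
  ⟨M, Or.inr (Or.inr (Or.inr (Or.inr h))), hle⟩

end constructors

/-- Restricted `NAI`: every subgroup of `H · scalars` normalised by `H` is scalar or absolutely irreducible. -/
def NAIz (H : Subgroup (GL ι F)) : Prop :=
  ∀ N : Subgroup (GL ι F), N ≤ H ⊔ scalars ι F → Nrm H N →
    N ≤ scalars ι F ∨ ActsAbsolutelyIrreducibly (matrixSet N)

/-- The adjoint of the matrix `k` for the bilinear form `f` with Gram matrix `G`: `G⁻¹ kᵀ G`, so that
`f (k u) v = f u (adjMat f k v)`. -/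
noncomputable def adjMat (f : (ι → F) → (ι → F) → F) (k : Matrix ι ι F) : Matrix ι ι F :=
  (gramMatrix f)⁻¹ * kᵀ * gramMatrix f

/-- The form `f` transported along a bijection of index types. -/
def formReindex {κ : Type} (e : ι ≃ κ) (f : (ι → F) → (ι → F) → F) : (κ → F) → (κ → F) → F :=
  fun u v => f (u ∘ e) (v ∘ e)

/-- The orthogonal complement of `W` for the form with the Gram matrix of `f` (for bilinear `f` this is
`{v | ∀ w ∈ W, f w v = 0}`, see ASCHSP-[PERP]). -/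
def perp (f : (ι → F) → (ι → F) → F) (W : Submodule F (ι → F)) : Submodule F (ι → F) where
  carrier := {v | ∀ w ∈ W, w ⬝ᵥ (gramMatrix f *ᵥ v) = 0}
  add_mem' {a b} ha hb := by
    intro w hw
    rw [Matrix.mulVec_add, dotProduct_add, ha w hw, hb w hw, add_zero]
  zero_mem' := by
    intro w _
    rw [Matrix.mulVec_zero, dotProduct_zero]
  smul_mem' c a ha := by
    intro w hw
    rw [Matrix.mulVec_smul, dotProduct_smul, ha w hw, smul_zero]

/-- The square matrix `J` is alternating: skew-symmetric with zero diagonal. -/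
def IsAltMat {κ : Type} (J : Matrix κ κ F) : Prop := Jᵀ = -J ∧ ∀ i, J i i = 0

/-- Tensor data for `H` and the form `f`: after the base change `B` and the index bijection `idx` every element of `H`
is a Kronecker product `a ⊗ b`, and the form `f` has the Gram matrix `J₁ ⊗ C` with `J₁`, `C` invertible. -/
structure TensorFormData {n : ℕ} (f : (Fin n → F) → (Fin n → F) → F) (H : Subgroup (GL (Fin n) F)) (d e : ℕ)
    (idx : Fin n ≃ Fin d × Fin e) (B : GL (Fin n) F) (J₁ : Matrix (Fin d) (Fin d) F)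
    (C : Matrix (Fin e) (Fin e) F) : Prop where
  kron : ∀ h ∈ H, ∃ (a : GL (Fin d) F) (b : GL (Fin e) F),
    ((B * h * B⁻¹ : GL (Fin n) F) : Matrix (Fin n) (Fin n) F) =
      Matrix.reindex idx.symm idx.symm ((a : Matrix (Fin d) (Fin d) F) ⊗ₖ (b : Matrix (Fin e) (Fin e) F))
  gram : ∀ x y : Fin d × Fin e → F,
    f (((B⁻¹ : GL (Fin n) F) : Matrix (Fin n) (Fin n) F) *ᵥ (x ∘ idx))
      (((B⁻¹ : GL (Fin n) F) : Matrix (Fin n) (Fin n) F) *ᵥ (y ∘ idx)) = formOfGram id (J₁ ⊗ₖ C) x y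
  det₁ : J₁.det ≠ 0
  det₂ : C.det ≠ 0

/-- Slot data for `P = ⨆ Q i` and the form `f`: after `B` and `idx` every element of `Q i` is a slot matrix in slot `i`,
the slot algebras are spanned by the `Q i`, and `f` has the Gram matrix `∏ i, G i (a i) (b i)`. -/
structure SlotFormData {n : ℕ} (f : (Fin n → F) → (Fin n → F) → F) {k : ℕ} (Q : Fin k → Subgroup (GL (Fin n) F))
    (d : ℕ) (idx : Fin n ≃ (Fin k → Fin d)) (B : GL (Fin n) F) (G : Fin k → Matrix (Fin d) (Fin d) F) : Prop where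
  slot : ∀ i, ∀ x ∈ Q i, ∃ a : GL (Fin d) F,
    ((B * x * B⁻¹ : GL (Fin n) F) : Matrix (Fin n) (Fin n) F) =
      Matrix.reindex idx.symm idx.symm (slotMatrix i (a : Matrix (Fin d) (Fin d) F))
  span : ∀ i (a : Matrix (Fin d) (Fin d) F),
    ((B⁻¹ : GL (Fin n) F) : Matrix (Fin n) (Fin n) F) *
      Matrix.reindex idx.symm idx.symm (slotMatrix i a) * (B : Matrix (Fin n) (Fin n) F) ∈
      Submodule.span F (matrixSet (Q i))
  gram : ∀ x y : (Fin k → Fin d) → F,
    f (((B⁻¹ : GL (Fin n) F) : Matrix (Fin n) (Fin n) F) *ᵥ (x ∘ idx))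
      (((B⁻¹ : GL (Fin n) F) : Matrix (Fin n) (Fin n) F) *ᵥ (y ∘ idx)) =
      ∑ a, ∑ b, x a * (∏ i, G i (a i) (b i)) * y b
  det : ∀ i, (G i).det ≠ 0

end Cfsg.Agent.Lib.Helper23.AschSp
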