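import Cfsg.Prelude.Def_OddOrderLocal

set_option autoImplicit false

namespace Cfsg.Agent.Lib.Helper23

open Cfsg

/-- Order of a subgroup times a relative index. -/
theorem card_mul_relIndex_of_le {G : Type*} [Group G] {K L : Subgroup G} (h : K ≤ L) :
    Nat.card ↥K * K.relIndex L = Nat.card ↥L := by
  have := Subgroup.relIndex_mul_relIndex (⊥ : Subgroup G) K L bot_le h
  rwa [Subgroup.relIndex_bot_left, Subgroup.relIndex_bot_left] at this

/-- A complement pair inside `M` multiplies to the order of `M`. -/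
theorem card_of_isComplIn {G : Type*} [Group G] {A B M : Subgroup G} (h : IsComplIn A B M) :
    Nat.card ↥M = Nat.card ↥A * Nat.card ↥B := by
  obtain ⟨hA, hB, hAB, hfact⟩ := h
  rw [← Nat.card_prod]
  symm
  let f : ↥A × ↥B → ↥M := fun x => ⟨x.1.1 * x.2.1, M.mul_mem (hA x.1.2) (hB x.2.2)⟩
  apply Nat.card_congr
  apply Equiv.ofBijective f
  constructor
  · rintro ⟨⟨a, ha⟩, ⟨b, hb⟩⟩ ⟨⟨a', ha'⟩, ⟨b', hb'⟩⟩ hab
    have hab' : a * b = a' * b' := congrArg Subtype.val hab
    have h1 : a'⁻¹ * a = b' * b⁻¹ := by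
      have : a'⁻¹ * (a * b) * b⁻¹ = a'⁻¹ * (a' * b') * b⁻¹ := by rw [hab']
      simpa [mul_assoc] using this
    have h2 : a'⁻¹ * a ∈ A ⊓ B := by
      refine ⟨A.mul_mem (A.inv_mem ha') ha, ?_⟩
      show a'⁻¹ * a ∈ B
      rw [h1]
      exact B.mul_mem hb' (B.inv_mem hb)
    rw [hAB, Subgroup.mem_bot] at h2
    have h3 : a = a' := by
      have := congrArg (fun t => a' * t) h2
      simpa using this
    have h4 : b' * b⁻¹ = 1 := by rw [← h1, h2]
    have h5 : b = b' := by
      have := congrArg (fun t => t * b) h4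
      simpa using this.symm
    subst h3 h5
    rfl
  · rintro ⟨m, hm⟩
    obtain ⟨a, ha, b, hb, hmab⟩ := hfact m hm
    exact ⟨(⟨a, ha⟩, ⟨b, hb⟩), Subtype.ext hmab.symm⟩

/-- The join of two normal Hall subgroups is Hall. -/
theorem coprime_card_index_sup {M : Type*} [Group M] [Finite M] (N₁ N₂ : Subgroup M) [N₁.Normal]
    (h₁ : (Nat.card ↥N₁).Coprime N₁.index) (h₂ : (Nat.card ↥N₂).Coprime N₂.index) :
    (Nat.card ↥(N₁ ⊔ N₂)).Coprime (N₁ ⊔ N₂).index := by
  have hc : Nat.card ↥(N₁ ⊔ N₂) ∣ Nat.card ↥N₁ * Nat.card ↥N₂ := by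
    rw [← card_mul_relIndex_of_le (le_sup_left : N₁ ≤ N₁ ⊔ N₂), Subgroup.relIndex_sup_left]
    exact Nat.mul_dvd_mul_left _ (Subgroup.relIndex_dvd_card _ _)
  have hi1 : (N₁ ⊔ N₂).index ∣ N₁.index := Subgroup.index_dvd_of_le le_sup_left
  have hi2 : (N₁ ⊔ N₂).index ∣ N₂.index := Subgroup.index_dvd_of_le le_sup_right
  have hA : (Nat.card ↥N₁ * Nat.card ↥N₂).Coprime (N₁ ⊔ N₂).index :=
    Nat.Coprime.mul_left (h₁.coprime_dvd_right hi1) (h₂.coprime_dvd_right hi2)
  exact hA.coprime_dvd_left hc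

/-- `M_F` is a Hall subgroup of a finite group `M`. -/
theorem fittingHall_coprime (M : Type*) [Group M] [Finite M] :
    (Nat.card ↥(fittingHall M)).Coprime (fittingHall M).index := by
  classical
  unfold fittingHall
  have key : ∀ S : Set (Subgroup M), S.Finite →
      (∀ N ∈ S, N.Normal ∧ (Nat.card ↥N).Coprime N.index) →
      (sSup S).Normal ∧ (Nat.card ↥(sSup S)).Coprime (sSup S).index := by
    intro S hS
    induction S, hS using Set.Finite.induction_on with
    | empty =>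
      intro _
      rw [sSup_empty]
      refine ⟨inferInstance, ?_⟩
      simp
    | @insert a S _ _ ih =>
      intro h
      rw [sSup_insert]
      have ha := h a (Set.mem_insert _ _)
      have hS' := ih (fun N hN => h N (Set.mem_insert_of_mem _ hN))
      have := ha.1
      have := hS'.1
      exact ⟨inferInstance, coprime_card_index_sup a (sSup S) ha.2 hS'.2⟩
  exact (key _ (Set.toFinite _) (fun N hN => ⟨hN.1, hN.2.2⟩)).2

/-- If conjugation by `u` agrees on `H` with conjugation by an element `h ∈ H`, and the order of `u`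
is coprime to the order of `H`, then `u` centralizes `H`. -/
theorem mem_centralizer_of_conj_eq_inner {G : Type*} [Group G] (H : Subgroup G) [Finite ↥H]
    (u h : G) (hh : h ∈ H) (hconj : ∀ y ∈ H, u * y * u⁻¹ = h * y * h⁻¹)
    (hcop : (Nat.card ↥H).Coprime (orderOf u)) : u ∈ Subgroup.centralizer (H : Set G) := by
  have hpow : ∀ k : ℕ, ∀ y ∈ H, u ^ k * y * (u ^ k)⁻¹ = h ^ k * y * (h ^ k)⁻¹ := by
    intro k
    induction k with
    | zero => intro y _; simp
    | succ k ih =>
      intro y hy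
      have hmem : h ^ k * y * (h ^ k)⁻¹ ∈ H :=
        H.mul_mem (H.mul_mem (H.pow_mem hh k) hy) (H.inv_mem (H.pow_mem hh k))
      calc u ^ (k + 1) * y * (u ^ (k + 1))⁻¹
          = u * (u ^ k * y * (u ^ k)⁻¹) * u⁻¹ := by rw [pow_succ']; group
        _ = u * (h ^ k * y * (h ^ k)⁻¹) * u⁻¹ := by rw [ih y hy]
        _ = h * (h ^ k * y * (h ^ k)⁻¹) * h⁻¹ := hconj _ hmem
        _ = h ^ (k + 1) * y * (h ^ (k + 1))⁻¹ := by rw [pow_succ']; group
  have hh1 : h ^ Nat.card ↥H = 1 := by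
    have : (⟨h, hh⟩ : ↥H) ^ Nat.card ↥H = 1 := pow_card_eq_one'
    exact congrArg Subtype.val this
  have hcent : u ^ Nat.card ↥H ∈ Subgroup.centralizer (H : Set G) := by
    rw [Subgroup.mem_centralizer_iff]
    intro y hy
    have := hpow (Nat.card ↥H) y hy
    rw [hh1] at this
    have h2 : u ^ Nat.card ↥H * y * (u ^ Nat.card ↥H)⁻¹ = y := by simpa using this
    have h3 := congrArg (fun t => t * u ^ Nat.card ↥H) h2
    simp only [inv_mul_cancel_right] at h3
    exact h3.symm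
  obtain ⟨m, hm⟩ := exists_pow_eq_self_of_coprime hcop
  rw [← hm]
  exact Subgroup.pow_mem _ hcent m

/-- Order bookkeeping for type P data: `|H|` is coprime to `|U|` and `|W₁|` is coprime to `|U|`. -/
theorem typeP_coprime {G : Type*} [Group G] [Finite G] {M W₁ U W₂ : Subgroup G}
    (hP : IsTypePWith M W₁ U W₂) :
    (Nat.card ↥(fittingHallOf M)).Coprime (Nat.card ↥U) ∧ (Nat.card ↥W₁).Coprime (Nat.card ↥U) := by
  have hcH : Nat.card ↥(fittingHallOf M) = Nat.card ↥(fittingHall ↥M) := by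
    unfold fittingHallOf
    exact Nat.card_congr ((fittingHall ↥M).equivMapOfInjective M.subtype M.subtype_injective).toEquiv.symm
  have h1 := card_of_isComplIn hP.W₁_compl
  have h2 := card_of_isComplIn hP.U_compl
  have h3 := fittingHall_coprime ↥M
  have h4 : Nat.card ↥(fittingHall ↥M) * (fittingHall ↥M).index = Nat.card ↥M :=
    Subgroup.card_mul_index _
  have hpos : 0 < Nat.card ↥(fittingHallOf M) := Nat.card_pos
  have hidx : (fittingHall ↥M).index = Nat.card ↥U * Nat.card ↥W₁ := by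
    have : Nat.card ↥(fittingHallOf M) * (fittingHall ↥M).index =
        Nat.card ↥(fittingHallOf M) * (Nat.card ↥U * Nat.card ↥W₁) := by
      rw [hcH, h4, h1, h2, hcH, mul_assoc]
    exact Nat.eq_of_mul_eq_mul_left hpos this
  constructor
  · rw [hcH]
    rw [hidx] at h3
    exact h3.coprime_dvd_right (Dvd.intro _ rfl)
  · have h5 := hP.W₁_hall
    have h6 : Nat.card ↥W₁ * W₁.relIndex M = Nat.card ↥M :=
      card_mul_relIndex_of_le hP.W₁_compl.2.1
    have hpos1 : 0 < Nat.card ↥W₁ := Nat.card_pos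
    have h7 : W₁.relIndex M = Nat.card ↥(fittingHallOf M) * Nat.card ↥U := by
      have : Nat.card ↥W₁ * W₁.relIndex M = Nat.card ↥W₁ * (Nat.card ↥(fittingHallOf M) * Nat.card ↥U) := by
        rw [h6, h1, h2, mul_comm]
      exact Nat.eq_of_mul_eq_mul_left hpos1 this
    rw [h7] at h5
    exact h5.coprime_dvd_right (Dvd.intro_left _ rfl)

/-- Elements of the join of two elementwise commuting subgroups are products. -/
theorem exists_mul_of_mem_sup_of_commute {G : Type*} [Group G] (A B : Subgroup G)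
    (hcomm : ∀ a ∈ A, ∀ b ∈ B, a * b = b * a) {x : G} (hx : x ∈ A ⊔ B) :
    ∃ a ∈ A, ∃ b ∈ B, x = a * b := by
  have comm : ∀ (m : ↥A) (n : ↥B), Commute (A.subtype m) (B.subtype n) :=
    fun m n => hcomm m.1 m.2 n.1 n.2
  have hrange : (A.subtype.noncommCoprod B.subtype comm).range = A ⊔ B := by
    rw [MonoidHom.noncommCoprod_range, Subgroup.range_subtype, Subgroup.range_subtype]
  rw [← hrange] at hx
  obtain ⟨⟨a, b⟩, rfl⟩ := hx
  exact ⟨a.1, a.2, b.1, b.2, rfl⟩

/-- The derived subgroup of `M` is normalized by `M`. -/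
theorem conj_mem_commutator_self {G : Type*} [Group G] (M : Subgroup G) {m x : G} (hm : m ∈ M)
    (hx : x ∈ ⁅M, M⁆) : m * x * m⁻¹ ∈ ⁅M, M⁆ := by
  rw [← Subgroup.map_subtype_commutator] at hx ⊢
  obtain ⟨x', hx', rfl⟩ := hx
  have hn : (_root_.commutator ↥M).Normal := inferInstance
  exact ⟨⟨m, hm⟩ * x' * ⟨m, hm⟩⁻¹, hn.conj_mem x' hx' ⟨m, hm⟩, rfl⟩

end Cfsg.Agent.Lib.Helper23
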