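/-
helper23 shared library: Bender–Glauberman Corollary 10.7 (a): a Sylow `p`-subgroup `P` of a minimal
simple group of odd order lies in `N_G(P)'`, and `P = [P, V]` for a complement `V` of `P` in `N_G(P)`.
Proved from the statement of S1410 (BG Theorem 10.6) taken as a hypothesis.
All declarations live in `Cfsg.Agent.Lib.Helper23`.
-/
import Mathlib
import Cfsg.Prelude.Def_OddOrderLocal
import Cfsg.Agent.Lib.Helper24.MinSimpleTransfer
import Cfsg.Agent.S1459
import Cfsg.Agent.S1461

set_option autoImplicit false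

namespace Cfsg.Agent.Lib.Helper23

open Cfsg
open scoped commutatorElement

universe u

section Ten7

variable {G : Type u} [Group G] [Finite G]

/-- The statement of S1410 for the group `G`, as a hypothesis. -/
def Stmt1410 (G : Type*) [Group G] : Prop :=
  ∀ (p : ℕ) [Fact p.Prime] (H : Subgroup G), H ≠ ⊤ → Cfsg.PLengthLE p 1 ↥H

/-- a minimal simple group of odd order is perfect -/
theorem commutator_eq_top_of_minSimpleOdd (hG : IsMinSimpleOddOrder G) : commutator G = ⊤ := by
  obtain ⟨-, hsimple, hna, -⟩ := hG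
  have hn : (commutator G).Normal := inferInstance
  rcases hsimple.eq_bot_or_eq_top_of_normal (commutator G) hn with h | h
  · exfalso
    apply hna
    refine ⟨⟨fun a b => ?_⟩⟩
    have h1 : ⁅a, b⁆ ∈ commutator G := by
      rw [commutator_def]
      exact Subgroup.commutator_mem_commutator (Subgroup.mem_top a) (Subgroup.mem_top b)
    rw [h, Subgroup.mem_bot] at h1
    exact commutatorElement_eq_one_iff_mul_comm.mp h1
  · exact h

/-- pull `H ≤ ⁅N, N⁆` (in `G`) back to `H.subgroupOf N ≤ commutator ↥N` -/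
theorem subgroupOf_le_commutator {X : Type*} [Group X] {H N : Subgroup X} (h : H ≤ ⁅N, N⁆) :
    H.subgroupOf N ≤ commutator ↥N := by
  intro x hx
  rw [Subgroup.mem_subgroupOf] at hx
  have hx' : (x : X) ∈ ⁅N, N⁆ := h hx
  rw [← Subgroup.map_subtype_commutator] at hx'
  obtain ⟨y, hy, hyx⟩ := hx'
  have : y = x := Subtype.ext hyx
  rwa [← this]

/-- the image in `G` of the normalizer in `N` of `P ∩ N`, for `P ≤ N`, normalizes `P` -/
theorem map_normalizer_subgroupOf_le {X : Type*} [Group X] {P N : Subgroup X} (hPN : P ≤ N) :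
    (Subgroup.normalizer ((P.subgroupOf N : Subgroup ↥N) : Set ↥N)).map N.subtype ≤
      Subgroup.normalizer (P : Set X) := by
  rintro _ ⟨n, hn, rfl⟩
  rw [Subgroup.mem_normalizer_iff]
  intro h
  constructor
  · intro hh
    have := (Subgroup.mem_normalizer_iff.mp hn ⟨h, hPN hh⟩).mp (Subgroup.mem_subgroupOf.mpr hh)
    exact Subgroup.mem_subgroupOf.mp this
  · intro hh
    have hN : h ∈ N := by
      have h1 : (n : X)⁻¹ * ((n : X) * h * (n : X)⁻¹) * (n : X) ∈ N :=
        N.mul_mem (N.mul_mem (N.inv_mem n.2) (hPN hh)) n.2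
      have h2 : (n : X)⁻¹ * ((n : X) * h * (n : X)⁻¹) * (n : X) = h := by group
      rwa [h2] at h1
    have := (Subgroup.mem_normalizer_iff.mp hn ⟨h, hN⟩).mpr (Subgroup.mem_subgroupOf.mpr hh)
    exact Subgroup.mem_subgroupOf.mp this

/-- **Bender–Glauberman, Corollary 10.7 (a)**, first half: `P ≤ N_G(P)'`. -/
theorem sylow_le_commutator_normalizer (h1410 : Stmt1410 G) (hG : IsMinSimpleOddOrder G) (p : ℕ)
    [Fact p.Prime] (P : Sylow p G) :
    (P : Subgroup G) ≤ ⁅Subgroup.normalizer ((P : Subgroup G) : Set G),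
      Subgroup.normalizer ((P : Subgroup G) : Set G)⁆ := by
  by_cases hP1 : (P : Subgroup G) = ⊥
  · rw [hP1]; exact bot_le
  have hG' := hG
  obtain ⟨hodd, hsimple, hna, hsolv⟩ := hG
  have hcf := Cfsg.Agent.Lib.Helper33.isConjugacyFunctor_inducedFunctor Cfsg.kInfLower
    (Cfsg.Agent.Lib.Helper33.isCharPFunctor_kInfLower p) (G := G)
  set W : Subgroup G := Cfsg.inducedFunctor Cfsg.kInfLower (P : Subgroup G) with hW
  set N : Subgroup G := Subgroup.normalizer (W : Set G) with hN
  have hWP : W ≤ (P : Subgroup G) := (hcf P P.isPGroup').1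
  have hW1 : W ≠ ⊥ := (hcf P P.isPGroup').2.1 hP1
  have hWp : IsPGroup p W := P.isPGroup'.to_le hWP
  have hNtop : N ≠ ⊤ :=
    Cfsg.Agent.Lib.Helper54.normalizer_ne_top_of_simple hsimple hW1
      (Cfsg.Agent.Lib.Helper54.ne_top_of_isPGroup hsimple hna hWp)
  have hPN : (P : Subgroup G) ≤ N :=
    Cfsg.Agent.Lib.Helper64.le_normalizer_of_isConjugacyFunctor hcf _ P.isPGroup'
  have hPN' : (P : Subgroup G) ≤ ⁅N, N⁆ :=
    Cfsg.Agent.Lib.Helper64.sylow_le_commutator_normalizer_kInf
      (Cfsg.Agent.Lib.Helper64.secProp_ecn_of_minSimpleOdd hG') (commutator_eq_top_of_minSimpleOdd hG') P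
  have hNs : Group.IsSolvable N := hsolv N hNtop
  set S : Sylow p N := P.subtype hPN with hS
  have hScoe : (S : Subgroup N) = (P : Subgroup G).subgroupOf N := Sylow.coe_subtype P hPN
  have hSc : (S : Subgroup N) ≤ commutator ↥N := by
    rw [hScoe]; exact subgroupOf_le_commutator hPN'
  have h61 := (Cfsg.Agent.S1461.result p (h1410 p N hNtop) S).1 hSc
  rw [hScoe] at h61
  intro x hx
  have h1 : (⟨x, hPN hx⟩ : ↥N) ∈ (P : Subgroup G).subgroupOf N := Subgroup.mem_subgroupOf.mpr hx
  have h2 := h61 h1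
  have h3 : x ∈ (⁅Subgroup.normalizer (((P : Subgroup G).subgroupOf N : Subgroup ↥N) : Set ↥N),
      Subgroup.normalizer (((P : Subgroup G).subgroupOf N : Subgroup ↥N) : Set ↥N)⁆).map N.subtype :=
    ⟨_, h2, rfl⟩
  rw [Subgroup.map_commutator] at h3
  exact Subgroup.commutator_mono (map_normalizer_subgroupOf_le hPN)
    (map_normalizer_subgroupOf_le hPN) h3

/-- **Bender–Glauberman, Corollary 10.7 (a)**. -/
theorem s1411_of (h1410 : Stmt1410 G) (hG : IsMinSimpleOddOrder G) (p : ℕ)
    [Fact p.Prime] (P : Sylow p G) (V : Subgroup G)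
    (hV : Cfsg.IsComplIn (P : Subgroup G) V (Subgroup.normalizer ((P : Subgroup G) : Set G))) :
    (P : Subgroup G) = ⁅(P : Subgroup G), V⁆ ∧
      (P : Subgroup G) ≤ ⁅Subgroup.normalizer ((P : Subgroup G) : Set G),
        Subgroup.normalizer ((P : Subgroup G) : Set G)⁆ := by
  have hmain := sylow_le_commutator_normalizer h1410 hG p P
  refine ⟨?_, hmain⟩
  by_cases hP1 : (P : Subgroup G) = ⊥
  · rw [hP1, Subgroup.commutator_bot_left]
  obtain ⟨hodd, hsimple, hna, hsolv⟩ := hG
  set N : Subgroup G := Subgroup.normalizer ((P : Subgroup G) : Set G) with hN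
  have hNtop : N ≠ ⊤ :=
    Cfsg.Agent.Lib.Helper54.normalizer_ne_top_of_simple hsimple hP1
      (Cfsg.Agent.Lib.Helper54.ne_top_of_isPGroup hsimple hna P.isPGroup')
  have hNs : Group.IsSolvable N := hsolv N hNtop
  obtain ⟨hPN, hVN, hPV, hprod⟩ := hV
  set S : Sylow p N := P.subtype hPN with hS
  have hScoe : (S : Subgroup N) = (P : Subgroup G).subgroupOf N := Sylow.coe_subtype P hPN
  set H : Subgroup ↥N := (P : Subgroup G).subgroupOf N with hH
  set K : Subgroup ↥N := V.subgroupOf N with hK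
  have hHn : H.Normal := Subgroup.normal_in_normalizer
  have hHall : (Nat.card H).Coprime H.index := by
    rw [← hScoe]; exact S.card_coprime_index
  have hcompl : Subgroup.IsComplement' H K := by
    apply Subgroup.isComplement'_of_disjoint_and_mul_eq_univ
    · rw [disjoint_iff, eq_bot_iff]
      intro x hx
      have h1 : (x : G) ∈ (P : Subgroup G) ⊓ V :=
        ⟨Subgroup.mem_subgroupOf.mp hx.1, Subgroup.mem_subgroupOf.mp hx.2⟩
      rw [hPV, Subgroup.mem_bot] at h1
      rw [Subgroup.mem_bot]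
      exact Subtype.ext h1
    · rw [Set.eq_univ_iff_forall]
      intro x
      obtain ⟨a, ha, b, hb, hab⟩ := hprod x x.2
      exact ⟨⟨a, hPN ha⟩, Subgroup.mem_subgroupOf.mpr ha, ⟨b, hVN hb⟩, Subgroup.mem_subgroupOf.mpr hb,
        Subtype.ext hab.symm⟩
  have hHc : H ≤ commutator ↥N := subgroupOf_le_commutator hmain
  have e := ((Cfsg.Agent.S1459.result (G := ↥N)).1 H K hHn hHall hcompl hHc).1
  have e2 := congrArg (Subgroup.map N.subtype) e
  rw [Subgroup.map_commutator, hH, hK, Subgroup.map_subgroupOf_eq_of_le hPN,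
    Subgroup.map_subgroupOf_eq_of_le hVN] at e2
  exact e2

end Ten7

end Cfsg.Agent.Lib.Helper23
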