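/-
helper23 shared library: Bender–Glauberman Corollary 10.7 (c), (d), (e): fusion of subgroups of a Sylow
`p`-subgroup `P` of a minimal simple group of odd order is controlled by `N_G(P)`.
Proved from the statement of S1410 (BG Theorem 10.6) taken as a hypothesis.
All declarations live in `Cfsg.Agent.Lib.Helper23`.
-/
import Mathlib
import Cfsg.Prelude.Def_OddOrderLocal
import Cfsg.Agent.Lib.Helper23.BGTen7
import Cfsg.Agent.Lib.Helper33.SylIn

set_option autoImplicit false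

namespace Cfsg.Agent.Lib.Helper23

open Cfsg
open scoped commutatorElement
open Cfsg.Agent.Lib.Helper33 (cj mem_cj conj_mem_cj cj_bot cj_mono cj_injective cj_mul
  cj_eq_self_of_mem_normalizer cj_normalizer cj_inf relIndex_cj cj_inv_cj)

universe u

section Ten8

variable {G : Type u} [Group G] [Finite G]

/-- **Bender–Glauberman, Corollary 10.7 (c)**: subgroups of `P` conjugate in `G` are conjugate in
`N_G(P)`. -/
theorem exists_mem_normalizer_cj_eq (h1410 : Stmt1410 G) (hG : IsMinSimpleOddOrder G) (p : ℕ)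
    [Fact p.Prime] (P : Sylow p G) (Q : Subgroup G) (x : G) (hQ : Q ≤ (P : Subgroup G))
    (hx : cj x Q ≤ (P : Subgroup G)) :
    ∃ y ∈ Subgroup.normalizer ((P : Subgroup G) : Set G), cj x Q = cj y Q := by
  by_cases hP1 : (P : Subgroup G) = ⊥
  · refine ⟨1, Subgroup.one_mem _, ?_⟩
    have : Q = ⊥ := by rw [eq_bot_iff, ← hP1]; exact hQ
    rw [this, cj_bot, cj_bot]
  have hG' := hG
  obtain ⟨hodd, hsimple, hna, hsolv⟩ := hG
  have hcf := Cfsg.Agent.Lib.Helper33.isConjugacyFunctor_inducedFunctor Cfsg.kInfLower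
    (Cfsg.Agent.Lib.Helper33.isCharPFunctor_kInfLower p) (G := G)
  set W : Subgroup G := Cfsg.inducedFunctor Cfsg.kInfLower (P : Subgroup G) with hW
  set N : Subgroup G := Subgroup.normalizer (W : Set G) with hN
  have hWP : W ≤ (P : Subgroup G) := (hcf P P.isPGroup').1
  have hW1 : W ≠ ⊥ := (hcf P P.isPGroup').2.1 hP1
  have hWp : IsPGroup p W := P.isPGroup'.to_le hWP
  have hNtop : N ≠ ⊤ :=
    Cfsg.Agent.Lib.Helper54.normalizer_ne_top_of_simple hsimple hW1
      (Cfsg.Agent.Lib.Helper54.ne_top_of_isPGroup hsimple hna hWp)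
  have hPN : (P : Subgroup G) ≤ N :=
    Cfsg.Agent.Lib.Helper64.le_normalizer_of_isConjugacyFunctor hcf _ P.isPGroup'
  have hNs : Group.IsSolvable N := hsolv N hNtop
  have hA : (Q : Set G) ⊆ (P : Subgroup G) := hQ
  have hgA : (fun a => x * a * x⁻¹) '' (Q : Set G) ⊆ (P : Subgroup G) := by
    rintro _ ⟨a, ha, rfl⟩
    exact hx (conj_mem_cj ha)
  obtain ⟨n, hn, hagree⟩ := Cfsg.Agent.Lib.Helper64.controls_of_secProp Cfsg.kInfLower
    (Cfsg.Agent.Lib.Helper33.isCharPFunctor_kInfLower p)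
    (fun _ _ _ hs hc T => (Cfsg.Agent.Lib.Helper33.kInf_normal_of_secPStable hs hc T).1)
    (Cfsg.Agent.Lib.Helper64.secProp_ecn_of_minSimpleOdd hG') P (Q : Set G) hA x hgA
  set S : Sylow p N := P.subtype hPN with hS
  have hScoe : (S : Subgroup N) = (P : Subgroup G).subgroupOf N := Sylow.coe_subtype P hPN
  set Y : Set ↥N := ((Q.subgroupOf N : Subgroup ↥N) : Set ↥N) with hY
  have hYS : Y ⊆ ((S : Subgroup ↥N) : Set ↥N) := by
    intro a ha
    rw [hScoe]
    exact Subgroup.mem_subgroupOf.mpr (hQ (Subgroup.mem_subgroupOf.mp ha))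
  have hnY : (fun y => (⟨n, hn⟩ : ↥N) * y * (⟨n, hn⟩ : ↥N)⁻¹) '' Y ⊆
      ((S : Subgroup ↥N) : Set ↥N) := by
    rintro _ ⟨a, ha, rfl⟩
    have haQ : (a : G) ∈ Q := Subgroup.mem_subgroupOf.mp ha
    rw [hScoe]
    show _ ∈ (P : Subgroup G).subgroupOf N
    rw [Subgroup.mem_subgroupOf]
    have h1 : x * (a : G) * x⁻¹ ∈ (P : Subgroup G) := hgA ⟨a, haQ, rfl⟩
    rw [hagree _ haQ] at h1
    exact h1
  obtain ⟨g, hg, c, hc, hgc⟩ :=
    (Cfsg.Agent.S1461.result p (h1410 p N hNtop) S).2.1 Y ⟨n, hn⟩ hYS hnY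
  have hgP : (g : G) ∈ Subgroup.normalizer ((P : Subgroup G) : Set G) := by
    rw [hScoe] at hg
    exact map_normalizer_subgroupOf_le hPN ⟨g, hg, rfl⟩
  refine ⟨(g : G), hgP, ?_⟩
  have key : ∀ a ∈ Q, x * a * x⁻¹ = (g : G) * a * (g : G)⁻¹ := by
    intro a ha
    rw [hagree a ha]
    have haN : a ∈ N := hPN (hQ ha)
    have h1 : (⟨a, haN⟩ : ↥N) * c = c * ⟨a, haN⟩ :=
      Subgroup.mem_centralizer_iff.mp hc ⟨a, haN⟩ (Subgroup.mem_subgroupOf.mpr ha)
    have h2 : a * (c : G) = (c : G) * a := congrArg Subtype.val h1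
    have h3 : n = (g : G) * (c : G) := (congrArg Subtype.val hgc).symm
    rw [h3]
    calc (g : G) * (c : G) * a * ((g : G) * (c : G))⁻¹
        = (g : G) * ((c : G) * a) * (c : G)⁻¹ * (g : G)⁻¹ := by group
      _ = (g : G) * (a * (c : G)) * (c : G)⁻¹ * (g : G)⁻¹ := by rw [h2]
      _ = (g : G) * a * (g : G)⁻¹ := by group
  apply le_antisymm
  · rintro _ ⟨a, ha, rfl⟩
    exact ⟨a, ha, by simp only [MulEquiv.coe_toMonoidHom, MulAut.conj_apply]; exact (key a ha).symm⟩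
  · rintro _ ⟨a, ha, rfl⟩
    exact ⟨a, ha, by simp only [MulEquiv.coe_toMonoidHom, MulAut.conj_apply]; exact key a ha⟩

/-- a subgroup `Q ≤ P` normal in `N_G(P)` is weakly closed in `P` -/
theorem cj_eq_self_of_normalizer_le (h1410 : Stmt1410 G) (hG : IsMinSimpleOddOrder G) (p : ℕ)
    [Fact p.Prime] (P : Sylow p G) (Q : Subgroup G) (x : G) (hQ : Q ≤ (P : Subgroup G))
    (hNQ : Subgroup.normalizer ((P : Subgroup G) : Set G) ≤ Subgroup.normalizer (Q : Set G))
    (hx : cj x Q ≤ (P : Subgroup G)) : cj x Q = Q := by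
  obtain ⟨y, hy, e⟩ := exists_mem_normalizer_cj_eq h1410 hG p P Q x hQ hx
  rw [e]
  exact cj_eq_self_of_mem_normalizer (hNQ hy)

/-- **Bender–Glauberman, Corollary 10.7 (d)**: every subgroup of `P` is fully normalized. -/
theorem fullyNormalized_of_le (h1410 : Stmt1410 G) (hG : IsMinSimpleOddOrder G) (p : ℕ)
    [Fact p.Prime] (P : Sylow p G) (Q : Subgroup G) (hQ : Q ≤ (P : Subgroup G)) :
    ¬ p ∣ ((P : Subgroup G) ⊓ Subgroup.normalizer (Q : Set G)).relIndex
      (Subgroup.normalizer (Q : Set G)) := by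
  obtain ⟨g, hgP, hfn⟩ := Cfsg.Agent.Lib.Helper33.exists_fullyNormalized_cj P hQ
  obtain ⟨y, hy, e⟩ := exists_mem_normalizer_cj_eq h1410 hG p P Q g hQ hgP
  rw [e] at hfn
  unfold Cfsg.Agent.Lib.Helper33.FullyNormalized at hfn
  have hyinv : y⁻¹ ∈ Subgroup.normalizer ((P : Subgroup G) : Set G) := inv_mem hy
  have h1 := relIndex_cj y⁻¹ ((P : Subgroup G) ⊓ Subgroup.normalizer ((cj y Q : Subgroup G) : Set G))
    (Subgroup.normalizer ((cj y Q : Subgroup G) : Set G))
  rw [cj_inf, cj_normalizer, cj_inv_cj, cj_eq_self_of_mem_normalizer hyinv] at h1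
  rw [h1]
  exact hfn

/-- **Bender–Glauberman, Corollary 10.7 (e)**. -/
theorem normalizer_le_of_normalizer_sylow_le (h1410 : Stmt1410 G) (hG : IsMinSimpleOddOrder G)
    (p : ℕ) [Fact p.Prime] (P : Sylow p G) (R Q : Subgroup G) (hR : IsPGroup p R)
    (hQ : Q ≤ (P : Subgroup G) ⊓ R)
    (hNQ : Subgroup.normalizer ((P : Subgroup G) : Set G) ≤ Subgroup.normalizer (Q : Set G)) :
    Subgroup.normalizer (R : Set G) ≤ Subgroup.normalizer (Q : Set G) := by
  have hQP : Q ≤ (P : Subgroup G) := hQ.trans inf_le_left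
  have hQR : Q ≤ R := hQ.trans inf_le_right
  obtain ⟨P₁, hP₁⟩ := hR.exists_le_sylow
  obtain ⟨g, hg⟩ := MulAction.exists_smul_eq G P₁ P
  have hgP : cj g (P₁ : Subgroup G) = (P : Subgroup G) := by rw [← hg]; rfl
  have hgR : cj g R ≤ (P : Subgroup G) := by rw [← hgP]; exact cj_mono hP₁
  have h1 : cj g Q = Q :=
    cj_eq_self_of_normalizer_le h1410 hG p P Q g hQP hNQ ((cj_mono hQR).trans hgR)
  intro n hn
  rw [Cfsg.Agent.Lib.Helper33.mem_normalizer_iff_cj_eq]
  have h2 : cj n Q ≤ R := by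
    have := cj_mono (g := n) hQR
    rwa [cj_eq_self_of_mem_normalizer hn] at this
  have h3 : cj (g * n) Q = Q := by
    apply cj_eq_self_of_normalizer_le h1410 hG p P Q (g * n) hQP hNQ
    rw [cj_mul]
    exact (cj_mono h2).trans hgR
  rw [cj_mul] at h3
  apply cj_injective g
  rw [h3, h1]

/-- **Bender–Glauberman, Corollary 10.7 (c), (d), (e)**. -/
theorem s1413_of (h1410 : Stmt1410 G) (hG : IsMinSimpleOddOrder G) (p : ℕ) [Fact p.Prime]
    (P : Sylow p G) :
    (∀ (Q : Subgroup G) (x : G), Q ≤ (P : Subgroup G) →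
        Q.map (MulAut.conj x).toMonoidHom ≤ (P : Subgroup G) →
        ∃ y ∈ Subgroup.normalizer ((P : Subgroup G) : Set G),
          Q.map (MulAut.conj x).toMonoidHom = Q.map (MulAut.conj y).toMonoidHom) ∧
      (∀ Q : Subgroup G, Q ≤ (P : Subgroup G) →
        ¬ p ∣ ((P : Subgroup G) ⊓ Subgroup.normalizer (Q : Set G)).relIndex
          (Subgroup.normalizer (Q : Set G))) ∧
      (∀ (R Q : Subgroup G), IsPGroup p R → Q ≤ (P : Subgroup G) ⊓ R →
        Subgroup.normalizer ((P : Subgroup G) : Set G) ≤ Subgroup.normalizer (Q : Set G) →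
        Subgroup.normalizer (R : Set G) ≤ Subgroup.normalizer (Q : Set G)) :=
  ⟨fun Q x hQ hx => exists_mem_normalizer_cj_eq h1410 hG p P Q x hQ hx,
    fun Q hQ => fullyNormalized_of_le h1410 hG p P Q hQ,
    fun R Q hR hQ hNQ => normalizer_le_of_normalizer_sylow_le h1410 hG p P R Q hR hQ hNQ⟩

end Ten8

end Cfsg.Agent.Lib.Helper23
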