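/-
helper23 shared library: fusion in a nilpotent Hall subgroup `H` of a minimal simple group of odd
order is controlled by `N_G(H)` (S1384), proved from the statement of S1410 (Bender–Glauberman
Theorem 10.6: proper subgroups have `p`-length one) taken as a hypothesis.

Main steps:
* `mem_pPrimeCore_of_centralizes_sylow`: in a finite solvable group a `q'`-element centralizing a Sylow
  `q`-subgroup lies in `O_{q'}`.
* `primeCoreOf_sup_normal`: in a solvable group `X` of `q`-length one for all `q ∣ |H|`, a nilpotent Hall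
  subgroup `H` satisfies `K H ⊴ X`, `K` the intersection of the `O_{q'}(X)`, `q ∣ |H|`.
* `exists_commute_conj_of_nilpotent_hall`: two such subgroups through `x` are conjugate under `C_X(x)`.
* `s1384_of`: the statement of S1384.
All declarations live in `Cfsg.Agent.Lib.Helper23`.
-/
import Mathlib
import Cfsg.Prelude.Def_OddOrderLocal
import Cfsg.Agent.Lib.Helper23.BGTen8
import Cfsg.Agent.Lib.Helper52.NilpSub
import Cfsg.Agent.Lib.Helper67.ComplConj
import Cfsg.Agent.Lib.Helper22.SolvableLocal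
import Cfsg.Agent.Lib.Helper25.PLength2
import Cfsg.Agent.Lib.Helper54.PCores

set_option autoImplicit false

namespace Cfsg.Agent.Lib.Helper23

open Cfsg
open scoped commutatorElement Pointwise
open Cfsg.Agent.Lib.Helper33 (cj mem_cj conj_mem_cj cj_mono cj_injective cj_mul
  cj_eq_self_of_mem_normalizer cj_normalizer cj_centralizer cj_inf cj_inv_cj cj_cj_inv card_cj
  mem_normalizer_iff_cj_eq cj_le_iff isPGroup_cj)

universe u

section HallFusion

/-- The Sylow `p`-subgroup of a nilpotent Hall subgroup `H` of `X` is a Sylow `p`-subgroup of `X`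
containing every `p`-element of `H`. -/
theorem exists_sylow_of_nilpotent_hall {X : Type*} [Group X] [Finite X] (H : Subgroup X)
    (hHn : Group.IsNilpotent H) (hHall : (Nat.card H).Coprime H.index) (p : ℕ) [Fact p.Prime]
    (hp : p ∣ Nat.card H) :
    ∃ P : Sylow p X, (P : Subgroup X) ≤ H ∧
      ∀ h ∈ H, ∀ k : ℕ, orderOf h = p ^ k → h ∈ (P : Subgroup X) := by
  obtain ⟨P₀, hP₀H, hP₀, hmem⟩ := Cfsg.Agent.Lib.Helper52.exists_pSubgroup_of_nilpotent H hHn p
  let S₀ : Sylow p H := default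
  have hS₀ : (S₀ : Subgroup H).map H.subtype ≤ P₀ := by
    rintro _ ⟨s, hs, rfl⟩
    obtain ⟨k, hk⟩ := (IsPGroup.iff_orderOf.mp S₀.isPGroup') ⟨s, hs⟩
    apply hmem _ s.2 k
    rw [← hk, Subgroup.orderOf_mk]
    exact Subgroup.orderOf_coe s
  have hidx : ¬ p ∣ P₀.index := by
    intro hdvd
    have h1 : P₀.index ∣ ((S₀ : Subgroup H).map H.subtype).index := Subgroup.index_dvd_of_le hS₀
    rw [Subgroup.index_map_subtype] at h1
    have h2 : p ∣ (S₀ : Subgroup H).index * H.index := hdvd.trans h1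
    rcases (Nat.Prime.dvd_mul Fact.out).mp h2 with h3 | h3
    · exact S₀.not_dvd_index h3
    · exact (Nat.Prime.one_lt (Fact.out : p.Prime)).ne' (Nat.eq_one_of_dvd_coprimes hHall hp h3)
  exact ⟨IsPGroup.toSylow hP₀ hidx, hP₀H, hmem⟩

/-- In a finite solvable group, a `q'`-element centralizing a Sylow `q`-subgroup lies in `O_{q'}`. -/
theorem mem_pPrimeCore_of_centralizes_sylow {X : Type*} [Group X] [Finite X]
    (hsol : Group.IsSolvable X) (q : ℕ) [Fact q.Prime] (S : Sylow q X) (c : X)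
    (hc : (orderOf c).Coprime q) (hcS : ∀ s ∈ (S : Subgroup X), c * s = s * c) :
    c ∈ pPrimeCore q X := by
  have hcon := Cfsg.Agent.Lib.Helper22.isPConstrained_of_isSolvable q hsol
  let P : Sylow q ↥(pPrimePCore q X) := default
  obtain ⟨S', hS'⟩ := (P.isPGroup'.map (pPrimePCore q X).subtype).exists_le_sylow
  obtain ⟨t, ht⟩ := MulAction.exists_smul_eq X S S'
  have e : cj t (S : Subgroup X) = (S' : Subgroup X) := by rw [← ht]; rfl
  have hc' : t * c * t⁻¹ ∈ pPrimeCore q X := by
    apply Cfsg.Agent.Lib.Helper54.mem_pPrimeCore_of_isPConstrained q hcon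
    · have := (MulAut.conj t).orderOf_eq c
      rw [MulAut.conj_apply] at this
      rw [this]; exact hc
    · intro y hy
      obtain ⟨k, hk, z, hz, rfl⟩ := Cfsg.Agent.Lib.Helper54.exists_mul_of_mem_pPrimePCore q P hy
      rw [Cfsg.Agent.Lib.Helper54.commutator_mem_of_mul_right hk]
      have hzS' : z ∈ (S' : Subgroup X) := hS' hz
      rw [← e, mem_cj] at hzS'
      have h1 := hcS _ hzS'
      have h2 : ⁅t * c * t⁻¹, z⁆ = 1 := by
        rw [commutatorElement_eq_one_iff_mul_comm]
        calc t * c * t⁻¹ * z = t * (c * (t⁻¹ * z * t)) * t⁻¹ := by group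
          _ = t * ((t⁻¹ * z * t) * c) * t⁻¹ := by rw [h1]
          _ = z * (t * c * t⁻¹) := by group
      rw [h2]; exact one_mem _
  have hn : (pPrimeCore q X).Normal := inferInstance
  have h3 := hn.conj_mem _ hc' t⁻¹
  have h4 : t⁻¹ * (t * c * t⁻¹) * t⁻¹⁻¹ = c := by group
  rwa [h4] at h3

/-- The intersection of the `O_{q'}(X)` over the primes `q` dividing `n`. -/
def primeCoreOf (n : ℕ) (X : Type*) [Group X] : Subgroup X :=
  ⨅ q : {q : ℕ // q.Prime ∧ q ∣ n}, pPrimeCore q.1 X

theorem primeCoreOf_normal (n : ℕ) (X : Type*) [Group X] : (primeCoreOf n X).Normal := by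
  unfold primeCoreOf
  exact Subgroup.normal_iInf_normal fun q => inferInstance

theorem primeCoreOf_le (n : ℕ) (X : Type*) [Group X] (q : ℕ) (hq : q.Prime) (hqn : q ∣ n) :
    primeCoreOf n X ≤ pPrimeCore q X := by
  unfold primeCoreOf
  exact iInf_le (fun q : {q : ℕ // q.Prime ∧ q ∣ n} => pPrimeCore q.1 X) ⟨q, hq, hqn⟩

theorem card_primeCoreOf_coprime (n : ℕ) (X : Type*) [Group X] [Finite X] :
    (Nat.card (primeCoreOf n X)).Coprime n := by
  apply Nat.coprime_of_dvd
  intro k hk hkK hkn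
  have : Fact k.Prime := ⟨hk⟩
  have h1 : Nat.card (primeCoreOf n X) ∣ Nat.card (pPrimeCore k X) :=
    Subgroup.card_dvd_of_le (primeCoreOf_le n X k hk hkn)
  have h2 : (Nat.card (pPrimeCore k X)).Coprime k :=
    Cfsg.Agent.Lib.Helper97.card_pPrimeCore_coprime k
  exact hk.one_lt.ne' (Nat.eq_one_of_dvd_coprimes h2 (hkK.trans h1) dvd_rfl)

/-- In a solvable group `X` that has `q`-length one for every prime `q` dividing the order of a
nilpotent Hall subgroup `H`, the product of `H` with the intersection of the `O_{q'}(X)` is normal. -/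
theorem primeCoreOf_sup_normal {X : Type*} [Group X] [Finite X] (hsol : Group.IsSolvable X)
    (H : Subgroup X) (hHn : Group.IsNilpotent H) (hHall : (Nat.card H).Coprime H.index)
    (hpl : ∀ (q : ℕ) [Fact q.Prime], q ∣ Nat.card H → PLengthLE q 1 X) :
    (primeCoreOf (Nat.card H) X ⊔ H).Normal := by
  have hKn : (primeCoreOf (Nat.card H) X).Normal := primeCoreOf_normal _ _
  have key : ∀ g : X, ∀ h ∈ H, ∀ r k : ℕ, r.Prime → orderOf h = r ^ k →
      g * h * g⁻¹ ∈ primeCoreOf (Nat.card H) X ⊔ H := by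
    intro g h hh r k hr hk
    by_cases hk0 : k = 0
    · subst hk0
      rw [pow_zero, orderOf_eq_one_iff] at hk
      subst hk
      simp
    have : Fact r.Prime := ⟨hr⟩
    have hrH : r ∣ Nat.card H := by
      have h1 : orderOf h ∣ Nat.card H := Subgroup.orderOf_dvd_natCard H hh
      rw [hk] at h1
      exact (dvd_pow_self r hk0).trans h1
    obtain ⟨R, hRH, hRmem⟩ := exists_sylow_of_nilpotent_hall H hHn hHall r hrH
    have hhR : h ∈ (R : Subgroup X) := hRmem h hh k hk
    have hRq : ∀ q : ℕ, q.Prime → q ∣ Nat.card H → q ≠ r →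
        (R : Subgroup X) ≤ pPrimeCore q X := by
      intro q hq hqH hqr s hs
      have : Fact q.Prime := ⟨hq⟩
      obtain ⟨S, hSH, -⟩ := exists_sylow_of_nilpotent_hall H hHn hHall q hqH
      obtain ⟨j, hj⟩ := (IsPGroup.iff_orderOf.mp R.isPGroup') ⟨s, hs⟩
      have hsord : orderOf s = r ^ j := by rw [← hj, Subgroup.orderOf_mk]
      have hrq : r.Coprime q := (Nat.coprime_primes hr hq).mpr (Ne.symm hqr)
      apply mem_pPrimeCore_of_centralizes_sylow hsol q S s
      · rw [hsord]; exact Nat.Coprime.pow_left j hrq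
      · intro u hu
        obtain ⟨i, hi⟩ := (IsPGroup.iff_orderOf.mp S.isPGroup') ⟨u, hu⟩
        have huord : orderOf u = q ^ i := by rw [← hi, Subgroup.orderOf_mk]
        apply Cfsg.Agent.Lib.Helper52.comm_of_coprime_of_mem_nilpotent H hHn (hRH hs) (hSH hu)
        rw [hsord, huord]; exact Nat.Coprime.pow _ _ hrq
    have hnorm : ((pPrimeCore r X ⊔ (R : Subgroup X) : Subgroup X)).Normal :=
      Cfsg.Agent.Lib.Helper25.plength_one_pPrimeCore r (hpl r hrH) R
    have h1 : g * h * g⁻¹ ∈ pPrimeCore r X ⊔ (R : Subgroup X) :=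
      hnorm.conj_mem h (Subgroup.mem_sup_right hhR) g
    rw [← SetLike.mem_coe, Subgroup.normal_mul] at h1
    obtain ⟨o, ho, s, hs, hos⟩ := h1
    have hoK : o ∈ primeCoreOf (Nat.card H) X := by
      unfold primeCoreOf
      rw [Subgroup.mem_iInf]
      rintro ⟨q, hq, hqH⟩
      by_cases hqr : q = r
      · subst hqr; exact ho
      · have e : o = g * h * g⁻¹ * s⁻¹ := by rw [← hos]; group
        rw [e]
        have : Fact q.Prime := ⟨hq⟩
        have hn : (pPrimeCore q X).Normal := inferInstance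
        exact mul_mem (hn.conj_mem h (hRq q hq hqH hqr hhR) g) (inv_mem (hRq q hq hqH hqr hs))
    rw [← hos]
    exact mul_mem (Subgroup.mem_sup_left hoK) (Subgroup.mem_sup_right (hRH hs))
  constructor
  intro n hn g
  rw [← SetLike.mem_coe, Subgroup.normal_mul] at hn
  obtain ⟨k, hk, h, hh, rfl⟩ := hn
  have e : g * (k * h) * g⁻¹ = (g * k * g⁻¹) * (g * h * g⁻¹) := by group
  rw [e]
  refine mul_mem (Subgroup.mem_sup_left (hKn.conj_mem k hk g)) ?_
  have hle : H ≤ cj g⁻¹ (primeCoreOf (Nat.card H) X ⊔ H) := by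
    apply Cfsg.Agent.Lib.Helper52.le_of_forall_primePow_order_mem
    intro x hx q k hq hxk
    rw [mem_cj, inv_inv]
    exact key g x hx q k hq hxk
  have h2 := hle hh
  rwa [mem_cj, inv_inv] at h2

/-- A subgroup whose order is prime to the index of a normal subgroup lies in it. -/
theorem le_normal_of_coprime_card_index {X : Type*} [Group X] [Finite X] (H K : Subgroup X)
    [K.Normal] (h : (Nat.card H).Coprime K.index) : H ≤ K := by
  have h1 : Nat.card (H.map (QuotientGroup.mk' K)) ∣ Nat.card H := Subgroup.card_map_dvd _ _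
  have h2 : Nat.card (H.map (QuotientGroup.mk' K)) ∣ K.index := by
    rw [Subgroup.index_eq_card]
    exact Subgroup.card_subgroup_dvd_card _
  have h3 : Nat.card (H.map (QuotientGroup.mk' K)) = 1 :=
    Nat.eq_one_of_dvd_coprimes h h1 h2
  have h4 := Subgroup.eq_bot_of_card_eq _ h3
  intro x hx
  have : QuotientGroup.mk' K x ∈ H.map (QuotientGroup.mk' K) := ⟨x, hx, rfl⟩
  rw [h4, Subgroup.mem_bot] at this
  exact (QuotientGroup.eq_one_iff x).mp this

/-- Two nilpotent Hall subgroups of the same order through `x`, in a solvable group of `q`-length one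
for the relevant primes, are conjugate under an element commuting with `x`. -/
theorem exists_commute_conj_of_nilpotent_hall {X : Type*} [Group X] [Finite X]
    (hsol : Group.IsSolvable X) (H H' : Subgroup X) (hHn : Group.IsNilpotent H)
    (hH'n : Group.IsNilpotent H') (hcard : Nat.card H' = Nat.card H)
    (hHall : (Nat.card H).Coprime H.index)
    (hpl : ∀ (q : ℕ) [Fact q.Prime], q ∣ Nat.card H → PLengthLE q 1 X)
    (x : X) (hx : x ∈ H) (hx' : x ∈ H') :
    ∃ c : X, c * x = x * c ∧ ∀ y ∈ H, c * y * c⁻¹ ∈ H' := by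
  have hidx : H'.index = H.index := by
    have h1 := Subgroup.card_mul_index H
    have h2 := Subgroup.card_mul_index H'
    rw [hcard, ← h1] at h2
    exact Nat.eq_of_mul_eq_mul_left Nat.card_pos h2
  have hHall' : (Nat.card H').Coprime H'.index := by rw [hcard, hidx]; exact hHall
  have hKn : (primeCoreOf (Nat.card H) X).Normal := primeCoreOf_normal _ _
  have hN : (primeCoreOf (Nat.card H) X ⊔ H).Normal :=
    primeCoreOf_sup_normal hsol H hHn hHall hpl
  have hN' : (primeCoreOf (Nat.card H) X ⊔ H').Normal := by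
    have := primeCoreOf_sup_normal hsol H' hH'n hHall' (fun q _ hq => hpl q (hcard ▸ hq))
    rwa [hcard] at this
  have hKcop : (Nat.card (primeCoreOf (Nat.card H) X)).Coprime (Nat.card H) :=
    card_primeCoreOf_coprime _ _
  have h1 : H' ≤ primeCoreOf (Nat.card H) X ⊔ H := by
    apply le_normal_of_coprime_card_index
    rw [hcard]
    exact Nat.Coprime.coprime_dvd_right (Subgroup.index_dvd_of_le le_sup_right) hHall
  have h2 : H ≤ primeCoreOf (Nat.card H) X ⊔ H' := by
    apply le_normal_of_coprime_card_index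
    rw [← hcard]
    exact Nat.Coprime.coprime_dvd_right (Subgroup.index_dvd_of_le le_sup_right) hHall'
  have hsup : H ⊔ primeCoreOf (Nat.card H) X = H' ⊔ primeCoreOf (Nat.card H) X := by
    apply le_antisymm
    · exact sup_le (h2.trans (by rw [sup_comm])) le_sup_right
    · exact sup_le (h1.trans (by rw [sup_comm])) le_sup_right
  have hsolH : Group.IsSolvable H := by
    have := hHn
    infer_instance
  obtain ⟨m, hm, hmH⟩ := Cfsg.Agent.Lib.Helper67.exists_mem_conj_smul_eq_of_sup_eq hsup hKcop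
    (by rw [hcard]; exact hKcop) (Or.inr hsolH)
  have hmem : ∀ y ∈ H, m * y * m⁻¹ ∈ H' := by
    intro y hy
    rw [← hmH]
    have := Subgroup.smul_mem_pointwise_smul y (MulAut.conj m) H hy
    rwa [MulAut.smul_def, MulAut.conj_apply] at this
  refine ⟨m, ?_, hmem⟩
  have hx2 : m⁻¹ * x * m ∈ H := by
    rw [← hmH] at hx'
    have := Subgroup.mem_pointwise_smul_iff_inv_smul_mem.mp hx'
    rwa [← map_inv, MulAut.smul_def, MulAut.conj_apply, inv_inv] at this
  have hdisj : H ⊓ primeCoreOf (Nat.card H) X = ⊥ := (Subgroup.disjoint_of_coprime_natCard hKcop.symm).eq_bot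
  have h3 : x⁻¹ * (m⁻¹ * x * m) ∈ H ⊓ primeCoreOf (Nat.card H) X := by
    refine Subgroup.mem_inf.mpr ⟨mul_mem (inv_mem hx) hx2, ?_⟩
    have e : x⁻¹ * (m⁻¹ * x * m) = (x⁻¹ * m⁻¹ * x⁻¹⁻¹) * m := by group
    rw [e]
    exact mul_mem (hKn.conj_mem _ (inv_mem hm) x⁻¹) hm
  rw [hdisj, Subgroup.mem_bot] at h3
  have h4 : m⁻¹ * x * m = x := by
    have := congrArg (fun t => x * t) h3
    simpa using this
  calc m * x = m * (m⁻¹ * x * m) := by rw [h4]
    _ = x * m := by group

end HallFusion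

section Main

variable {G : Type u} [Group G] [Finite G]

/-- **S1384**: in a minimal simple group of odd order, fusion in a nilpotent Hall subgroup `H` is
controlled by `N_G(H)`. -/
theorem s1384_of (h1410 : Stmt1410 G) (hG : IsMinSimpleOddOrder G) (H : Subgroup G)
    (hHn : Group.IsNilpotent H) (hHall : (Nat.card H).Coprime H.index) :
    ∀ x ∈ H, ∀ g : G, g * x * g⁻¹ ∈ H →
      ∃ n ∈ Subgroup.normalizer (H : Set G), n * x * n⁻¹ = g * x * g⁻¹ := by
  intro x hx g hgx
  by_cases hH1 : Nat.card H = 1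
  · have hbot : H = ⊥ := Subgroup.eq_bot_of_card_eq H hH1
    have hx1 : x = 1 := by rw [hbot] at hx; exact Subgroup.mem_bot.mp hx
    subst hx1
    exact ⟨1, one_mem _, by simp⟩
  obtain ⟨p, hp, hpH⟩ := Nat.exists_prime_and_dvd hH1
  have : Fact p.Prime := ⟨hp⟩
  have hG' := hG
  obtain ⟨hodd, hsimple, hna, hsolv⟩ := hG
  obtain ⟨P, hPH, hPmem⟩ := exists_sylow_of_nilpotent_hall H hHn hHall p hpH
  set Z : Subgroup G := (P : Subgroup G) ⊓ Subgroup.centralizer ((P : Subgroup G) : Set G) with hZ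
  have hZP : Z ≤ (P : Subgroup G) := inf_le_left
  have hZH : ∀ z ∈ Z, ∀ h ∈ H, z * h = h * z := by
    intro z hz
    obtain ⟨i, hi⟩ := (IsPGroup.iff_orderOf.mp P.isPGroup') ⟨z, hz.1⟩
    have hzord : orderOf z = p ^ i := by rw [← hi, Subgroup.orderOf_mk]
    apply Cfsg.Agent.Lib.Helper52.central_of_comm_pElements H hHn p (hPH hz.1) hzord
    intro h hh k hk
    have hhP := hPmem h hh k hk
    exact (Subgroup.mem_centralizer_iff.mp hz.2 h hhP).symm
  have hZ1 : Z ≠ ⊥ := by
    obtain ⟨u, huH, huord, hucent⟩ :=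
      Cfsg.Agent.Lib.Helper52.exists_central_orderOf_eq_prime H hHn p hpH
    have huP : u ∈ (P : Subgroup G) := hPmem u huH 1 (by rw [huord, pow_one])
    have huZ : u ∈ Z :=
      ⟨huP, Subgroup.mem_centralizer_iff.mpr (fun h hh => (hucent h (hPH hh)).symm)⟩
    intro hbot
    rw [hbot, Subgroup.mem_bot] at huZ
    rw [huZ, orderOf_one] at huord
    exact hp.one_lt.ne huord
  have hZp : IsPGroup p Z := P.isPGroup'.to_le hZP
  have hNPZ : Subgroup.normalizer ((P : Subgroup G) : Set G) ≤ Subgroup.normalizer (Z : Set G) := by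
    intro n hn
    rw [mem_normalizer_iff_cj_eq, hZ, cj_inf, cj_centralizer, cj_eq_self_of_mem_normalizer hn]
  have hwc : ∀ y : G, cj y Z ≤ (P : Subgroup G) → cj y Z = Z := fun y hy =>
    cj_eq_self_of_normalizer_le h1410 hG' p P Z y hZP hNPZ hy
  set C : Subgroup G := Subgroup.centralizer ({x} : Set G) with hC
  have hZC : Z ≤ C := by
    intro z hz
    rw [hC, Subgroup.mem_centralizer_singleton_iff]
    exact hZH z hz x hx
  set Z' : Subgroup G := cj g⁻¹ Z with hZ'
  have hZ'C : Z' ≤ C := by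
    intro z hz
    rw [hZ', mem_cj, inv_inv] at hz
    rw [hC, Subgroup.mem_centralizer_singleton_iff]
    have h1 := hZH _ hz _ hgx
    have h2 : g * (z * x) * g⁻¹ = g * (x * z) * g⁻¹ := by
      calc g * (z * x) * g⁻¹ = (g * z * g⁻¹) * (g * x * g⁻¹) := by group
        _ = (g * x * g⁻¹) * (g * z * g⁻¹) := h1
        _ = g * (x * z) * g⁻¹ := by group
    exact mul_left_cancel (mul_right_cancel h2)
  obtain ⟨c₁, hc₁C, hc₁Z⟩ : ∃ c₁ ∈ C, cj c₁ Z' = Z := by
    let R : Sylow p C := default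
    have hT := Cfsg.Agent.Lib.Helper33.sylIn_of_sylow R
    obtain ⟨a, haC, haZ⟩ := hT.exists_cj_le hZC hZp
    obtain ⟨b, hbC, hbZ'⟩ := hT.exists_cj_le hZ'C (isPGroup_cj hZp)
    obtain ⟨P₁, hP₁⟩ := hT.isPGroup.exists_le_sylow
    obtain ⟨k, hk⟩ := MulAction.exists_smul_eq G P P₁
    have ek : cj k (P : Subgroup G) = (P₁ : Subgroup G) := by rw [← hk]; rfl
    have h1 : cj (k⁻¹ * a) Z = Z := by
      apply hwc
      rw [cj_mul, cj_le_iff, inv_inv, ek]
      exact haZ.trans hP₁
    have h2 : cj (k⁻¹ * b * g⁻¹) Z = Z := by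
      apply hwc
      rw [cj_mul, cj_mul, cj_le_iff, inv_inv, ek]
      exact hbZ'.trans hP₁
    refine ⟨a⁻¹ * b, mul_mem (inv_mem haC) hbC, ?_⟩
    rw [cj_mul] at h1
    rw [cj_mul, cj_mul] at h2
    have h3 : cj a Z = cj b Z' := cj_injective k⁻¹ (h1.trans h2.symm)
    rw [cj_mul, ← h3, cj_inv_cj]
  have hc₁x : c₁ * x = x * c₁ := by
    rw [hC, Subgroup.mem_centralizer_singleton_iff] at hc₁C
    exact hc₁C
  set H'' : Subgroup G := cj (c₁ * g⁻¹) H with hH''
  have hxH'' : x ∈ H'' := by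
    rw [hH'', mem_cj]
    have h1 : c₁⁻¹ * x * c₁ = x := by
      rw [mul_assoc, ← hc₁x]; group
    have h2 : (c₁ * g⁻¹)⁻¹ * x * (c₁ * g⁻¹) = g * x * g⁻¹ := by
      calc (c₁ * g⁻¹)⁻¹ * x * (c₁ * g⁻¹) = g * (c₁⁻¹ * x * c₁) * g⁻¹ := by group
        _ = g * x * g⁻¹ := by rw [h1]
    rw [h2]; exact hgx
  set N : Subgroup G := Subgroup.normalizer (Z : Set G) with hN
  have hHN : H ≤ N := by
    intro h hh
    apply Subgroup.centralizer_le_normalizer
    rw [Subgroup.mem_centralizer_iff]
    intro z hz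
    exact hZH z hz h hh
  have hH''N : H'' ≤ N := by
    have h1 : cj (c₁ * g⁻¹) N = N := by
      rw [hN, cj_normalizer, cj_mul, ← hZ', hc₁Z]
    rw [← h1]; exact cj_mono hHN
  have hNtop : N ≠ ⊤ :=
    Cfsg.Agent.Lib.Helper54.normalizer_ne_top_of_simple hsimple hZ1
      (Cfsg.Agent.Lib.Helper54.ne_top_of_isPGroup hsimple hna hZp)
  have hNs : Group.IsSolvable N := hsolv N hNtop
  have hcardH'' : Nat.card H'' = Nat.card H := card_cj _ _
  have hH''n : Group.IsNilpotent H'' := by
    have := hHn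
    exact Group.nilpotent_of_mulEquiv
      (H.equivMapOfInjective (MulAut.conj (c₁ * g⁻¹)).toMonoidHom (MulAut.conj (c₁ * g⁻¹)).injective)
  have hH₁n : Group.IsNilpotent (H.subgroupOf N) := by
    have := hHn
    exact Group.nilpotent_of_mulEquiv (Subgroup.subgroupOfEquivOfLe hHN).symm
  have hH₂n : Group.IsNilpotent (H''.subgroupOf N) := by
    have := hH''n
    exact Group.nilpotent_of_mulEquiv (Subgroup.subgroupOfEquivOfLe hH''N).symm
  have hc1 : Nat.card (H.subgroupOf N) = Nat.card H :=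
    Nat.card_congr (Subgroup.subgroupOfEquivOfLe hHN).toEquiv
  have hc2 : Nat.card (H''.subgroupOf N) = Nat.card H'' :=
    Nat.card_congr (Subgroup.subgroupOfEquivOfLe hH''N).toEquiv
  have hHall₁ : (Nat.card (H.subgroupOf N)).Coprime (H.subgroupOf N).index := by
    rw [hc1]
    exact Nat.Coprime.coprime_dvd_right (Subgroup.relIndex_dvd_index_of_le hHN) hHall
  obtain ⟨c, hcx, hcH⟩ := exists_commute_conj_of_nilpotent_hall hNs (H.subgroupOf N)
    (H''.subgroupOf N) hH₁n hH₂n (hc2.trans (hcardH''.trans hc1.symm)) hHall₁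
    (fun q _ _ => h1410 q N hNtop) ⟨x, hHN hx⟩ (Subgroup.mem_subgroupOf.mpr hx)
    (Subgroup.mem_subgroupOf.mpr hxH'')
  have hcx' : (c : G) * x = x * (c : G) := congrArg Subtype.val hcx
  have hcH' : cj (c : G) H = H'' := by
    apply Subgroup.eq_of_le_of_card_ge
    · rintro _ ⟨y, hy, rfl⟩
      have h1 := hcH ⟨y, hHN hy⟩ (Subgroup.mem_subgroupOf.mpr hy)
      exact Subgroup.mem_subgroupOf.mp h1
    · rw [hcardH'', card_cj]
  refine ⟨g * c₁⁻¹ * (c : G), ?_, ?_⟩
  · rw [mem_normalizer_iff_cj_eq, cj_mul, cj_mul, hcH', hH'', cj_mul, cj_inv_cj, cj_cj_inv]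
  · have h1 : (c : G) * x * (c : G)⁻¹ = x := by rw [hcx']; group
    have h2 : c₁⁻¹ * x * c₁ = x := by
      rw [mul_assoc, ← hc₁x]; group
    calc g * c₁⁻¹ * (c : G) * x * (g * c₁⁻¹ * (c : G))⁻¹
        = g * (c₁⁻¹ * ((c : G) * x * (c : G)⁻¹) * c₁) * g⁻¹ := by group
      _ = g * x * g⁻¹ := by rw [h1, h2]

end Main

end Cfsg.Agent.Lib.Helper23
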