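/-
helper23 shared library: Bender–Glauberman Theorem II(e)-type statement S1362: for the standard
factorisation `M = K U M_σ`, the set `A(M) ∖ M_σ` is a TI-subset of `G`.  Proved from the statement of
S1361 (nonidentity subgroups of `U` centralizing a nonidentity element of `M_σ` lie in the unique
maximal subgroup `M`) and the Hall property of `M_σ` (S1350), both taken as hypotheses.
All declarations live in `Cfsg.Agent.Lib.Helper23`.
-/
import Mathlib
import Cfsg.Prelude.Def_OddOrderLocal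
import Cfsg.Agent.Lib.Helper33.Conj
import Cfsg.Agent.Lib.Helper1.HallDom

set_option autoImplicit false

namespace Cfsg.Agent.Lib.Helper23

open Cfsg
open scoped Pointwise
open Cfsg.Agent.Lib.Helper33 (cj mem_cj conj_mem_cj cj_mono cj_centralizer cj_inv_cj cj_cj_inv
  mem_normalizer_iff_cj_eq)

section SigmaTI

variable {G : Type*} [Group G]

/-- `M` normalizes `M_σ`. -/
theorem conj_mem_sigmaCore_of_mem {M : Subgroup G} {m x : G} (hm : m ∈ M) (hx : x ∈ sigmaCore M) :
    m * x * m⁻¹ ∈ sigmaCore M := by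
  obtain ⟨y, hy, rfl⟩ := hx
  have hn : (piCore (sigma M) ↥M).Normal := inferInstance
  exact ⟨(⟨m, hm⟩ : M) * y * (⟨m, hm⟩ : M)⁻¹, hn.conj_mem y hy ⟨m, hm⟩, by simp⟩

theorem conj_mem_sigmaCore_iff_of_mem {M : Subgroup G} {m x : G} (hm : m ∈ M) :
    m * x * m⁻¹ ∈ sigmaCore M ↔ x ∈ sigmaCore M := by
  constructor
  · intro h
    have := conj_mem_sigmaCore_of_mem (inv_mem hm) h
    have e : m⁻¹ * (m * x * m⁻¹) * m⁻¹⁻¹ = x := by group
    rwa [e] at this
  · exact conj_mem_sigmaCore_of_mem hm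

theorem sigmaCore_le_self_h23 (M : Subgroup G) : sigmaCore M ≤ M := Subgroup.map_subtype_le _

/-- a subgroup of `M` whose order involves only primes of `σ(M)` lies in `M_σ` -/
theorem le_sigmaCore_of_forall_prime_mem [Finite G] (M : Subgroup G)
    (hHall : IsPiHallOf (sigma M) (sigmaCore M) M) {Y : Subgroup G} (hYM : Y ≤ M)
    (hY : ∀ r : ℕ, r.Prime → r ∣ Nat.card Y → r ∈ sigma M) : Y ≤ sigmaCore M := by
  have hidx : (piCore (sigma M) ↥M).index = (sigmaCore M).relIndex M := by
    rw [Subgroup.relIndex, sigmaCore, Subgroup.subgroupOf,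
      Subgroup.comap_map_eq_self_of_injective M.subtype_injective]
  have hcard : Nat.card (Y.subgroupOf M) = Nat.card Y :=
    Nat.card_congr (Subgroup.subgroupOfEquivOfLe hYM).toEquiv
  have hcop : (Nat.card (Y.subgroupOf M)).Coprime (piCore (sigma M) ↥M).index := by
    apply Nat.coprime_of_dvd
    intro k hk hk1 hk2
    rw [hcard] at hk1
    rw [hidx] at hk2
    exact hHall.2.2 k hk (hY k hk hk1) hk2
  have hle : Y.subgroupOf M ≤ piCore (sigma M) ↥M := by
    have h1 : Nat.card ((Y.subgroupOf M).map (QuotientGroup.mk' (piCore (sigma M) ↥M))) ∣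
        Nat.card (Y.subgroupOf M) := Subgroup.card_map_dvd _ _
    have h2 : Nat.card ((Y.subgroupOf M).map (QuotientGroup.mk' (piCore (sigma M) ↥M))) ∣
        (piCore (sigma M) ↥M).index := by
      rw [Subgroup.index_eq_card]
      exact Subgroup.card_subgroup_dvd_card _
    have h3 := Nat.eq_one_of_dvd_coprimes hcop h1 h2
    have h4 := Subgroup.eq_bot_of_card_eq _ h3
    intro x hx
    have : QuotientGroup.mk' (piCore (sigma M) ↥M) x ∈
        (Y.subgroupOf M).map (QuotientGroup.mk' (piCore (sigma M) ↥M)) := ⟨x, hx, rfl⟩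
    rw [h4, Subgroup.mem_bot] at this
    exact (QuotientGroup.eq_one_iff x).mp this
  intro y hy
  exact ⟨⟨y, hYM hy⟩, hle (Subgroup.mem_subgroupOf.mpr hy), rfl⟩

/-- conjugates of maximal subgroups are maximal -/
theorem isCoatom_cj_h23 {L : Subgroup G} (hL : IsCoatom L) (g : G) : IsCoatom (cj g L) := by
  have := (OrderIso.isCoatom_iff (MulEquiv.mapSubgroup (MulAut.conj g)) L).mpr hL
  exact this

/-- the centralizer of a cyclic subgroup is the centralizer of its generator -/
theorem centralizer_zpowers_eq (v : G) :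
    Subgroup.centralizer ((Subgroup.zpowers v : Subgroup G) : Set G) =
      Subgroup.centralizer ({v} : Set G) := by
  apply le_antisymm
  · apply Subgroup.centralizer_le
    intro x hx
    rw [Set.mem_singleton_iff] at hx
    rw [hx]
    exact Subgroup.mem_zpowers v
  · intro c hc
    rw [Subgroup.mem_centralizer_singleton_iff] at hc
    rw [Subgroup.mem_centralizer_iff]
    rintro _ ⟨i, rfl⟩
    have h1 : Commute c v := hc
    exact ((h1.zpow_right i).eq).symm

/-- Key step: a power `w = x ^ k` of prime order `q ∉ σ(M)` of an element `x ∈ U M_σ` centralizing a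
nonidentity element of `M_σ` has `C_G(w) ≤ M`, and `M` is the only maximal subgroup over `C_G(w)`. -/
theorem uniq_of_pow_of_mem_sup [Finite G] (hG : IsMinSimpleOddOrder G) (M : Subgroup G)
    (hM : IsCoatom M) (K U : Subgroup G) (hKU : IsSigmaDecomposition M K U)
    (hHall : IsPiHallOf (sigma M) (sigmaCore M) M)
    (h1361 : ∀ X : Subgroup G, X ≤ U → X ≠ ⊥ →
      sigmaCore M ⊓ Subgroup.centralizer (X : Set G) ≠ ⊥ →
      Subgroup.centralizer (X : Set G) ≤ M ∧
        ∀ L : Subgroup G, IsCoatom L → Subgroup.centralizer (X : Set G) ≤ L → L = M)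
    (x : G) (hxN : x ∈ U ⊔ sigmaCore M) (y : G) (hy : y ∈ sigmaCore M) (hy1 : y ≠ 1)
    (hxy : x * y = y * x) (k q : ℕ) (hq : q.Prime) (hqσ : q ∉ sigma M)
    (hord : orderOf (x ^ k) = q) :
    Subgroup.centralizer ({x ^ k} : Set G) ≤ M ∧
      ∀ L : Subgroup G, IsCoatom L → Subgroup.centralizer ({x ^ k} : Set G) ≤ L → L = M := by
  obtain ⟨hodd, hsimple, hna, hsolv⟩ := hG
  have hUM : U ≤ M := hKU.compl.1
  have hMσM : sigmaCore M ≤ M := sigmaCore_le_self_h23 M
  have hdisj : U ⊓ sigmaCore M = ⊥ := by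
    have h0 := hKU.compl.2.2.1
    rw [eq_bot_iff] at h0 ⊢
    exact (inf_le_inf_left U le_sup_right).trans h0
  set N : Subgroup G := U ⊔ sigmaCore M with hN
  have hNM : N ≤ M := sup_le hUM hMσM
  have hMσN : sigmaCore M ≤ N := le_sup_right
  have hUN : U ≤ N := le_sup_left
  set w := x ^ k with hw
  have hwN : w ∈ N := pow_mem hxN k
  have hWN : Subgroup.zpowers w ≤ N := (Subgroup.zpowers_le).mpr hwN
  have hw1 : w ≠ 1 := by
    intro h1
    rw [h1, orderOf_one] at hord
    exact hq.one_lt.ne hord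
  have hwy : w * y = y * w := ((show Commute x y from hxy).pow_left k).eq
  have hnorm : ((sigmaCore M).subgroupOf N).Normal := by
    rw [Subgroup.normal_subgroupOf_iff_le_normalizer hMσN]
    intro n hn
    rw [Subgroup.mem_normalizer_iff]
    intro z
    exact (conj_mem_sigmaCore_iff_of_mem (hNM hn)).symm
  have htop : (sigmaCore M).subgroupOf N ⊔ U.subgroupOf N = ⊤ := by
    rw [← Subgroup.subgroupOf_sup hMσN hUN, sup_comm, Subgroup.subgroupOf_self]
  have hcompl : Subgroup.IsComplement' ((sigmaCore M).subgroupOf N) (U.subgroupOf N) := by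
    apply Subgroup.isComplement'_of_disjoint_and_mul_eq_univ
    · rw [Subgroup.disjoint_def]
      intro z hz1 hz2
      have h3 : (z : G) ∈ U ⊓ sigmaCore M :=
        Subgroup.mem_inf.mpr ⟨Subgroup.mem_subgroupOf.mp hz2, Subgroup.mem_subgroupOf.mp hz1⟩
      rw [hdisj, Subgroup.mem_bot] at h3
      exact Subtype.ext h3
    · rw [← Subgroup.normal_mul, htop, Subgroup.coe_top]
  have hcardW : Nat.card (Subgroup.zpowers w) = q := by rw [Nat.card_zpowers, hord]
  have hcop : (Nat.card ((sigmaCore M).subgroupOf N)).Coprime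
      (Nat.card ((Subgroup.zpowers w).subgroupOf N)) := by
    rw [Nat.card_congr (Subgroup.subgroupOfEquivOfLe hMσN).toEquiv,
      Nat.card_congr (Subgroup.subgroupOfEquivOfLe hWN).toEquiv, hcardW]
    apply Nat.Coprime.symm
    rw [Nat.Prime.coprime_iff_not_dvd hq]
    intro hdvd
    exact hqσ (hHall.2.1 q hq hdvd)
  have hsolM : Group.IsSolvable M := hsolv M hM.1
  have hsolN : Group.IsSolvable N :=
    Group.isSolvable_of_isSolvable_injective (Subgroup.inclusion_injective hNM)
  obtain ⟨g, hg⟩ := Cfsg.Agent.Lib.Helper1.exists_le_conj_of_coprime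
    ((sigmaCore M).subgroupOf N) (U.subgroupOf N) ((Subgroup.zpowers w).subgroupOf N) hcompl hcop
    inferInstance
  have hw' : (⟨w, hwN⟩ : N) ∈ (Subgroup.zpowers w).subgroupOf N :=
    Subgroup.mem_subgroupOf.mpr (Subgroup.mem_zpowers w)
  have h1 := hg hw'
  rw [Subgroup.mem_pointwise_smul_iff_inv_smul_mem] at h1
  have h2 : (g : G)⁻¹ * w * (g : G) ∈ U := by
    have h3 := Subgroup.mem_subgroupOf.mp h1
    rw [← map_inv, MulAut.smul_def, MulAut.conj_apply, inv_inv] at h3
    simpa using h3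
  set m : G := (g : G)⁻¹ with hm
  have hmM : m ∈ M := inv_mem (hNM g.2)
  set v : G := m * w * m⁻¹ with hv
  have hvU : v ∈ U := by rw [hv, hm, inv_inv]; exact h2
  have hv1 : v ≠ 1 := by
    intro h
    apply hw1
    have : w = m⁻¹ * v * m := by rw [hv]; group
    rw [this, h]; group
  have hXU : Subgroup.zpowers v ≤ U := (Subgroup.zpowers_le).mpr hvU
  have hX1 : Subgroup.zpowers v ≠ ⊥ := Subgroup.zpowers_ne_bot.mpr hv1
  have hXc : sigmaCore M ⊓ Subgroup.centralizer ((Subgroup.zpowers v : Subgroup G) : Set G) ≠ ⊥ := by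
    intro hbot
    have hy' : m * y * m⁻¹ ∈ sigmaCore M ⊓
        Subgroup.centralizer ((Subgroup.zpowers v : Subgroup G) : Set G) := by
      refine Subgroup.mem_inf.mpr ⟨conj_mem_sigmaCore_of_mem hmM hy, ?_⟩
      rw [centralizer_zpowers_eq, Subgroup.mem_centralizer_singleton_iff]
      calc m * y * m⁻¹ * v = m * (y * w) * m⁻¹ := by rw [hv]; group
        _ = m * (w * y) * m⁻¹ := by rw [hwy]
        _ = v * (m * y * m⁻¹) := by rw [hv]; group
    rw [hbot, Subgroup.mem_bot] at hy'
    apply hy1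
    have : y = m⁻¹ * (m * y * m⁻¹) * m := by group
    rw [this, hy']; group
  obtain ⟨hc, huniq⟩ := h1361 (Subgroup.zpowers v) hXU hX1 hXc
  rw [centralizer_zpowers_eq] at hc huniq
  have htrans : ∀ c : G, c ∈ Subgroup.centralizer ({w} : Set G) →
      m * c * m⁻¹ ∈ Subgroup.centralizer ({v} : Set G) := by
    intro c hcw
    rw [Subgroup.mem_centralizer_singleton_iff] at hcw ⊢
    calc m * c * m⁻¹ * v = m * (c * w) * m⁻¹ := by rw [hv]; group
      _ = m * (w * c) * m⁻¹ := by rw [hcw]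
      _ = v * (m * c * m⁻¹) := by rw [hv]; group
  constructor
  · intro c hcw
    have h3 := hc (htrans c hcw)
    have h4 := mul_mem (mul_mem (inv_mem hmM) h3) hmM
    have e : m⁻¹ * (m * c * m⁻¹) * m = c := by group
    rwa [e] at h4
  · intro L hL hLw
    have h3 : Subgroup.centralizer ({v} : Set G) ≤ cj m L := by
      intro c hcv
      rw [mem_cj]
      apply hLw
      rw [Subgroup.mem_centralizer_singleton_iff] at hcv ⊢
      have e : w = m⁻¹ * v * m := by rw [hv]; group
      calc m⁻¹ * c * m * w = m⁻¹ * (c * v) * m := by rw [e]; group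
        _ = m⁻¹ * (v * c) * m := by rw [hcv]
        _ = w * (m⁻¹ * c * m) := by rw [e]; group
    have h4 := huniq (cj m L) (isCoatom_cj_h23 hL m) h3
    have h5 : L = cj m⁻¹ M := by rw [← h4, cj_inv_cj]
    rw [h5]
    exact Cfsg.Agent.Lib.Helper33.cj_eq_self_of_mem (inv_mem hmM)

/-- **S1362** from the statements of S1361 and S1350: `A(M) ∖ M_σ` is a TI-subset. -/
theorem s1362_of [Finite G] (hG : IsMinSimpleOddOrder G) (M : Subgroup G) (hM : IsCoatom M)
    (K U : Subgroup G) (hKU : IsSigmaDecomposition M K U)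
    (hHall : IsPiHallOf (sigma M) (sigmaCore M) M)
    (h1361 : ∀ X : Subgroup G, X ≤ U → X ≠ ⊥ →
      sigmaCore M ⊓ Subgroup.centralizer (X : Set G) ≠ ⊥ →
      Subgroup.centralizer (X : Set G) ≤ M ∧
        ∀ L : Subgroup G, IsCoatom L → Subgroup.centralizer (X : Set G) ≤ L → L = M) :
    IsTISubset (sigmaA M U \ (sigmaCore M : Set G)) := by
  have hG' := hG
  obtain ⟨hodd, hsimple, hna, hsolv⟩ := hG
  have hUM : U ≤ M := hKU.compl.1
  have hMσM : sigmaCore M ≤ M := sigmaCore_le_self_h23 M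
  -- `M` normalizes `U ⊔ M_σ`
  have hNn : ∀ m ∈ M, ∀ z ∈ U ⊔ sigmaCore M, m * z * m⁻¹ ∈ U ⊔ sigmaCore M := by
    have hle : M ≤ Subgroup.normalizer ((U ⊔ sigmaCore M : Subgroup G) : Set G) := by
      intro m hm
      obtain ⟨a, ha, b, hb, rfl⟩ := hKU.compl.2.2.2 m hm
      refine mul_mem (Subgroup.le_normalizer (Subgroup.mem_sup_left ha)) ?_
      have hKσ : K ⊔ sigmaCore M ≤ Subgroup.normalizer ((U ⊔ sigmaCore M : Subgroup G) : Set G) := by
        apply sup_le
        · intro c hcK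
          rw [mem_normalizer_iff_cj_eq, Cfsg.Agent.Lib.Helper33.cj_sup]
          have h1 : cj c U = U :=
            Cfsg.Agent.Lib.Helper33.cj_eq_self_of_mem_normalizer (hKU.normal hcK)
          have h2 : cj c (sigmaCore M) = sigmaCore M := by
            apply Cfsg.Agent.Lib.Helper33.cj_eq_self_of_mem_normalizer
            rw [Subgroup.mem_normalizer_iff]
            intro z
            exact (conj_mem_sigmaCore_iff_of_mem (hKU.compl.2.1 (Subgroup.mem_sup_left hcK))).symm
          rw [h1, h2]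
        · exact le_sup_right.trans Subgroup.le_normalizer
      exact hKσ hb
    intro m hm z hz
    exact ((Subgroup.mem_normalizer_iff.mp (hle hm)) z).mp hz
  -- `M` normalizes the set
  have hMT : ∀ m ∈ M, ∀ n ∈ sigmaA M U \ (sigmaCore M : Set G),
      m * n * m⁻¹ ∈ sigmaA M U \ (sigmaCore M : Set G) := by
    rintro m hm n ⟨⟨⟨hnM, y, hy, hy1, hny⟩, hnN⟩, hnσ⟩
    refine ⟨⟨⟨mul_mem (mul_mem hm hnM) (inv_mem hm), m * y * m⁻¹,
      conj_mem_sigmaCore_of_mem hm hy, ?_, ?_⟩, hNn m hm n hnN⟩, ?_⟩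
    · intro h
      apply hy1
      have : y = m⁻¹ * (m * y * m⁻¹) * m := by group
      rw [this, h]; group
    · calc m * n * m⁻¹ * (m * y * m⁻¹) = m * (n * y) * m⁻¹ := by group
        _ = m * (y * n) * m⁻¹ := by rw [hny]
        _ = m * y * m⁻¹ * (m * n * m⁻¹) := by group
    · intro h
      exact hnσ ((conj_mem_sigmaCore_iff_of_mem hm).mp h)
  intro g hg x hx hgx
  exfalso
  apply hg
  -- it suffices to show `g ∈ M`
  suffices hgM : g ∈ M by
    rw [Subgroup.mem_set_normalizer_iff]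
    intro n
    constructor
    · exact hMT g hgM n
    · intro h
      have := hMT g⁻¹ (inv_mem hgM) _ h
      have e : g⁻¹ * (g * n * g⁻¹) * g⁻¹⁻¹ = n := by group
      rwa [e] at this
  obtain ⟨⟨⟨hxM, y, hy, hy1, hxy⟩, hxN⟩, hxσ⟩ := hx
  obtain ⟨⟨⟨hx'M, y', hy', hy'1, hxy'⟩, hx'N⟩, hx'σ⟩ := hgx
  -- a prime divisor of the order of `x` outside `σ(M)`
  obtain ⟨q, hq, hqx, hqσ⟩ : ∃ q : ℕ, q.Prime ∧ q ∣ orderOf x ∧ q ∉ sigma M := by
    by_contra hcon
    push Not at hcon
    apply hxσ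
    have hle : Subgroup.zpowers x ≤ sigmaCore M := by
      apply le_sigmaCore_of_forall_prime_mem M hHall ((Subgroup.zpowers_le).mpr hxM)
      intro r hr hrx
      rw [Nat.card_zpowers] at hrx
      exact hcon r hr hrx
    exact hle (Subgroup.mem_zpowers x)
  have hx0 : orderOf x ≠ 0 := (orderOf_pos x).ne'
  set k := orderOf x / q with hk
  have hord : orderOf (x ^ k) = q := orderOf_pow_orderOf_div hx0 hqx
  have hconj : (g * x * g⁻¹) ^ k = g * x ^ k * g⁻¹ := conj_pow
  have hord' : orderOf ((g * x * g⁻¹) ^ k) = q := by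
    rw [hconj]
    have := (MulAut.conj g).orderOf_eq (x ^ k)
    rw [MulAut.conj_apply] at this
    rw [this, hord]
  obtain ⟨hc, -⟩ := uniq_of_pow_of_mem_sup hG' M hM K U hKU hHall h1361 x hxN y hy hy1 hxy k q hq hqσ hord
  obtain ⟨-, hu'⟩ := uniq_of_pow_of_mem_sup hG' M hM K U hKU hHall h1361 (g * x * g⁻¹) hx'N y' hy' hy'1
    hxy' k q hq hqσ hord'
  have h3 : Subgroup.centralizer ({(g * x * g⁻¹) ^ k} : Set G) ≤ cj g M := by
    intro c hcc
    rw [mem_cj]
    apply hc
    rw [hconj, Subgroup.mem_centralizer_singleton_iff] at hcc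
    rw [Subgroup.mem_centralizer_singleton_iff]
    calc g⁻¹ * c * g * x ^ k = g⁻¹ * (c * (g * x ^ k * g⁻¹)) * g := by group
      _ = g⁻¹ * ((g * x ^ k * g⁻¹) * c) * g := by rw [hcc]
      _ = x ^ k * (g⁻¹ * c * g) := by group
  have h4 : cj g M = M := hu' (cj g M) (isCoatom_cj_h23 hM g) h3
  have hgN : g ∈ Subgroup.normalizer (M : Set G) := mem_normalizer_iff_cj_eq.mpr h4
  -- `N_G(M) = M`
  have hM1 : M ≠ ⊥ := by
    intro hbot
    apply hxσ
    rw [hbot, Subgroup.mem_bot] at hxM
    rw [hxM]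
    exact one_mem _
  rcases eq_or_lt_of_le (Subgroup.le_normalizer : M ≤ Subgroup.normalizer (M : Set G)) with h | h
  · rw [h]; exact hgN
  · exfalso
    have h5 := hM.2 _ h
    have hn : M.Normal := Subgroup.normalizer_eq_top_iff.mp h5
    rcases hsimple.eq_bot_or_eq_top_of_normal M hn with h6 | h6
    · exact hM1 h6
    · exact hM.1 h6

end SigmaTI

end Cfsg.Agent.Lib.Helper23
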