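/-
helper23 shared library: consequences of Bender–Glauberman Theorem 14.2 (the statement S1430) for the
standard factorisation `M = K U M_σ` of a maximal subgroup `M` of a minimal simple group of odd order:
existence of the factorisation (S1352), regular action of `K` on `U` (S1353), `C_{M_σ}(K) ≠ 1` and
`C_M(k) = K × C_{M_σ}(K)` (S1354).  The clauses of S1430 that are used are taken as hypotheses.
All declarations live in `Cfsg.Agent.Lib.Helper23`.
-/
import Mathlib
import Cfsg.Prelude.Def_OddOrderLocal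
import Cfsg.Agent.Lib.Helper23.BGSigmaTI
import Cfsg.Agent.Lib.Helper23.TypeP
import Cfsg.Agent.Lib.Helper23.BGHallFusion
import Cfsg.Agent.Lib.Helper54.Glauberman
import Cfsg.Agent.Lib.Helper82.NilAbelCyclic
import Cfsg.Agent.Lib.Helper30.BGNonab

set_option autoImplicit false

namespace Cfsg.Agent.Lib.Helper23

open Cfsg
open scoped Pointwise

section BGFourteenA

variable {G : Type*} [Group G]

/-- The primes outside `κ(M) ∪ σ(M)`. -/
def kappaSigmaCompl (M : Subgroup G) : Set ℕ := {q | q.Prime ∧ q ∉ kappa M ∧ q ∉ sigma M}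

/-- Numerical core of "three Hall subgroups for a partition of the primes multiply to the order". -/
theorem mul_eq_of_hall_partition {m a b c ra rb rc : ℕ} (hm : 0 < m)
    (ha : a * ra = m) (hb : b * rb = m) (hc : c * rc = m)
    (hab : a.Coprime b) (hac : a.Coprime c) (hbc : b.Coprime c)
    (h : ∀ q : ℕ, q.Prime → q ∣ m → ¬ q ∣ ra ∨ ¬ q ∣ rb ∨ ¬ q ∣ rc) : a * b * c = m := by
  have hadvd : a ∣ m := Dvd.intro _ ha
  have hbdvd : b ∣ m := Dvd.intro _ hb
  have hcdvd : c ∣ m := Dvd.intro _ hc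
  have habdvd : a * b ∣ m := hab.mul_dvd_of_dvd_of_dvd hadvd hbdvd
  have habc : (a * b).Coprime c := Nat.Coprime.mul_left hac hbc
  obtain ⟨t, ht⟩ : a * b * c ∣ m := habc.mul_dvd_of_dvd_of_dvd habdvd hcdvd
  have ha0 : 0 < a := Nat.pos_of_ne_zero (by rintro rfl; simp at ha; omega)
  have hb0 : 0 < b := Nat.pos_of_ne_zero (by rintro rfl; simp at hb; omega)
  have hc0 : 0 < c := Nat.pos_of_ne_zero (by rintro rfl; simp at hc; omega)
  by_cases ht1 : t = 1
  · rw [ht, ht1, mul_one]
  exfalso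
  obtain ⟨q, hq, hqt⟩ := Nat.exists_prime_and_dvd ht1
  have hra : ra = b * c * t := by
    apply Nat.eq_of_mul_eq_mul_left ha0
    rw [ha, ht]; ring
  have hrb : rb = a * c * t := by
    apply Nat.eq_of_mul_eq_mul_left hb0
    rw [hb, ht]; ring
  have hrc : rc = a * b * t := by
    apply Nat.eq_of_mul_eq_mul_left hc0
    rw [hc, ht]; ring
  have hqm : q ∣ m := by rw [ht]; exact Dvd.dvd.mul_left hqt _
  rcases h q hq hqm with h1 | h1 | h1
  · exact h1 (by rw [hra]; exact Dvd.dvd.mul_left hqt _)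
  · exact h1 (by rw [hrb]; exact Dvd.dvd.mul_left hqt _)
  · exact h1 (by rw [hrc]; exact Dvd.dvd.mul_left hqt _)

/-- Two subgroups with no common prime divisor of their orders have coprime orders. -/
theorem coprime_card_of_forall_prime (A B : Subgroup G)
    (h : ∀ q : ℕ, q.Prime → q ∣ Nat.card A → q ∣ Nat.card B → False) :
    (Nat.card A).Coprime (Nat.card B) := by
  apply Nat.coprime_of_dvd
  intro q hq h1 h2
  exact h q hq h1 h2

/-- `M` normalizes `U M_σ` in a standard factorisation. -/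
theorem le_normalizer_sup_sigmaCore_of_sigmaDecomposition {M K U : Subgroup G}
    (hKU : IsSigmaDecomposition M K U) :
    M ≤ Subgroup.normalizer ((U ⊔ sigmaCore M : Subgroup G) : Set G) := by
  intro m hm
  obtain ⟨a, ha, b, hb, rfl⟩ := hKU.compl.2.2.2 m hm
  refine mul_mem (Subgroup.le_normalizer (Subgroup.mem_sup_left ha)) ?_
  have hKσ : K ⊔ sigmaCore M ≤ Subgroup.normalizer ((U ⊔ sigmaCore M : Subgroup G) : Set G) := by
    apply sup_le
    · intro c hcK
      rw [Cfsg.Agent.Lib.Helper33.mem_normalizer_iff_cj_eq, Cfsg.Agent.Lib.Helper33.cj_sup]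
      have h1 : Cfsg.Agent.Lib.Helper33.cj c U = U :=
        Cfsg.Agent.Lib.Helper33.cj_eq_self_of_mem_normalizer (hKU.normal hcK)
      have h2 : Cfsg.Agent.Lib.Helper33.cj c (sigmaCore M) = sigmaCore M := by
        apply Cfsg.Agent.Lib.Helper33.cj_eq_self_of_mem_normalizer
        rw [Subgroup.mem_normalizer_iff]
        intro z
        exact (conj_mem_sigmaCore_iff_of_mem (hKU.compl.2.1 (Subgroup.mem_sup_left hcK))).symm
      rw [h1, h2]
    · exact le_sup_right.trans Subgroup.le_normalizer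
  exact hKσ hb

/-- `M` normalizes `M_σ`. -/
theorem le_normalizer_sigmaCore_h23 (M : Subgroup G) :
    M ≤ Subgroup.normalizer ((sigmaCore M : Subgroup G) : Set G) := by
  intro m hm
  rw [Subgroup.mem_normalizer_iff]
  intro z
  exact (conj_mem_sigmaCore_iff_of_mem hm).symm

/-- `κ(M)` and `σ(M)` are disjoint, so a `κ(M)`-subgroup and `M_σ` have coprime orders. -/
theorem coprime_card_kappa_sigmaCore [Finite G] {M K : Subgroup G}
    (hHall : IsPiHallOf (sigma M) (sigmaCore M) M)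
    (hK : ∀ p : ℕ, p.Prime → p ∣ Nat.card K → p ∈ kappa M) :
    (Nat.card K).Coprime (Nat.card (sigmaCore M)) := by
  apply coprime_card_of_forall_prime
  intro q hq h1 h2
  exact (hK q hq h1).2.2.1 (hHall.2.1 q hq h2)

/-- A Hall `(κ(M) ∪ σ(M))'`-subgroup of `M` normalized by the cyclic Hall `κ(M)`-subgroup `K` gives a
standard factorisation `M = K U M_σ`. -/
theorem isSigmaDecomposition_of_hall [Finite G] {M K U : Subgroup G}
    (hHall : IsPiHallOf (sigma M) (sigmaCore M) M) (hKc : IsCyclic K)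
    (hK : IsPiHallOf (kappa M) K M) (hU : IsPiHallOf (kappaSigmaCompl M) U M)
    (hKU : K ≤ Subgroup.normalizer (U : Set G)) : IsSigmaDecomposition M K U := by
  have hσM : sigmaCore M ≤ M := sigmaCore_le_self_h23 M
  have hKσM : K ⊔ sigmaCore M ≤ M := sup_le hK.1 hσM
  have hcKσ : (Nat.card K).Coprime (Nat.card (sigmaCore M)) :=
    coprime_card_kappa_sigmaCore hHall hK.2.1
  have hcUK : (Nat.card U).Coprime (Nat.card K) := by
    apply coprime_card_of_forall_prime
    intro q hq h1 h2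
    exact (hU.2.1 q hq h1).2.1 (hK.2.1 q hq h2)
  have hcUσ : (Nat.card U).Coprime (Nat.card (sigmaCore M)) := by
    apply coprime_card_of_forall_prime
    intro q hq h1 h2
    exact (hU.2.1 q hq h1).2.2 (hHall.2.1 q hq h2)
  have hdisj : sigmaCore M ⊓ K = ⊥ := (Subgroup.disjoint_of_coprime_natCard hcKσ.symm).eq_bot
  have hKN : K ≤ Subgroup.normalizer ((sigmaCore M : Subgroup G) : Set G) :=
    hK.1.trans (le_normalizer_sigmaCore_h23 M)
  have hcardKσ : Nat.card (sigmaCore M ⊔ K : Subgroup G) = Nat.card (sigmaCore M) * Nat.card K :=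
    Cfsg.Agent.Lib.Helper54.card_sup_of_le_normalizer hKN hdisj
  have hprod : Nat.card U * Nat.card K * Nat.card (sigmaCore M) = Nat.card M := by
    apply mul_eq_of_hall_partition Nat.card_pos (Cfsg.Agent.Lib.Helper54.card_mul_relIndex hU.1)
      (Cfsg.Agent.Lib.Helper54.card_mul_relIndex hK.1)
      (Cfsg.Agent.Lib.Helper54.card_mul_relIndex hσM) hcUK hcUσ hcKσ
    intro q hq _
    by_cases h1 : q ∈ sigma M
    · exact Or.inr (Or.inr (hHall.2.2 q hq h1))
    by_cases h2 : q ∈ kappa M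
    · exact Or.inr (Or.inl (hK.2.2 q hq h2))
    · exact Or.inl (hU.2.2 q hq ⟨hq, h2, h1⟩)
  have hcardKσ' : Nat.card (K ⊔ sigmaCore M : Subgroup G) =
      Nat.card (sigmaCore M) * Nat.card K := by
    rw [sup_comm]; exact hcardKσ
  have hcop : (Nat.card U).Coprime (Nat.card (K ⊔ sigmaCore M : Subgroup G)) := by
    rw [hcardKσ']; exact Nat.Coprime.mul_right hcUσ hcUK
  have hinf : U ⊓ (K ⊔ sigmaCore M) = ⊥ := (Subgroup.disjoint_of_coprime_natCard hcop).eq_bot
  have cU : Nat.card (U.subgroupOf M) = Nat.card U :=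
    Nat.card_congr (Subgroup.subgroupOfEquivOfLe hU.1).toEquiv
  have cB : Nat.card ((K ⊔ sigmaCore M).subgroupOf M) =
      Nat.card (K ⊔ sigmaCore M : Subgroup G) :=
    Nat.card_congr (Subgroup.subgroupOfEquivOfLe hKσM).toEquiv
  have hcompl : Subgroup.IsComplement' (U.subgroupOf M) ((K ⊔ sigmaCore M).subgroupOf M) :=
    Subgroup.isComplement'_of_coprime (by rw [cU, cB, hcardKσ', ← hprod]; ring)
      (by rw [cU, cB]; exact hcop)
  refine ⟨hKc, hK, ⟨hU.1, hKσM, hinf, ?_⟩, hKU⟩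
  intro m hm
  obtain ⟨⟨⟨a, ha⟩, ⟨b, hb⟩⟩, hab, -⟩ :=
    (Subgroup.isComplement_iff_existsUnique.mp hcompl) ⟨m, hm⟩
  simp only at hab
  refine ⟨a, Subgroup.mem_subgroupOf.mp ha, b, Subgroup.mem_subgroupOf.mp hb, ?_⟩
  have := congrArg Subtype.val hab
  simpa using this.symm

/-- S1352 from the Hall property of `M_σ` (S1350) and the existence clause of S1430. -/
theorem s1352_of [Finite G] (M K : Subgroup G)
    (hHall : IsPiHallOf (sigma M) (sigmaCore M) M)
    (hKc : IsCyclic K) (hK : IsPiHallOf (kappa M) K M)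
    (h2 : K ≠ ⊥ → ∃ U : Subgroup G, IsPiHallOf {q | q.Prime ∧ q ∉ kappa M ∧ q ∉ sigma M} U M ∧
      K ≤ Subgroup.normalizer (U : Set G)) :
    (∃ U : Subgroup G, IsSigmaDecomposition M K U) ∧
      ∀ U : Subgroup G, IsSigmaDecomposition M K U →
        M ≤ Subgroup.normalizer ((U ⊔ sigmaCore M : Subgroup G) : Set G) := by
  refine ⟨?_, fun U hU => le_normalizer_sup_sigmaCore_of_sigmaDecomposition hU⟩
  by_cases hK1 : K = ⊥
  · obtain ⟨E, hE⟩ := Cfsg.Agent.Lib.Helper30.BGNonab.exists_isComplIn M hHall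
    refine ⟨E, hKc, hK, ?_, ?_⟩
    · rw [hK1, bot_sup_eq]; exact hE
    · rw [hK1]; exact bot_le
  · obtain ⟨U, hU, hKU⟩ := h2 hK1
    exact ⟨U, isSigmaDecomposition_of_hall hHall hKc hK hU hKU⟩

/-- If `K ≠ 1` is a `κ(M)`-subgroup of `M` acting in a prime manner on `M_σ`, then
`C_{M_σ}(K) ≠ 1`. -/
theorem kstar_ne_bot_of [Finite G] (M K : Subgroup G) (hKM : K ≤ M)
    (hKκ : ∀ p : ℕ, p.Prime → p ∣ Nat.card K → p ∈ kappa M) (hK1 : K ≠ ⊥)
    (h1 : ∀ k ∈ K, k ≠ 1 → sigmaCore M ⊓ Subgroup.centralizer ({k} : Set G) =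
      sigmaCore M ⊓ Subgroup.centralizer (K : Set G)) :
    sigmaCore M ⊓ Subgroup.centralizer (K : Set G) ≠ ⊥ := by
  have hcard : Nat.card K ≠ 1 := by
    intro h
    exact hK1 (Subgroup.eq_bot_of_card_eq K h)
  obtain ⟨p, hp, hpK⟩ := Nat.exists_prime_and_dvd hcard
  have hpκ := hKκ p hp hpK
  have : Fact p.Prime := ⟨hp⟩
  obtain ⟨z, hz⟩ := exists_prime_orderOf_dvd_card' (G := K) p hpK
  -- `z` as an element of `M`
  set zM : M := ⟨z, hKM z.2⟩ with hzM
  have hzMord : orderOf zM = p := by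
    rw [← hz]
    have h1 : orderOf (zM : G) = orderOf zM := Subgroup.orderOf_coe zM
    have h2 : orderOf (z : G) = orderOf z := Subgroup.orderOf_coe z
    rw [← h1, ← h2]
  have hzpg : IsPGroup p (Subgroup.zpowers zM) := by
    apply IsPGroup.of_card (n := 1)
    rw [Nat.card_zpowers, hzMord, pow_one]
  obtain ⟨P, hP⟩ := hzpg.exists_le_sylow
  obtain ⟨hPc, x, hxP, hx1, y, hy, hy1, hxy⟩ := hpκ.2.2.2 P
  -- the subgroup of order `p` of `⟨x⟩`
  have hpx : p ∣ orderOf x := by
    obtain ⟨k, hk⟩ := P.2 ⟨x, hxP⟩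
    have hk' : x ^ p ^ k = 1 := by
      have := congrArg Subtype.val hk
      simpa using this
    have hdvd : orderOf x ∣ p ^ k := orderOf_dvd_of_pow_eq_one hk'
    obtain ⟨j, -, hj⟩ := (Nat.dvd_prime_pow hp).mp hdvd
    rcases Nat.eq_zero_or_pos j with rfl | hj0
    · rw [pow_zero, orderOf_eq_one_iff] at hj
      exact absurd hj hx1
    · rw [hj]; exact dvd_pow_self p hj0.ne'
  have hx0 : orderOf x ≠ 0 := (orderOf_pos x).ne'
  set x' := x ^ (orderOf x / p) with hx'
  have hx'ord : orderOf x' = p := orderOf_pow_orderOf_div hx0 hpx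
  have hx'P : Subgroup.zpowers x' ≤ (P : Subgroup M) := by
    rw [Subgroup.zpowers_le]
    exact Subgroup.pow_mem _ hxP _
  have heq : Subgroup.zpowers zM = Subgroup.zpowers x' := by
    apply Cfsg.Agent.Lib.Helper82.NilAbel.eq_of_card_eq_of_le_cyclic hPc hP hx'P
    rw [Nat.card_zpowers, Nat.card_zpowers, hzMord, hx'ord]
  have hzmem : zM ∈ Subgroup.zpowers x' := by rw [← heq]; exact Subgroup.mem_zpowers zM
  obtain ⟨n, hn⟩ := Subgroup.mem_zpowers_iff.mp hzmem
  -- `z` commutes with `y`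
  have hcomm : Commute ((x : M) : G) y := hxy
  have hzy : (z : G) * y = y * (z : G) := by
    have h3 : ((zM : M) : G) = ((x : G) ^ (orderOf x / p)) ^ n := by
      rw [← hn, hx']
      simp
    have h4 : (z : G) = ((x : G) ^ (orderOf x / p)) ^ n := h3
    rw [h4]
    exact ((hcomm.pow_left _).zpow_left n).eq
  have hz1 : (z : G) ≠ 1 := by
    intro h
    have : z = 1 := Subtype.ext h
    rw [this, orderOf_one] at hz
    exact hp.one_lt.ne hz
  have hmem : y ∈ sigmaCore M ⊓ Subgroup.centralizer ({(z : G)} : Set G) := by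
    refine ⟨hy, ?_⟩
    show y ∈ Subgroup.centralizer ({(z : G)} : Set G)
    rw [Subgroup.mem_centralizer_singleton_iff]
    exact hzy.symm
  rw [h1 (z : G) z.2 hz1] at hmem
  intro hbot
  rw [hbot, Subgroup.mem_bot] at hmem
  exact hy1 hmem

/-- S1354 from `M_σ ≠ 1` and the clauses (a), (b) of S1430. -/
theorem s1354_of [Finite G] (M K : Subgroup G) (hσ : sigmaCore M ≠ ⊥)
    (hKc : IsCyclic K) (hK : IsPiHallOf (kappa M) K M)
    (h1 : K ≠ ⊥ → ∀ k ∈ K, k ≠ 1 → sigmaCore M ⊓ Subgroup.centralizer ({k} : Set G) =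
      sigmaCore M ⊓ Subgroup.centralizer (K : Set G))
    (h3 : K ≠ ⊥ → ∀ X : Subgroup G, X ≤ K → (Nat.card X).Prime →
      M ⊓ Subgroup.normalizer (X : Set G) =
        K ⊔ (sigmaCore M ⊓ Subgroup.centralizer (K : Set G))) :
    sigmaCore M ⊓ Subgroup.centralizer (K : Set G) ≠ ⊥ ∧
      (K ≠ ⊥ → ∀ k ∈ K, k ≠ 1 →
        M ⊓ Subgroup.centralizer ({k} : Set G) =
          K ⊔ (sigmaCore M ⊓ Subgroup.centralizer (K : Set G))) := by
  constructor
  · by_cases hK1 : K = ⊥
    · rw [hK1]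
      intro h
      apply hσ
      rw [eq_bot_iff] at h ⊢
      intro x hx
      apply h
      refine ⟨hx, ?_⟩
      show x ∈ Subgroup.centralizer ((⊥ : Subgroup G) : Set G)
      rw [Subgroup.mem_centralizer_iff]
      intro g hg
      have hg1 : g = 1 := by simpa using hg
      rw [hg1, one_mul, mul_one]
    · exact kstar_ne_bot_of M K hK.1 hK.2.1 hK1 (h1 hK1)
  · intro hK1 k hk hk1
    apply le_antisymm
    · -- `C_M(k) ≤ N_M(X)` for the subgroup `X` of prime order of `⟨k⟩`
      have hord : orderOf k ≠ 1 := by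
        rw [Ne, orderOf_eq_one_iff]; exact hk1
      obtain ⟨p, hp, hpk⟩ := Nat.exists_prime_and_dvd hord
      have hk0 : orderOf k ≠ 0 := (orderOf_pos k).ne'
      set k' := k ^ (orderOf k / p) with hk'
      have hk'ord : orderOf k' = p := orderOf_pow_orderOf_div hk0 hpk
      have hXK : Subgroup.zpowers k' ≤ K := by
        rw [Subgroup.zpowers_le]; exact Subgroup.pow_mem _ hk _
      have hXp : (Nat.card (Subgroup.zpowers k')).Prime := by
        rw [Nat.card_zpowers, hk'ord]; exact hp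
      rw [← h3 hK1 _ hXK hXp]
      apply inf_le_inf_left
      intro c hc
      rw [Subgroup.mem_centralizer_singleton_iff] at hc
      apply Subgroup.centralizer_le_normalizer
      rw [centralizer_zpowers_eq, Subgroup.mem_centralizer_singleton_iff]
      have : Commute c k := hc
      exact (this.pow_right _).eq
    · apply sup_le
      · apply le_inf hK.1
        intro a ha
        rw [Subgroup.mem_centralizer_singleton_iff]
        let _ := IsCyclic.commGroup (α := K)
        have := mul_comm (⟨a, ha⟩ : K) ⟨k, hk⟩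
        exact congrArg Subtype.val this
      · apply le_inf (inf_le_left.trans (sigmaCore_le_self_h23 M))
        apply inf_le_right.trans
        apply Subgroup.centralizer_le
        simpa using hk

/-- `|K M_σ| = |M_σ| |K|` for a `κ(M)`-subgroup `K` of `M`. -/
theorem card_sup_kappa_sigmaCore [Finite G] {M K : Subgroup G}
    (hHall : IsPiHallOf (sigma M) (sigmaCore M) M) (hKM : K ≤ M)
    (hK : ∀ p : ℕ, p.Prime → p ∣ Nat.card K → p ∈ kappa M) :
    Nat.card (K ⊔ sigmaCore M : Subgroup G) = Nat.card (sigmaCore M) * Nat.card K := by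
  have hcKσ : (Nat.card K).Coprime (Nat.card (sigmaCore M)) :=
    coprime_card_kappa_sigmaCore hHall hK
  have hdisj : sigmaCore M ⊓ K = ⊥ := (Subgroup.disjoint_of_coprime_natCard hcKσ.symm).eq_bot
  have hKN : K ≤ Subgroup.normalizer ((sigmaCore M : Subgroup G) : Set G) :=
    hKM.trans (le_normalizer_sigmaCore_h23 M)
  rw [sup_comm]
  exact Cfsg.Agent.Lib.Helper54.card_sup_of_le_normalizer hKN hdisj

/-- S1353 from the Hall property of `M_σ` (S1350) and clause (a) of S1430 (existence of one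
`K`-invariant Hall `(κ ∪ σ)'`-subgroup on which `K` acts regularly): `K` acts regularly on the `U` of
every standard factorisation. -/
theorem s1353_of [Finite G] (M K U : Subgroup G) (hsolv : Group.IsSolvable (sigmaCore M))
    (hHall : IsPiHallOf (sigma M) (sigmaCore M) M)
    (hKU : IsSigmaDecomposition M K U)
    (h2 : K ≠ ⊥ → ∃ U₀ : Subgroup G,
      IsPiHallOf {q | q.Prime ∧ q ∉ kappa M ∧ q ∉ sigma M} U₀ M ∧
      K ≤ Subgroup.normalizer (U₀ : Set G) ∧
      ∀ k ∈ K, k ≠ 1 → U₀ ⊓ Subgroup.centralizer ({k} : Set G) = ⊥) :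
    ∀ k ∈ K, k ≠ 1 → U ⊓ Subgroup.centralizer ({k} : Set G) = ⊥ := by
  intro k hk hk1
  have hK1 : K ≠ ⊥ := by
    intro h; rw [h, Subgroup.mem_bot] at hk; exact hk1 hk
  obtain ⟨U₀, hU₀, hKU₀, hreg⟩ := h2 hK1
  have hKU' : IsSigmaDecomposition M K U₀ :=
    isSigmaDecomposition_of_hall hHall hKU.cyclic hKU.hall hU₀ hKU₀
  have hσM : sigmaCore M ≤ M := sigmaCore_le_self_h23 M
  have hc1 := card_of_isComplIn hKU.compl
  have hc2 := card_of_isComplIn hKU'.compl
  have hcardU : Nat.card U₀ = Nat.card U := by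
    have : Nat.card U * Nat.card (K ⊔ sigmaCore M : Subgroup G) =
        Nat.card U₀ * Nat.card (K ⊔ sigmaCore M : Subgroup G) := by rw [← hc1, ← hc2]
    exact (Nat.eq_of_mul_eq_mul_right Nat.card_pos this).symm
  have hcKσ : (Nat.card K).Coprime (Nat.card (sigmaCore M)) :=
    coprime_card_kappa_sigmaCore hHall hKU.hall.2.1
  have hcUK : (Nat.card U).Coprime (Nat.card K) := by
    rw [← hcardU]
    apply coprime_card_of_forall_prime
    intro q hq h1 h2
    exact (hU₀.2.1 q hq h1).2.1 (hKU.hall.2.1 q hq h2)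
  have hcUσ : (Nat.card U).Coprime (Nat.card (sigmaCore M)) := by
    rw [← hcardU]
    apply coprime_card_of_forall_prime
    intro q hq h1 h2
    exact (hU₀.2.1 q hq h1).2.2 (hHall.2.1 q hq h2)
  -- the normal subgroup `N = U M_σ`
  set N : Subgroup G := U ⊔ sigmaCore M with hN
  have hMN : M ≤ Subgroup.normalizer (N : Set G) :=
    le_normalizer_sup_sigmaCore_of_sigmaDecomposition hKU
  have hNM : N ≤ M := sup_le hKU.compl.1 hσM
  have hUσ : sigmaCore M ⊓ U = ⊥ := by
    rw [eq_bot_iff, ← hKU.compl.2.2.1]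
    exact le_inf inf_le_right (inf_le_left.trans le_sup_right)
  have hUN : U ≤ Subgroup.normalizer ((sigmaCore M : Subgroup G) : Set G) :=
    hKU.compl.1.trans (le_normalizer_sigmaCore_h23 M)
  have hcardN : Nat.card N = Nat.card (sigmaCore M) * Nat.card U := by
    rw [hN, sup_comm]
    exact Cfsg.Agent.Lib.Helper54.card_sup_of_le_normalizer hUN hUσ
  have hidx : N.relIndex M = Nat.card K := by
    have h1 := Cfsg.Agent.Lib.Helper54.card_mul_relIndex hNM
    rw [hc1, card_sup_kappa_sigmaCore hHall hKU.hall.1 hKU.hall.2.1, hcardN] at h1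
    have h2 : Nat.card (sigmaCore M) * Nat.card U * N.relIndex M =
        Nat.card (sigmaCore M) * Nat.card U * Nat.card K := by rw [h1]; ring
    exact Nat.eq_of_mul_eq_mul_left (Nat.mul_pos Nat.card_pos Nat.card_pos) h2
  have hU₀N : U₀ ≤ N := by
    have hnorm : (N.subgroupOf M).Normal := Subgroup.normal_subgroupOf_of_le_normalizer hMN
    have hcop : (Nat.card (U₀.subgroupOf M)).Coprime (N.subgroupOf M).index := by
      have e : (N.subgroupOf M).index = N.relIndex M := rfl
      rw [e, hidx, Nat.card_congr (Subgroup.subgroupOfEquivOfLe hU₀.1).toEquiv, hcardU]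
      exact hcUK
    have hle := le_normal_of_coprime_card_index (U₀.subgroupOf M) (N.subgroupOf M) hcop
    intro x hx
    have : (⟨x, hU₀.1 hx⟩ : M) ∈ U₀.subgroupOf M := Subgroup.mem_subgroupOf.mpr hx
    exact Subgroup.mem_subgroupOf.mp (hle this)
  -- Schur–Zassenhaus in `N`, then Glauberman
  obtain ⟨l, hl, hlU⟩ := Cfsg.Agent.Lib.Helper54.sz_conj_rel N (sigmaCore M) U U₀ le_sup_right
    (hNM.trans (le_normalizer_sigmaCore_h23 M)) le_sup_left hU₀N hcardN.symm hcardU
    hcUσ.symm (Or.inr hsolv)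
  obtain ⟨c, -, hcK, hcU⟩ := Cfsg.Agent.Lib.Helper54.glauberman_conj K (sigmaCore M) U U₀
    (hKU.hall.1.trans (le_normalizer_sigmaCore_h23 M)) hcKσ (Or.inr hsolv) hKU.normal hKU₀
    ⟨l, hl, hlU⟩
  rw [eq_bot_iff]
  rintro x ⟨hxU, hxk⟩
  rw [Subgroup.mem_bot]
  have hxk' : x * k = k * x := Subgroup.mem_centralizer_singleton_iff.mp hxk
  have hck : k * c = c * k := (Subgroup.mem_centralizer_iff.mp hcK) k hk
  have h1 : c * x * c⁻¹ ∈ U₀ := by
    rw [← hcU]; exact Cfsg.Agent.Lib.Helper54.conj_mem_conj_smul hxU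
  have h2 : c * x * c⁻¹ ∈ Subgroup.centralizer ({k} : Set G) := by
    rw [Subgroup.mem_centralizer_singleton_iff]
    have hck' : c⁻¹ * k = k * c⁻¹ := by
      calc c⁻¹ * k = c⁻¹ * (k * c) * c⁻¹ := by group
        _ = c⁻¹ * (c * k) * c⁻¹ := by rw [hck]
        _ = k * c⁻¹ := by group
    calc c * x * c⁻¹ * k = c * x * (c⁻¹ * k) := by group
      _ = c * x * (k * c⁻¹) := by rw [hck']
      _ = c * (x * k) * c⁻¹ := by group
      _ = c * (k * x) * c⁻¹ := by rw [hxk']
      _ = (c * k) * x * c⁻¹ := by group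
      _ = (k * c) * x * c⁻¹ := by rw [hck]
      _ = k * (c * x * c⁻¹) := by group
  have h3 : c * x * c⁻¹ ∈ U₀ ⊓ Subgroup.centralizer ({k} : Set G) := ⟨h1, h2⟩
  rw [hreg k hk hk1, Subgroup.mem_bot] at h3
  calc x = c⁻¹ * (c * x * c⁻¹) * c := by group
    _ = 1 := by rw [h3]; group

end BGFourteenA

end Cfsg.Agent.Lib.Helper23
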