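/-
helper23 shared library: more consequences of Bender–Glauberman Theorems 14.2 / 14.7 for the standard
factorisation `M = K U M_σ` (towards S1363, S1364, S1365): conjugacy of the complements `U`,
`M' = U M_σ`, `C_{M_σ}(K) ≤ M''`.  The S14xx statements that are used are taken as hypotheses.
All declarations live in `Cfsg.Agent.Lib.Helper23`.
-/
import Mathlib
import Cfsg.Prelude.Def_OddOrderLocal
import Cfsg.Agent.Lib.Helper23.BGFourteenA
import Cfsg.Agent.S0055
import Cfsg.Agent.Lib.Helper54.BGTransitivity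

set_option autoImplicit false

namespace Cfsg.Agent.Lib.Helper23

open Cfsg
open scoped Pointwise commutatorElement

section BGFourteenB

/-- If `X = X' K` with `K` abelian of order prime to `|X'|`, then `C_{X'}(K) ≤ X''`. -/
theorem centralizer_inf_commutator_le_of_coprime {X : Type*} [Group X] [Finite X] (K : Subgroup X)
    (hKab : ∀ a ∈ K, ∀ b ∈ K, a * b = b * a)
    (hsup : ∀ x : X, ∃ n ∈ commutator X, ∃ k ∈ K, x = n * k)
    (hcop : (Nat.card K).Coprime (Nat.card (commutator X))) :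
    commutator X ⊓ Subgroup.centralizer (K : Set X) ≤ ⁅commutator X, commutator X⁆ := by
  set D : Subgroup X := commutator X with hD
  have hDn : D.Normal := by rw [hD]; infer_instance
  set D2 : Subgroup X := ⁅D, D⁆ with hD2
  have hD2n : D2.Normal := Subgroup.commutator_normal D D
  set π : X →* X ⧸ D2 := QuotientGroup.mk' D2 with hπ
  have hπs : Function.Surjective π := QuotientGroup.mk'_surjective D2
  set V : Subgroup (X ⧸ D2) := D.map π with hV
  set A : Subgroup (X ⧸ D2) := K.map π with hA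
  have hVn : V.Normal := Subgroup.Normal.map hDn π hπs
  have hVc : ∀ a ∈ V, ∀ b ∈ V, a * b = b * a := by
    rintro _ ⟨d₁, hd₁, rfl⟩ _ ⟨d₂, hd₂, rfl⟩
    have h1 : ⁅d₁, d₂⁆ ∈ D2 := Subgroup.commutator_mem_commutator hd₁ hd₂
    have h2 : π ⁅d₁, d₂⁆ = 1 := (QuotientGroup.eq_one_iff _).mpr h1
    rw [commutatorElement_def, map_mul, map_mul, map_mul, map_inv, map_inv] at h2
    calc π d₁ * π d₂ = (π d₁ * π d₂ * (π d₁)⁻¹ * (π d₂)⁻¹) * (π d₂ * π d₁) := by group
      _ = π d₂ * π d₁ := by rw [h2, one_mul]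
  have hVcomm : IsMulCommutative V := ⟨⟨fun a b => Subtype.ext (hVc a a.2 b b.2)⟩⟩
  have hAc : ∀ a ∈ A, ∀ b ∈ A, a * b = b * a := by
    rintro _ ⟨k₁, hk₁, rfl⟩ _ ⟨k₂, hk₂, rfl⟩
    rw [← map_mul, ← map_mul, hKab k₁ hk₁ k₂ hk₂]
  have hAV : A ≤ Subgroup.normalizer (V : Set (X ⧸ D2)) := by
    intro a _
    rw [Subgroup.mem_normalizer_iff]
    intro v
    constructor
    · intro hv; exact hVn.conj_mem v hv a
    · intro hv
      have := hVn.conj_mem _ hv a⁻¹
      have e : a⁻¹ * (a * v * a⁻¹) * a⁻¹⁻¹ = v := by group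
      rwa [e] at this
  have hcop' : (Nat.card A).Coprime (Nat.card V) :=
    Nat.Coprime.coprime_dvd_left (Subgroup.card_map_dvd K π)
      (Nat.Coprime.coprime_dvd_right (Subgroup.card_map_dvd D π) hcop)
  obtain ⟨h1, -⟩ := Cfsg.Agent.S0055.result A V hAV hcop'
  -- `V = [V, A]`
  have hVA : V ≤ ⁅V, A⁆ := by
    rw [hV, Subgroup.map_le_iff_le_comap, hD, commutator_def, Subgroup.commutator_le]
    intro x _ y _
    rw [Subgroup.mem_comap]
    obtain ⟨n₁, hn₁, k₁, hk₁, rfl⟩ := hsup x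
    obtain ⟨n₂, hn₂, k₂, hk₂, rfl⟩ := hsup y
    have hv₁ : π n₁ ∈ V := ⟨n₁, hn₁, rfl⟩
    have hv₂ : π n₂ ∈ V := ⟨n₂, hn₂, rfl⟩
    have ha₁ : π k₁ ∈ A := ⟨k₁, hk₁, rfl⟩
    have ha₂ : π k₂ ∈ A := ⟨k₂, hk₂, rfl⟩
    have hw : π k₁ * π n₂ * (π k₁)⁻¹ ∈ V := hVn.conj_mem _ hv₂ _
    have hu : π k₂ * (π n₁)⁻¹ * (π k₂)⁻¹ ∈ V := hVn.conj_mem _ (V.inv_mem hv₁) _
    have hkk : π k₁ * π k₂ = π k₂ * π k₁ := hAc _ ha₁ _ ha₂
    have e : π ⁅n₁ * k₁, n₂ * k₂⁆ = ⁅π k₁, π n₂⁆ * ⁅π n₁, π k₂⁆ := by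
      rw [commutatorElement_def, commutatorElement_def, commutatorElement_def]
      simp only [map_mul, map_inv, mul_inv_rev]
      have c1 : π n₁ * π k₁ * (π n₂ * π k₂) * ((π k₁)⁻¹ * (π n₁)⁻¹) * ((π k₂)⁻¹ * (π n₂)⁻¹) =
          π n₁ * (π k₁ * π n₂ * (π k₁)⁻¹) * ((π k₁ * π k₂) * (π k₁)⁻¹ * (π k₂)⁻¹) *
            (π k₂ * (π n₁)⁻¹ * (π k₂)⁻¹) * (π n₂)⁻¹ := by group
      rw [c1, hkk]
      have c2 : π k₂ * π k₁ * (π k₁)⁻¹ * (π k₂)⁻¹ = 1 := by group
      rw [c2, mul_one]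
      -- now everything is in the abelian group `V`
      have c3 : π n₁ * (π k₁ * π n₂ * (π k₁)⁻¹) * (π k₂ * (π n₁)⁻¹ * (π k₂)⁻¹) * (π n₂)⁻¹ =
          (π k₁ * π n₂ * (π k₁)⁻¹) * (π n₂)⁻¹ * (π n₁ * (π k₂ * (π n₁)⁻¹ * (π k₂)⁻¹)) := by
        have e1 := hVc _ hv₁ _ hw
        have e2 := hVc _ (V.mul_mem hv₁ hu) _ (V.inv_mem hv₂)
        have e3 := hVc _ hv₁ _ (V.mul_mem hw (V.inv_mem hv₂))
        calc π n₁ * (π k₁ * π n₂ * (π k₁)⁻¹) * (π k₂ * (π n₁)⁻¹ * (π k₂)⁻¹) * (π n₂)⁻¹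
            = (π k₁ * π n₂ * (π k₁)⁻¹) * ((π n₁ * (π k₂ * (π n₁)⁻¹ * (π k₂)⁻¹)) * (π n₂)⁻¹) := by
              rw [e1]; group
          _ = (π k₁ * π n₂ * (π k₁)⁻¹) * ((π n₂)⁻¹ * (π n₁ * (π k₂ * (π n₁)⁻¹ * (π k₂)⁻¹))) := by
              rw [e2]
          _ = _ := by group
      rw [c3]
      group
    rw [e]
    apply Subgroup.mul_mem
    · rw [Subgroup.commutator_comm]
      exact Subgroup.commutator_mem_commutator ha₁ hv₂
    · exact Subgroup.commutator_mem_commutator hv₁ ha₂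
  have hfix : V ⊓ Subgroup.centralizer (A : Set (X ⧸ D2)) = ⊥ := by
    rw [eq_bot_iff, ← h1]
    exact le_inf le_rfl (inf_le_left.trans hVA)
  rintro x ⟨hxD, hxK⟩
  have hx1 : π x ∈ V ⊓ Subgroup.centralizer (A : Set (X ⧸ D2)) := by
    refine ⟨⟨x, hxD, rfl⟩, ?_⟩
    show π x ∈ Subgroup.centralizer (A : Set (X ⧸ D2))
    rw [Subgroup.mem_centralizer_iff]
    rintro _ ⟨k, hk, rfl⟩
    rw [← map_mul, ← map_mul, (Subgroup.mem_centralizer_iff.mp hxK) k hk]
  rw [hfix, Subgroup.mem_bot] at hx1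
  exact (QuotientGroup.eq_one_iff x).mp hx1

variable {G : Type*} [Group G]

/-- `|M| = |U| |M_σ| |K|` in a standard factorisation. -/
theorem card_eq_of_sigmaDecomposition [Finite G] {M K U : Subgroup G}
    (hHall : IsPiHallOf (sigma M) (sigmaCore M) M) (hKU : IsSigmaDecomposition M K U) :
    Nat.card M = Nat.card U * (Nat.card (sigmaCore M) * Nat.card K) := by
  rw [card_of_isComplIn hKU.compl, card_sup_kappa_sigmaCore hHall hKU.hall.1 hKU.hall.2.1]

/-- `|U|` is prime to `|K|` and to `|M_σ|` in a standard factorisation. -/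
theorem coprime_card_of_sigmaDecomposition [Finite G] {M K U : Subgroup G}
    (hHall : IsPiHallOf (sigma M) (sigmaCore M) M) (hKU : IsSigmaDecomposition M K U) :
    (Nat.card U).Coprime (Nat.card K) ∧ (Nat.card U).Coprime (Nat.card (sigmaCore M)) := by
  have hcard := card_eq_of_sigmaDecomposition hHall hKU
  have hσM : sigmaCore M ≤ M := sigmaCore_le_self_h23 M
  constructor
  · apply coprime_card_of_forall_prime
    intro q hq h1 h2
    apply hKU.hall.2.2 q hq (hKU.hall.2.1 q hq h2)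
    have h3 := Cfsg.Agent.Lib.Helper54.card_mul_relIndex hKU.hall.1
    have h4 : K.relIndex M = Nat.card U * Nat.card (sigmaCore M) := by
      apply Nat.eq_of_mul_eq_mul_left (Nat.card_pos (α := K))
      rw [h3, hcard]; ring
    rw [h4]
    exact Dvd.dvd.mul_right h1 _
  · apply coprime_card_of_forall_prime
    intro q hq h1 h2
    apply hHall.2.2 q hq (hHall.2.1 q hq h2)
    have h3 := Cfsg.Agent.Lib.Helper54.card_mul_relIndex hσM
    have h4 : (sigmaCore M).relIndex M = Nat.card U * Nat.card K := by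
      apply Nat.eq_of_mul_eq_mul_left (Nat.card_pos (α := sigmaCore M))
      rw [h3, hcard]; ring
    rw [h4]
    exact Dvd.dvd.mul_right h1 _

/-- Two standard factorisations `M = K U M_σ = K U₀ M_σ` with the same `K`: the complements `U`, `U₀`
are conjugate under `C_{M_σ}(K)`. -/
theorem exists_centralizer_conj_of_sigmaDecompositions [Finite G] {M K U U₀ : Subgroup G}
    (hsolv : Group.IsSolvable (sigmaCore M)) (hHall : IsPiHallOf (sigma M) (sigmaCore M) M)
    (hKU : IsSigmaDecomposition M K U) (hKU' : IsSigmaDecomposition M K U₀) :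
    ∃ c ∈ sigmaCore M, c ∈ Subgroup.centralizer (K : Set G) ∧ MulAut.conj c • U = U₀ := by
  have hσM : sigmaCore M ≤ M := sigmaCore_le_self_h23 M
  have hc1 := card_of_isComplIn hKU.compl
  have hc2 := card_of_isComplIn hKU'.compl
  have hcardU : Nat.card U₀ = Nat.card U := by
    have : Nat.card U * Nat.card (K ⊔ sigmaCore M : Subgroup G) =
        Nat.card U₀ * Nat.card (K ⊔ sigmaCore M : Subgroup G) := by rw [← hc1, ← hc2]
    exact (Nat.eq_of_mul_eq_mul_right Nat.card_pos this).symm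
  have hcKσ : (Nat.card K).Coprime (Nat.card (sigmaCore M)) :=
    coprime_card_kappa_sigmaCore hHall hKU.hall.2.1
  obtain ⟨hcUK, hcUσ⟩ := coprime_card_of_sigmaDecomposition hHall hKU
  set N : Subgroup G := U ⊔ sigmaCore M with hN
  have hMN : M ≤ Subgroup.normalizer (N : Set G) :=
    le_normalizer_sup_sigmaCore_of_sigmaDecomposition hKU
  have hNM : N ≤ M := sup_le hKU.compl.1 hσM
  have hUσ : sigmaCore M ⊓ U = ⊥ := by
    rw [eq_bot_iff, ← hKU.compl.2.2.1]
    exact le_inf inf_le_right (inf_le_left.trans le_sup_right)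
  have hUN : U ≤ Subgroup.normalizer ((sigmaCore M : Subgroup G) : Set G) :=
    hKU.compl.1.trans (le_normalizer_sigmaCore_h23 M)
  have hcardN : Nat.card N = Nat.card (sigmaCore M) * Nat.card U := by
    rw [hN, sup_comm]
    exact Cfsg.Agent.Lib.Helper54.card_sup_of_le_normalizer hUN hUσ
  have hidx : N.relIndex M = Nat.card K := by
    have h1 := Cfsg.Agent.Lib.Helper54.card_mul_relIndex hNM
    rw [hc1, card_sup_kappa_sigmaCore hHall hKU.hall.1 hKU.hall.2.1, hcardN] at h1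
    have h2 : Nat.card (sigmaCore M) * Nat.card U * N.relIndex M =
        Nat.card (sigmaCore M) * Nat.card U * Nat.card K := by rw [h1]; ring
    exact Nat.eq_of_mul_eq_mul_left (Nat.mul_pos Nat.card_pos Nat.card_pos) h2
  have hU₀N : U₀ ≤ N := by
    have hnorm : (N.subgroupOf M).Normal := Subgroup.normal_subgroupOf_of_le_normalizer hMN
    have hcop : (Nat.card (U₀.subgroupOf M)).Coprime (N.subgroupOf M).index := by
      have e : (N.subgroupOf M).index = N.relIndex M := rfl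
      rw [e, hidx, Nat.card_congr (Subgroup.subgroupOfEquivOfLe hKU'.compl.1).toEquiv, hcardU]
      exact hcUK
    have hle := le_normal_of_coprime_card_index (U₀.subgroupOf M) (N.subgroupOf M) hcop
    intro x hx
    have : (⟨x, hKU'.compl.1 hx⟩ : M) ∈ U₀.subgroupOf M := Subgroup.mem_subgroupOf.mpr hx
    exact Subgroup.mem_subgroupOf.mp (hle this)
  obtain ⟨l, hl, hlU⟩ := Cfsg.Agent.Lib.Helper54.sz_conj_rel N (sigmaCore M) U U₀ le_sup_right
    (hNM.trans (le_normalizer_sigmaCore_h23 M)) le_sup_left hU₀N hcardN.symm hcardU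
    hcUσ.symm (Or.inr hsolv)
  obtain ⟨c, hcσ, hcK, hcU⟩ := Cfsg.Agent.Lib.Helper54.glauberman_conj K (sigmaCore M) U U₀
    (hKU.hall.1.trans (le_normalizer_sigmaCore_h23 M)) hcKσ (Or.inr hsolv) hKU.normal
    hKU'.normal ⟨l, hl, hlU⟩
  exact ⟨c, hcσ, hcK, hcU⟩

/-- `U` is abelian as soon as one `K`-invariant complement `U₀` is. -/
theorem isMulCommutative_of_sigmaDecompositions [Finite G] {M K U U₀ : Subgroup G}
    (hsolv : Group.IsSolvable (sigmaCore M)) (hHall : IsPiHallOf (sigma M) (sigmaCore M) M)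
    (hKU : IsSigmaDecomposition M K U) (hKU' : IsSigmaDecomposition M K U₀)
    (hU₀ : IsMulCommutative U₀) : IsMulCommutative U := by
  obtain ⟨c, -, -, hcU⟩ := exists_centralizer_conj_of_sigmaDecompositions hsolv hHall hKU hKU'
  refine ⟨⟨fun a b => ?_⟩⟩
  have ha : c * a * c⁻¹ ∈ U₀ := by
    rw [← hcU]; exact Cfsg.Agent.Lib.Helper54.conj_mem_conj_smul a.2
  have hb : c * b * c⁻¹ ∈ U₀ := by
    rw [← hcU]; exact Cfsg.Agent.Lib.Helper54.conj_mem_conj_smul b.2
  have h := hU₀.is_comm.comm (⟨_, ha⟩ : U₀) ⟨_, hb⟩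
  have h' : c * a * c⁻¹ * (c * b * c⁻¹) = c * b * c⁻¹ * (c * a * c⁻¹) := congrArg Subtype.val h
  apply Subtype.ext
  show (a : G) * b = b * a
  calc (a : G) * b = c⁻¹ * (c * a * c⁻¹ * (c * b * c⁻¹)) * c := by group
    _ = c⁻¹ * (c * b * c⁻¹ * (c * a * c⁻¹)) * c := by rw [h']
    _ = b * a := by group

/-- If `A` normalizes `B` then every element of `A ⊔ B` is a product `a * b`. -/
theorem exists_mul_of_mem_sup_h23 {A B : Subgroup G}
    (h : A ≤ Subgroup.normalizer (B : Set G)) {g : G} (hg : g ∈ A ⊔ B) :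
    ∃ a ∈ A, ∃ b ∈ B, g = a * b := by
  have hconj : ∀ a ∈ A, ∀ b ∈ B, a⁻¹ * b * a ∈ B := by
    intro a ha b hb
    have := (Subgroup.mem_normalizer_iff.mp (h (A.inv_mem ha)) b).mp hb
    simpa using this
  rw [Subgroup.sup_eq_closure] at hg
  induction hg using Subgroup.closure_induction with
  | mem x hx =>
    rcases hx with hx | hx
    · exact ⟨x, hx, 1, B.one_mem, (mul_one x).symm⟩
    · exact ⟨1, A.one_mem, x, hx, (one_mul x).symm⟩
  | one => exact ⟨1, A.one_mem, 1, B.one_mem, (mul_one 1).symm⟩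
  | mul x y _ _ hx hy =>
    obtain ⟨a₁, ha₁, b₁, hb₁, rfl⟩ := hx
    obtain ⟨a₂, ha₂, b₂, hb₂, rfl⟩ := hy
    refine ⟨a₁ * a₂, A.mul_mem ha₁ ha₂, a₂⁻¹ * b₁ * a₂ * b₂,
      B.mul_mem (hconj a₂ ha₂ b₁ hb₁) hb₂, ?_⟩
    group
  | inv x _ hx =>
    obtain ⟨a, ha, b, hb, rfl⟩ := hx
    refine ⟨a⁻¹, A.inv_mem ha, a * b⁻¹ * a⁻¹, ?_, ?_⟩
    · have := hconj a⁻¹ (A.inv_mem ha) b⁻¹ (B.inv_mem hb)
      simpa using this
    · group

/-- In a standard factorisation every element of `M` is `n * k` with `n ∈ U M_σ`, `k ∈ K`. -/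
theorem exists_mul_of_sigmaDecomposition {M K U : Subgroup G} (hKU : IsSigmaDecomposition M K U)
    {m : G} (hm : m ∈ M) : ∃ n ∈ U ⊔ sigmaCore M, ∃ k ∈ K, m = n * k := by
  obtain ⟨u, hu, b, hb, rfl⟩ := hKU.compl.2.2.2 m hm
  have hKN : K ≤ Subgroup.normalizer ((sigmaCore M : Subgroup G) : Set G) :=
    hKU.hall.1.trans (le_normalizer_sigmaCore_h23 M)
  obtain ⟨k, hk, s, hs, rfl⟩ := exists_mul_of_mem_sup_h23 hKN hb
  refine ⟨u * (k * s * k⁻¹), ?_, k, hk, by group⟩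
  apply Subgroup.mul_mem _ (Subgroup.mem_sup_left hu)
  apply Subgroup.mem_sup_right
  exact conj_mem_sigmaCore_of_mem (hKU.hall.1 hk) hs

/-- `M' = U M_σ` for a standard factorisation with `K ≠ 1`, given that `K` acts regularly on the
abelian group `U` and `M_σ ≤ M'`. -/
theorem commutator_eq_of_sigmaDecomposition [Finite G] {M K U : Subgroup G}
    (hHall : IsPiHallOf (sigma M) (sigmaCore M) M)
    (hKU : IsSigmaDecomposition M K U) (hK1 : K ≠ ⊥) (hUab : IsMulCommutative U)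
    (hreg : ∀ k ∈ K, k ≠ 1 → U ⊓ Subgroup.centralizer ({k} : Set G) = ⊥)
    (hσ' : sigmaCore M ≤ ⁅M, M⁆) : ⁅M, M⁆ = U ⊔ sigmaCore M := by
  have hMN := le_normalizer_sup_sigmaCore_of_sigmaDecomposition hKU
  have hconj : ∀ m ∈ M, ∀ n ∈ U ⊔ sigmaCore M, m * n * m⁻¹ ∈ U ⊔ sigmaCore M := by
    intro m hm n hn
    exact (Subgroup.mem_normalizer_iff.mp (hMN hm) n).mp hn
  apply le_antisymm
  · rw [Subgroup.commutator_le]
    intro m₁ hm₁ m₂ hm₂
    obtain ⟨n₁, hn₁, k₁, hk₁, rfl⟩ := exists_mul_of_sigmaDecomposition hKU hm₁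
    obtain ⟨n₂, hn₂, k₂, hk₂, rfl⟩ := exists_mul_of_sigmaDecomposition hKU hm₂
    have hkk : k₁ * k₂ = k₂ * k₁ := by
      have hKc : IsCyclic K := hKU.cyclic
      let _ := IsCyclic.commGroup (α := K)
      have := mul_comm (⟨k₁, hk₁⟩ : K) ⟨k₂, hk₂⟩
      exact congrArg Subtype.val this
    have e : ⁅n₁ * k₁, n₂ * k₂⁆ = n₁ * (k₁ * n₂ * k₁⁻¹) * (k₂ * n₁⁻¹ * k₂⁻¹) * n₂⁻¹ := by
      rw [commutatorElement_def]
      have c1 : n₁ * k₁ * (n₂ * k₂) * (n₁ * k₁)⁻¹ * (n₂ * k₂)⁻¹ =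
          n₁ * (k₁ * n₂ * k₁⁻¹) * ((k₁ * k₂) * k₁⁻¹ * k₂⁻¹) * (k₂ * n₁⁻¹ * k₂⁻¹) * n₂⁻¹ := by
        group
      rw [c1, hkk]
      group
    rw [e]
    have hk₁M := hKU.hall.1 hk₁
    have hk₂M := hKU.hall.1 hk₂
    exact Subgroup.mul_mem _ (Subgroup.mul_mem _ (Subgroup.mul_mem _ hn₁ (hconj k₁ hk₁M n₂ hn₂))
      (hconj k₂ hk₂M _ (Subgroup.inv_mem _ hn₁))) (Subgroup.inv_mem _ hn₂)
  · apply sup_le _ hσ'
    obtain ⟨hcUK, -⟩ := coprime_card_of_sigmaDecomposition hHall hKU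
    obtain ⟨-, h2⟩ := Cfsg.Agent.S0055.result K U hKU.normal hcUK.symm
    obtain ⟨⟨k, hk⟩, hk1⟩ := (Subgroup.ne_bot_iff_exists_ne_one).mp hK1
    have hk1' : k ≠ 1 := fun h => hk1 (Subtype.ext h)
    have hfix : U ⊓ Subgroup.centralizer (K : Set G) = ⊥ := by
      rw [eq_bot_iff, ← hreg k hk hk1']
      apply inf_le_inf_left
      apply Subgroup.centralizer_le
      simpa using hk
    rw [hfix, bot_sup_eq] at h2
    rw [← h2]
    exact Subgroup.commutator_mono hKU.compl.1 hKU.hall.1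

/-- S1365 from: `K` acts regularly on the abelian group `U` (S1353, S1430) and `M_σ ≤ M'`
(S1426). -/
theorem s1365_of [Finite G] (M K U : Subgroup G)
    (hHall : IsPiHallOf (sigma M) (sigmaCore M) M)
    (hKU : IsSigmaDecomposition M K U) (hK1 : K ≠ ⊥) (hUab : IsMulCommutative U)
    (hreg : ∀ k ∈ K, k ≠ 1 → U ⊓ Subgroup.centralizer ({k} : Set G) = ⊥)
    (hσ' : sigmaCore M ≤ ⁅M, M⁆) :
    ⁅M, M⁆ = U ⊔ sigmaCore M ∧
      (sigmaCore M ⊓ Subgroup.centralizer (K : Set G)) ≤ ⁅⁅M, M⁆, ⁅M, M⁆⁆ := by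
  have hcomm := commutator_eq_of_sigmaDecomposition hHall hKU hK1 hUab hreg hσ'
  refine ⟨hcomm, ?_⟩
  have hmap : (commutator M).map M.subtype = ⁅M, M⁆ := Subgroup.map_subtype_commutator M
  have hKc : IsCyclic K := hKU.cyclic
  have hKab : ∀ a ∈ K.subgroupOf M, ∀ b ∈ K.subgroupOf M, a * b = b * a := by
    intro a ha b hb
    let _ := IsCyclic.commGroup (α := K)
    have := mul_comm (⟨a.1, Subgroup.mem_subgroupOf.mp ha⟩ : K) ⟨b.1, Subgroup.mem_subgroupOf.mp hb⟩
    apply Subtype.ext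
    have h2 : (a : G) * (b : G) = (b : G) * (a : G) := congrArg Subtype.val this
    exact h2
  have hsup : ∀ x : M, ∃ n ∈ commutator M, ∃ k ∈ K.subgroupOf M, x = n * k := by
    intro x
    obtain ⟨n, hn, k, hk, hx⟩ := exists_mul_of_sigmaDecomposition hKU x.2
    rw [← hcomm, ← hmap] at hn
    obtain ⟨n', hn', rfl⟩ := hn
    refine ⟨n', hn', ⟨k, hKU.hall.1 hk⟩, Subgroup.mem_subgroupOf.mpr hk, ?_⟩
    apply Subtype.ext
    exact hx
  have hcop : (Nat.card (K.subgroupOf M)).Coprime (Nat.card (commutator M)) := by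
    have e1 : Nat.card (K.subgroupOf M) = Nat.card K :=
      Nat.card_congr (Subgroup.subgroupOfEquivOfLe hKU.hall.1).toEquiv
    have e2 : Nat.card (commutator M) = Nat.card (⁅M, M⁆ : Subgroup G) := by
      rw [← hmap]
      exact (Subgroup.card_map_of_injective M.subtype_injective).symm
    obtain ⟨hcUK, hcUσ⟩ := coprime_card_of_sigmaDecomposition hHall hKU
    have hUσ : sigmaCore M ⊓ U = ⊥ := by
      rw [eq_bot_iff, ← hKU.compl.2.2.1]
      exact le_inf inf_le_right (inf_le_left.trans le_sup_right)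
    have hUN : U ≤ Subgroup.normalizer ((sigmaCore M : Subgroup G) : Set G) :=
      hKU.compl.1.trans (le_normalizer_sigmaCore_h23 M)
    have e3 : Nat.card (U ⊔ sigmaCore M : Subgroup G) = Nat.card (sigmaCore M) * Nat.card U := by
      rw [sup_comm]
      exact Cfsg.Agent.Lib.Helper54.card_sup_of_le_normalizer hUN hUσ
    rw [e1, e2, hcomm, e3]
    exact Nat.Coprime.mul_right (coprime_card_kappa_sigmaCore hHall hKU.hall.2.1) hcUK.symm
  have key := centralizer_inf_commutator_le_of_coprime (K.subgroupOf M) hKab hsup hcop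
  rintro x ⟨hxσ, hxK⟩
  have hxM : x ∈ M := sigmaCore_le_self_h23 M hxσ
  have hx1 : (⟨x, hxM⟩ : M) ∈ commutator M := by
    have : x ∈ (commutator M).map M.subtype := by rw [hmap]; exact hσ' hxσ
    obtain ⟨y, hy, hyx⟩ := this
    have : y = ⟨x, hxM⟩ := Subtype.ext hyx
    rwa [this] at hy
  have hx2 : (⟨x, hxM⟩ : M) ∈ Subgroup.centralizer ((K.subgroupOf M : Subgroup M) : Set M) := by
    rw [Subgroup.mem_centralizer_iff]
    intro k hk
    apply Subtype.ext
    exact (Subgroup.mem_centralizer_iff.mp hxK) k.1 (Subgroup.mem_subgroupOf.mp hk)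
  have hx3 := key ⟨hx1, hx2⟩
  have hx4 : x ∈ (⁅commutator M, commutator M⁆ : Subgroup M).map M.subtype := ⟨_, hx3, rfl⟩
  rwa [Subgroup.map_commutator, hmap] at hx4

/-- S1363 from `U` abelian (S1430 + conjugacy) and the clause `N_H(U) ≰ M` of S1435 (for `H` a
maximal subgroup over the normalizer of a Sylow subgroup of `U`). -/
theorem s1363_of [Finite G] (hs : IsSimpleGroup G) (M K U : Subgroup G) (hM : IsCoatom M)
    (hKU : IsSigmaDecomposition M K U) (hUab : IsMulCommutative U)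
    (h1435 : U ≠ ⊥ → ∀ (r : ℕ) [Fact r.Prime], r ∣ Nat.card U → ∀ (R : Sylow r U) (H : Subgroup G),
      IsCoatom H → Subgroup.normalizer (((R : Subgroup U).map U.subtype : Subgroup G) : Set G) ≤ H →
      ¬ H ⊓ Subgroup.normalizer (U : Set G) ≤ M) :
    IsMulCommutative U ∧ ¬ Subgroup.normalizer (U : Set G) ≤ M := by
  refine ⟨hUab, ?_⟩
  by_cases hU1 : U = ⊥
  · intro h
    apply hM.1
    rw [eq_top_iff]
    refine le_trans ?_ h
    rw [hU1]
    intro g _
    rw [Subgroup.mem_normalizer_iff]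
    intro x
    simp [Subgroup.mem_bot]
  · have hcard : Nat.card U ≠ 1 := fun h => hU1 (Subgroup.eq_bot_of_card_eq U h)
    obtain ⟨r, hr, hrU⟩ := Nat.exists_prime_and_dvd hcard
    have : Fact r.Prime := ⟨hr⟩
    obtain ⟨R⟩ : Nonempty (Sylow r U) := inferInstance
    set R' : Subgroup G := (R : Subgroup U).map U.subtype with hR'
    have hR1 : R' ≠ ⊥ := by
      intro h
      have h1 : (R : Subgroup U) = ⊥ := by
        rw [hR', Subgroup.map_eq_bot_iff_of_injective _ U.subtype_injective] at h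
        exact h
      have h2 := R.card_eq_multiplicity
      rw [h1, Subgroup.card_bot] at h2
      have h3 : (Nat.card U).factorization r = 0 := by
        by_contra hne
        have : 1 < r ^ (Nat.card U).factorization r :=
          Nat.one_lt_pow hne hr.one_lt
        omega
      have h4 := (hr.dvd_iff_one_le_factorization Nat.card_pos.ne').mp hrU
      omega
    have hRM : R' ≤ M := by
      rw [hR']
      exact (Subgroup.map_subtype_le _).trans hKU.compl.1
    have hRtop : R' ≠ ⊤ := by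
      intro h
      apply hM.1
      rw [eq_top_iff, ← h]
      exact hRM
    have hN := Cfsg.Agent.Lib.Helper54.normalizer_ne_top_of_simple hs hR1 hRtop
    obtain ⟨H, hH, hNH⟩ := (eq_top_or_exists_le_coatom _).resolve_left hN
    intro h
    exact h1435 hU1 r hrU R H hH hNH (inf_le_right.trans h)

end BGFourteenB

end Cfsg.Agent.Lib.Helper23
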