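/-
helper23 shared library: two coprime-action lemmas for an elementary abelian `p`-group `E`
normalizing an `s`-group `U` (`s ≠ p`), used in the proof of BG Lemma 9.5 (S1402):

* `exists_hyperplane_noncentral` : if `E` does not centralize `U`, there are a subgroup `B ≤ E` of
  index at most `p`, an element `u ∈ C_U(B)` and `e ∈ E` with `[u, e] ≠ 1` (and `[u, e] ∈ U`).
* `exists_noncyclic_centralizer` : if `|E| ≥ p ^ 3` and `U` is a noncyclic `s`-group, some `a ∈ E`,
  `a ≠ 1`, has `C_U(a)` noncyclic.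
All declarations live in `Cfsg.Agent.Lib.Helper23`.
-/
import Mathlib
import Cfsg.Agent.Lib.Helper54.Hyperplane

set_option autoImplicit false

namespace Cfsg.Agent.Lib.Helper23

open scoped commutatorElement

/-- In a finite cyclic group a subgroup whose order divides the order of another subgroup is
contained in it. -/
theorem cyclic_le_of_card_dvd {C : Type*} [Group C] [Finite C] [IsCyclic C] (H₁ H₂ : Subgroup C)
    (h : Nat.card H₁ ∣ Nat.card H₂) : H₁ ≤ H₂ := by
  classical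
  have := Fintype.ofFinite C
  have hn0 : 0 < Nat.card H₂ := Nat.card_pos
  have hle := IsCyclic.card_pow_eq_one_le (α := C) hn0
  have hpow : ∀ (H : Subgroup C) (x : C), x ∈ H → x ^ Nat.card H = 1 := by
    intro H x hx
    have h1 := pow_card_eq_one' (G := H) (x := ⟨x, hx⟩)
    have h2 : (((⟨x, hx⟩ : H) ^ Nat.card H : H) : C) = ((1 : H) : C) := congrArg Subtype.val h1
    rw [Subgroup.coe_pow, Subgroup.coe_one] at h2
    exact h2
  have hsub : (H₂ : Set C).toFinset ⊆ Finset.univ.filter (fun a : C => a ^ Nat.card H₂ = 1) := by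
    intro x hx
    rw [Set.mem_toFinset] at hx
    rw [Finset.mem_filter]
    exact ⟨Finset.mem_univ _, hpow H₂ x hx⟩
  have hcard : (H₂ : Set C).toFinset.card = Nat.card H₂ := by
    rw [Set.toFinset_card, Nat.card_eq_fintype_card]
    rfl
  have heq := Finset.eq_of_subset_of_card_le hsub (by rw [hcard]; exact hle)
  intro x hx
  have hx1 : x ^ Nat.card H₂ = 1 := by
    obtain ⟨m, hm⟩ := h
    rw [hm, pow_mul, hpow H₁ x hx, one_pow]
  have hxm : x ∈ Finset.univ.filter (fun a : C => a ^ Nat.card H₂ = 1) := by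
    rw [Finset.mem_filter]
    exact ⟨Finset.mem_univ _, hx1⟩
  rw [← heq, Set.mem_toFinset] at hxm
  exact hxm

variable {G : Type*} [Group G]

/-- Inside a cyclic `s`-subgroup `C` of a finite group, subgroups are ordered by their orders. -/
theorem le_of_card_le_of_le_cyclic [Finite G] {s : ℕ} [hs : Fact s.Prime] {C H₁ H₂ : Subgroup G}
    (hC : IsCyclic C) (hCs : IsPGroup s C) (h₁ : H₁ ≤ C) (h₂ : H₂ ≤ C)
    (hcard : Nat.card H₁ ≤ Nat.card H₂) : H₁ ≤ H₂ := by
  have e₁ : Nat.card (H₁.subgroupOf C) = Nat.card H₁ :=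
    Nat.card_congr (Subgroup.subgroupOfEquivOfLe h₁).toEquiv
  have e₂ : Nat.card (H₂.subgroupOf C) = Nat.card H₂ :=
    Nat.card_congr (Subgroup.subgroupOfEquivOfLe h₂).toEquiv
  obtain ⟨i, hi⟩ := IsPGroup.iff_card.mp (hCs.to_le h₁)
  obtain ⟨j, hj⟩ := IsPGroup.iff_card.mp (hCs.to_le h₂)
  have hij : i ≤ j := by
    rw [hi, hj] at hcard
    exact (Nat.pow_le_pow_iff_right hs.out.one_lt).mp hcard
  have hdvd : Nat.card (H₁.subgroupOf C) ∣ Nat.card (H₂.subgroupOf C) := by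
    rw [e₁, e₂, hi, hj]
    exact pow_dvd_pow s hij
  have hle := cyclic_le_of_card_dvd (H₁.subgroupOf C) (H₂.subgroupOf C) hdvd
  intro x hx
  have hxC : x ∈ C := h₁ hx
  have : (⟨x, hxC⟩ : C) ∈ H₂.subgroupOf C := hle (Subgroup.mem_subgroupOf.mpr hx)
  exact Subgroup.mem_subgroupOf.mp this

/-- **(L3a)** An elementary abelian `p`-group `E` normalizing a `p'`-group `U` which it does not
centralize: some subgroup `B ≤ E` of index at most `p` has a fixed point `u ∈ C_U(B)` moved by some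
`e ∈ E`. -/
theorem exists_hyperplane_noncentral [Finite G] {p : ℕ} [Fact p.Prime] (E U : Subgroup G)
    (hEcomm : ∀ x ∈ E, ∀ y ∈ E, x * y = y * x) (hEexp : ∀ x ∈ E, x ^ p = 1)
    (hU : ¬ p ∣ Nat.card U) (hEU : E ≤ Subgroup.normalizer (U : Set G))
    (hnc : ¬ U ≤ Subgroup.centralizer (E : Set G)) :
    ∃ B : Subgroup G, B ≤ E ∧ Nat.card E ≤ p * Nat.card B ∧
      ∃ u ∈ U ⊓ Subgroup.centralizer (B : Set G), ∃ e ∈ E,
        u * e ≠ e * u ∧ ⁅u, e⁆ ≠ 1 ∧ ⁅u, e⁆ ∈ U := by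
  obtain ⟨B, hBE, hBcard, hBD⟩ :=
    Cfsg.Agent.Lib.Helper54.exists_hyperplane_centralizer E U (Subgroup.centralizer (E : Set G))
      hEcomm hEexp hU hEU hnc
  refine ⟨B, hBE, hBcard, ?_⟩
  rw [SetLike.not_le_iff_exists] at hBD
  obtain ⟨u, hu, huE⟩ := hBD
  have : ∃ e ∈ E, ¬ (e * u = u * e) := by
    by_contra hcon
    push Not at hcon
    apply huE
    rw [Subgroup.mem_centralizer_iff]
    exact hcon
  obtain ⟨e, he, hne⟩ := this
  refine ⟨u, hu, e, he, fun h => hne h.symm, ?_, ?_⟩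
  · intro h1
    apply hne
    rw [commutatorElement_eq_one_iff_mul_comm] at h1
    exact h1.symm
  · have huU : u ∈ U := (Subgroup.mem_inf.mp hu).1
    have hconj : e * u⁻¹ * e⁻¹ ∈ U :=
      (Subgroup.mem_normalizer_iff.mp (hEU he) u⁻¹).mp (U.inv_mem huU)
    have : ⁅u, e⁆ = u * (e * u⁻¹ * e⁻¹) := by
      rw [commutatorElement_def]; group
    rw [this]
    exact U.mul_mem huU hconj

/-- **(L3b)** An elementary abelian `p`-group `E` of order at least `p ^ 3` normalizing a noncyclic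
`s`-group `U`, `s ≠ p`: some `a ∈ E`, `a ≠ 1`, has a noncyclic centralizer in `U`. -/
theorem exists_noncyclic_centralizer [Finite G] {p : ℕ} [hp : Fact p.Prime] {s : ℕ}
    [hs : Fact s.Prime] (E U : Subgroup G)
    (hEcomm : ∀ x ∈ E, ∀ y ∈ E, x * y = y * x) (hEexp : ∀ x ∈ E, x ^ p = 1)
    (hE3 : p ^ 3 ≤ Nat.card E) (hUs : IsPGroup s U) (hsp : s ≠ p)
    (hEU : E ≤ Subgroup.normalizer (U : Set G)) (hUnc : ¬ IsCyclic U) :
    ∃ a ∈ E, a ≠ 1 ∧ ¬ IsCyclic ↥(U ⊓ Subgroup.centralizer ({a} : Set G)) := by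
  by_contra hcon
  push Not at hcon
  have hUp : ¬ p ∣ Nat.card U := by
    obtain ⟨j, hj⟩ := IsPGroup.iff_card.mp hUs
    rw [hj]
    intro h
    exact hsp ((Nat.prime_dvd_prime_iff_eq hp.out hs.out).mp (hp.out.dvd_of_dvd_pow h)).symm
  -- the family of "hyperplanes"
  let 𝒮 : Set (Subgroup G) := {B | B ≤ E ∧ Nat.card E ≤ p * Nat.card B}
  have h𝒮 : 𝒮.Nonempty := ⟨E, le_refl _, by
    have : 1 * Nat.card E ≤ p * Nat.card E := Nat.mul_le_mul_right _ hp.out.one_lt.le
    simpa using this⟩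
  -- a member maximizing the order of its centralizer in `U`
  obtain ⟨B₀, hB₀, hB₀max⟩ := Set.exists_max_image 𝒮
    (fun B => Nat.card ↥(U ⊓ Subgroup.centralizer (B : Set G))) (Set.toFinite 𝒮) h𝒮
  -- every member of `𝒮` has order at least `p ^ 2`
  have hge : ∀ B ∈ 𝒮, p ^ 2 ≤ Nat.card B := by
    intro B hB
    have h1 : p * p ^ 2 ≤ p * Nat.card B := by
      rw [← pow_succ']; exact hE3.trans hB.2
    exact Nat.le_of_mul_le_mul_left h1 hp.out.pos
  -- the centralizer of a member lies in the centralizer of each of its elements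
  have hcent : ∀ (B : Subgroup G) (a : G), a ∈ B →
      U ⊓ Subgroup.centralizer (B : Set G) ≤ U ⊓ Subgroup.centralizer ({a} : Set G) := by
    intro B a ha
    exact inf_le_inf_left _ (Subgroup.centralizer_le (by simpa using ha))
  -- `B₀` has a nontrivial element
  have hB₀ne : ∃ a ∈ B₀, a ≠ 1 := by
    by_contra h
    push Not at h
    have : B₀ = ⊥ := (Subgroup.eq_bot_iff_forall _).mpr h
    have h2 := hge B₀ hB₀
    rw [this, Subgroup.card_bot] at h2
    have : 1 < p ^ 2 := Nat.one_lt_pow (by norm_num) hp.out.one_lt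
    omega
  obtain ⟨a₀, ha₀, ha₀1⟩ := hB₀ne
  have hcyc₀ := hcon a₀ (hB₀.1 ha₀) ha₀1
  -- `U` is not contained in `C_U(B₀)`
  have hUD : ¬ U ≤ U ⊓ Subgroup.centralizer (B₀ : Set G) := by
    intro h
    apply hUnc
    have hle : U ≤ U ⊓ Subgroup.centralizer ({a₀} : Set G) := h.trans (hcent B₀ a₀ ha₀)
    have := hcyc₀
    exact Subgroup.isCyclic_of_le hle
  obtain ⟨B, hBE, hBcard, hBD⟩ :=
    Cfsg.Agent.Lib.Helper54.exists_hyperplane_centralizer E U
      (U ⊓ Subgroup.centralizer (B₀ : Set G)) hEcomm hEexp hUp hEU hUD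
  have hB𝒮 : B ∈ 𝒮 := ⟨hBE, hBcard⟩
  -- `B ⊓ B₀` is nontrivial
  have hmeet : ∃ a ∈ B ⊓ B₀, a ≠ 1 := by
    by_contra h
    push Not at h
    have hbot : B ⊓ B₀ = ⊥ := (Subgroup.eq_bot_iff_forall _).mpr h
    -- `|B| * |B₀| ≤ |E|`
    have hinj : Function.Injective (fun x : B × B₀ => (x.1 : G) * (x.2 : G)) := by
      rintro ⟨b, c⟩ ⟨b', c'⟩ hbc
      simp only at hbc
      have h1 : (b' : G)⁻¹ * (b : G) = (c' : G) * (c : G)⁻¹ := by
        calc (b' : G)⁻¹ * (b : G) = (b' : G)⁻¹ * ((b : G) * (c : G)) * (c : G)⁻¹ := by group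
          _ = (b' : G)⁻¹ * ((b' : G) * (c' : G)) * (c : G)⁻¹ := by rw [hbc]
          _ = (c' : G) * (c : G)⁻¹ := by group
      have hmem : (b' : G)⁻¹ * (b : G) ∈ B ⊓ B₀ := by
        refine Subgroup.mem_inf.mpr ⟨B.mul_mem (B.inv_mem b'.2) b.2, ?_⟩
        rw [h1]
        exact B₀.mul_mem c'.2 (B₀.inv_mem c.2)
      rw [hbot, Subgroup.mem_bot] at hmem
      have hb : (b : G) = b' := by
        have := inv_mul_eq_one.mp hmem
        exact this.symm
      have hc : (c : G) = c' := by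
        rw [hb] at hbc
        exact mul_left_cancel hbc
      exact Prod.ext (Subtype.ext hb) (Subtype.ext hc)
    have hmaps : ∀ x : B × B₀, (x.1 : G) * (x.2 : G) ∈ E :=
      fun x => E.mul_mem (hBE x.1.2) (hB₀.1 x.2.2)
    have hinj' : Function.Injective (fun x : B × B₀ => (⟨(x.1 : G) * (x.2 : G), hmaps x⟩ : E)) := by
      intro x y hxy
      exact hinj (congrArg Subtype.val hxy)
    have hle := Nat.card_le_card_of_injective _ hinj'
    rw [Nat.card_prod] at hle
    have h1 := hge B hB𝒮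
    have h2 := hge B₀ hB₀
    -- `p * |B₀| ≥ |E| ≥ |B| * |B₀| ≥ p ^ 2 * |B₀|`
    have h3 : p ^ 2 * Nat.card B₀ ≤ p * Nat.card B₀ :=
      (Nat.mul_le_mul_right _ h1).trans (hle.trans hB₀.2)
    have hpos : 0 < Nat.card B₀ := Nat.card_pos
    have h4 : p ^ 2 ≤ p := Nat.le_of_mul_le_mul_right h3 hpos
    have h5 : p < p ^ 2 := by
      have := hp.out.one_lt
      nlinarith
    omega
  obtain ⟨a, ha, ha1⟩ := hmeet
  have haB : a ∈ B := (Subgroup.mem_inf.mp ha).1
  have haB₀ : a ∈ B₀ := (Subgroup.mem_inf.mp ha).2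
  have hcyc := hcon a (hBE haB) ha1
  have hCs : IsPGroup s ↥(U ⊓ Subgroup.centralizer ({a} : Set G)) := hUs.to_le inf_le_left
  apply hBD
  exact le_of_card_le_of_le_cyclic hcyc hCs (hcent B a haB) (hcent B₀ a haB₀) (hB₀max B hB𝒮)

end Cfsg.Agent.Lib.Helper23
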