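-- helper23: PF sec.10 M-side (helper24 #4017), module [X0]: `x = 0`, i.e. `⟨Φ, χ⟩ = -1` and
-- `⟨Φ, τ₁ ζ'⟩ = 0` for `ζ' ≠ ζ`, where `Φ = τ(μ_0 - ζ)`, `χ = τ₁ ζ`.
import Mathlib
import Cfsg.Agent.Lib.Helper24.PFCycCtx
import Cfsg.Agent.Lib.Helper24.PFCycTau
import Cfsg.Agent.Lib.Helper26.IrrFactsInst
import Cfsg.Agent.Lib.Helper26.ZSpan
import Cfsg.Agent.Lib.Helper64.PFElevenKZero
import Cfsg.Agent.Lib.Helper25.Dual2
import Cfsg.Agent.Lib.Helper51.PFCycMuInd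
import Cfsg.Agent.Lib.Helper78.CharValues
import Cfsg.Agent.Lib.Helper51.PFCycCalSApi

set_option autoImplicit false
set_option linter.unusedVariables false

namespace Cfsg.Agent.Lib.Helper23.PFCycX0

open Cfsg Cfsg.Agent.Lib.Helper4.PF Cfsg.Agent.Lib.Helper74.PF127 Cfsg.Agent.Lib.Helper24.PFCyc
open Cfsg.Agent.Lib.Helper26

universe u

variable {G : Type u} [Group G] [Fintype G] {M W₁ U W₂ : Subgroup G} [Fintype M]
  {mu : WChar W₁ W₂ → (↥M → ℂ)} {dl : WChar W₁ W₂ → ℂ} {η : WChar W₁ W₂ → (G → ℂ)}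
  {τ₁ : (↥M → ℂ) → (G → ℂ)} {ζ : ↥M → ℂ}

omit [Fintype G] in
/-- there is a nontrivial linear character of `W` trivial on `W₁` -/
theorem exists_psi [Finite G] (hW : IsSelfNormalizingCyclic W₁ W₂) (hp : 1 < Nat.card W₂) :
    ∃ ψ : WChar W₁ W₂, TrivOn W₁ ψ ∧ ψ ≠ 1 := by
  classical
  have : Fintype ↥(W₁ ⊔ W₂) := Fintype.ofFinite _
  have hcyc : IsCyclic ↥(W₁ ⊔ W₂) := hW.2.2.2.2.1
  have hc : ∀ a b : ↥(W₁ ⊔ W₂), a * b = b * a := by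
    intro a b
    obtain ⟨g, hg⟩ := hcyc.exists_generator
    obtain ⟨i, rfl⟩ := Subgroup.mem_zpowers_iff.mp (hg a)
    obtain ⟨j, rfl⟩ := Subgroup.mem_zpowers_iff.mp (hg b)
    rw [← zpow_add, ← zpow_add, add_comm]
  have h2 := Cfsg.Agent.Lib.Helper25.card_dualOf_mul hc (W₁.subgroupOf (W₁ ⊔ W₂))
  have h3 : Nat.card ↥(W₁.subgroupOf (W₁ ⊔ W₂)) = Nat.card W₁ :=
    Nat.card_congr (Subgroup.subgroupOfEquivOfLe le_sup_left).toEquiv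
  rw [h3, Cfsg.Agent.Lib.Helper51.PFCyc.card_W hW, mul_comm] at h2
  have hpos : 0 < Nat.card W₁ := Nat.card_pos
  have h4 : (Cfsg.Agent.Lib.Helper25.dualOf (W₁.subgroupOf (W₁ ⊔ W₂))).card = Nat.card W₂ :=
    Nat.eq_of_mul_eq_mul_left hpos h2
  have h5 : 1 < (Cfsg.Agent.Lib.Helper25.dualOf (W₁.subgroupOf (W₁ ⊔ W₂))).card := by
    rw [h4]; exact hp
  obtain ⟨ψ, hψ, hψ1⟩ := Finset.exists_mem_ne h5 1
  refine ⟨ψ, ?_, hψ1⟩
  intro w hw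
  exact (Cfsg.Agent.Lib.Helper25.mem_dualOf _ _).1 hψ w (Subgroup.mem_subgroupOf.mpr hw)

/-- MODULE [X0], with the facts of [CALS-API] as hypotheses. -/
theorem x0_core (h : MCtx M W₁ U W₂ mu dl η τ₁ ζ) (hf : MFacts M W₁ W₂ mu dl η)
    (hb : ∀ ζ' ∈ calS M, IsCharacter ↥M ζ' ∧ (∀ m : ↥M, (m : G) ∉ ⁅M, M⁆ → ζ' m = 0) ∧
      conjFun ζ' ∈ calS M ∧ conjFun ζ' ≠ ζ' ∧
      ∃ e : ℕ, 1 ≤ e ∧ ζ' 1 = (e : ℂ) * (Nat.card W₁ : ℂ) ∧
        ((e : ℤ) • ζ - ζ') ∈ zspanOn (calS M) {1}ᶜ)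
    (ho : ∀ ζ' ∈ calS M, ∀ ζ'' ∈ calS M, ζ' ≠ ζ'' → classInner ζ' ζ'' = 0)
    (hm0 : IsCharacter ↥M (muSum mu 1) ∧
      (∀ m : ↥M, (m : G) ∉ ⁅M, M⁆ → muSum mu 1 m = 0) ∧
      (∀ m : ↥M, (m : G) ∈ ⁅M, M⁆ → muSum mu 1 m = (Nat.card W₁ : ℂ)) ∧
      classInner (muSum mu 1) (muSum mu 1) = (Nat.card W₁ : ℂ) ∧
      classInner (muSum mu 1) (fun _ => 1) = 1 ∧
      ∀ ζ' ∈ calS M, classInner (muSum mu 1) ζ' = 0)
    (hms : ∀ ψ : WChar W₁ W₂, TrivOn W₁ ψ → ψ ≠ 1 →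
      muSum mu ψ ≠ ζ ∧ classInner (muSum mu ψ) (muSum mu ψ) = (Nat.card W₁ : ℂ) ∧
      muSum mu ψ 1 = (Nat.card W₁ : ℂ) * mu ψ 1) :
    classInner (tauM M (muSum mu 1 - ζ)) (tauM M (muSum mu 1 - ζ)) = (Nat.card W₁ : ℂ) + 1 ∧
      classInner (tauM M (muSum mu 1 - ζ)) (fun _ => 1) = 1 ∧
      classInner (tauM M (muSum mu 1 - ζ)) (τ₁ ζ) = -1 ∧
      ∀ ζ' ∈ calS M, ζ' ≠ ζ → classInner (tauM M (muSum mu 1 - ζ)) (τ₁ ζ') = 0 := by
  classical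
  have F := irrFacts G
  obtain ⟨hM0c, hM0K, hM0v, hM0n, hM01, hM0S⟩ := hm0
  obtain ⟨hζc, hζK, -, -, -⟩ := hb ζ h.hζ
  have hζz : ζ ∈ zspan (calS M) := subset_zspan _ h.hζ
  have hqpos : 0 < Nat.card W₁ := Nat.card_pos
  have hqC : (Nat.card W₁ : ℂ) ≠ 0 := by exact_mod_cast hqpos.ne'
  have hM0cf : IsClassFunction ↥M (muSum mu 1) :=
    Cfsg.Agent.Lib.Helper78.IsCharacter.isClassFunction hM0c
  have hζcf : IsClassFunction ↥M ζ := Cfsg.Agent.Lib.Helper78.IsCharacter.isClassFunction hζc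
  -- `α = μ_0 - ζ`
  have hαcf : IsClassFunction ↥M (muSum mu 1 - ζ) :=
    Cfsg.Agent.Lib.Helper78.isClassFunction_sub hM0cf hζcf
  have hαK : ∀ m : ↥M, (m : G) ∉ ⁅M, M⁆ → (muSum mu 1 - ζ) m = 0 := by
    intro m hm
    rw [Pi.sub_apply, hM0K m hm, hζK m hm, sub_zero]
  have hα1 : (muSum mu 1 - ζ) 1 = 0 := by
    rw [Pi.sub_apply, hM0v 1 (Subgroup.one_mem _), h.hζ1, sub_self]
  have hαA := off_litA0 h _ hαK hα1
  have hαgen : IsGeneralizedCharacter ↥M (muSum mu 1 - ζ) := ⟨_, _, hM0c, hζc, rfl⟩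
  -- inner products in `M`
  have hζζ : classInner ζ ζ = 1 := Cfsg.Agent.Lib.Helper78.classInner_irr_self h.hζirr
  have hM0ζ : classInner (muSum mu 1) ζ = 0 := hM0S ζ h.hζ
  have hζM0 : classInner ζ (muSum mu 1) = 0 := by
    rw [← classInner_conj_symm, hM0ζ, map_zero]
  have hαα : classInner (muSum mu 1 - ζ) (muSum mu 1 - ζ) = (Nat.card W₁ : ℂ) + 1 := by
    rw [classInner_sub_left, classInner_sub_right, classInner_sub_right, hM0n, hM0ζ, hζM0, hζζ]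
    ring
  -- `⟨ζ', 1⟩ = 0` for `ζ' ∈ calS M`
  have hS1 : ∀ ζ' ∈ calS M, classInner ζ' (fun _ => (1 : ℂ)) = 0 := by
    intro ζ' hζ'
    obtain ⟨-, hζ'K, -⟩ := hb ζ' hζ'
    have h1 : classInner ζ' (muSum mu 1) = 0 := by
      rw [← classInner_conj_symm, hM0S ζ' hζ', map_zero]
    have h2 : classInner ζ' (muSum mu 1) =
        (Nat.card W₁ : ℂ) * classInner ζ' (fun _ => (1 : ℂ)) := by
      unfold classInner
      have hsum : ∑ m : ↥M, ζ' m * (starRingEnd ℂ) (muSum mu 1 m) =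
          (Nat.card W₁ : ℂ) * ∑ m : ↥M, ζ' m * (starRingEnd ℂ) ((fun _ => (1 : ℂ)) m) := by
        rw [Finset.mul_sum]
        apply Finset.sum_congr rfl
        intro m _
        by_cases hm : (m : G) ∈ ⁅M, M⁆
        · rw [hM0v m hm]; simp; ring
        · rw [hζ'K m hm]; simp
      rw [hsum]; ring
    rw [h2] at h1
    exact (mul_eq_zero.1 h1).resolve_left hqC
  have hΦn : classInner (tauM M (muSum mu 1 - ζ)) (tauM M (muSum mu 1 - ζ)) =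
      (Nat.card W₁ : ℂ) + 1 := by
    rw [tauM_inner h hαcf hαA hαcf hαA, hαα]
  have hΦ1 : classInner (tauM M (muSum mu 1 - ζ)) (fun _ => 1) = 1 := by
    rw [tauM_inner_one h hαcf hαA, classInner_sub_left, hM01, hS1 ζ h.hζ, sub_zero]
  have hΦgen : IsGeneralizedCharacter G (tauM M (muSum mu 1 - ζ)) := tauM_genChar h hαgen hαA
  have hχgen : IsGeneralizedCharacter G (τ₁ ζ) := isom_gen h.hτ₁ hζz
  obtain ⟨n, hn⟩ := F.inner_int hΦgen hχgen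
  -- the key relation
  have key : ∀ ζ' ∈ calS M, ζ' ≠ ζ → ∀ e : ℕ, ζ' 1 = (e : ℂ) * (Nat.card W₁ : ℂ) →
      ((e : ℤ) • ζ - ζ') ∈ zspanOn (calS M) {1}ᶜ →
      classInner (tauM M (muSum mu 1 - ζ)) (τ₁ ζ') = (e : ℂ) * ((n : ℂ) + 1) := by
    intro ζ' hζ' hne e _ hβ
    obtain ⟨hζ'c, hζ'K, -⟩ := hb ζ' hζ'
    have hζ'z : ζ' ∈ zspan (calS M) := subset_zspan _ hζ'
    have hζ'cf := Cfsg.Agent.Lib.Helper78.IsCharacter.isClassFunction hζ'c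
    have hβτ : τ₁ ((e : ℤ) • ζ - ζ') = (e : ℤ) • τ₁ ζ - τ₁ ζ' := by
      rw [isom_sub (isZClosed_zspan _) h.hτ₁ (zspan_zsmul _ hζz) hζ'z, isom_zsmul h.hτ₁ _ hζz]
    have hβcf : IsClassFunction ↥M ((e : ℤ) • ζ - ζ') := by
      intro g x
      simp only [Pi.sub_apply, Pi.smul_apply]
      rw [hζcf g x, hζ'cf g x]
    have hβK : ∀ m : ↥M, (m : G) ∉ ⁅M, M⁆ → ((e : ℤ) • ζ - ζ') m = 0 := by
      intro m hm
      simp only [Pi.sub_apply, Pi.smul_apply]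
      rw [hζK m hm, hζ'K m hm]; simp
    have hβ1 : ((e : ℤ) • ζ - ζ') 1 = 0 := hβ.2 1 (by simp)
    have hβA := off_litA0 h _ hβK hβ1
    have h1 : classInner (tauM M (muSum mu 1 - ζ)) (tauM M ((e : ℤ) • ζ - ζ')) =
        classInner (muSum mu 1 - ζ) ((e : ℤ) • ζ - ζ') := tauM_inner h hαcf hαA hβcf hβA
    have h2 : classInner (muSum mu 1 - ζ) ((e : ℤ) • ζ - ζ') = -(e : ℂ) := by
      rw [classInner_sub_left, classInner_sub_right, classInner_sub_right,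
        classInner_zsmul_right, classInner_zsmul_right, hM0ζ, hM0S ζ' hζ', hζζ,
        ho ζ h.hζ ζ' hζ' (Ne.symm hne)]
      push_cast
      ring
    rw [← h.hext _ hβ, hβτ, classInner_sub_right, classInner_zsmul_right, hn, h2] at h1
    push_cast at h1
    linear_combination (-1 : ℂ) * h1
  -- choose `ψ`
  have hp1 : 1 < Nat.card W₂ := h.hp.one_lt
  obtain ⟨ψ, hψ, hψ1⟩ := exists_psi h.hW hp1
  obtain ⟨hψne, hψn, hψdeg⟩ := hms ψ hψ hψ1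
  obtain ⟨d, hd, hd2, -⟩ := hf.mu_deg ψ hψ hψ1
  have hψS : muSum mu ψ ∈ calS M := hf.muSum_mem ψ hψ hψ1
  obtain ⟨-, -, -, -, e, -, he, hβ⟩ := hb _ hψS
  have hed : e = d := by
    rw [hψdeg, hd, mul_comm] at he
    have := mul_right_cancel₀ hqC he
    exact_mod_cast this.symm
  have hkψ := key _ hψS hψne e he hβ
  -- Cauchy-Schwarz (Bessel with one vector)
  have hn0 : n + 1 = 0 := by
    by_contra hne
    have hψz : muSum mu ψ ∈ zspan (calS M) := subset_zspan _ hψS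
    have hb1 := Cfsg.Agent.Lib.Helper64.PF11.bessel_orthogonal
      (tauM M (muSum mu 1 - ζ)) (fun _ : Unit => τ₁ (muSum mu ψ))
      (fun _ => (Nat.card W₁ : ℝ)) (fun _ => by exact_mod_cast hqpos)
      (fun _ => by rw [isom_inner h.hτ₁ hψz hψz, hψn]; simp)
      (fun k l hkl => absurd (Subsingleton.elim k l) hkl)
      (fun _ => (e : ℝ) * ((n : ℝ) + 1))
      (fun _ => by rw [hkψ]; push_cast; ring)
    rw [hΦn] at hb1
    simp only [Finset.univ_unique, Finset.sum_singleton] at hb1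
    have hre : (((Nat.card W₁ : ℂ) + 1).re) = (Nat.card W₁ : ℝ) + 1 := by simp
    rw [hre] at hb1
    have hq2 : (2 : ℝ) ≤ (Nat.card W₁ : ℝ) := by
      have : 1 < Nat.card W₁ := by
        have hne : W₁ ≠ ⊥ := h.hW.1
        have : Nontrivial W₁ := (Subgroup.nontrivial_iff_ne_bot W₁).2 hne
        exact Finite.one_lt_card
      exact_mod_cast this
    have hx : (1 : ℝ) ≤ ((n : ℝ) + 1) ^ 2 := by
      have h1 : (1 : ℤ) ≤ (n + 1) ^ 2 := by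
        have : (n + 1) ^ 2 > 0 := by positivity
        omega
      exact_mod_cast h1
    have hde : (2 * (Nat.card W₁ : ℝ) - 1) ≤ (e : ℝ) := by
      rw [hed]
      have h1 : 2 * Nat.card W₁ ≤ d + 1 := by omega
      have h2 : (2 * (Nat.card W₁ : ℝ)) ≤ (d : ℝ) + 1 := by exact_mod_cast h1
      linarith
    have hqR : (0 : ℝ) < (Nat.card W₁ : ℝ) := by exact_mod_cast hqpos
    rw [div_le_iff₀ hqR] at hb1
    have h3 : (2 * (Nat.card W₁ : ℝ) - 1) ^ 2 ≤ ((e : ℝ) * ((n : ℝ) + 1)) ^ 2 := by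
      rw [mul_pow]
      have h4 : (2 * (Nat.card W₁ : ℝ) - 1) ^ 2 ≤ (e : ℝ) ^ 2 := by
        apply pow_le_pow_left₀ _ hde
        linarith
      nlinarith [sq_nonneg (e : ℝ)]
    nlinarith
  have hx0 : (n : ℂ) + 1 = 0 := by exact_mod_cast hn0
  refine ⟨hΦn, hΦ1, ?_, ?_⟩
  · rw [hn]; linear_combination hx0
  · intro ζ' hζ' hne
    obtain ⟨-, -, -, -, e', -, he', hβ'⟩ := hb _ hζ'
    rw [key ζ' hζ' hne e' he' hβ', hx0, mul_zero]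

/-- MODULE [X0] (helper24 #4017), exact statement. -/
theorem x0 (h : MCtx M W₁ U W₂ mu dl η τ₁ ζ) (hf : MFacts M W₁ W₂ mu dl η)
    (hχ1 : classInner (τ₁ ζ) (fun _ => 1) = 0) :
    classInner (tauM M (muSum mu 1 - ζ)) (tauM M (muSum mu 1 - ζ)) = (Nat.card W₁ : ℂ) + 1 ∧
      classInner (tauM M (muSum mu 1 - ζ)) (fun _ => 1) = 1 ∧
      classInner (tauM M (muSum mu 1 - ζ)) (τ₁ ζ) = -1 ∧
      ∀ ζ' ∈ calS M, ζ' ≠ ζ → classInner (tauM M (muSum mu 1 - ζ)) (τ₁ ζ') = 0 :=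
  x0_core h hf (fun ζ' hζ' => Cfsg.Agent.Lib.Helper51.PFCyc.calS_basic h ζ' hζ')
    (fun ζ' hζ' ζ'' hζ'' hne => Cfsg.Agent.Lib.Helper51.PFCyc.calS_orth h ζ' ζ'' hζ' hζ'' hne)
    (Cfsg.Agent.Lib.Helper51.PFCyc.mu0_facts h hf)
    (fun ψ hψ hψ1 =>
      let r := Cfsg.Agent.Lib.Helper51.PFCyc.muSum_facts h hf ψ hψ hψ1
      ⟨r.1, r.2.1, r.2.2.1⟩)

end Cfsg.Agent.Lib.Helper23.PFCycX0
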