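-- helper23: PF sec.13: both components of the Dade image of `μ_ψ - μ_ψ'` in the context `PSide`
-- (the first component `tauM S (mu ψ - mu ψ') = δ • (η ψ - η ψ')` is what helper10's PF14Par step (1) needs;
-- the second is the sheet module [MUSUB]).
import Mathlib
import Cfsg.Agent.Lib.Helper16.PF13Defs
import Cfsg.Agent.Lib.Helper51.PF13ZFacts
import Cfsg.Agent.Lib.Helper60.PFCycB2
import Cfsg.Agent.Lib.Helper9.PFCycMuConst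
import Cfsg.Agent.Lib.Helper23.PFCycX0

set_option autoImplicit false

namespace Cfsg.Agent.Lib.Helper23.PF13

open Cfsg Cfsg.Agent.Lib.Helper4.PF Cfsg.Agent.Lib.Helper74.PF127 Cfsg.Agent.Lib.Helper24.PFCyc
open Cfsg.Agent.Lib.Helper16.PF13

universe u

variable {G : Type u} [Group G] [Fintype G] {S W₁ U W₂ : Subgroup G} [Fintype S]
  {mu : WChar W₁ W₂ → (↥S → ℂ)} {dl : WChar W₁ W₂ → ℂ} {η : WChar W₁ W₂ → (G → ℂ)}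

/-- `μ_ψ` vanishes at the `x ∈ S'`, `x ≠ 1`, outside `A(S)`. -/
theorem mu_vanish_off_litA (h : PSide S W₁ U W₂ mu dl η) (ψ : WChar W₁ W₂) (hψ : TrivOn W₁ ψ)
    (hψ1 : ψ ≠ 1) (x : ↥S) (hxK : (x : G) ∈ ⁅S, S⁆) (hx1 : x ≠ 1) (hxA : (x : G) ∉ litA S) :
    mu ψ x = 0 := by
  classical
  have hP := h.hP
  have md := h.md
  have hW : IsSelfNormalizingCyclic W₁ W₂ := hP.selfNormalizing
  have hqc : (trivSet W₁ W₂ W₂).card = Nat.card W₁ :=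
    Cfsg.Agent.Lib.Helper51.PFCyc.card_trivSet_W₂ hW
  obtain ⟨-, -, -, hZ4, hZ5, -⟩ := Cfsg.Agent.Lib.Helper51.PF13.calZ_facts h
  have h0 := hZ4 _ (hZ5 ψ hψ hψ1) x hx1 hxA
  have hsum : muSum mu ψ x = (Nat.card W₁ : ℂ) * mu ψ x := by
    unfold muSum
    rw [Finset.sum_apply]
    have h1 : ∀ φ ∈ trivSet W₁ W₂ W₂, mu (φ * ψ) x = mu ψ x := by
      intro φ hφ
      apply Cfsg.Agent.Lib.Helper50.PFCyc.mu_res_eq hP md (φ * ψ) ψ ?_ x hxK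
      intro w hw
      rw [MonoidHom.mul_apply, mem_trivSet.mp hφ w hw, one_mul]
    rw [Finset.sum_congr rfl h1, Finset.sum_const, hqc, nsmul_eq_mul]
  rw [hsum] at h0
  have hq0 : (Nat.card W₁ : ℂ) ≠ 0 := by
    have : 0 < Nat.card W₁ := Nat.card_pos
    exact_mod_cast this.ne'
  exact (mul_eq_zero.mp h0).resolve_left hq0

/-- Both components of [B2] in the context `PSide`, with a common sign `δ`. -/
theorem musub_both (h : PSide S W₁ U W₂ mu dl η) :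
    ∃ δ : ℂ, (δ = 1 ∨ δ = -1) ∧ (∀ ψ : WChar W₁ W₂, TrivOn W₁ ψ → ψ ≠ 1 → dl ψ = δ) ∧
    ∀ ψ ψ' : WChar W₁ W₂, TrivOn W₁ ψ → TrivOn W₁ ψ' → ψ ≠ 1 → ψ' ≠ 1 → ψ ≠ ψ' →
      tauM S (mu ψ - mu ψ') = δ • (η ψ - η ψ') ∧
      tauM S (muSum mu ψ - muSum mu ψ') = δ • (etaSum η ψ - etaSum η ψ') := by
  classical
  have hP := h.hP
  have md := h.md
  have hW : IsSelfNormalizingCyclic W₁ W₂ := hP.selfNormalizing
  have hoddS : Odd (Nat.card S) := Odd.of_dvd_nat h.hodd (Subgroup.card_subgroup_dvd_card S)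
  obtain ⟨ψ₀, hψ₀, hψ₀1⟩ := Cfsg.Agent.Lib.Helper23.PFCycX0.exists_psi hW h.hp.one_lt
  have hconst : ∀ ψ ψ' : WChar W₁ W₂, TrivOn W₁ ψ → TrivOn W₁ ψ' → ψ ≠ 1 → ψ' ≠ 1 →
      dl ψ = dl ψ' ∧ mu ψ 1 = mu ψ' 1 := fun ψ ψ' hψ hψ' hψ1 hψ'1 =>
    Cfsg.Agent.Lib.Helper9.PFCyc.mu_const hP hoddS md h.hp ψ ψ' hψ hψ' hψ1 hψ'1
  refine ⟨dl ψ₀, md.sign ψ₀, fun ψ hψ hψ1 => (hconst ψ ψ₀ hψ hψ₀ hψ1 hψ₀1).1, ?_⟩
  intro ψ ψ' hψ hψ' hψ1 hψ'1 hne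
  have hsupp : ∀ x : ↥S, (x : G) ∈ ⁅S, S⁆ → (x : G) ∉ litA0 S → x ≠ 1 →
      ∀ φ : WChar W₁ W₂, TrivOn W₂ φ → mu (φ * ψ) x = mu (φ * ψ') x := by
    intro x hxK hxA0 hx1 φ hφ
    have hxA : (x : G) ∉ litA S := fun hc => hxA0 (Or.inl hc)
    have e1 : mu (φ * ψ) x = mu ψ x := by
      apply Cfsg.Agent.Lib.Helper50.PFCyc.mu_res_eq hP md (φ * ψ) ψ ?_ x hxK
      intro w hw
      rw [MonoidHom.mul_apply, hφ w hw, one_mul]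
    have e2 : mu (φ * ψ') x = mu ψ' x := by
      apply Cfsg.Agent.Lib.Helper50.PFCyc.mu_res_eq hP md (φ * ψ') ψ' ?_ x hxK
      intro w hw
      rw [MonoidHom.mul_apply, hφ w hw, one_mul]
    rw [e1, e2, mu_vanish_off_litA h ψ hψ hψ1 x hxK hx1 hxA,
      mu_vanish_off_litA h ψ' hψ' hψ'1 x hxK hx1 hxA]
  have hmain := Cfsg.Agent.Lib.Helper60.PFCycB.dade_mu_sub hP h.hD md hoddS η h.hη ψ ψ' hψ hψ'
    hψ1 hψ'1 hne (hconst ψ ψ' hψ hψ' hψ1 hψ'1).1 (hconst ψ ψ' hψ hψ' hψ1 hψ'1).2 hsupp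
  rw [(hconst ψ ψ₀ hψ hψ₀ hψ1 hψ₀1).1] at hmain
  exact hmain

end Cfsg.Agent.Lib.Helper23.PF13
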