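import Cfsg.Prelude.Def_Balance
import Cfsg.Agent.Lib.Helper29.Iso
import Cfsg.Agent.Lib.Helper76.PCore

set_option autoImplicit false

namespace Cfsg.Agent.Lib.Helper23

open Cfsg

/-! ### Conjugates of subgroups -/

theorem mem_map_conj {G : Type*} [Group G] {H : Subgroup G} {g x : G} :
    x ∈ H.map (MulAut.conj g).toMonoidHom ↔ g⁻¹ * x * g ∈ H := by
  constructor
  · rintro ⟨y, hy, rfl⟩
    simpa [MulAut.conj_apply, mul_assoc] using hy
  · intro h
    exact ⟨g⁻¹ * x * g, h, by simp [MulAut.conj_apply, mul_assoc]⟩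

theorem map_conj_eq_of_mem_normalizer {G : Type*} [Group G] {H : Subgroup G} {g : G}
    (hg : g ∈ Subgroup.normalizer (H : Set G)) : H.map (MulAut.conj g).toMonoidHom = H := by
  ext x
  rw [mem_map_conj]
  have hg' : g⁻¹ ∈ Subgroup.normalizer (H : Set G) := Subgroup.inv_mem _ hg
  have := (Subgroup.mem_normalizer_iff.mp hg' x)
  rw [this, inv_inv]

theorem map_conj_eq_of_normal {G : Type*} [Group G] (H : Subgroup G) [hH : H.Normal] (g : G) :
    H.map (MulAut.conj g).toMonoidHom = H :=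
  map_conj_eq_of_mem_normalizer (by rw [Subgroup.normalizer_eq_top]; trivial)

theorem mem_normalizer_of_map_conj_le {G : Type*} [Group G] [Finite G] {H : Subgroup G} {g : G}
    (h : H.map (MulAut.conj g).toMonoidHom ≤ H) : g ∈ Subgroup.normalizer (H : Set G) := by
  have hcard : Nat.card ↥(H.map (MulAut.conj g).toMonoidHom) = Nat.card ↥H :=
    Nat.card_congr (H.equivMapOfInjective _ (MulAut.conj g).injective).toEquiv.symm
  have heq : H.map (MulAut.conj g).toMonoidHom = H :=
    Subgroup.eq_of_le_of_card_ge h (by rw [hcard])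
  rw [Subgroup.mem_normalizer_iff]
  intro x
  constructor
  · intro hx
    rw [← heq]
    exact ⟨x, hx, rfl⟩
  · intro hx
    rw [← heq, mem_map_conj] at hx
    simpa [mul_assoc] using hx

/-! ### Cores under isomorphisms -/

theorem pPrimeCore_map_mulEquiv_le {G G' : Type*} [Group G] [Group G'] (p : ℕ) (e : G ≃* G') :
    (pPrimeCore p G).map e.toMonoidHom ≤ pPrimeCore p G' := by
  unfold pPrimeCore
  rw [Subgroup.map_le_iff_le_comap]
  apply sSup_le
  intro N hN
  rw [← Subgroup.map_le_iff_le_comap]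
  obtain ⟨hn, hc⟩ := hN
  refine le_sSup ⟨hn.map e.toMonoidHom e.surjective, ?_⟩
  have : Nat.card ↥(N.map e.toMonoidHom) = Nat.card ↥N :=
    Nat.card_congr (N.equivMapOfInjective _ e.injective).toEquiv.symm
  rw [this]
  exact hc

theorem pPrimeCore_map_mulEquiv {G G' : Type*} [Group G] [Group G'] (p : ℕ) (e : G ≃* G') :
    (pPrimeCore p G).map e.toMonoidHom = pPrimeCore p G' := by
  apply le_antisymm (pPrimeCore_map_mulEquiv_le p e)
  have h2 := pPrimeCore_map_mulEquiv_le p e.symm
  intro x hx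
  refine ⟨e.symm x, ?_, by simp⟩
  apply h2
  exact ⟨x, hx, rfl⟩

/-! ### p-components under isomorphisms -/

theorem isPComponent_map_mulEquiv {G G' : Type*} [Group G] [Group G'] (p : ℕ) (e : G ≃* G')
    {K : Subgroup G} (hK : IsPComponent p K) : IsPComponent p (K.map e.toMonoidHom) := by
  obtain ⟨hsn, hcomp, hmin⟩ := hK
  have hO : (pPrimeCore p G).map (e : G →* G') = pPrimeCore p G' := pPrimeCore_map_mulEquiv p e
  let ebar : G ⧸ pPrimeCore p G ≃* G' ⧸ pPrimeCore p G' :=
    QuotientGroup.congr (pPrimeCore p G) (pPrimeCore p G') e hO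
  have hcomm : ∀ x : G, ebar (QuotientGroup.mk' (pPrimeCore p G) x) =
      QuotientGroup.mk' (pPrimeCore p G') (e x) := fun x => rfl
  have hmapmap : ∀ H : Subgroup G, (H.map e.toMonoidHom).map (QuotientGroup.mk' (pPrimeCore p G')) =
      (H.map (QuotientGroup.mk' (pPrimeCore p G))).map ebar.toMonoidHom := by
    intro H
    ext y
    constructor
    · rintro ⟨_, ⟨x, hx, rfl⟩, rfl⟩
      exact ⟨QuotientGroup.mk' _ x, ⟨x, hx, rfl⟩, hcomm x⟩
    · rintro ⟨_, ⟨x, hx, rfl⟩, rfl⟩
      exact ⟨e x, ⟨x, hx, rfl⟩, (hcomm x).symm⟩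
  refine ⟨hsn.map e.surjective, ?_, ?_⟩
  · rw [hmapmap]
    exact Cfsg.Agent.Lib.Helper29.isComponent_map_mulEquiv ebar hcomp
  · intro H' hH'sn hH'le hH'eq
    have hH'map : (H'.map e.symm.toMonoidHom).map e.toMonoidHom = H' := by
      ext y
      constructor
      · rintro ⟨_, ⟨x, hx, rfl⟩, rfl⟩
        simpa using hx
      · intro hy
        exact ⟨e.symm y, ⟨y, hy, rfl⟩, by simp⟩
    have h1 : (H'.map e.symm.toMonoidHom).IsSubnormal := hH'sn.map e.symm.surjective
    have h2 : H'.map e.symm.toMonoidHom ≤ K := by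
      rintro _ ⟨y, hy, rfl⟩
      obtain ⟨k, hk, rfl⟩ := hH'le hy
      simpa using hk
    have h3 : (H'.map e.symm.toMonoidHom).map (QuotientGroup.mk' (pPrimeCore p G)) =
        K.map (QuotientGroup.mk' (pPrimeCore p G)) := by
      have h4 := hmapmap (H'.map e.symm.toMonoidHom)
      rw [hH'map, hH'eq, hmapmap K] at h4
      exact (Subgroup.map_injective ebar.injective h4).symm
    rw [← hmin _ h1 h2 h3, hH'map]

theorem pLayer_map_mulEquiv_le {G G' : Type*} [Group G] [Group G'] (p : ℕ) (e : G ≃* G') :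
    (pLayer p G).map e.toMonoidHom ≤ pLayer p G' := by
  unfold pLayer
  rw [Subgroup.map_le_iff_le_comap]
  apply sSup_le
  intro K hK
  rw [← Subgroup.map_le_iff_le_comap]
  exact le_sSup (isPComponent_map_mulEquiv p e hK)

theorem pLayer_normal (p : ℕ) (G : Type*) [Group G] : (pLayer p G).Normal := by
  refine ⟨fun n hn g => ?_⟩
  exact pLayer_map_mulEquiv_le p (MulAut.conj g) ⟨n, hn, rfl⟩

/-! ### The `p'`-core of a subgroup, described inside the ambient group -/

/-- `O_{p'}(C)` as a subgroup of the ambient group, described without subtypes. -/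
def relPPrimeCore {G : Type*} [Group G] (p : ℕ) (C : Subgroup G) : Subgroup G :=
  sSup {K : Subgroup G | K ≤ C ∧ C ≤ Subgroup.normalizer (K : Set G) ∧ (Nat.card ↥K).Coprime p}

theorem map_subtype_pPrimeCore {G : Type*} [Group G] (p : ℕ) (C : Subgroup G) :
    (pPrimeCore p ↥C).map C.subtype = relPPrimeCore p C := by
  apply le_antisymm
  · unfold pPrimeCore
    rw [Subgroup.map_le_iff_le_comap]
    apply sSup_le
    intro N hN
    rw [← Subgroup.map_le_iff_le_comap]
    obtain ⟨hn, hc⟩ := hN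
    refine le_sSup ⟨Subgroup.map_subtype_le _, ?_, ?_⟩
    · intro c hc'
      rw [Subgroup.mem_normalizer_iff]
      intro x
      constructor
      · rintro ⟨y, hy, rfl⟩
        exact ⟨⟨c, hc'⟩ * y * ⟨c, hc'⟩⁻¹, hn.conj_mem y hy _, rfl⟩
      · rintro ⟨y, hy, hyx⟩
        have hxC : x ∈ C := by
          have h1 : c * x * c⁻¹ ∈ C := by rw [← hyx]; exact y.2
          have h2 := C.mul_mem (C.mul_mem (C.inv_mem hc') h1) hc'
          simpa [mul_assoc] using h2
        refine ⟨⟨x, hxC⟩, ?_, rfl⟩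
        have h3 := hn.conj_mem y hy ⟨c, hc'⟩⁻¹
        have h4 : (⟨c, hc'⟩ : ↥C)⁻¹ * y * (⟨c, hc'⟩ : ↥C)⁻¹⁻¹ = ⟨x, hxC⟩ := by
          apply Subtype.ext
          simp only [Subgroup.coe_mul, Subgroup.coe_inv, inv_inv]
          have : (y : G) = c * x * c⁻¹ := hyx
          rw [this]; group
        rwa [h4] at h3
    · have : Nat.card ↥(N.map C.subtype) = Nat.card ↥N :=
        Nat.card_congr (N.equivMapOfInjective _ C.subtype_injective).toEquiv.symm
      rw [this]
      exact hc
  · unfold relPPrimeCore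
    apply sSup_le
    rintro K ⟨hKC, hCK, hc⟩
    have hn : (K.subgroupOf C).Normal := by
      refine ⟨fun x hx g => ?_⟩
      rw [Subgroup.mem_subgroupOf] at hx ⊢
      exact (Subgroup.mem_normalizer_iff.mp (hCK g.2) x.1).mp hx
    have hcard : Nat.card ↥(K.subgroupOf C) = Nat.card ↥K :=
      Nat.card_congr (Subgroup.subgroupOfEquivOfLe hKC).toEquiv
    have hle : K.subgroupOf C ≤ pPrimeCore p ↥C := le_sSup ⟨hn, by rw [hcard]; exact hc⟩
    intro k hk
    exact ⟨⟨k, hKC hk⟩, hle (by rw [Subgroup.mem_subgroupOf]; exact hk), rfl⟩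

theorem relPPrimeCore_le {G : Type*} [Group G] (p : ℕ) (C : Subgroup G) : relPPrimeCore p C ≤ C := by
  apply sSup_le
  rintro K ⟨hKC, -, -⟩
  exact hKC

theorem relPPrimeCore_map_le {G G' : Type*} [Group G] [Group G'] (p : ℕ) (e : G ≃* G')
    (C : Subgroup G) :
    (relPPrimeCore p C).map e.toMonoidHom ≤ relPPrimeCore p (C.map e.toMonoidHom) := by
  unfold relPPrimeCore
  rw [Subgroup.map_le_iff_le_comap]
  apply sSup_le
  rintro K ⟨hKC, hCK, hc⟩
  rw [← Subgroup.map_le_iff_le_comap]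
  refine le_sSup ⟨Subgroup.map_mono hKC, ?_, ?_⟩
  · rintro _ ⟨c, hc', rfl⟩
    rw [Subgroup.mem_normalizer_iff]
    intro x
    have hcn := Subgroup.mem_normalizer_iff.mp (hCK hc')
    constructor
    · rintro ⟨k, hk, rfl⟩
      refine ⟨c * k * c⁻¹, (hcn k).mp hk, ?_⟩
      simp
    · rintro ⟨k, hk, hkx⟩
      refine ⟨c⁻¹ * k * c, ?_, ?_⟩
      · show c⁻¹ * k * c ∈ K
        have hk' : k ∈ K := hk
        rw [hcn]
        have : c * (c⁻¹ * k * c) * c⁻¹ = k := by group
        rw [this]; exact hk'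
      · have : e k = e c * x * (e c)⁻¹ := hkx
        show e (c⁻¹ * k * c) = x
        rw [map_mul, map_mul, map_inv, this]; group
  · have : Nat.card ↥(K.map e.toMonoidHom) = Nat.card ↥K :=
      Nat.card_congr (K.equivMapOfInjective _ e.injective).toEquiv.symm
    rw [this]
    exact hc

theorem relPPrimeCore_map {G G' : Type*} [Group G] [Group G'] (p : ℕ) (e : G ≃* G')
    (C : Subgroup G) :
    (relPPrimeCore p C).map e.toMonoidHom = relPPrimeCore p (C.map e.toMonoidHom) := by
  apply le_antisymm (relPPrimeCore_map_le p e C)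
  have h2 := relPPrimeCore_map_le p e.symm (C.map e.toMonoidHom)
  have hC : (C.map e.toMonoidHom).map e.symm.toMonoidHom = C := by
    ext y
    constructor
    · rintro ⟨_, ⟨x, hx, rfl⟩, rfl⟩
      simpa using hx
    · intro hy
      exact ⟨e y, ⟨y, hy, rfl⟩, by simp⟩
  rw [hC] at h2
  intro x hx
  refine ⟨e.symm x, h2 ⟨x, hx, rfl⟩, by simp⟩

theorem centralizer_map_mulEquiv {G G' : Type*} [Group G] [Group G'] (e : G ≃* G')
    (R : Subgroup G) :
    Subgroup.centralizer ((R.map e.toMonoidHom : Subgroup G') : Set G') =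
      (Subgroup.centralizer (R : Set G)).map e.toMonoidHom := by
  ext x
  constructor
  · intro hx
    refine ⟨e.symm x, ?_, by simp⟩
    show e.symm x ∈ Subgroup.centralizer (R : Set G)
    rw [Subgroup.mem_centralizer_iff]
    intro r hr
    apply e.injective
    have := (Subgroup.mem_centralizer_iff.mp hx) (e r) ⟨r, hr, rfl⟩
    simpa using this
  · rintro ⟨c, hc, rfl⟩
    rw [Subgroup.mem_centralizer_iff]
    rintro _ ⟨r, hr, rfl⟩
    have := (Subgroup.mem_centralizer_iff.mp hc) r hr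
    simp only [MulEquiv.coe_toMonoidHom, ← map_mul, this]

/-- `O_{p'}(C_G(R))` as a subgroup of `G`. -/
def coreCent {G : Type*} [Group G] (p : ℕ) (R : Subgroup G) : Subgroup G :=
  relPPrimeCore p (Subgroup.centralizer (R : Set G))

theorem coreCent_eq {G : Type*} [Group G] (p : ℕ) (R : Subgroup G) :
    (pPrimeCore p ↥(Subgroup.centralizer (R : Set G))).map (Subgroup.centralizer (R : Set G)).subtype =
      coreCent p R :=
  map_subtype_pPrimeCore p _

theorem coreCent_map {G G' : Type*} [Group G] [Group G'] (p : ℕ) (e : G ≃* G') (R : Subgroup G) :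
    (coreCent p R).map e.toMonoidHom = coreCent p (R.map e.toMonoidHom) := by
  unfold coreCent
  rw [relPPrimeCore_map, centralizer_map_mulEquiv]

theorem card_coreCent_coprime {G : Type*} [Group G] [Finite G] (p : ℕ) (R : Subgroup G) :
    (Nat.card ↥(coreCent p R)).Coprime p := by
  rw [← coreCent_eq]
  have : Nat.card ↥((pPrimeCore p ↥(Subgroup.centralizer (R : Set G))).map
      (Subgroup.centralizer (R : Set G)).subtype) =
      Nat.card ↥(pPrimeCore p ↥(Subgroup.centralizer (R : Set G))) :=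
    Nat.card_congr ((pPrimeCore p ↥(Subgroup.centralizer (R : Set G))).equivMapOfInjective _
      (Subgroup.centralizer (R : Set G)).subtype_injective).toEquiv.symm
  rw [this]
  exact Cfsg.Agent.Lib.Helper76.pPrimeCore_coprime p

/-- Anything normalizing `R` normalizes `O_{p'}(C_G(R))`. -/
theorem normalizer_le_normalizer_coreCent {G : Type*} [Group G] [Finite G] (p : ℕ) (R : Subgroup G) :
    Subgroup.normalizer (R : Set G) ≤ Subgroup.normalizer (coreCent p R : Set G) := by
  intro g hg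
  apply mem_normalizer_of_map_conj_le
  rw [coreCent_map p (MulAut.conj g) R, map_conj_eq_of_mem_normalizer hg]

/-! ### `O_{p',p}(X) ≤ O_{p'}(X) T` for a Sylow `p`-subgroup `T` of a subgroup containing `O_{p',p}(X)` -/

theorem pPrimeCore_le_pPrimePCore (p : ℕ) (X : Type*) [Group X] : pPrimeCore p X ≤ pPrimePCore p X := by
  intro x hx
  show QuotientGroup.mk' (pPrimeCore p X) x ∈ pCore p (X ⧸ pPrimeCore p X)
  have : QuotientGroup.mk' (pPrimeCore p X) x = 1 := by
    rw [← MonoidHom.mem_ker, QuotientGroup.ker_mk']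
    exact hx
  rw [this]
  exact Subgroup.one_mem _

instance pPrimePCore_normal' (p : ℕ) (X : Type*) [Group X] : (pPrimePCore p X).Normal := by
  unfold pPrimePCore
  infer_instance

theorem pPrimePCore_le_sup_sylow {X : Type*} [Group X] [Finite X] (p : ℕ) [Fact p.Prime]
    (N : Subgroup X) (hN : pPrimePCore p X ≤ N) (T : Sylow p ↥N) :
    pPrimePCore p X ≤ pPrimeCore p X ⊔ (T : Subgroup ↥N).map N.subtype := by
  classical
  set O := pPrimeCore p X with hO
  let f' : ↥N →* ↥(N.map (QuotientGroup.mk' O)) := (QuotientGroup.mk' O).subgroupMap N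
  have hf' : Function.Surjective f' := MonoidHom.subgroupMap_surjective _ _
  let Tbar : Sylow p ↥(N.map (QuotientGroup.mk' O)) := T.mapSurjective hf'
  have hPp : IsPGroup p ↥((pCore p (X ⧸ O)).subgroupOf (N.map (QuotientGroup.mk' O))) :=
    (Cfsg.Agent.Lib.Helper76.pCore_isPGroup p).comap_subtype
  have hle := hPp.le_sylow_of_normal Tbar
  intro q hq
  have hqN : q ∈ N := hN hq
  have hq1 : QuotientGroup.mk' O q ∈ pCore p (X ⧸ O) := hq
  have hq2 : (⟨QuotientGroup.mk' O q, ⟨q, hqN, rfl⟩⟩ : ↥(N.map (QuotientGroup.mk' O))) ∈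
      (pCore p (X ⧸ O)).subgroupOf (N.map (QuotientGroup.mk' O)) := by
    rw [Subgroup.mem_subgroupOf]
    exact hq1
  have hq3 := hle hq2
  obtain ⟨t, ht, htq⟩ := hq3
  have htq' : QuotientGroup.mk' O (t : X) = QuotientGroup.mk' O q := congrArg Subtype.val htq
  have ho : (t : X)⁻¹ * q ∈ O := by
    rw [← QuotientGroup.ker_mk' O, MonoidHom.mem_ker, map_mul, map_inv, htq', inv_mul_cancel]
  have : q = (t : X) * ((t : X)⁻¹ * q) := by group
  rw [this]
  exact Subgroup.mul_mem _ (Subgroup.mem_sup_right ⟨t, ht, rfl⟩) (Subgroup.mem_sup_left ho)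

/-! ### The extended 2-layer -/

theorem normalizer_inf_le_normalizer_sup {G : Type*} [Group G] [Finite G] (A B : Subgroup G) :
    Subgroup.normalizer (A : Set G) ⊓ Subgroup.normalizer (B : Set G) ≤
      Subgroup.normalizer ((A ⊔ B : Subgroup G) : Set G) := by
  rintro g ⟨hA, hB⟩
  apply mem_normalizer_of_map_conj_le
  rw [Subgroup.map_sup, map_conj_eq_of_mem_normalizer hA, map_conj_eq_of_mem_normalizer hB]

section ext

open scoped Pointwise

variable (X : Type*) [Group X]

/-- `L_{2'}(X) O_{2',2}(X)`. -/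
abbrev layerN : Subgroup X := pLayer 2 X ⊔ pPrimePCore 2 X

variable {X}

/-- A Sylow 2-subgroup of `L_{2'}(X) O_{2',2}(X)`, as a subgroup of `X`. -/
abbrev sylX (T : Sylow 2 ↥(layerN X)) : Subgroup X :=
  (T : Subgroup ↥(layerN X)).map (layerN X).subtype

theorem extendedTwoLayer_eq_iSup :
    extendedTwoLayer X = pLayer 2 X ⊔ oddCore X ⊔ ⨆ T : Sylow 2 ↥(layerN X), coreCent 2 (sylX T) := by
  unfold extendedTwoLayer
  congr 1
  apply iSup_congr
  intro T
  exact coreCent_eq 2 _

instance layerN_normal : (layerN X).Normal := by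
  have := pLayer_normal 2 X
  infer_instance

theorem sylX_smul (T : Sylow 2 ↥(layerN X)) (n : ↥(layerN X)) :
    sylX (n • T) = (sylX T).map (MulAut.conj (n : X)).toMonoidHom := by
  ext x
  constructor
  · rintro ⟨y, hy, rfl⟩
    have hy' : y ∈ MulAut.conj n • (T : Subgroup ↥(layerN X)) := hy
    obtain ⟨t, ht, rfl⟩ := (Subgroup.mem_smul_pointwise_iff_exists _ _ _).mp hy'
    exact ⟨t, ⟨t, ht, rfl⟩, rfl⟩
  · rintro ⟨_, ⟨t, ht, rfl⟩, rfl⟩
    refine ⟨MulAut.conj n • t, ?_, rfl⟩
    show MulAut.conj n • t ∈ MulAut.conj n • (T : Subgroup ↥(layerN X))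
    exact Subgroup.smul_mem_pointwise_smul _ _ _ ht

theorem sylX_conjNormal_smul (T : Sylow 2 ↥(layerN X)) (g : X) :
    sylX ((MulAut.conjNormal g : MulAut ↥(layerN X)) • T) =
      (sylX T).map (MulAut.conj g).toMonoidHom := by
  ext x
  constructor
  · rintro ⟨y, hy, rfl⟩
    have hy' : y ∈ (MulAut.conjNormal g : MulAut ↥(layerN X)) • (T : Subgroup ↥(layerN X)) := hy
    obtain ⟨t, ht, rfl⟩ := (Subgroup.mem_smul_pointwise_iff_exists _ _ _).mp hy'
    exact ⟨t, ⟨t, ht, rfl⟩, rfl⟩
  · rintro ⟨_, ⟨t, ht, rfl⟩, rfl⟩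
    refine ⟨(MulAut.conjNormal g : MulAut ↥(layerN X)) • t, ?_, rfl⟩
    show (MulAut.conjNormal g : MulAut ↥(layerN X)) • t ∈
      (MulAut.conjNormal g : MulAut ↥(layerN X)) • (T : Subgroup ↥(layerN X))
    exact Subgroup.smul_mem_pointwise_smul _ _ _ ht

variable [Finite X]

theorem sylX_le_normalizer (T : Sylow 2 ↥(layerN X)) :
    sylX T ≤ Subgroup.normalizer
      ((pLayer 2 X ⊔ oddCore X ⊔ coreCent 2 (sylX T) : Subgroup X) : Set X) := by
  intro t ht
  have h1 : t ∈ Subgroup.normalizer ((pLayer 2 X : Subgroup X) : Set X) := by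
    have := pLayer_normal 2 X
    rw [Subgroup.normalizer_eq_top]; trivial
  have h2 : t ∈ Subgroup.normalizer ((oddCore X : Subgroup X) : Set X) := by
    rw [Subgroup.normalizer_eq_top]; trivial
  have h3 : t ∈ Subgroup.normalizer ((coreCent 2 (sylX T) : Subgroup X) : Set X) :=
    normalizer_le_normalizer_coreCent 2 _ (Subgroup.le_normalizer ht)
  exact normalizer_inf_le_normalizer_sup _ _
    ⟨normalizer_inf_le_normalizer_sup _ _ ⟨h1, h2⟩, h3⟩

theorem layerN_le_normalizer (T : Sylow 2 ↥(layerN X)) :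
    layerN X ≤ Subgroup.normalizer
      ((pLayer 2 X ⊔ oddCore X ⊔ coreCent 2 (sylX T) : Subgroup X) : Set X) := by
  have hQ := pPrimePCore_le_sup_sylow 2 (layerN X) le_sup_right T
  apply sup_le
  · exact (le_sup_left.trans le_sup_left).trans Subgroup.le_normalizer
  · refine hQ.trans (sup_le ?_ (sylX_le_normalizer T))
    exact (le_sup_right.trans le_sup_left).trans Subgroup.le_normalizer

theorem coreCent_sylX_le (T T' : Sylow 2 ↥(layerN X)) :
    coreCent 2 (sylX T') ≤ pLayer 2 X ⊔ oddCore X ⊔ coreCent 2 (sylX T) := by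
  obtain ⟨n, hn⟩ := MulAction.exists_smul_eq ↥(layerN X) T T'
  rw [← hn, sylX_smul, ← coreCent_map]
  have hnorm := layerN_le_normalizer T n.2
  calc (coreCent 2 (sylX T)).map (MulAut.conj (n : X)).toMonoidHom
      ≤ (pLayer 2 X ⊔ oddCore X ⊔ coreCent 2 (sylX T)).map (MulAut.conj (n : X)).toMonoidHom :=
        Subgroup.map_mono le_sup_right
    _ = pLayer 2 X ⊔ oddCore X ⊔ coreCent 2 (sylX T) := map_conj_eq_of_mem_normalizer hnorm

/-- S1341: one Sylow subgroup suffices in the definition of the extended 2-layer. -/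
theorem extendedTwoLayer_eq (T : Sylow 2 ↥(layerN X)) :
    extendedTwoLayer X = pLayer 2 X ⊔ oddCore X ⊔ coreCent 2 (sylX T) := by
  rw [extendedTwoLayer_eq_iSup]
  apply le_antisymm
  · exact sup_le le_sup_left (iSup_le fun T' => coreCent_sylX_le T T')
  · exact sup_le_sup_left (le_iSup (fun T' : Sylow 2 ↥(layerN X) => coreCent 2 (sylX T')) T) _

omit [Finite X] in
/-- S1342: the extended 2-layer is normal. -/
theorem extendedTwoLayer_normal : (extendedTwoLayer X).Normal := by
  refine ⟨fun x hx g => ?_⟩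
  have hmap : (extendedTwoLayer X).map (MulAut.conj g).toMonoidHom ≤ extendedTwoLayer X := by
    rw [extendedTwoLayer_eq_iSup, Subgroup.map_sup, Subgroup.map_sup, Subgroup.map_iSup]
    have := pLayer_normal 2 X
    rw [map_conj_eq_of_normal, map_conj_eq_of_normal]
    apply sup_le_sup_left
    apply iSup_le
    intro T
    rw [coreCent_map, ← sylX_conjNormal_smul]
    exact le_iSup (fun T' : Sylow 2 ↥(layerN X) => coreCent 2 (sylX T')) _
  exact hmap ⟨x, hx, rfl⟩

omit [Finite X] in
/-- A Sylow 2-subgroup `S` of `X` containing `T` meets `L_{2'}(X) O_{2',2}(X)` in `T`. -/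
theorem sylow_inf_layerN (T : Sylow 2 ↥(layerN X)) (S : Sylow 2 X) (hTS : sylX T ≤ S) :
    (S : Subgroup X) ⊓ layerN X = sylX T := by
  have hpg : IsPGroup 2 ↥(((S : Subgroup X) ⊓ layerN X).subgroupOf (layerN X)) := by
    have : IsPGroup 2 ↥((S : Subgroup X) ⊓ layerN X) := S.isPGroup'.to_le inf_le_left
    exact this.comap_subtype
  have hle : (T : Subgroup ↥(layerN X)) ≤ ((S : Subgroup X) ⊓ layerN X).subgroupOf (layerN X) := by
    intro x hx
    rw [Subgroup.mem_subgroupOf]
    exact ⟨hTS ⟨x, hx, rfl⟩, x.2⟩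
  have heq := T.is_maximal' hpg hle
  unfold sylX
  rw [← heq, Subgroup.subgroupOf_map_subtype, inf_assoc, inf_idem]

/-- S1343. -/
theorem exists_odd_normalized (X : Type*) [Group X] [Finite X] :
    ∃ F : Subgroup X, Odd (Nat.card ↥F) ∧
      (∃ S : Sylow 2 X, (S : Subgroup X) ≤ Subgroup.normalizer (F : Set X)) ∧
      extendedTwoLayer X = pLayer 2 X ⊔ F := by
  classical
  obtain ⟨T⟩ : Nonempty (Sylow 2 ↥(layerN X)) := inferInstance
  refine ⟨oddCore X ⊔ coreCent 2 (sylX T), ?_, ?_, ?_⟩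
  · have h1 : (Nat.card ↥(oddCore X)).Coprime 2 := Cfsg.Agent.Lib.Helper76.pPrimeCore_coprime 2
    have h2 : (Nat.card ↥(coreCent 2 (sylX T))).Coprime 2 := card_coreCent_coprime 2 _
    have h3 : Nat.card ↥(coreCent 2 (sylX T) ⊔ oddCore X) ∣
        Nat.card ↥(coreCent 2 (sylX T)) * Nat.card ↥(oddCore X) :=
      Cfsg.Agent.Lib.Helper76.card_sup_dvd_of_normal _ _
    rw [sup_comm]
    exact (Nat.Coprime.coprime_dvd_left h3 (Nat.Coprime.mul_left h2 h1)).odd_of_right
  · have hT2 : IsPGroup 2 ↥(sylX T) := T.isPGroup'.map _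
    obtain ⟨S, hS⟩ := hT2.exists_le_sylow
    refine ⟨S, ?_⟩
    intro s hs
    have hinf := sylow_inf_layerN T S hS
    have hsT : s ∈ Subgroup.normalizer ((sylX T : Subgroup X) : Set X) := by
      rw [← hinf]
      apply Subgroup.inf_normalizer_le_normalizer_inf
      refine ⟨Subgroup.le_normalizer hs, ?_⟩
      rw [Subgroup.normalizer_eq_top]; trivial
    have h2 : s ∈ Subgroup.normalizer ((oddCore X : Subgroup X) : Set X) := by
      rw [Subgroup.normalizer_eq_top]; trivial
    exact normalizer_inf_le_normalizer_sup _ _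
      ⟨h2, normalizer_le_normalizer_coreCent 2 _ hsT⟩
  · rw [extendedTwoLayer_eq T, sup_assoc]

end ext

end Cfsg.Agent.Lib.Helper23
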