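/-
helper23 shared library: solvable signalizer functors: the family of a functor, closure under
subgroups, conjugation by `θ(C_G(A))`, products `(θ a ∩ N(D)) D`, maximal `q`-members and the
Transitivity Theorem.
All declarations live in `Cfsg.Agent.Lib.Helper23`.
-/
import Mathlib
import Cfsg.Prelude.Def_Local
import Cfsg.Prelude.Def_Balance
import Cfsg.Agent.S0024
import Cfsg.Agent.S0025
import Cfsg.Agent.S0030
import Cfsg.Agent.S1282
import Cfsg.Agent.Lib.Helper22.Solvable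
import Cfsg.Agent.Lib.Helper23.ExtLayer

set_option autoImplicit false

namespace Cfsg.Agent.Lib.Helper23

open Cfsg

section Signalizer

variable {G : Type*} [Group G]

/-- Invariance under conjugation by `A`, in the elementwise form used by `signalizerFamily`,
amounts to `A ≤ N(U)`. -/
theorem le_normalizer_of_conj_mem {A U : Subgroup G} (h : ∀ b ∈ A, ∀ u ∈ U, b * u * b⁻¹ ∈ U) :
    A ≤ Subgroup.normalizer (U : Set G) := by
  intro b hb
  rw [Subgroup.mem_normalizer_iff]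
  intro x
  constructor
  · intro hx; exact h b hb x hx
  · intro hx
    have := h b⁻¹ (inv_mem hb) _ hx
    simpa [mul_assoc] using this

theorem conj_mem_of_le_normalizer {A U : Subgroup G} (h : A ≤ Subgroup.normalizer (U : Set G)) :
    ∀ b ∈ A, ∀ u ∈ U, b * u * b⁻¹ ∈ U :=
  fun b hb u hu => (Subgroup.mem_normalizer_iff.1 (h hb) u).1 hu

/-- `x` centralizes `b` iff it centralizes `⟨b⟩`. -/
theorem sgz_centralizer_zpowers_eq (b : G) :
    Subgroup.centralizer ((Subgroup.zpowers b : Subgroup G) : Set G) = Subgroup.centralizer {b} := by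
  apply le_antisymm
  · apply Subgroup.centralizer_le
    intro x hx
    rw [Set.mem_singleton_iff] at hx
    rw [hx]
    exact Subgroup.mem_zpowers b
  · intro x hx
    rw [Subgroup.mem_centralizer_iff]
    intro y hy
    have hle : Subgroup.zpowers b ≤ Subgroup.centralizer {x} := by
      rw [Subgroup.zpowers_le, Subgroup.mem_centralizer_singleton_iff]
      exact (Subgroup.mem_centralizer_singleton_iff.1 hx).symm
    exact Subgroup.mem_centralizer_singleton_iff.1 (hle hy)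

variable {p : ℕ} {A : Subgroup G} {θ : G → Subgroup G}

/-- Subgroups of members of the family which are `A`-invariant are members. -/
theorem signalizerFamily_of_le {U V : Subgroup G} (hU : U ∈ signalizerFamily p A θ) (hVU : V ≤ U)
    (hV : A ≤ Subgroup.normalizer (V : Set G)) : V ∈ signalizerFamily p A θ := by
  obtain ⟨hs, hp, -, hc⟩ := hU
  refine ⟨?_, ?_, conj_mem_of_le_normalizer hV, ?_⟩
  · exact Group.isSolvable_of_isSolvable_injective (f := Subgroup.inclusion hVU)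
      (Subgroup.inclusion_injective hVU)
  · exact fun h => hp (h.trans (Subgroup.card_dvd_of_le hVU))
  · exact fun a ha ha1 => (inf_le_inf_right _ hVU).trans (hc a ha ha1)

/-- Elements of `θ(C_G(A)) = ⋂ θ a` centralize `A`. -/
theorem signalizerInf_commute (hθ : IsSignalizerFunctor p A θ) {c : G}
    (hc : c ∈ signalizerInf A θ) {b : G} (hb : b ∈ A) : c * b = b * c := by
  by_cases hb1 : b = 1
  · rw [hb1, mul_one, one_mul]
  · have h1 : c ∈ θ b := by
      unfold signalizerInf at hc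
      rw [Subgroup.mem_iInf] at hc
      exact hc ⟨b, hb, hb1⟩
    have h2 := hθ.1 b hb hb1 h1
    exact (Subgroup.mem_centralizer_singleton_iff.1 h2)

theorem mem_signalizerInf_iff {c : G} :
    c ∈ signalizerInf A θ ↔ ∀ a ∈ A, a ≠ 1 → c ∈ θ a := by
  unfold signalizerInf
  rw [Subgroup.mem_iInf]
  constructor
  · intro h a ha ha1; exact h ⟨a, ha, ha1⟩
  · rintro h ⟨a, ha, ha1⟩; exact h a ha ha1

/-- Conjugation by an element of `θ(C_G(A))` preserves the family. -/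
theorem signalizerFamily_conj [Finite G] (hθ : IsSignalizerFunctor p A θ) {c : G}
    (hc : c ∈ signalizerInf A θ) {U : Subgroup G} (hU : U ∈ signalizerFamily p A θ) :
    U.map (MulAut.conj c).toMonoidHom ∈ signalizerFamily p A θ := by
  obtain ⟨hs, hp, hinv, hcen⟩ := hU
  have e : ↥U ≃* ↥(U.map (MulAut.conj c).toMonoidHom) :=
    U.equivMapOfInjective _ (MulAut.conj c).injective
  refine ⟨?_, ?_, ?_, ?_⟩
  · exact Group.isSolvable_of_isSolvable_injective (f := e.symm.toMonoidHom) e.symm.injective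
  · rw [← Nat.card_congr e.toEquiv]; exact hp
  · rintro b hb _ ⟨u, hu, rfl⟩
    refine ⟨b * u * b⁻¹, hinv b hb u hu, ?_⟩
    have h1 := signalizerInf_commute hθ hc hb
    show c * (b * u * b⁻¹) * c⁻¹ = b * (c * u * c⁻¹) * b⁻¹
    have h2 : c⁻¹ * b⁻¹ = b⁻¹ * c⁻¹ := by
      rw [← mul_inv_rev, ← mul_inv_rev, h1]
    calc c * (b * u * b⁻¹) * c⁻¹ = (c * b) * u * (b⁻¹ * c⁻¹) := by group
      _ = (b * c) * u * (c⁻¹ * b⁻¹) := by rw [h1, h2]
      _ = b * (c * u * c⁻¹) * b⁻¹ := by group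
  · rintro a ha ha1 x ⟨⟨u, hu, rfl⟩, hxa⟩
    have hca : c ∈ θ a := mem_signalizerInf_iff.1 hc a ha ha1
    have h1 := signalizerInf_commute hθ hc ha
    have hxa2 : c * u * c⁻¹ ∈ Subgroup.centralizer {a} := hxa
    rw [Subgroup.mem_centralizer_singleton_iff] at hxa2
    have hxa' : a * (c * u * c⁻¹) = (c * u * c⁻¹) * a := hxa2.symm
    have hua : u ∈ U ⊓ Subgroup.centralizer {a} := by
      refine ⟨hu, ?_⟩
      show u ∈ Subgroup.centralizer {a}
      rw [Subgroup.mem_centralizer_singleton_iff]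
      have h2 : c⁻¹ * a = a * c⁻¹ := by
        have : c⁻¹ * (c * a) * c⁻¹ = c⁻¹ * (a * c) * c⁻¹ := by rw [h1]
        simpa [mul_assoc] using this.symm
      symm
      calc a * u = c⁻¹ * (a * (c * u * c⁻¹)) * c := by
            rw [show a * (c * u * c⁻¹) = (a * c) * u * c⁻¹ by group, ← h1]; group
        _ = c⁻¹ * ((c * u * c⁻¹) * a) * c := by rw [hxa']
        _ = u * (c⁻¹ * a) * c := by group
        _ = u * (a * c⁻¹) * c := by rw [h2]
        _ = u * a := by group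
    have := hcen a ha ha1 hua
    show c * u * c⁻¹ ∈ θ a
    exact mul_mem (mul_mem hca this) (inv_mem hca)

/-- For a solvable signalizer functor each `θ a` belongs to the family. -/
theorem theta_mem_signalizerFamily (hθ : IsSolvableSignalizerFunctor p A θ) {a : G} (ha : a ∈ A)
    (ha1 : a ≠ 1) : θ a ∈ signalizerFamily p A θ :=
  ⟨hθ.2 a ha ha1, hθ.1.2.1 a ha ha1, hθ.1.2.2.1 a ha ha1,
    fun b hb hb1 => hθ.1.2.2.2 a ha ha1 b hb hb1⟩

end Signalizer

section Product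

variable {G : Type*} [Group G] [Finite G] {p : ℕ} [hp : Fact p.Prime] {A : Subgroup G}
  {θ : G → Subgroup G}

omit [Finite G] in
/-- A non-identity element of exponent `p` generates a group of order `p`. -/
theorem card_zpowers_of_pow_eq_one {b : G} (hb : b ^ p = 1) (hb1 : b ≠ 1) :
    Nat.card ↥(Subgroup.zpowers b) = p := by
  rw [Nat.card_zpowers]
  rcases (Nat.dvd_prime hp.out).1 (orderOf_dvd_of_pow_eq_one hb) with h | h
  · exact absurd (orderOf_eq_one_iff.1 h) hb1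
  · exact h

/-- The product `H D` of an `A`-invariant subgroup `H ≤ θ a` normalizing a member `D` of the family
is a member of the family. -/
theorem signalizerFamily_sup (hθ : IsSolvableSignalizerFunctor p A θ)
    (hAp : ∀ a ∈ A, a ^ p = 1) {a : G} (ha : a ∈ A) (ha1 : a ≠ 1) {H D : Subgroup G}
    (hH : H ≤ θ a) (hAH : A ≤ Subgroup.normalizer (H : Set G))
    (hD : D ∈ signalizerFamily p A θ) (hHD : H ≤ Subgroup.normalizer (D : Set G)) :
    H ⊔ D ∈ signalizerFamily p A θ := by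
  obtain ⟨hDs, hDp, hDinv, hDc⟩ := hD
  have hAD : A ≤ Subgroup.normalizer (D : Set G) := le_normalizer_of_conj_mem hDinv
  have hHs : Group.IsSolvable ↥H :=
    @Group.isSolvable_of_isSolvable_injective _ _ _ _ (Subgroup.inclusion hH)
      (Subgroup.inclusion_injective hH) (hθ.2 a ha ha1)
  have hHp : ¬ p ∣ Nat.card ↥H :=
    fun h => hθ.1.2.1 a ha ha1 (h.trans (Subgroup.card_dvd_of_le hH))
  have hKs : Group.IsSolvable ↥(H ⊔ D : Subgroup G) := by
    rw [sup_comm]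
    exact Cfsg.Agent.Lib.Helper22.isSolvable_sup_of_le_normalizer hHD hDs hHs
  have hKp : ¬ p ∣ Nat.card ↥(H ⊔ D : Subgroup G) := by
    intro h
    have h1 : Nat.card ↥(D ⊔ H : Subgroup G) ∣ Nat.card ↥D * Nat.card ↥H :=
      Cfsg.Agent.Lib.Helper22.card_sup_dvd_mul_of_le_normalizer hHD
    rw [sup_comm] at h
    rcases (Nat.Prime.dvd_mul hp.out).1 (h.trans h1) with h2 | h2
    · exact hDp h2
    · exact hHp h2
  have hAK : A ≤ Subgroup.normalizer ((H ⊔ D : Subgroup G) : Set G) :=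
    fun x hx => normalizer_inf_le_normalizer_sup H D ⟨hAH hx, hAD hx⟩
  refine ⟨hKs, hKp, conj_mem_of_le_normalizer hAK, ?_⟩
  intro b hb hb1 k hk
  have hbz : ∀ {U : Subgroup G}, A ≤ Subgroup.normalizer (U : Set G) →
      Subgroup.zpowers b ≤ Subgroup.normalizer (U : Set G) := by
    intro U hU
    rw [Subgroup.zpowers_le]
    exact hU hb
  have hcop : (Nat.card ↥(Subgroup.zpowers b)).Coprime (Nat.card ↥(H ⊔ D : Subgroup G)) := by
    rw [card_zpowers_of_pow_eq_one (hAp b hb) hb1]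
    exact (Nat.Prime.coprime_iff_not_dvd hp.out).2 hKp
  have hXY : ∀ k ∈ H ⊔ D, ∃ x ∈ H, ∃ y ∈ D, k = x * y := by
    intro k hk
    have hk' : k ∈ ((H ⊔ D : Subgroup G) : Set G) := hk
    rw [Subgroup.coe_mul_of_left_le_normalizer_right H D hHD] at hk'
    obtain ⟨x, hx, y, hy, rfl⟩ := Set.mem_mul.mp hk'
    exact ⟨x, hx, y, hy, rfl⟩
  have hk2 : k ∈ (H ⊔ D) ⊓ Subgroup.centralizer ((Subgroup.zpowers b : Subgroup G) : Set G) := by
    rw [sgz_centralizer_zpowers_eq]; exact hk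
  obtain ⟨x, hx, y, hy, rfl⟩ := Cfsg.Agent.S0030.result (Subgroup.zpowers b) (H ⊔ D) (hbz hAK) hcop
    (Or.inr hKs) H D le_sup_left le_sup_right (hbz hAH) (hbz hAD) hXY k hk2
  rw [sgz_centralizer_zpowers_eq] at hx hy
  have hxb : x ∈ θ b := hθ.1.2.2.2 a ha ha1 b hb hb1 ⟨hH hx.1, hx.2⟩
  have hyb : y ∈ θ b := hDc b hb hb1 hy
  exact mul_mem hxb hyb

omit hp in
/-- Every `q`-member of the family lies in a maximal one. -/
theorem exists_maximal_q_member (q : ℕ) :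
    ∀ (n : ℕ) {S : Subgroup G}, S ∈ signalizerFamily p A θ → IsPGroup q ↥S →
      Nat.card G - Nat.card ↥S ≤ n →
      ∃ P ∈ signalizerFamily p A θ, IsPGroup q ↥P ∧ S ≤ P ∧
        ∀ R ∈ signalizerFamily p A θ, IsPGroup q ↥R → P ≤ R → R = P := by
  intro n
  induction n with
  | zero =>
    intro S hS hSq hn
    refine ⟨S, hS, hSq, le_rfl, ?_⟩
    intro R _ _ hSR
    have h1 : Nat.card ↥R ≤ Nat.card G := Subgroup.card_le_card_group R
    have h2 : Nat.card ↥S ≤ Nat.card ↥R := Subgroup.card_le_of_le hSR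
    exact (Subgroup.eq_of_le_of_card_ge hSR (by omega)).symm
  | succ n ih =>
    intro S hS hSq hn
    by_cases hmax : ∀ R ∈ signalizerFamily p A θ, IsPGroup q ↥R → S ≤ R → R = S
    · exact ⟨S, hS, hSq, le_rfl, hmax⟩
    · push Not at hmax
      obtain ⟨R, hR, hRq, hSR, hne⟩ := hmax
      have hlt : Nat.card ↥S < Nat.card ↥R := by
        by_contra hle
        exact hne (Subgroup.eq_of_le_of_card_ge hSR (not_lt.1 hle)).symm
      have h1 : Nat.card ↥R ≤ Nat.card G := Subgroup.card_le_card_group R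
      obtain ⟨P, hP, hPq, hRP, hPmax⟩ := ih hR hRq (by omega)
      exact ⟨P, hP, hPq, hSR.trans hRP, hPmax⟩

omit [Finite G] hp in
open scoped Pointwise in
/-- Conjugation inside a subgroup `K`, transported to the ambient group. -/
theorem map_subtype_conj_smul {K : Subgroup G} (c : ↥K) (P : Subgroup ↥K) :
    (MulAut.conj c • P).map K.subtype =
      (P.map K.subtype).map (MulAut.conj (c : G)).toMonoidHom := by
  ext x
  constructor
  · rintro ⟨y, hy, rfl⟩
    obtain ⟨t, ht, rfl⟩ := (Subgroup.mem_smul_pointwise_iff_exists _ _ _).mp hy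
    exact ⟨t, ⟨t, ht, rfl⟩, rfl⟩
  · rintro ⟨_, ⟨t, ht, rfl⟩, rfl⟩
    refine ⟨MulAut.conj c • t, ?_, rfl⟩
    exact Subgroup.smul_mem_pointwise_smul _ _ _ ht

end Product

section Transitivity

variable {G : Type*} [Group G] {p : ℕ} {A : Subgroup G} {θ : G → Subgroup G}

theorem le_normalizer_inf {A U V : Subgroup G} (hU : A ≤ Subgroup.normalizer (U : Set G))
    (hV : A ≤ Subgroup.normalizer (V : Set G)) :
    A ≤ Subgroup.normalizer ((U ⊓ V : Subgroup G) : Set G) := by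
  intro a ha
  have h1 := hU ha
  have h2 := hV ha
  rw [Subgroup.mem_normalizer_iff] at h1 h2 ⊢
  intro h
  rw [Subgroup.mem_inf, Subgroup.mem_inf, ← h1 h, ← h2 h]

/-- `Q` is maximal among the `q`-subgroups in the family of `θ`. -/
def IsMaxQMember (p : ℕ) (A : Subgroup G) (θ : G → Subgroup G) (q : ℕ) (Q : Subgroup G) : Prop :=
  Q ∈ signalizerFamily p A θ ∧ IsPGroup q ↥Q ∧
    ∀ R ∈ signalizerFamily p A θ, IsPGroup q ↥R → Q ≤ R → R = Q

/-- Conjugacy under `θ(C_G(A))`. -/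
def SigConj (A : Subgroup G) (θ : G → Subgroup G) (Q Q' : Subgroup G) : Prop :=
  ∃ c ∈ signalizerInf A θ, Q.map (MulAut.conj c).toMonoidHom = Q'

theorem map_conj_map_conj (Q : Subgroup G) (c d : G) :
    (Q.map (MulAut.conj c).toMonoidHom).map (MulAut.conj d).toMonoidHom =
      Q.map (MulAut.conj (d * c)).toMonoidHom := by
  ext x
  rw [mem_map_conj, mem_map_conj, mem_map_conj]
  have : c⁻¹ * (d⁻¹ * x * d) * c = (d * c)⁻¹ * x * (d * c) := by group
  rw [this]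

theorem sgz_map_conj_one (Q : Subgroup G) : Q.map (MulAut.conj (1 : G)).toMonoidHom = Q := by
  ext x
  rw [mem_map_conj]
  simp

theorem SigConj.refl (Q : Subgroup G) : SigConj A θ Q Q :=
  ⟨1, one_mem _, sgz_map_conj_one Q⟩

theorem SigConj.of_mem {c : G} (hc : c ∈ signalizerInf A θ) (Q : Subgroup G) :
    SigConj A θ Q (Q.map (MulAut.conj c).toMonoidHom) :=
  ⟨c, hc, rfl⟩

theorem SigConj.symm {Q Q' : Subgroup G} (h : SigConj A θ Q Q') : SigConj A θ Q' Q := by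
  obtain ⟨c, hc, rfl⟩ := h
  refine ⟨c⁻¹, inv_mem hc, ?_⟩
  rw [map_conj_map_conj, inv_mul_cancel, sgz_map_conj_one]

theorem SigConj.trans {Q Q' Q'' : Subgroup G} (h : SigConj A θ Q Q') (h' : SigConj A θ Q' Q'') :
    SigConj A θ Q Q'' := by
  obtain ⟨c, hc, rfl⟩ := h
  obtain ⟨d, hd, rfl⟩ := h'
  exact ⟨d * c, mul_mem hd hc, (map_conj_map_conj Q c d).symm⟩

/-- Conjugates of maximal `q`-members under `θ(C_G(A))` are maximal `q`-members. -/
theorem IsMaxQMember.conj [Finite G] (hθ : IsSignalizerFunctor p A θ) {q : ℕ} {c : G}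
    (hc : c ∈ signalizerInf A θ) {Q : Subgroup G} (hQ : IsMaxQMember p A θ q Q) :
    IsMaxQMember p A θ q (Q.map (MulAut.conj c).toMonoidHom) := by
  refine ⟨signalizerFamily_conj hθ hc hQ.1, hQ.2.1.map _, ?_⟩
  intro R hR hRq hle
  have hR' := signalizerFamily_conj hθ (inv_mem hc) hR
  have hle' : Q ≤ R.map (MulAut.conj c⁻¹).toMonoidHom := by
    have := Subgroup.map_mono (f := (MulAut.conj c⁻¹).toMonoidHom) hle
    rwa [map_conj_map_conj, inv_mul_cancel, sgz_map_conj_one] at this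
  have h := hQ.2.2 _ hR' (hRq.map _) hle'
  rw [← h, map_conj_map_conj, mul_inv_cancel, sgz_map_conj_one]

variable [Finite G] [hp : Fact p.Prime]

/-- **Transitivity Theorem** (inductive form). -/
theorem transitivity_aux (hA : IsElementaryAbelian p A) (hA3 : p ^ 3 ≤ Nat.card ↥A)
    (hθ : IsSolvableSignalizerFunctor p A θ) (q : ℕ) [hq : Fact q.Prime] :
    ∀ (m : ℕ) (Q₁ Q₂ : Subgroup G), IsMaxQMember p A θ q Q₁ → IsMaxQMember p A θ q Q₂ →
      Nat.card G - Nat.card ↥(Q₁ ⊓ Q₂ : Subgroup G) = m → SigConj A θ Q₁ Q₂ := by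
  intro m
  induction m using Nat.strong_induction_on with
  | _ m ih =>
  intro Q₁ Q₂ hQ₁ hQ₂ hm
  by_cases hD₁ : Q₁ ⊓ Q₂ = Q₁
  · have hle : Q₁ ≤ Q₂ := inf_eq_left.1 hD₁
    have := hQ₁.2.2 Q₂ hQ₂.1 hQ₂.2.1 hle
    rw [this]; exact SigConj.refl _
  by_cases hD₂ : Q₁ ⊓ Q₂ = Q₂
  · have hle : Q₂ ≤ Q₁ := inf_eq_right.1 hD₂
    have := hQ₂.2.2 Q₁ hQ₁.1 hQ₁.2.1 hle
    rw [this]; exact SigConj.refl _
  have hqp : q ≠ p := by
    rintro rfl
    obtain ⟨k, hk⟩ := IsPGroup.iff_card.1 hQ₁.2.1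
    have hnd := hQ₁.1.2.1
    have hk0 : k = 0 := by
      by_contra h0
      apply hnd; rw [hk]; exact dvd_pow_self q h0
    rw [hk0, pow_zero] at hk
    have hbot : Q₁ = ⊥ := Subgroup.card_eq_one.1 hk
    apply hD₁; rw [hbot]; exact bot_inf_eq _
  have hAQ₁ := le_normalizer_of_conj_mem hQ₁.1.2.2.1
  have hAQ₂ := le_normalizer_of_conj_mem hQ₂.1.2.2.1
  obtain ⟨a, haA, ha1, hM₁, hM₂⟩ := Cfsg.Agent.S1282.result p A hA hA3 q hqp Q₁ Q₂ hQ₁.2.1 hQ₂.2.1
    hAQ₁ hAQ₂ hD₁ hD₂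
  have hcomm : ∀ x ∈ A, ∀ y ∈ A, x * y = y * x := by
    intro x hx y hy
    have := hA.1
    exact congrArg Subtype.val (mul_comm' (⟨x, hx⟩ : ↥A) ⟨y, hy⟩)
  have hAD : A ≤ Subgroup.normalizer ((Q₁ ⊓ Q₂ : Subgroup G) : Set G) := le_normalizer_inf hAQ₁ hAQ₂
  have hDfam : Q₁ ⊓ Q₂ ∈ signalizerFamily p A θ := signalizerFamily_of_le hQ₁.1 inf_le_left hAD
  have hAθ : A ≤ Subgroup.normalizer ((θ a : Subgroup G) : Set G) :=
    le_normalizer_of_conj_mem (hθ.1.2.2.1 a haA ha1)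
  have hAND : A ≤ Subgroup.normalizer
      ((Subgroup.normalizer ((Q₁ ⊓ Q₂ : Subgroup G) : Set G) : Subgroup G) : Set G) :=
    fun x hx => Subgroup.le_normalizer (hAD hx)
  have hACa : A ≤ Subgroup.normalizer ((Subgroup.centralizer {a} : Subgroup G) : Set G) := by
    intro x hx
    apply Subgroup.le_normalizer
    rw [Subgroup.mem_centralizer_singleton_iff]
    exact hcomm x hx a haA
  have hAH : A ≤ Subgroup.normalizer
      ((θ a ⊓ Subgroup.normalizer ((Q₁ ⊓ Q₂ : Subgroup G) : Set G) : Subgroup G) : Set G) :=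
    le_normalizer_inf hAθ hAND
  have hW : (θ a ⊓ Subgroup.normalizer ((Q₁ ⊓ Q₂ : Subgroup G) : Set G)) ⊔ (Q₁ ⊓ Q₂) ∈
      signalizerFamily p A θ :=
    signalizerFamily_sup hθ hA.2 haA ha1 inf_le_left hAH hDfam inf_le_right
  set W := (θ a ⊓ Subgroup.normalizer ((Q₁ ⊓ Q₂ : Subgroup G) : Set G)) ⊔ (Q₁ ⊓ Q₂) with hWdef
  have key : ∀ Q : Subgroup G, IsMaxQMember p A θ q Q → Q₁ ⊓ Q₂ ≤ Q →
      A ≤ Subgroup.normalizer (Q : Set G) →
      ¬ (Subgroup.normalizer ((Q₁ ⊓ Q₂ : Subgroup G) : Set G) ⊓ Q ⊓ Subgroup.centralizer {a} ≤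
        Q₁ ⊓ Q₂) →
      ∃ R : Subgroup G, R ≤ W ∧ R ≤ Q ∧ IsPGroup q ↥R ∧ A ≤ Subgroup.normalizer (R : Set G) ∧
        Nat.card ↥(Q₁ ⊓ Q₂ : Subgroup G) < Nat.card ↥R := by
    intro Q hQ hDQ hAQ hM
    have hRQ : (Subgroup.normalizer ((Q₁ ⊓ Q₂ : Subgroup G) : Set G) ⊓ Q ⊓
        Subgroup.centralizer {a}) ⊔ (Q₁ ⊓ Q₂) ≤ Q := sup_le (inf_le_left.trans inf_le_right) hDQ
    refine ⟨(Subgroup.normalizer ((Q₁ ⊓ Q₂ : Subgroup G) : Set G) ⊓ Q ⊓ Subgroup.centralizer {a}) ⊔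
      (Q₁ ⊓ Q₂), ?_, hRQ, hQ.2.1.to_le hRQ, ?_, ?_⟩
    · apply sup_le _ le_sup_right
      refine le_trans ?_ le_sup_left
      apply le_inf
      · intro x hx
        exact hQ.1.2.2.2 a haA ha1 ⟨hx.1.2, hx.2⟩
      · exact inf_le_left.trans inf_le_left
    · intro x hx
      exact normalizer_inf_le_normalizer_sup _ _
        ⟨le_normalizer_inf (le_normalizer_inf hAND hAQ) hACa hx, hAD hx⟩
    · by_contra hle
      rw [not_lt] at hle
      have heq := Subgroup.eq_of_le_of_card_ge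
        (le_sup_right : Q₁ ⊓ Q₂ ≤ (Subgroup.normalizer ((Q₁ ⊓ Q₂ : Subgroup G) : Set G) ⊓ Q ⊓
          Subgroup.centralizer {a}) ⊔ (Q₁ ⊓ Q₂)) hle
      apply hM
      conv_rhs => rw [heq]
      exact le_sup_left
  obtain ⟨R₁, hR₁W, hR₁Q, hR₁q, hAR₁, hcard₁⟩ := key Q₁ hQ₁ inf_le_left hAQ₁ hM₁
  obtain ⟨R₂, hR₂W, hR₂Q, hR₂q, hAR₂, hcard₂⟩ := key Q₂ hQ₂ inf_le_right hAQ₂ hM₂
  have hAW : A ≤ Subgroup.normalizer (W : Set G) := le_normalizer_of_conj_mem hW.2.2.1
  have hcopW : (Nat.card ↥A).Coprime (Nat.card ↥W) := by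
    have hAp : IsPGroup p ↥A := by
      intro x
      refine ⟨1, ?_⟩
      rw [pow_one]
      exact Subtype.ext (by simpa using hA.2 x.1 x.2)
    obtain ⟨k, hk⟩ := IsPGroup.iff_card.1 hAp
    rw [hk]
    apply Nat.Coprime.pow_left
    exact (Nat.Prime.coprime_iff_not_dvd hp.out).2 hW.2.1
  obtain ⟨S₁, hR₁S, hAS₁⟩ := Cfsg.Agent.S0025.result A W hAW hcopW (Or.inr hW.1) q R₁ hR₁W hR₁q hAR₁
  obtain ⟨S₂, hR₂S, hAS₂⟩ := Cfsg.Agent.S0025.result A W hAW hcopW (Or.inr hW.1) q R₂ hR₂W hR₂q hAR₂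
  obtain ⟨c, hcA, hcS⟩ := Cfsg.Agent.S0024.result A W hAW hcopW (Or.inr hW.1) q S₁ S₂ hAS₁ hAS₂
  have hcΘ : (c : G) ∈ signalizerInf A θ := by
    rw [mem_signalizerInf_iff]
    intro b hb hb1
    apply hW.2.2.2 b hb hb1
    refine ⟨c.2, ?_⟩
    exact Subgroup.centralizer_le (Set.singleton_subset_iff.2 hb) hcA
  have hT₁fam : (S₁ : Subgroup ↥W).map W.subtype ∈ signalizerFamily p A θ :=
    signalizerFamily_of_le hW (Subgroup.map_subtype_le _) hAS₁
  have hT₂fam : (S₂ : Subgroup ↥W).map W.subtype ∈ signalizerFamily p A θ :=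
    signalizerFamily_of_le hW (Subgroup.map_subtype_le _) hAS₂
  have hT₂eq : (S₂ : Subgroup ↥W).map W.subtype =
      ((S₁ : Subgroup ↥W).map W.subtype).map (MulAut.conj (c : G)).toMonoidHom := by
    rw [← map_subtype_conj_smul, ← hcS, Sylow.pointwise_smul_def]
  obtain ⟨P₁, hP₁fam, hP₁q, hT₁P₁, hP₁max⟩ :=
    exists_maximal_q_member q _ hT₁fam (S₁.isPGroup'.map _) le_rfl
  obtain ⟨P₂, hP₂fam, hP₂q, hT₂P₂, hP₂max⟩ :=
    exists_maximal_q_member q _ hT₂fam (S₂.isPGroup'.map _) le_rfl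
  have hP₁ : IsMaxQMember p A θ q P₁ := ⟨hP₁fam, hP₁q, hP₁max⟩
  have hP₂ : IsMaxQMember p A θ q P₂ := ⟨hP₂fam, hP₂q, hP₂max⟩
  have hle : ∀ X : Subgroup G, Nat.card ↥X ≤ Nat.card G := fun X => Subgroup.card_le_card_group X
  have e1 : SigConj A θ Q₁ P₁ := by
    refine ih (Nat.card G - Nat.card ↥(Q₁ ⊓ P₁ : Subgroup G)) ?_ Q₁ P₁ hQ₁ hP₁ rfl
    have h1 : Nat.card ↥R₁ ≤ Nat.card ↥(Q₁ ⊓ P₁ : Subgroup G) :=
      Subgroup.card_le_of_le (le_inf hR₁Q (hR₁S.trans hT₁P₁))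
    have h2 := hle (Q₁ ⊓ P₁)
    omega
  have e2 : SigConj A θ Q₂ P₂ := by
    refine ih (Nat.card G - Nat.card ↥(Q₂ ⊓ P₂ : Subgroup G)) ?_ Q₂ P₂ hQ₂ hP₂ rfl
    have h1 : Nat.card ↥R₂ ≤ Nat.card ↥(Q₂ ⊓ P₂ : Subgroup G) :=
      Subgroup.card_le_of_le (le_inf hR₂Q (hR₂S.trans hT₂P₂))
    have h2 := hle (Q₂ ⊓ P₂)
    omega
  have hP₁c : IsMaxQMember p A θ q (P₁.map (MulAut.conj (c : G)).toMonoidHom) :=
    IsMaxQMember.conj hθ.1 hcΘ hP₁
  have e3 : SigConj A θ (P₁.map (MulAut.conj (c : G)).toMonoidHom) P₂ := by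
    refine ih (Nat.card G - Nat.card ↥(P₁.map (MulAut.conj (c : G)).toMonoidHom ⊓ P₂ : Subgroup G))
      ?_ _ P₂ hP₁c hP₂ rfl
    have h0 : (S₂ : Subgroup ↥W).map W.subtype ≤ P₁.map (MulAut.conj (c : G)).toMonoidHom ⊓ P₂ := by
      refine le_inf ?_ hT₂P₂
      rw [hT₂eq]
      exact Subgroup.map_mono hT₁P₁
    have h1 : Nat.card ↥R₂ ≤
        Nat.card ↥(P₁.map (MulAut.conj (c : G)).toMonoidHom ⊓ P₂ : Subgroup G) :=
      Subgroup.card_le_of_le (hR₂S.trans h0)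
    have h2 := hle (P₁.map (MulAut.conj (c : G)).toMonoidHom ⊓ P₂)
    omega
  exact e1.trans ((SigConj.of_mem hcΘ P₁).trans (e3.trans e2.symm))

/-- **Transitivity Theorem**: two maximal `q`-members of the family of a solvable `A`-signalizer
functor (`A` elementary abelian of rank at least 3) are conjugate under `θ(C_G(A))`. -/
theorem transitivity (hA : IsElementaryAbelian p A) (hA3 : p ^ 3 ≤ Nat.card ↥A)
    (hθ : IsSolvableSignalizerFunctor p A θ) (q : ℕ) [Fact q.Prime] {Q₁ Q₂ : Subgroup G}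
    (h₁ : IsMaxQMember p A θ q Q₁) (h₂ : IsMaxQMember p A θ q Q₂) : SigConj A θ Q₁ Q₂ :=
  transitivity_aux hA hA3 hθ q _ Q₁ Q₂ h₁ h₂ rfl

end Transitivity

end Cfsg.Agent.Lib.Helper23
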