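/-
helper23: module S2283-[FG] of helper13's sheet: an element of a finite field not fixed by any
proper "Frobenius power" generates the field.
-/
import Mathlib

set_option autoImplicit false

namespace Cfsg.Agent.Lib.Helper23.SU3G

variable {F : Type*} [Field F]

theorem closure_eq_top_of_pow_ne [Fintype F] (κ : F)
    (h : ∀ c m : ℕ, 2 ≤ c → 2 ≤ m → c ^ m = Fintype.card F → κ ^ c ≠ κ) :
    Subfield.closure ({κ} : Set F) = ⊤ := by
  classical
  set K : Subfield F := Subfield.closure ({κ} : Set F) with hK
  have hκK : κ ∈ K := Subfield.subset_closure (Set.mem_singleton κ)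
  have hc2 : 2 ≤ Fintype.card K := Fintype.one_lt_card
  have hcard : Fintype.card F = Fintype.card K ^ Module.finrank K F :=
    Module.card_eq_pow_finrank (K := K) (V := F)
  have hm0 : Module.finrank K F ≠ 0 := by
    intro h0
    rw [h0, pow_zero] at hcard
    have : 1 < Fintype.card F := Fintype.one_lt_card
    omega
  by_cases hm1 : Module.finrank K F = 1
  · rw [hm1, pow_one] at hcard
    have hbij := (Fintype.bijective_iff_injective_and_card K.subtype).mpr
      ⟨Subtype.val_injective, hcard.symm⟩
    rw [eq_top_iff]
    intro x _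
    obtain ⟨y, rfl⟩ := hbij.2 x
    exact y.2
  · exfalso
    have hm2 : 2 ≤ Module.finrank K F := by omega
    apply h (Fintype.card K) (Module.finrank K F) hc2 hm2 hcard.symm
    have := FiniteField.pow_card (⟨κ, hκK⟩ : K)
    have h2 := congrArg (fun x : K => (x : F)) this
    simpa using h2

end Cfsg.Agent.Lib.Helper23.SU3G
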