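/-
helper23: module S2283-[REG] of helper13's sheet: `uM σ a b` is regular unipotent
(`(u - 1)^3 = 0`, `(u - 1)^2 ≠ 0` for `a ≠ 0`).
-/
import Mathlib
import Cfsg.Agent.Lib.Helper13.SU3GDefs

set_option autoImplicit false

namespace Cfsg.Agent.Lib.Helper23.SU3G

open Matrix
open Cfsg.Agent.Lib.Helper13.SU3G

variable {F : Type*} [Field F]

theorem uM_sub_one_nilp (σ : F →+* F) (a b : F) : IsNilpotent (uM σ a b - 1) := by
  refine ⟨3, ?_⟩
  ext i j
  fin_cases i <;> fin_cases j <;>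
    simp [uM, pow_succ, Matrix.mul_apply, Fin.sum_univ_three, Matrix.one_apply]

theorem uM_sub_one_sq_ne (σ : F →+* F) (hσ2 : ∀ x, σ (σ x) = x) (a b : F) (ha : a ≠ 0) :
    (uM σ a b - 1) ^ 2 ≠ 0 := by
  intro h
  have h02 := congrFun (congrFun h 0) 2
  have hσa : σ a ≠ 0 := (map_ne_zero σ).mpr ha
  simp [uM, pow_succ, Matrix.mul_apply, Fin.sum_univ_three, Matrix.one_apply] at h02
  exact ha h02

end Cfsg.Agent.Lib.Helper23.SU3G
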