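/-
helper23: module S2283-[HILB] of helper13's sheet: additive Hilbert 90 and trace surjectivity for
an involution of a field.
-/
import Mathlib

set_option autoImplicit false

namespace Cfsg.Agent.Lib.Helper23.SU3G

variable {F : Type*} [Field F]

/-- an element of non-zero trace -/
theorem exists_trace_ne_zero (σ : F →+* F) (hσ : σ ≠ RingHom.id F) :
    ∃ y : F, y + σ y ≠ 0 := by
  by_contra hall
  simp only [not_exists, not_not] at hall
  apply hσ
  have h1 : (1 : F) + 1 = 0 := by
    have := hall 1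
    rwa [map_one] at this
  ext y
  have h2 : y + y = 0 := by
    have : y + y = y * (1 + 1) := by ring
    rw [this, h1, mul_zero]
  have h3 := hall y
  rw [RingHom.id_apply]
  have : σ y - y = (y + σ y) - (y + y) := by ring
  rw [h3, h2, sub_zero] at this
  exact sub_eq_zero.mp this

theorem exists_sub_eq (σ : F →+* F) (hσ : σ ≠ RingHom.id F) (hσ2 : ∀ x, σ (σ x) = x)
    (t : F) (ht : t + σ t = 0) : ∃ x : F, x - σ x = t := by
  obtain ⟨y, hy⟩ := exists_trace_ne_zero σ hσ
  have hτ : σ (y + σ y) = y + σ y := by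
    rw [map_add, hσ2, add_comm]
  have hσt : σ t = -t := by
    have : σ t = (t + σ t) - t := by ring
    rw [this, ht, zero_sub]
  refine ⟨t * y / (y + σ y), ?_⟩
  rw [map_div₀, map_mul, hτ, hσt]
  field_simp
  ring

theorem exists_trace_eq (σ : F →+* F) (hσ : σ ≠ RingHom.id F) (hσ2 : ∀ x, σ (σ x) = x)
    (r : F) (hr : σ r = r) : ∃ y : F, y + σ y = r := by
  obtain ⟨y, hy⟩ := exists_trace_ne_zero σ hσ
  have hτ : σ (y + σ y) = y + σ y := by
    rw [map_add, hσ2, add_comm]
  refine ⟨r * y / (y + σ y), ?_⟩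
  rw [map_div₀, map_mul, hτ, hr]
  field_simp

end Cfsg.Agent.Lib.Helper23.SU3G
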