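/-
helper23: module BP-[L2-FIN] of helper92's sheet (Broué–Puig project): the fixed-point algebra
`A^Q` of the group algebra `A = R[G]` is module-finite and torsion-free.
-/
import Mathlib
import Cfsg.Agent.Lib.Helper92.BPGAlg

set_option autoImplicit false

namespace Cfsg.Agent.Lib.Helper23.BP

open Cfsg.Agent.Lib.Helper92.BP

section
variable {R : Type*} [CommRing R] {G : Type*} [Group G]

theorem coeff_of_mul' (g x : G) (a : MonoidAlgebra R G) :
    (MonoidAlgebra.of R G g * a).coeff x = a.coeff (g⁻¹ * x) := by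
  rw [MonoidAlgebra.of_apply, MonoidAlgebra.coeff_single_mul_apply, one_mul]

theorem coeff_mul_of' (g x : G) (a : MonoidAlgebra R G) :
    (a * MonoidAlgebra.of R G g).coeff x = a.coeff (x * g⁻¹) := by
  rw [MonoidAlgebra.of_apply, MonoidAlgebra.coeff_mul_single_apply, mul_one]

/-- membership in `A^Q` in terms of coefficients (local copy; the sheet's `mem_fixedAlg_iff_coeff`
belongs to module [L2-CONJ]) -/
theorem mem_fixedAlg_iff_coeff_conj (Q : Subgroup G) (a : MonoidAlgebra R G) :
    a ∈ fixedAlg R Q ↔ ∀ q ∈ Q, ∀ x : G, a.coeff (q * x * q⁻¹) = a.coeff x := by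
  unfold fixedAlg
  rw [Subalgebra.mem_centralizer_iff]
  constructor
  · intro h q hq x
    have h1 := h (MonoidAlgebra.of R G q) ⟨q, hq, rfl⟩
    have h2 := congrArg (fun y : MonoidAlgebra R G => y.coeff (q * x)) h1
    simp only [coeff_of_mul', coeff_mul_of'] at h2
    rw [← h2]
    congr 1
    group
  · rintro h _ ⟨q, hq, rfl⟩
    apply MonoidAlgebra.coeff_injective
    ext x
    rw [coeff_of_mul', coeff_mul_of']
    have h1 := h q hq (q⁻¹ * x)
    rw [← h1]
    congr 1
    group

/-- conjugacy under `Q` -/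
def conjSetoid (Q : Subgroup G) : Setoid G where
  r x y := ∃ q ∈ Q, y = q * x * q⁻¹
  iseqv :=
    { refl := fun x => ⟨1, Q.one_mem, by group⟩
      symm := by
        rintro x y ⟨q, hq, rfl⟩
        exact ⟨q⁻¹, Q.inv_mem hq, by group⟩
      trans := by
        rintro x y z ⟨q, hq, rfl⟩ ⟨q', hq', rfl⟩
        exact ⟨q' * q, Q.mul_mem hq' hq, by group⟩ }

/-- a fixed representative of the `Q`-conjugacy class of `x` -/
noncomputable def orbRep (Q : Subgroup G) (x : G) : G :=
  Quotient.out (Quotient.mk (conjSetoid Q) x)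

theorem orbRep_rel (Q : Subgroup G) (x : G) : ∃ q ∈ Q, x = q * orbRep Q x * q⁻¹ := by
  have h : (conjSetoid Q).r (orbRep Q x) x := Quotient.exact (Quotient.out_eq _)
  exact h

theorem orbRep_conj (Q : Subgroup G) {q : G} (hq : q ∈ Q) (x : G) :
    orbRep Q (q * x * q⁻¹) = orbRep Q x := by
  unfold orbRep
  congr 1
  apply Quotient.sound
  exact (conjSetoid Q).iseqv.symm ⟨q, hq, rfl⟩

variable [Finite G]

/-- the coefficientwise "value at the class representative" projection onto `A^Q` -/
noncomputable def repProj (Q : Subgroup G) (a : MonoidAlgebra R G) : MonoidAlgebra R G :=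
  MonoidAlgebra.ofCoeff (Finsupp.equivFunOnFinite.symm fun x => a.coeff (orbRep Q x))

theorem coeff_repProj (Q : Subgroup G) (a : MonoidAlgebra R G) (x : G) :
    (repProj Q a).coeff x = a.coeff (orbRep Q x) := by
  simp [repProj]

theorem repProj_mem (Q : Subgroup G) (a : MonoidAlgebra R G) : repProj Q a ∈ fixedAlg R Q := by
  rw [mem_fixedAlg_iff_coeff_conj]
  intro q hq x
  rw [coeff_repProj, coeff_repProj, orbRep_conj Q hq]

theorem repProj_of_mem (Q : Subgroup G) {a : MonoidAlgebra R G} (ha : a ∈ fixedAlg R Q) :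
    repProj Q a = a := by
  rw [mem_fixedAlg_iff_coeff_conj] at ha
  apply MonoidAlgebra.coeff_injective
  ext x
  rw [coeff_repProj]
  obtain ⟨q, hq, hx⟩ := orbRep_rel Q x
  conv_rhs => rw [hx]
  exact (ha q hq _).symm

/-- `repProj` as a linear map onto `A^Q` -/
noncomputable def repProjₗ (Q : Subgroup G) : MonoidAlgebra R G →ₗ[R] fixedAlg R Q where
  toFun a := ⟨repProj Q a, repProj_mem Q a⟩
  map_add' a b := by
    apply Subtype.ext
    apply MonoidAlgebra.coeff_injective
    ext x
    simp [coeff_repProj]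
  map_smul' r a := by
    apply Subtype.ext
    apply MonoidAlgebra.coeff_injective
    ext x
    simp [coeff_repProj]

theorem repProjₗ_surjective (Q : Subgroup G) :
    Function.Surjective (repProjₗ (R := R) Q) := by
  rintro ⟨a, ha⟩
  exact ⟨a, Subtype.ext (repProj_of_mem Q ha)⟩

/-- BP-[L2-FIN] : `A^Q` is module-finite (orbit sums span) -/
theorem finite_fixedAlg (Q : Subgroup G) : Module.Finite R (fixedAlg R Q) :=
  Module.Finite.of_surjective (repProjₗ (R := R) Q) (repProjₗ_surjective Q)

end

section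
variable {R : Type*} [CommRing R] {G : Type*} [Group G]

/-- BP-[L2-FIN] : `A^Q` is torsion-free over a domain -/
theorem noZeroSMulDivisors_fixedAlg [IsDomain R] (Q : Subgroup G) :
    NoZeroSMulDivisors R (fixedAlg R Q) := by
  constructor
  intro c x h
  by_cases hc : c = 0
  · exact Or.inl hc
  · right
    apply Subtype.ext
    apply MonoidAlgebra.coeff_injective
    ext g
    have h1 : (((c • x : fixedAlg R Q) : MonoidAlgebra R G)).coeff g = 0 := by
      rw [h]; rfl
    have h2 : (((c • x : fixedAlg R Q) : MonoidAlgebra R G)).coeff g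
        = c * (x : MonoidAlgebra R G).coeff g := rfl
    rw [h2] at h1
    exact (mul_eq_zero.mp h1).resolve_left hc

end

end Cfsg.Agent.Lib.Helper23.BP
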