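/-
helper23: module BP-[L2-BR2] of helper92's sheet (Broué–Puig project): the Brauer map `Br_Q` is
multiplicative on `A^Q` when `Q` is a `p`-group and the residue field has characteristic `p`.
-/
import Mathlib
import Cfsg.Agent.Lib.Helper92.BPGAlg
import Cfsg.Agent.Lib.Helper23.BPFixedFin

set_option autoImplicit false

namespace Cfsg.Agent.Lib.Helper23.BP

open Cfsg.Agent.Lib.Helper92.BP

section OrbitSum

/-- Weighted orbit counting in characteristic `p`: a `P`-invariant function which vanishes on the
fixed points of a `p`-group `P` has total sum `0`. -/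
theorem sum_eq_zero_of_pGroup {p : ℕ} [Fact p.Prime] {k : Type*} [CommRing k] [CharP k p]
    {P : Type*} [Group P] [Finite P] (hP : IsPGroup p P) {X : Type*} [Fintype X] [MulAction P X]
    (f : X → k) (hf : ∀ (u : P) (x : X), f (u • x) = f x)
    (h0 : ∀ x ∈ MulAction.fixedPoints P X, f x = 0) :
    ∑ x, f x = 0 := by
  classical
  have := Fintype.ofFinite P
  rw [← Finset.sum_fiberwise Finset.univ
    (Quotient.mk (MulAction.orbitRel P X) : X → MulAction.orbitRel.Quotient P X) f]
  apply Finset.sum_eq_zero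
  intro b _
  obtain ⟨x₀, rfl⟩ := Quotient.exists_rep b
  have hconst : ∀ a ∈ Finset.univ.filter (fun a : X =>
      (Quotient.mk (MulAction.orbitRel P X) a) = Quotient.mk (MulAction.orbitRel P X) x₀),
      f a = f x₀ := by
    intro a ha
    rw [Finset.mem_filter] at ha
    have h1 : a ∈ MulAction.orbit P x₀ := by
      have := Quotient.exact ha.2
      exact this
    obtain ⟨u, rfl⟩ := h1
    exact hf u x₀
  rw [Finset.sum_congr rfl hconst, Finset.sum_const, nsmul_eq_mul]
  by_cases hx : x₀ ∈ MulAction.fixedPoints P X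
  · rw [h0 x₀ hx, mul_zero]
  · have hcard : (Finset.univ.filter (fun a : X =>
        (Quotient.mk (MulAction.orbitRel P X) a) = Quotient.mk (MulAction.orbitRel P X) x₀)).card
        = Nat.card (MulAction.orbit P x₀) := by
      rw [Nat.card_eq_fintype_card, ← Set.toFinset_card]
      congr 1
      ext a
      simp only [Finset.mem_filter, Finset.mem_univ, true_and, Set.mem_toFinset]
      constructor
      · intro h; exact Quotient.exact h
      · intro h; exact Quotient.sound h
    rw [hcard]
    obtain ⟨n, hn⟩ := hP.card_orbit x₀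
    rw [hn]
    rcases Nat.eq_zero_or_pos n with rfl | hnpos
    · exfalso
      apply hx
      rw [MulAction.mem_fixedPoints_iff_card_orbit_eq_one]
      rw [← Nat.card_eq_fintype_card]
      simpa using hn
    · have hdvd : (p : ℕ) ∣ p ^ n := dvd_pow_self p hnpos.ne'
      have : ((p ^ n : ℕ) : k) = 0 := (CharP.cast_eq_zero_iff k p _).mpr hdvd
      rw [this, zero_mul]

end OrbitSum

section
variable {R : Type*} [CommRing R] {G : Type*} [Group G]

/-- coefficients of a product in a finite group algebra -/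
theorem coeff_mul_eq_sum [Fintype G] (a b : MonoidAlgebra R G) (z : G) :
    (a * b).coeff z = ∑ x : G, a.coeff x * b.coeff (x⁻¹ * z) := by
  rw [MonoidAlgebra.coeff_mul_apply_left, Finsupp.sum_fintype _ _ (by simp)]

theorem conj_mem_centralizer_of_mem {P : Subgroup G} {u x : G} (hu : u ∈ P)
    (hx : x ∈ Subgroup.centralizer (P : Set G)) :
    u * x * u⁻¹ ∈ Subgroup.centralizer (P : Set G) := by
  rw [Subgroup.mem_centralizer_iff] at hx ⊢
  intro v hv
  have h1 : u⁻¹ * v * u ∈ P := P.mul_mem (P.mul_mem (P.inv_mem hu) hv) hu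
  have h2 := hx _ h1
  calc v * (u * x * u⁻¹) = u * ((u⁻¹ * v * u) * x) * u⁻¹ := by group
    _ = u * (x * (u⁻¹ * v * u)) * u⁻¹ := by rw [h2]
    _ = u * x * u⁻¹ * v := by group

theorem conj_mem_centralizer_iff {P : Subgroup G} {u x : G} (hu : u ∈ P) :
    u * x * u⁻¹ ∈ Subgroup.centralizer (P : Set G) ↔ x ∈ Subgroup.centralizer (P : Set G) := by
  constructor
  · intro h
    have := conj_mem_centralizer_of_mem (P.inv_mem hu) h
    have e : u⁻¹ * (u * x * u⁻¹) * u⁻¹⁻¹ = x := by group
    rwa [e] at this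
  · exact conj_mem_centralizer_of_mem hu

end

section
variable {R : Type*} [CommRing R] [IsLocalRing R] {G : Type*} [Group G]

/-- coefficients of the Brauer map (local copy; the sheet's `coeff_br` belongs to [L2-BR1]) -/
theorem coeff_br' (Q : Subgroup G) (a : MonoidAlgebra R G)
    (z : Subgroup.centralizer (Q : Set G)) :
    (br R Q a).coeff z = IsLocalRing.residue R (a.coeff (z : G)) := by
  simp [br]

/-- BP-[L2-BR2] : `Br_Q` is multiplicative on `A^Q` (`Q` a `p`-group, `char k = p`) -/
theorem br_mul [Finite G] {p : ℕ} [Fact p.Prime] [CharP (IsLocalRing.ResidueField R) p]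
    {Q : Subgroup G} (hQ : IsPGroup p Q) {a b : MonoidAlgebra R G} (ha : a ∈ fixedAlg R Q)
    (hb : b ∈ fixedAlg R Q) : br R Q (a * b) = br R Q a * br R Q b := by
  classical
  have := Fintype.ofFinite G
  rw [mem_fixedAlg_iff_coeff_conj] at ha hb
  apply MonoidAlgebra.coeff_injective
  ext z
  rw [coeff_br', coeff_mul_eq_sum, coeff_mul_eq_sum, map_sum]
  simp only [coeff_br', map_mul]
  have h2 : ∑ x : Subgroup.centralizer (Q : Set G),
      IsLocalRing.residue R (a.coeff (x : G)) * IsLocalRing.residue R (b.coeff ((x⁻¹ * z :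
      Subgroup.centralizer (Q : Set G)) : G)) =
      ∑ x : G, if x ∈ Subgroup.centralizer (Q : Set G) then
        IsLocalRing.residue R (a.coeff x) * IsLocalRing.residue R (b.coeff (x⁻¹ * (z : G)))
        else 0 := by
    rw [← Finset.sum_filter]
    simp only [Subgroup.coe_mul, Subgroup.coe_inv]
    exact (Finset.sum_subtype (Finset.univ.filter (· ∈ Subgroup.centralizer (Q : Set G)))
      (by simp) (fun x : G => IsLocalRing.residue R (a.coeff x) *
        IsLocalRing.residue R (b.coeff (x⁻¹ * (z : G))))).symm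
  rw [h2, ← sub_eq_zero, ← Finset.sum_sub_distrib]
  let _ : MulAction Q G := MulAction.compHom G ((MulAut.conj : G →* MulAut G).comp Q.subtype)
  have hsmul : ∀ (u : Q) (x : G), u • x = (u : G) * x * (u : G)⁻¹ := fun u x => rfl
  have hQ' : IsPGroup p (Q : Type _) := hQ
  apply sum_eq_zero_of_pGroup hQ'
  · intro u x
    rw [hsmul]
    have hu : (u : G) ∈ Q := u.2
    have hz : (z : G) * (u : G)⁻¹ = (u : G)⁻¹ * (z : G) := by
      have := Subgroup.mem_centralizer_iff.mp z.2 ((u : G)) hu
      calc (z : G) * (u : G)⁻¹ = (u : G)⁻¹ * ((u : G) * (z : G)) * (u : G)⁻¹ := by group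
        _ = (u : G)⁻¹ * ((z : G) * (u : G)) * (u : G)⁻¹ := by rw [this]
        _ = (u : G)⁻¹ * (z : G) := by group
    have hmem : (u : G) * x * (u : G)⁻¹ ∈ Subgroup.centralizer (Q : Set G) ↔
        x ∈ Subgroup.centralizer (Q : Set G) := conj_mem_centralizer_iff hu
    have hb' : b.coeff (((u : G) * x * (u : G)⁻¹)⁻¹ * (z : G)) = b.coeff (x⁻¹ * (z : G)) := by
      rw [← hb u hu (x⁻¹ * (z : G))]
      congr 1
      calc ((u : G) * x * (u : G)⁻¹)⁻¹ * (z : G) = (u : G) * x⁻¹ * ((u : G)⁻¹ * (z : G)) := by group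
        _ = (u : G) * x⁻¹ * ((z : G) * (u : G)⁻¹) := by rw [hz]
        _ = (u : G) * (x⁻¹ * (z : G)) * (u : G)⁻¹ := by group
    rw [ha u hu x, hb']
    simp only [hmem]
  · intro x hx
    have hxC : x ∈ Subgroup.centralizer (Q : Set G) := by
      rw [Subgroup.mem_centralizer_iff]
      intro u hu
      have := hx ⟨u, hu⟩
      rw [hsmul] at this
      calc u * x = u * x * u⁻¹ * u := by group
        _ = x * u := by rw [show u * x * u⁻¹ = x from this]
    rw [if_pos hxC, sub_self]

end

end Cfsg.Agent.Lib.Helper23.BP
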