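-- helper23: PF sec.13 (helper16's S1547 path), module PF13-[TAU1MU]:
-- `τ₁(μ_ψ) = δ ∑_φ η_{φψ}` for all `ψ ≠ 1`, or `|W₂| = 3` and `τ₁(μ_ψ) = -δ ∑_φ η_{φψ⁻¹}`,
-- for the coherent set `calZ S` of one side of the pair.
-- Port of `Helper23.PFCycTau1Mu.tau1_mu` (MCtx/MFacts replaced by PSide + [ZFACTS] + [MUSUB] + [IRRORTH]).
import Mathlib
import Cfsg.Agent.Lib.Helper16.PF13Defs
import Cfsg.Agent.Lib.Helper23.PFCycTau1Mu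
import Cfsg.Agent.Lib.Helper9.PFCycMuConst
import Cfsg.Agent.Lib.Helper54.PFCycLitA

set_option autoImplicit false
set_option linter.unusedVariables false

namespace Cfsg.Agent.Lib.Helper23.PF13

open Cfsg Cfsg.Agent.Lib.Helper4.PF Cfsg.Agent.Lib.Helper74.PF127 Cfsg.Agent.Lib.Helper24.PFCyc
open Cfsg.Agent.Lib.Helper26 Cfsg.Agent.Lib.Helper16.PF13 Cfsg.Agent.Lib.Helper23.PFCycTau1Mu

universe u

variable {G : Type u} [Group G] [Fintype G] {S W₁ U W₂ : Subgroup G} [Fintype S]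
  {mu : WChar W₁ W₂ → (↥S → ℂ)} {dl : WChar W₁ W₂ → ℂ} {η : WChar W₁ W₂ → (G → ℂ)}

/-- an element of `W ∖ W₂` is not in `S'` (type-P data only) -/
theorem not_mem_der_of_mem_W' (hP : IsTypePWith S W₁ U W₂) {w : G} (hw : w ∈ W₁ ⊔ W₂)
    (hw₂ : w ∉ W₂) : w ∉ ⁅S, S⁆ := by
  intro hwK
  have hW := hP.selfNormalizing
  have hcomm := hW.2.2.2.1
  have hW₂K : W₂ ≤ ⁅S, S⁆ := (hP.W₂_le.trans inf_le_left).trans hP.U_compl.1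
  obtain ⟨a, ha, b, hb, rfl⟩ : ∃ a ∈ W₁, ∃ b ∈ W₂, w = a * b := by
    refine Cfsg.Agent.Lib.Helper3.Dade.mem_sup_decomp W₂ W₁ ?_ (by rwa [sup_comm])
    intro k hk u hu
    rw [hcomm k hk u hu, mul_inv_cancel_right]
    exact hu
  have haK : a ∈ ⁅S, S⁆ := by
    have : a = a * b * b⁻¹ := by group
    rw [this]
    exact Subgroup.mul_mem _ hwK (Subgroup.inv_mem _ (hW₂K hb))
  have ha1 : a = 1 := by
    have : a ∈ ⁅S, S⁆ ⊓ W₁ := ⟨haK, ha⟩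
    rw [hP.W₁_compl.2.2.1] at this
    exact Subgroup.mem_bot.mp this
  apply hw₂
  rw [ha1, one_mul]
  exact hb

/-- the Dade image of a class function vanishing off `S'` vanishes on `W ∖ (W₁ ∪ W₂)` -/
theorem tauM_vanish_W' (hP : IsTypePWith S W₁ U W₂)
    (hD : DadeHypothesis (litA0 S) S (supportR S))
    (α : ↥S → ℂ) (hα : IsClassFunction ↥S α)
    (hαK : ∀ m : ↥S, (m : G) ∉ ⁅S, S⁆ → α m = 0)
    (w : ↥(W₁ ⊔ W₂)) (hw₁ : (w : G) ∉ W₁) (hw₂ : (w : G) ∉ W₂) : tauM S α (w : G) = 0 := by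
  have hlit := litA0_facts hP (w : G) w.2 hw₁ hw₂ 1 (Subgroup.one_mem S)
  rw [one_mul, inv_one, mul_one] at hlit
  have hWS : W₁ ⊔ W₂ ≤ S :=
    sup_le hP.W₁_compl.2.1
      (((hP.W₂_le.trans inf_le_left).trans hP.U_compl.1).trans hP.W₁_compl.1)
  have hwS : (w : G) ∈ S := hWS w.2
  have hrel : Cfsg.Agent.Lib.Helper3.Dade.Rel (litA0 S) S (supportR S) (w : G) ⟨(w : G), hwS⟩ :=
    ⟨hlit.1, 1, 1, Subgroup.one_mem _, by simp⟩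
  have := Cfsg.Agent.Lib.Helper3.Dade.dade_eq hD hα hrel
  unfold tauM
  rw [this]
  exact hαK _ (not_mem_der_of_mem_W' hP w.2 hw₂)

/-- MODULE PF13-[TAU1MU], with the needed parts of [ZFACTS], [MUSUB], [IRRORTH] as hypotheses. -/
theorem tau1_muSum_pair_of (h : PSide S W₁ U W₂ mu dl η) {τ₁ : (↥S → ℂ) → (G → ℂ)}
    (hτ₁ : IsLinearIsometryOn (zspan (calZ S)) τ₁)
    (hext : ∀ α ∈ zspanOn (calZ S) ({1}ᶜ : Set ↥S), τ₁ α = tauM S α)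
    (ζ : ↥S → ℂ) (hζ : ζ ∈ calZ S) (hζi : IsIrrCharacter ↥S ζ)
    (δ : ℂ) (hδ : ∀ ψ : WChar W₁ W₂, TrivOn W₁ ψ → ψ ≠ 1 → dl ψ = δ)
    (hZchar : ∀ χ ∈ calZ S, IsCharacter ↥S χ)
    (hZvan : ∀ χ ∈ calZ S, ∀ x : ↥S, x ≠ 1 → (x : G) ∉ litA S → χ x = 0)
    (hZmu : ∀ ψ : WChar W₁ W₂, TrivOn W₁ ψ → ψ ≠ 1 → muSum mu ψ ∈ calZ S)
    (hMS : ∀ ψ ψ' : WChar W₁ W₂, TrivOn W₁ ψ → TrivOn W₁ ψ' → ψ ≠ 1 → ψ' ≠ 1 → ψ ≠ ψ' →
      tauM S (muSum mu ψ - muSum mu ψ') = δ • (etaSum η ψ - etaSum η ψ'))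
    (hχ : ∀ ω : WChar W₁ W₂, classInner (τ₁ ζ) (η ω) = 0) :
    (∀ ψ : WChar W₁ W₂, TrivOn W₁ ψ → ψ ≠ 1 → τ₁ (muSum mu ψ) = δ • etaSum η ψ) ∨
      (Nat.card W₂ = 3 ∧ ∀ ψ : WChar W₁ W₂, TrivOn W₁ ψ → ψ ≠ 1 →
        τ₁ (muSum mu ψ) = -(δ • etaSum η ψ⁻¹)) := by
  classical
  have F := irrFacts G
  haveI : Fintype (WChar W₁ W₂) := Fintype.ofFinite _
  have hηf := h.hη
  have hP := h.hP
  have md := h.md
  have hW : IsSelfNormalizingCyclic W₁ W₂ := hP.selfNormalizing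
  have hqc : (trivSet W₁ W₂ W₂).card = Nat.card W₁ :=
    Cfsg.Agent.Lib.Helper51.PFCyc.card_trivSet_W₂ hW
  have hpc : (trivSet W₁ W₂ W₁).card = Nat.card W₂ := card_trivSet_left hW
  have hqpos : 0 < Nat.card W₁ := Nat.card_pos
  have hWS : W₁ ⊔ W₂ ≤ S :=
    sup_le hP.W₁_compl.2.1
      (((hP.W₂_le.trans inf_le_left).trans hP.U_compl.1).trans hP.W₁_compl.1)
  have hoddS : Odd (Nat.card S) := Odd.of_dvd_nat h.hodd (Subgroup.card_subgroup_dvd_card S)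
  have hoddW : Odd (Nat.card ↥(W₁ ⊔ W₂)) :=
    Odd.of_dvd_nat h.hodd (Subgroup.card_subgroup_dvd_card _)
  have hp3 : 3 ≤ Nat.card W₂ := by
    have hoddp : Odd (Nat.card W₂) := Odd.of_dvd_nat h.hodd (Subgroup.card_subgroup_dvd_card _)
    have := h.hp.two_le
    rcases hoddp with ⟨k, hk⟩
    omega
  obtain ⟨ψ₀, hψ₀, hψ₀1⟩ := Cfsg.Agent.Lib.Helper23.PFCycX0.exists_psi hW h.hp.one_lt
  -- the common sign
  obtain ⟨δZ, hδZ, hδe⟩ : ∃ δZ : ℤ, (δZ = 1 ∨ δZ = -1) ∧ δ = (δZ : ℂ) := by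
    rw [← hδ ψ₀ hψ₀ hψ₀1]
    rcases md.sign ψ₀ with h1 | h1
    · exact ⟨1, Or.inl rfl, by rw [h1]; simp⟩
    · exact ⟨-1, Or.inr rfl, by rw [h1]; simp⟩
  subst hδe
  have hδsq : (δZ : ℂ) * (δZ : ℂ) = 1 := by
    rcases hδZ with rfl | rfl <;> simp
  have hδconj : (starRingEnd ℂ) (δZ : ℂ) = (δZ : ℂ) := map_intCast (starRingEnd ℂ) δZ
  have hS : ∀ ψ : WChar W₁ W₂, TrivOn W₁ ψ → ψ ≠ 1 → muSum mu ψ ∈ zspan (calZ S) :=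
    fun ψ hψ hψ1 => subset_zspan _ (hZmu ψ hψ hψ1)
  -- degrees and norms of the `μ_ψ`
  have hval1 : ∀ ω : WChar W₁ W₂, muSum mu ω 1 = (Nat.card W₁ : ℂ) * mu ω 1 := by
    intro ω
    unfold muSum
    rw [Finset.sum_apply]
    have h1 : ∀ φ ∈ trivSet W₁ W₂ W₂, mu (φ * ω) 1 = mu ω 1 := by
      intro φ hφ
      apply Cfsg.Agent.Lib.Helper50.PFCyc.mu_res_eq hP md (φ * ω) ω ?_ (1 : ↥S)
        (Subgroup.one_mem _)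
      intro w hw
      rw [MonoidHom.mul_apply, mem_trivSet.mp hφ w hw, one_mul]
    rw [Finset.sum_congr rfl h1, Finset.sum_const, hqc, nsmul_eq_mul]
  have hnormmu : ∀ ω : WChar W₁ W₂, classInner (muSum mu ω) (muSum mu ω) = (Nat.card W₁ : ℂ) := by
    intro ω
    unfold muSum
    rw [Cfsg.Agent.Lib.Helper51.PFCyc.classInner_sum_irr_self (trivSet W₁ W₂ W₂)
      (fun φ => mu (φ * ω)) (fun φ _ => md.irr _)
      (fun φ _ φ' _ hh => mul_right_cancel (md.inj hh)), hqc]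
  have hdeg : ∀ ψ ψ' : WChar W₁ W₂, TrivOn W₁ ψ → TrivOn W₁ ψ' → ψ ≠ 1 → ψ' ≠ 1 →
      mu ψ 1 = mu ψ' 1 := fun ψ ψ' hψ hψ' hψ1 hψ'1 =>
    (Cfsg.Agent.Lib.Helper9.PFCyc.mu_const hP hoddS md h.hp ψ ψ' hψ hψ' hψ1 hψ'1).2
  -- `a ψ - a ψ' = b ψ - b ψ'`
  have hdiff : ∀ ψ ψ' : WChar W₁ W₂, TrivOn W₁ ψ → TrivOn W₁ ψ' → ψ ≠ 1 → ψ' ≠ 1 → ψ ≠ ψ' →
      τ₁ (muSum mu ψ) - τ₁ (muSum mu ψ') =
        (δZ : ℂ) • etaSum η ψ - (δZ : ℂ) • etaSum η ψ' := by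
    intro ψ ψ' hψ hψ' hψ1 hψ'1 hne
    have hmem : muSum mu ψ - muSum mu ψ' ∈ zspanOn (calZ S) ({1}ᶜ : Set ↥S) := by
      rw [mem_zspanOn_compl_one]
      refine ⟨zspan_sub (hS ψ hψ hψ1) (hS ψ' hψ' hψ'1), ?_⟩
      rw [Pi.sub_apply, hval1, hval1, hdeg ψ ψ' hψ hψ' hψ1 hψ'1, sub_self]
    rw [← isom_sub (isZClosed_zspan _) hτ₁ (hS ψ hψ hψ1) (hS ψ' hψ' hψ'1), hext _ hmem,
      hMS ψ ψ' hψ hψ' hψ1 hψ'1 hne, smul_sub]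
  set Z : G → ℂ := τ₁ (muSum mu ψ₀) - (δZ : ℂ) • etaSum η ψ₀ with hZ
  have haZ : ∀ ψ : WChar W₁ W₂, TrivOn W₁ ψ → ψ ≠ 1 →
      τ₁ (muSum mu ψ) = (δZ : ℂ) • etaSum η ψ + Z := by
    intro ψ hψ hψ1
    by_cases he : ψ = ψ₀
    · rw [he, hZ]; abel
    · have := hdiff ψ ψ₀ hψ hψ₀ hψ1 hψ₀1 he
      rw [hZ]
      rw [sub_eq_iff_eq_add] at this
      rw [this]; abel
  -- norms
  have haa : ∀ ψ : WChar W₁ W₂, TrivOn W₁ ψ → ψ ≠ 1 →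
      classInner (τ₁ (muSum mu ψ)) (τ₁ (muSum mu ψ)) = (Nat.card W₁ : ℂ) := by
    intro ψ hψ hψ1
    rw [isom_inner hτ₁ (hS ψ hψ hψ1) (hS ψ hψ hψ1)]
    exact hnormmu ψ
  have hbb : ∀ ψ ψ' : WChar W₁ W₂, TrivOn W₁ ψ → TrivOn W₁ ψ' →
      classInner ((δZ : ℂ) • etaSum η ψ) ((δZ : ℂ) • etaSum η ψ') =
        if ψ = ψ' then (Nat.card W₁ : ℂ) else 0 := by
    intro ψ ψ' hψ hψ'
    rw [classInner_smul_left, classInner_smul_right, hδconj,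
      etaSum_inner_etaSum hW hηf hψ hψ', ← mul_assoc, hδsq, one_mul]
  -- `Z` is a generalized character, so its coefficients are integers
  have hEgen : ∀ ψ : WChar W₁ W₂, IsGeneralizedCharacter G (etaSum η ψ) := fun ψ =>
    F.gen_sum _ _ (fun φ _ => eta_gen hηf _)
  have hbgen : ∀ ψ : WChar W₁ W₂, IsGeneralizedCharacter G ((δZ : ℂ) • etaSum η ψ) := by
    intro ψ
    rcases hδZ with rfl | rfl
    · simpa using hEgen ψ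
    · have := gen_neg (hEgen ψ)
      simpa using this
  have hZgen : IsGeneralizedCharacter G Z :=
    F.gen_sub (isom_gen hτ₁ (hS ψ₀ hψ₀ hψ₀1)) (hbgen ψ₀)
  have hex : ∀ ω : WChar W₁ W₂, ∃ n : ℤ, classInner Z (η ω) = (n : ℂ) := fun ω =>
    Cfsg.Agent.Lib.Helper25.PFCyc.eta_inner_int η hηf Z hZgen ω
  choose e he using hex
  -- row sums
  have hZE : ∀ ψ : WChar W₁ W₂, classInner Z (etaSum η ψ) =
      ((∑ φ ∈ trivSet W₁ W₂ W₂, e (φ * ψ) : ℤ) : ℂ) := by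
    intro ψ
    have h1 : etaSum η ψ = ∑ φ ∈ trivSet W₁ W₂ W₂, η (φ * ψ) := rfl
    rw [h1, classInner_sum_right]
    push_cast
    exact Finset.sum_congr rfl (fun φ _ => he _)
  have hZb : ∀ ψ : WChar W₁ W₂, classInner Z ((δZ : ℂ) • etaSum η ψ) =
      ((δZ * ∑ φ ∈ trivSet W₁ W₂ W₂, e (φ * ψ) : ℤ) : ℂ) := by
    intro ψ
    rw [classInner_smul_right, hδconj, hZE ψ]
    push_cast; ring
  -- the norm equation
  have hnorm : ∀ ψ : WChar W₁ W₂, TrivOn W₁ ψ → ψ ≠ 1 →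
      classInner Z Z = ((-2 * (δZ * ∑ φ ∈ trivSet W₁ W₂ W₂, e (φ * ψ)) : ℤ) : ℂ) := by
    intro ψ hψ hψ1
    have h1 := haa ψ hψ hψ1
    rw [haZ ψ hψ hψ1, classInner_add_left, classInner_add_right, classInner_add_right,
      hbb ψ ψ hψ hψ, if_pos rfl, hZb ψ, ← classInner_conj_symm Z ((δZ : ℂ) • etaSum η ψ),
      hZb ψ, map_intCast] at h1
    push_cast at h1 ⊢
    linear_combination h1
  set hh : ℤ := -(δZ * ∑ φ ∈ trivSet W₁ W₂ W₂, e (φ * ψ₀)) with hhdef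
  have hZZ : classInner Z Z = ((2 * hh : ℤ) : ℂ) := by
    rw [hnorm ψ₀ hψ₀ hψ₀1, hhdef]
    push_cast; ring
  have hrow : ∀ ψ : WChar W₁ W₂, TrivOn W₁ ψ → ψ ≠ 1 →
      ∑ φ ∈ trivSet W₁ W₂ W₂, e (φ * ψ) = -δZ * hh := by
    intro ψ hψ hψ1
    have h1 := hnorm ψ hψ hψ1
    rw [hZZ] at h1
    have h2 : 2 * hh = -2 * (δZ * ∑ φ ∈ trivSet W₁ W₂ W₂, e (φ * ψ)) := by exact_mod_cast h1
    have h3 : δZ * δZ = 1 := by rcases hδZ with rfl | rfl <;> norm_num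
    have h4 : hh = -(δZ * ∑ φ ∈ trivSet W₁ W₂ W₂, e (φ * ψ)) := by linarith
    rw [h4]
    have : -δZ * -(δZ * ∑ φ ∈ trivSet W₁ W₂ W₂, e (φ * ψ)) =
        (δZ * δZ) * ∑ φ ∈ trivSet W₁ W₂ W₂, e (φ * ψ) := by ring
    rw [this, h3, one_mul]
  have hhnn : 0 ≤ hh := by
    have h1 := Cfsg.Agent.Lib.Helper25.PFCyc.norm_re_nonneg' Z
    rw [hZZ] at h1
    have h2 : (((2 * hh : ℤ) : ℂ)).re = ((2 * hh : ℤ) : ℝ) := by
      rw [← Complex.ofReal_intCast, Complex.ofReal_re]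
    rw [h2] at h1
    have h3 : (0 : ℤ) ≤ 2 * hh := by exact_mod_cast h1
    omega
  -- Bessel
  have hbes : ∑ ψ ∈ trivSet W₁ W₂ W₁, ∑ φ ∈ trivSet W₁ W₂ W₂, (e (φ * ψ)) ^ 2 ≤ 2 * hh := by
    have h1 := Cfsg.Agent.Lib.Helper64.PF11.bessel_on Z η
      (fun ω => by rw [hηf.orthonormal, if_pos rfl])
      (fun ω ω' hne => by rw [hηf.orthonormal, if_neg hne])
      (fun ω => (e ω : ℝ)) (fun ω => by rw [he ω]; push_cast; rfl)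
    rw [hZZ] at h1
    have h2 : (((2 * hh : ℤ) : ℂ)).re = ((2 * hh : ℤ) : ℝ) := by
      rw [← Complex.ofReal_intCast, Complex.ofReal_re]
    rw [h2] at h1
    have h3 := rows_le (W₁ := W₁) (W₂ := W₂) (fun ω => (e ω : ℝ) ^ 2) (fun ω => sq_nonneg _)
    have h4 : ((∑ ψ ∈ trivSet W₁ W₂ W₁, ∑ φ ∈ trivSet W₁ W₂ W₂, (e (φ * ψ)) ^ 2 : ℤ) : ℝ) ≤
        ((2 * hh : ℤ) : ℝ) := by
      push_cast
      push_cast at h1
      linarith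
    exact_mod_cast h4
  -- the rectangle rule
  have hrect : ∀ φ φ' ψ ψ' : WChar W₁ W₂, TrivOn W₂ φ → TrivOn W₂ φ' → TrivOn W₁ ψ →
      TrivOn W₁ ψ' → e (φ * ψ) + e (φ' * ψ') = e (φ * ψ') + e (φ' * ψ) := by
    intro φ φ' ψ ψ' hφ hφ' hψ hψ'
    have hψ₀S := hZmu ψ₀ hψ₀ hψ₀1
    -- degrees `a = μ_{ψ₀}(1)`, `b = ζ(1)`
    obtain ⟨b, hb1, hb⟩ := (irrFacts ↥S).deg_pos ζ hζi
    obtain ⟨d, hd1, hd⟩ := (irrFacts ↥S).deg_pos _ (md.irr ψ₀)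
    set a : ℕ := Nat.card W₁ * d with ha
    have haval : muSum mu ψ₀ 1 = (a : ℂ) := by
      rw [hval1, hd, ha]; push_cast; ring
    have hMc := hZchar _ hψ₀S
    have hζc := hZchar ζ hζ
    have hoffK : ∀ χ ∈ calZ S, ∀ m : ↥S, (m : G) ∉ ⁅S, S⁆ → χ m = 0 := by
      intro χ hχm m hm
      apply hZvan χ hχm m
      · rintro rfl
        exact hm (Subgroup.one_mem _)
      · intro hmA
        exact hm (h.hA_sub _ hmA).1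
    have hζz : ζ ∈ zspan (calZ S) := subset_zspan _ hζ
    have hζcf := Cfsg.Agent.Lib.Helper78.IsCharacter.isClassFunction hζc
    have hMcf := Cfsg.Agent.Lib.Helper78.IsCharacter.isClassFunction hMc
    set β : ↥S → ℂ := (a : ℤ) • ζ - (b : ℤ) • muSum mu ψ₀ with hβdef
    have hβτ : τ₁ β = (a : ℤ) • τ₁ ζ - (b : ℤ) • τ₁ (muSum mu ψ₀) := by
      rw [hβdef, isom_sub (isZClosed_zspan _) hτ₁ (zspan_zsmul _ hζz)
        (zspan_zsmul _ (hS ψ₀ hψ₀ hψ₀1)), isom_zsmul hτ₁ _ hζz,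
        isom_zsmul hτ₁ _ (hS ψ₀ hψ₀ hψ₀1)]
    have hβmem : β ∈ zspanOn (calZ S) ({1}ᶜ : Set ↥S) := by
      rw [mem_zspanOn_compl_one]
      refine ⟨zspan_sub (zspan_zsmul _ hζz) (zspan_zsmul _ (hS ψ₀ hψ₀ hψ₀1)), ?_⟩
      show ((a : ℤ) • ζ - (b : ℤ) • muSum mu ψ₀) 1 = 0
      rw [Pi.sub_apply, Pi.smul_apply, Pi.smul_apply, hb, haval, zsmul_eq_mul, zsmul_eq_mul]
      push_cast
      ring
    have hβcf : IsClassFunction ↥S β := by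
      intro g x
      rw [hβdef]
      simp only [Pi.sub_apply, Pi.smul_apply]
      rw [hζcf g x, hMcf g x]
    have hβK : ∀ m : ↥S, (m : G) ∉ ⁅S, S⁆ → β m = 0 := by
      intro m hm
      rw [hβdef]
      simp only [Pi.sub_apply, Pi.smul_apply]
      rw [hoffK ζ hζ m hm, hoffK _ hψ₀S m hm]; simp
    have hΘcf : IsClassFunction G (tauM S β) :=
      Cfsg.Agent.Lib.Helper3.Dade.dade_isClassFunction h.hD hβcf
    have hΘV : ∀ w : ↥(W₁ ⊔ W₂), (w : G) ∉ W₁ → (w : G) ∉ W₂ → tauM S β w = 0 :=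
      fun w hw1 hw2 => tauM_vanish_W' hP h.hD _ hβcf hβK w hw1 hw2
    have hrec := Cfsg.Agent.S1506.result W₁ W₂ hW η hηf _ hΘcf hΘV φ φ' ψ ψ'
      (fun w hw => ⟨hφ w hw, hφ' w hw⟩) (fun w hw => ⟨hψ w hw, hψ' w hw⟩)
    -- coefficients of `Θ`
    have hcoef : ∀ φ₁ ψ₁ : WChar W₁ W₂, TrivOn W₂ φ₁ → TrivOn W₁ ψ₁ →
        classInner (tauM S β) (η (φ₁ * ψ₁)) =
          -((b : ℂ) * ((δZ : ℂ) * (if ψ₁ = ψ₀ then 1 else 0) + (e (φ₁ * ψ₁) : ℂ))) := by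
      intro φ₁ ψ₁ hφ₁ hψ₁
      rw [← hext _ hβmem, hβτ, classInner_sub_left, classInner_zsmul_left, hχ, mul_zero,
        zero_sub, classInner_zsmul_left, haZ ψ₀ hψ₀ hψ₀1, classInner_add_left,
        classInner_smul_left, etaSum_inner_eta hηf hφ₁ hψ₁ hψ₀, he]
      push_cast
      ring
    rw [hcoef φ ψ hφ hψ, hcoef φ' ψ' hφ' hψ', hcoef φ ψ' hφ hψ', hcoef φ' ψ hφ' hψ] at hrec
    have hb0 : (b : ℂ) ≠ 0 := by
      have : 0 < b := hb1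
      exact_mod_cast this.ne'
    have : ((e (φ * ψ) + e (φ' * ψ') : ℤ) : ℂ) = ((e (φ * ψ') + e (φ' * ψ) : ℤ) : ℂ) := by
      push_cast
      apply mul_left_cancel₀ hb0
      linear_combination (-1 : ℂ) * hrec
    exact_mod_cast this
  -- the lattice argument
  have h1mem : (1 : WChar W₁ W₂) ∈ trivSet W₁ W₂ W₁ := mem_trivSet.2 (trivOn_one _)
  have hlat := lattice_arith
    (ι := {x // x ∈ trivSet W₁ W₂ W₂}) (κ := {x // x ∈ trivSet W₁ W₂ W₁})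
    (fun i j => e (i.1 * j.1)) ⟨1, h1mem⟩ δZ hh hδZ hhnn
    (by rw [Fintype.card_coe, hqc]; exact hqpos)
    (by rw [Fintype.card_coe, hpc]; exact hp3)
    (by
      intro j hj
      have hj1 : j.1 ≠ 1 := fun h0 => hj (Subtype.ext h0)
      have := hrow j.1 (mem_trivSet.1 j.2) hj1
      rw [← this]
      exact Finset.sum_coe_sort (trivSet W₁ W₂ W₂) (fun φ => e (φ * j.1)))
    (by
      have h1 : ∑ j : {x // x ∈ trivSet W₁ W₂ W₁}, ∑ i : {x // x ∈ trivSet W₁ W₂ W₂},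
          (e (i.1 * j.1)) ^ 2 =
          ∑ ψ ∈ trivSet W₁ W₂ W₁, ∑ φ ∈ trivSet W₁ W₂ W₂, (e (φ * ψ)) ^ 2 := by
        rw [← Finset.sum_coe_sort (trivSet W₁ W₂ W₁)]
        apply Finset.sum_congr rfl
        intro j _
        exact Finset.sum_coe_sort (trivSet W₁ W₂ W₂) (fun φ => (e (φ * j.1)) ^ 2)
      rw [h1]; exact hbes)
    (fun i i' j j' => hrect i.1 i'.1 j.1 j'.1 (mem_trivSet.1 i.2) (mem_trivSet.1 i'.2)
      (mem_trivSet.1 j.2) (mem_trivSet.1 j'.2))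
  rcases hlat with h0 | ⟨hc3, hhq⟩
  · -- `Z = 0`
    left
    have hZ0 : Z = 0 := by
      apply classInner_self_eq_zero
      rw [hZZ, h0]; simp
    intro ψ hψ hψ1
    rw [haZ ψ hψ hψ1, hZ0, add_zero]
  · right
    rw [Fintype.card_coe, hpc] at hc3
    rw [Fintype.card_coe, hqc] at hhq
    refine ⟨hc3, ?_⟩
    intro ψ hψ hψ1
    have hψi : TrivOn W₁ ψ⁻¹ := hψ.inv
    have hψi1 : ψ⁻¹ ≠ 1 := by
      intro h0
      apply hψ1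
      ext w
      have := DFunLike.congr_fun h0 w
      rw [MonoidHom.inv_apply, MonoidHom.one_apply, inv_eq_one] at this
      rw [this]; rfl
    have hψne : ψ ≠ ψ⁻¹ := fun h0 => hψ1 (eq_one_of_inv_eq hoddW h0.symm)
    have hy : classInner (τ₁ (muSum mu ψ)) ((δZ : ℂ) • etaSum η ψ⁻¹) = -(Nat.card W₁ : ℂ) := by
      rw [haZ ψ hψ hψ1, classInner_add_left, hbb ψ ψ⁻¹ hψ hψi, if_neg hψne, zero_add, hZb,
        hrow ψ⁻¹ hψi hψi1, hhq]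
      have h3 : δZ * δZ = 1 := by rcases hδZ with rfl | rfl <;> norm_num
      have : δZ * (-δZ * (Nat.card W₁ : ℤ)) = -((δZ * δZ) * (Nat.card W₁ : ℤ)) := by ring
      rw [this, h3]
      push_cast; ring
    have hnorm0 : classInner (τ₁ (muSum mu ψ) + (δZ : ℂ) • etaSum η ψ⁻¹)
        (τ₁ (muSum mu ψ) + (δZ : ℂ) • etaSum η ψ⁻¹) = 0 := by
      rw [classInner_add_left, classInner_add_right, classInner_add_right, haa ψ hψ hψ1, hy,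
        ← classInner_conj_symm (τ₁ (muSum mu ψ)) ((δZ : ℂ) • etaSum η ψ⁻¹), hy,
        hbb ψ⁻¹ ψ⁻¹ hψi hψi, if_pos rfl]
      simp
    have := classInner_self_eq_zero hnorm0
    exact eq_neg_of_add_eq_zero_left this

/-- MODULE PF13-[TAU1MU], with the exact conclusions of the sheet modules [ZFACTS] (`calZ_facts`),
[MUSUB] (`musub_pair`) and [IRRORTH] (`tau1_irr_orth`, for this `τ₁`, `ζ`) as hypotheses. -/
theorem tau1_muSum_pair_of' (h : PSide S W₁ U W₂ mu dl η)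
    (hZF : calZ S ⊆ calS S ∧
      (∀ χ ∈ calZ S, IsCharacter ↥S χ ∧ conjFun χ ∈ calZ S ∧ conjFun χ ≠ χ) ∧
      (∀ χ ∈ calZ S, ∀ χ' ∈ calZ S, χ ≠ χ' → classInner χ χ' = 0) ∧
      (∀ χ ∈ calZ S, ∀ x : ↥S, x ≠ 1 → (x : G) ∉ litA S → χ x = 0) ∧
      (∀ ψ : WChar W₁ W₂, TrivOn W₁ ψ → ψ ≠ 1 → muSum mu ψ ∈ calZ S) ∧
      (∀ ζ ∈ calZ S, (IsIrrCharacter ↥S ζ ∧ ∀ ω, ζ ≠ mu ω) ∨
        ∃ ψ : WChar W₁ W₂, TrivOn W₁ ψ ∧ ψ ≠ 1 ∧ ζ = muSum mu ψ))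
    (hMSe : ∃ δ : ℂ, (δ = 1 ∨ δ = -1) ∧ (∀ ψ : WChar W₁ W₂, TrivOn W₁ ψ → ψ ≠ 1 → dl ψ = δ) ∧
      ∀ ψ ψ' : WChar W₁ W₂, TrivOn W₁ ψ → TrivOn W₁ ψ' → ψ ≠ 1 → ψ' ≠ 1 → ψ ≠ ψ' →
        tauM S (muSum mu ψ - muSum mu ψ') = δ • (etaSum η ψ - etaSum η ψ'))
    {τ₁ : (↥S → ℂ) → (G → ℂ)}
    (hτ₁ : IsLinearIsometryOn (zspan (calZ S)) τ₁)
    (hext : ∀ α ∈ zspanOn (calZ S) ({1}ᶜ : Set ↥S), τ₁ α = tauM S α)
    (ζ : ↥S → ℂ) (hζ : ζ ∈ calZ S) (hζi : IsIrrCharacter ↥S ζ)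
    (hχ : ∀ ω : WChar W₁ W₂, classInner (τ₁ ζ) (η ω) = 0)
    (δ : ℂ) (hδ : ∀ ψ : WChar W₁ W₂, TrivOn W₁ ψ → ψ ≠ 1 → dl ψ = δ) :
    (∀ ψ : WChar W₁ W₂, TrivOn W₁ ψ → ψ ≠ 1 → τ₁ (muSum mu ψ) = δ • etaSum η ψ) ∨
      (Nat.card W₂ = 3 ∧ ∀ ψ : WChar W₁ W₂, TrivOn W₁ ψ → ψ ≠ 1 →
        τ₁ (muSum mu ψ) = -(δ • etaSum η ψ⁻¹)) := by
  obtain ⟨-, hZ2, -, hZ4, hZ5, -⟩ := hZF
  obtain ⟨δ', -, hδ', hMS⟩ := hMSe
  obtain ⟨ψ₀, hψ₀, hψ₀1⟩ :=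
    Cfsg.Agent.Lib.Helper23.PFCycX0.exists_psi h.hP.selfNormalizing h.hp.one_lt
  have hδδ : δ' = δ := by rw [← hδ' ψ₀ hψ₀ hψ₀1, hδ ψ₀ hψ₀ hψ₀1]
  subst hδδ
  exact tau1_muSum_pair_of h hτ₁ hext ζ hζ hζi δ' hδ (fun χ hχm => (hZ2 χ hχm).1) hZ4 hZ5 hMS hχ

end Cfsg.Agent.Lib.Helper23.PF13
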