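-- helper23: PF sec.13, module PF13-[TAU1MU], second step: [ZFACTS] and [IRRORTH] (helper51) discharged;
-- only the conclusion of [MUSUB] (`musub_pair`) remains as a hypothesis.
import Mathlib
import Cfsg.Agent.Lib.Helper23.PF13Tau1Mu
import Cfsg.Agent.Lib.Helper51.PF13ZFacts
import Cfsg.Agent.Lib.Helper51.PF13IrrOrth

set_option autoImplicit false

namespace Cfsg.Agent.Lib.Helper23.PF13

open Cfsg Cfsg.Agent.Lib.Helper4.PF Cfsg.Agent.Lib.Helper74.PF127 Cfsg.Agent.Lib.Helper24.PFCyc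
open Cfsg.Agent.Lib.Helper16.PF13

universe u

variable {G : Type u} [Group G] [Fintype G] {S W₁ U W₂ : Subgroup G} [Fintype S]
  {mu : WChar W₁ W₂ → (↥S → ℂ)} {dl : WChar W₁ W₂ → ℂ} {η : WChar W₁ W₂ → (G → ℂ)}

/-- MODULE PF13-[TAU1MU] with only the conclusion of [MUSUB] (`musub_pair`) as a hypothesis. -/
theorem tau1_muSum_pair_of_musub (h : PSide S W₁ U W₂ mu dl η)
    (hMSe : ∃ δ : ℂ, (δ = 1 ∨ δ = -1) ∧ (∀ ψ : WChar W₁ W₂, TrivOn W₁ ψ → ψ ≠ 1 → dl ψ = δ) ∧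
      ∀ ψ ψ' : WChar W₁ W₂, TrivOn W₁ ψ → TrivOn W₁ ψ' → ψ ≠ 1 → ψ' ≠ 1 → ψ ≠ ψ' →
        tauM S (muSum mu ψ - muSum mu ψ') = δ • (etaSum η ψ - etaSum η ψ'))
    {τ₁ : (↥S → ℂ) → (G → ℂ)}
    (hτ₁ : IsLinearIsometryOn (zspan (calZ S)) τ₁)
    (hext : ∀ α ∈ zspanOn (calZ S) ({1}ᶜ : Set ↥S), τ₁ α = tauM S α)
    (ζ : ↥S → ℂ) (hζ : ζ ∈ calZ S) (hζi : IsIrrCharacter ↥S ζ)
    (δ : ℂ) (hδ : ∀ ψ : WChar W₁ W₂, TrivOn W₁ ψ → ψ ≠ 1 → dl ψ = δ) :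
    (∀ ψ : WChar W₁ W₂, TrivOn W₁ ψ → ψ ≠ 1 → τ₁ (muSum mu ψ) = δ • etaSum η ψ) ∨
      (Nat.card W₂ = 3 ∧ ∀ ψ : WChar W₁ W₂, TrivOn W₁ ψ → ψ ≠ 1 →
        τ₁ (muSum mu ψ) = -(δ • etaSum η ψ⁻¹)) :=
  tau1_muSum_pair_of' h (Cfsg.Agent.Lib.Helper51.PF13.calZ_facts h) hMSe hτ₁ hext ζ hζ hζi
    (Cfsg.Agent.Lib.Helper51.PF13.tau1_irr_orth h hτ₁ hext ζ hζ hζi) δ hδ

end Cfsg.Agent.Lib.Helper23.PF13
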