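-- helper23: PF sec.13, module PF13-[TAU1MU], exact sheet statement `tau1_muSum_pair`.
import Mathlib
import Cfsg.Agent.Lib.Helper23.PF13Tau1MuB
import Cfsg.Agent.Lib.Helper23.PF13MuSub

set_option autoImplicit false

namespace Cfsg.Agent.Lib.Helper23.PF13

open Cfsg Cfsg.Agent.Lib.Helper4.PF Cfsg.Agent.Lib.Helper74.PF127 Cfsg.Agent.Lib.Helper24.PFCyc
open Cfsg.Agent.Lib.Helper16.PF13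

universe u

variable {G : Type u} [Group G] [Fintype G] {S W₁ U W₂ : Subgroup G} [Fintype S]
  {mu : WChar W₁ W₂ → (↥S → ℂ)} {dl : WChar W₁ W₂ → ℂ} {η : WChar W₁ W₂ → (G → ℂ)}

/-- the sheet module [MUSUB] (`musub_pair`), from `musub_both` -/
theorem musub_pair' (h : PSide S W₁ U W₂ mu dl η) :
    ∃ δ : ℂ, (δ = 1 ∨ δ = -1) ∧ (∀ ψ : WChar W₁ W₂, TrivOn W₁ ψ → ψ ≠ 1 → dl ψ = δ) ∧
    ∀ ψ ψ' : WChar W₁ W₂, TrivOn W₁ ψ → TrivOn W₁ ψ' → ψ ≠ 1 → ψ' ≠ 1 → ψ ≠ ψ' →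
      tauM S (muSum mu ψ - muSum mu ψ') = δ • (etaSum η ψ - etaSum η ψ') := by
  obtain ⟨δ, h1, h2, h3⟩ := musub_both h
  exact ⟨δ, h1, h2, fun ψ ψ' hψ hψ' hψ1 hψ'1 hne => (h3 ψ ψ' hψ hψ' hψ1 hψ'1 hne).2⟩

/-- the first component: `tauM S (mu ψ - mu ψ') = δ • (η ψ - η ψ')` -/
theorem musub_single (h : PSide S W₁ U W₂ mu dl η) :
    ∃ δ : ℂ, (δ = 1 ∨ δ = -1) ∧ (∀ ψ : WChar W₁ W₂, TrivOn W₁ ψ → ψ ≠ 1 → dl ψ = δ) ∧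
    ∀ ψ ψ' : WChar W₁ W₂, TrivOn W₁ ψ → TrivOn W₁ ψ' → ψ ≠ 1 → ψ' ≠ 1 → ψ ≠ ψ' →
      tauM S (mu ψ - mu ψ') = δ • (η ψ - η ψ') := by
  obtain ⟨δ, h1, h2, h3⟩ := musub_both h
  exact ⟨δ, h1, h2, fun ψ ψ' hψ hψ' hψ1 hψ'1 hne => (h3 ψ ψ' hψ hψ' hψ1 hψ'1 hne).1⟩

/-- **MODULE PF13-[TAU1MU]** (helper16's sheet PF13_MODULES.md), exact statement. -/
theorem tau1_muSum_pair (h : PSide S W₁ U W₂ mu dl η) {τ₁ : (↥S → ℂ) → (G → ℂ)}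
    (hτ₁ : IsLinearIsometryOn (zspan (calZ S)) τ₁)
    (hext : ∀ α ∈ zspanOn (calZ S) ({1}ᶜ : Set ↥S), τ₁ α = tauM S α)
    (ζ : ↥S → ℂ) (hζ : ζ ∈ calZ S) (hζi : IsIrrCharacter ↥S ζ)
    (δ : ℂ) (hδ : ∀ ψ : WChar W₁ W₂, TrivOn W₁ ψ → ψ ≠ 1 → dl ψ = δ) :
    (∀ ψ : WChar W₁ W₂, TrivOn W₁ ψ → ψ ≠ 1 → τ₁ (muSum mu ψ) = δ • etaSum η ψ) ∨
      (Nat.card W₂ = 3 ∧ ∀ ψ : WChar W₁ W₂, TrivOn W₁ ψ → ψ ≠ 1 →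
        τ₁ (muSum mu ψ) = -(δ • etaSum η ψ⁻¹)) :=
  tau1_muSum_pair_of_musub h (musub_pair' h) hτ₁ hext ζ hζ hζi δ hδ

end Cfsg.Agent.Lib.Helper23.PF13
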