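-- helper23: PF sec.10 M-side (helper24 #4017), module [TAU1-MU], part A: the integer lattice argument
-- and the combinatorics of the rows `{φψ : φ trivial on W₂}`.
import Mathlib
import Cfsg.Agent.Lib.Helper24.PFCycDefs
import Cfsg.Agent.Lib.Helper25.PFCycB2Lat
import Cfsg.Agent.Lib.Helper51.PFCycMuInd

set_option autoImplicit false

namespace Cfsg.Agent.Lib.Helper23.PFCycTau1Mu

open Cfsg Cfsg.Agent.Lib.Helper24.PFCyc

/-- **The integer lattice argument of [TAU1-MU].**  `e i j` integers (`i` runs over the `φ`, `j` over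
the `ψ`, `j₀` is `ψ = 1`), all row sums for `j ≠ j₀` equal `-δ h`, total square sum `≤ 2h`, and the
rectangle rule.  Then `h = 0`, or there are exactly three `ψ` and `h = q`. -/
theorem lattice_arith {ι κ : Type*} [Fintype ι] [Fintype κ] [DecidableEq κ] (e : ι → κ → ℤ)
    (j₀ : κ) (δ h : ℤ) (hδ : δ = 1 ∨ δ = -1) (hh : 0 ≤ h) (hq : 0 < Fintype.card ι)
    (hp : 3 ≤ Fintype.card κ)
    (hrow : ∀ j, j ≠ j₀ → ∑ i, e i j = -δ * h)
    (hbes : ∑ j, ∑ i, (e i j) ^ 2 ≤ 2 * h)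
    (hrect : ∀ i i' j j', e i j + e i' j' = e i j' + e i' j) :
    h = 0 ∨ (Fintype.card κ = 3 ∧ h = Fintype.card ι) := by
  classical
  have hT : ∀ j, j ≠ j₀ → h ≤ ∑ i, (e i j) ^ 2 := by
    intro j hj
    have h1 : |∑ i, e i j| ≤ ∑ i, |e i j| := Finset.abs_sum_le_sum_abs _ _
    have h2 : ∑ i, |e i j| ≤ ∑ i, (e i j) ^ 2 := by
      apply Finset.sum_le_sum
      intro i _
      rcases abs_cases (e i j) with ⟨h3, h4⟩ | ⟨h3, h4⟩ <;> rw [h3] <;> nlinarith
    have h3 : |∑ i, e i j| = h := by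
      rw [hrow j hj]
      rcases hδ with rfl | rfl
      · rw [neg_mul, one_mul, abs_neg, abs_of_nonneg hh]
      · rw [neg_neg, one_mul, abs_of_nonneg hh]
    linarith
  have hsplit : ∑ j, ∑ i, (e i j) ^ 2 =
      ∑ i, (e i j₀) ^ 2 + ∑ j ∈ Finset.univ.erase j₀, ∑ i, (e i j) ^ 2 :=
    (Finset.add_sum_erase _ _ (Finset.mem_univ j₀)).symm
  have hcard : (Finset.univ.erase j₀).card = Fintype.card κ - 1 := by
    rw [Finset.card_erase_of_mem (Finset.mem_univ _), Finset.card_univ]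
  have hge : ((Fintype.card κ - 1 : ℕ) : ℤ) * h ≤
      ∑ j ∈ Finset.univ.erase j₀, ∑ i, (e i j) ^ 2 := by
    rw [← hcard]
    have := Finset.card_nsmul_le_sum (Finset.univ.erase j₀) (fun j => ∑ i, (e i j) ^ 2) h
      (fun j hj => hT j (Finset.ne_of_mem_erase hj))
    simpa using this
  have hT0 : 0 ≤ ∑ i, (e i j₀) ^ 2 := Finset.sum_nonneg (fun i _ => sq_nonneg _)
  by_cases h0 : h = 0
  · left; exact h0
  right
  have hhpos : 0 < h := lt_of_le_of_ne hh (Ne.symm h0)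
  have hp3 : Fintype.card κ = 3 := by
    by_contra hne
    have h4 : 4 ≤ Fintype.card κ := by omega
    have h5 : (3 : ℤ) ≤ ((Fintype.card κ - 1 : ℕ) : ℤ) := by omega
    nlinarith
  refine ⟨hp3, ?_⟩
  have hp2 : ((Fintype.card κ - 1 : ℕ) : ℤ) = 2 := by omega
  rw [hp2] at hge
  have hT0' : ∑ i, (e i j₀) ^ 2 = 0 := by linarith
  have he0 : ∀ i, e i j₀ = 0 := by
    intro i
    have := (Finset.sum_eq_zero_iff_of_nonneg (fun i _ => sq_nonneg (e i j₀))).1 hT0' i
      (Finset.mem_univ i)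
    exact pow_eq_zero_iff (two_ne_zero) |>.1 this
  obtain ⟨j, hj⟩ : ∃ j, j ≠ j₀ := by
    by_contra hcon
    push Not at hcon
    have : Fintype.card κ ≤ 1 := Fintype.card_le_one_iff.2 (fun a b => by rw [hcon a, hcon b])
    omega
  obtain ⟨i₀⟩ : Nonempty ι := Fintype.card_pos_iff.1 hq
  have hconst : ∀ i, e i j = e i₀ j := by
    intro i
    have := hrect i i₀ j j₀
    rw [he0 i, he0 i₀] at this
    linarith
  have hS : (Fintype.card ι : ℤ) * e i₀ j = -δ * h := by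
    rw [← hrow j hj]
    simp [hconst]
  have hTj : ∑ i, (e i j) ^ 2 = (Fintype.card ι : ℤ) * (e i₀ j) ^ 2 := by
    simp [hconst]
  -- `T_j ≤ h`
  have hjmem : j ∈ Finset.univ.erase j₀ := Finset.mem_erase.2 ⟨hj, Finset.mem_univ _⟩
  have hsplit2 : ∑ j' ∈ Finset.univ.erase j₀, ∑ i, (e i j') ^ 2 =
      ∑ i, (e i j) ^ 2 + ∑ j' ∈ (Finset.univ.erase j₀).erase j, ∑ i, (e i j') ^ 2 :=
    (Finset.add_sum_erase _ _ hjmem).symm
  have hcard2 : ((Finset.univ.erase j₀).erase j).card = 1 := by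
    rw [Finset.card_erase_of_mem hjmem, hcard]; omega
  have hge2 : h ≤ ∑ j' ∈ (Finset.univ.erase j₀).erase j, ∑ i, (e i j') ^ 2 := by
    have := Finset.card_nsmul_le_sum ((Finset.univ.erase j₀).erase j)
      (fun j => ∑ i, (e i j) ^ 2) h
      (fun j' hj' => hT j' (Finset.ne_of_mem_erase (Finset.mem_of_mem_erase hj')))
    rw [hcard2] at this
    simpa using this
  have hTle : (Fintype.card ι : ℤ) * (e i₀ j) ^ 2 ≤ h := by
    rw [← hTj]; linarith
  have hqpos : (0 : ℤ) < Fintype.card ι := by exact_mod_cast hq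
  set c := e i₀ j with hc
  set Q : ℤ := (Fintype.card ι : ℤ) with hQ
  rcases hδ with rfl | rfl
  · -- `Q c = -h`
    have h5 : h = -(Q * c) := by linarith
    have h6 : Q * (c ^ 2 + c) ≤ 0 := by nlinarith
    have h7 : c ^ 2 + c ≤ 0 := by
      by_contra hcon
      push Not at hcon
      have : 0 < Q * (c ^ 2 + c) := mul_pos hqpos hcon
      linarith
    have h8 : -1 ≤ c := by nlinarith
    have h9 : c ≤ 0 := by nlinarith
    have h10 : c = -1 ∨ c = 0 := by omega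
    rcases h10 with h10 | h10
    · rw [h5, h10]; ring
    · rw [h10] at h5; simp at h5; omega
  · have h5 : h = Q * c := by linarith
    have h6 : Q * (c ^ 2 - c) ≤ 0 := by nlinarith
    have h7 : c ^ 2 - c ≤ 0 := by
      by_contra hcon
      push Not at hcon
      have : 0 < Q * (c ^ 2 - c) := mul_pos hqpos hcon
      linarith
    have h8 : 0 ≤ c := by nlinarith
    have h9 : c ≤ 1 := by nlinarith
    have h10 : c = 1 ∨ c = 0 := by omega
    rcases h10 with h10 | h10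
    · rw [h5, h10]; ring
    · rw [h10] at h5; simp at h5; omega

universe u

variable {G : Type u} [Group G] {W₁ W₂ : Subgroup G}

/-- `φψ = φ'ψ'` iff `φ = φ'` and `ψ = ψ'` -/
theorem mul_eq_mul_iff {φ φ' ψ ψ' : WChar W₁ W₂} (hφ : TrivOn W₂ φ) (hφ' : TrivOn W₂ φ')
    (hψ : TrivOn W₁ ψ) (hψ' : TrivOn W₁ ψ') : φ * ψ = φ' * ψ' ↔ φ = φ' ∧ ψ = ψ' := by
  constructor
  · intro h
    have hw : ∀ w, φ w * ψ w = φ' w * ψ' w := fun w => by
      have := DFunLike.congr_fun h w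
      simpa [MonoidHom.mul_apply] using this
    have h1 : TrivOn W₁ (φ * φ'⁻¹) := by
      intro w hw1
      rw [MonoidHom.mul_apply, MonoidHom.inv_apply]
      have := hw w
      rw [hψ w hw1, hψ' w hw1, mul_one, mul_one] at this
      rw [this, mul_inv_cancel]
    have h2 : TrivOn W₂ (φ * φ'⁻¹) := hφ.mul hφ'.inv
    have h4 := Cfsg.Agent.Lib.Helper25.PFCyc.eq_one_of_trivOn h1 h2
    have h5 : φ = φ' := by
      ext w
      have := DFunLike.congr_fun h4 w
      rw [MonoidHom.mul_apply, MonoidHom.inv_apply, MonoidHom.one_apply, mul_inv_eq_one] at this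
      rw [this]
    refine ⟨h5, ?_⟩
    ext w
    have := hw w
    rw [h5] at this
    exact congrArg Units.val (mul_left_cancel this)
  · rintro ⟨rfl, rfl⟩; rfl

/-- The number of linear characters of `W` trivial on `W₁` is `|W₂|`. -/
theorem card_trivSet_left [Finite G] (hW : IsSelfNormalizingCyclic W₁ W₂) :
    (trivSet W₁ W₂ W₁).card = Nat.card W₂ := by
  classical
  have : Fintype ↥(W₁ ⊔ W₂) := Fintype.ofFinite _
  have hcyc : IsCyclic ↥(W₁ ⊔ W₂) := hW.2.2.2.2.1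
  have hc : ∀ a b : ↥(W₁ ⊔ W₂), a * b = b * a := by
    intro a b
    obtain ⟨g, hg⟩ := hcyc.exists_generator
    obtain ⟨i, rfl⟩ := Subgroup.mem_zpowers_iff.mp (hg a)
    obtain ⟨j, rfl⟩ := Subgroup.mem_zpowers_iff.mp (hg b)
    rw [← zpow_add, ← zpow_add, add_comm]
  have h1 : trivSet W₁ W₂ W₁ =
      Cfsg.Agent.Lib.Helper25.dualOf (W₁.subgroupOf (W₁ ⊔ W₂)) := by
    ext ω
    rw [mem_trivSet, Cfsg.Agent.Lib.Helper25.mem_dualOf]
    constructor
    · intro h n hn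
      exact h n (Subgroup.mem_subgroupOf.mp hn)
    · intro h w hw
      exact h w (Subgroup.mem_subgroupOf.mpr hw)
  have h2 := Cfsg.Agent.Lib.Helper25.card_dualOf_mul hc (W₁.subgroupOf (W₁ ⊔ W₂))
  have h3 : Nat.card ↥(W₁.subgroupOf (W₁ ⊔ W₂)) = Nat.card W₁ :=
    Nat.card_congr (Subgroup.subgroupOfEquivOfLe le_sup_left).toEquiv
  rw [h3, Cfsg.Agent.Lib.Helper51.PFCyc.card_W hW, mul_comm] at h2
  have hpos : 0 < Nat.card W₁ := Nat.card_pos
  rw [h1]
  exact Nat.eq_of_mul_eq_mul_left hpos h2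

end Cfsg.Agent.Lib.Helper23.PFCycTau1Mu
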