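-- helper23: PF sec.10 M-side (helper24 #4017), module [TAU1-MU]:
-- `τ₁(μ_ψ) = δ ∑_φ η_{φψ}` for all `ψ ≠ 1`, or `|W₂| = 3` and `τ₁(μ_ψ) = -δ ∑_φ η_{φψ⁻¹}`.
import Mathlib
import Cfsg.Agent.Lib.Helper23.PFCycTau1MuA
import Cfsg.Agent.Lib.Helper23.PFCycX0
import Cfsg.Agent.Lib.Helper24.PFCycCtx
import Cfsg.Agent.Lib.Helper24.PFCycTau
import Cfsg.Agent.Lib.Helper51.PFCycCalSApi
import Cfsg.Agent.Lib.Helper64.PFElevenAnchor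
import Cfsg.Agent.Lib.Helper25.PFCycEta
import Cfsg.Agent.S1506

set_option autoImplicit false
set_option linter.unusedVariables false

namespace Cfsg.Agent.Lib.Helper23.PFCycTau1Mu

open Cfsg Cfsg.Agent.Lib.Helper4.PF Cfsg.Agent.Lib.Helper74.PF127 Cfsg.Agent.Lib.Helper24.PFCyc
open Cfsg.Agent.Lib.Helper26

universe u

variable {G : Type u} [Group G] [Fintype G] {W₁ W₂ : Subgroup G} {η : WChar W₁ W₂ → (G → ℂ)}

open Classical in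
/-- `⟨∑_φ' η_{φ'ψ₀}, η_{φψ}⟩ = [ψ = ψ₀]` -/
theorem etaSum_inner_eta (hη : IsCyclicTIFamily W₁ W₂ η) {φ ψ ψ₀ : WChar W₁ W₂}
    (hφ : TrivOn W₂ φ) (hψ : TrivOn W₁ ψ) (hψ₀ : TrivOn W₁ ψ₀) :
    classInner (etaSum η ψ₀) (η (φ * ψ)) = if ψ = ψ₀ then 1 else 0 := by
  classical
  unfold etaSum
  rw [classInner_sum_left]
  simp only [hη.orthonormal]
  by_cases hψψ : ψ = ψ₀
  · subst hψψ
    rw [if_pos rfl, Finset.sum_eq_single φ]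
    · rw [if_pos rfl]
    · intro φ' hφ' hne
      rw [if_neg]
      intro heq
      exact hne ((mul_eq_mul_iff (mem_trivSet.1 hφ') hφ hψ hψ).1 heq).1
    · intro hnot
      exact absurd (mem_trivSet.2 hφ) hnot
  · rw [if_neg hψψ]
    apply Finset.sum_eq_zero
    intro φ' hφ'
    rw [if_neg]
    intro heq
    exact hψψ ((mul_eq_mul_iff (mem_trivSet.1 hφ') hφ hψ₀ hψ).1 heq).2.symm

open Classical in
/-- `⟨∑_φ η_{φψ}, ∑_φ η_{φψ'}⟩ = q [ψ = ψ']` -/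
theorem etaSum_inner_etaSum (hW : IsSelfNormalizingCyclic W₁ W₂) (hη : IsCyclicTIFamily W₁ W₂ η)
    {ψ ψ' : WChar W₁ W₂} (hψ : TrivOn W₁ ψ) (hψ' : TrivOn W₁ ψ') :
    classInner (etaSum η ψ) (etaSum η ψ') = if ψ = ψ' then (Nat.card W₁ : ℂ) else 0 := by
  classical
  have h1 : etaSum η ψ' = ∑ φ ∈ trivSet W₁ W₂ W₂, η (φ * ψ') := rfl
  rw [h1, classInner_sum_right,
    Finset.sum_congr rfl (fun φ hφ => etaSum_inner_eta hη (mem_trivSet.1 hφ) hψ' hψ)]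
  by_cases h : ψ = ψ'
  · subst h
    simp [Cfsg.Agent.Lib.Helper51.PFCyc.card_trivSet_W₂ hW]
  · rw [if_neg h]
    simp [Ne.symm h]

/-- `η ω` is a generalized character -/
theorem eta_gen (hη : IsCyclicTIFamily W₁ W₂ η) (ω : WChar W₁ W₂) :
    IsGeneralizedCharacter G (η ω) := by
  rcases hη.irr_or_neg ω with h | h
  · exact isGeneralizedCharacter_of_isCharacter (IrrFacts.irr_isCharacter h)
  · have := gen_neg (isGeneralizedCharacter_of_isCharacter (IrrFacts.irr_isCharacter h))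
    simpa using this

/-- a sum over rows is at most the sum over all linear characters -/
theorem rows_le [Fintype (WChar W₁ W₂)] (f : WChar W₁ W₂ → ℝ) (hf : ∀ ω, 0 ≤ f ω) :
    ∑ ψ ∈ trivSet W₁ W₂ W₁, ∑ φ ∈ trivSet W₁ W₂ W₂, f (φ * ψ) ≤ ∑ ω, f ω := by
  classical
  rw [← Finset.sum_product']
  have hinj : Set.InjOn (fun x : WChar W₁ W₂ × WChar W₁ W₂ => x.2 * x.1)
      ((trivSet W₁ W₂ W₁ ×ˢ trivSet W₁ W₂ W₂ : Finset _) : Set _) := by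
    intro x hx y hy hxy
    rw [Finset.mem_coe, Finset.mem_product] at hx hy
    have := (mul_eq_mul_iff (mem_trivSet.1 hx.2) (mem_trivSet.1 hy.2) (mem_trivSet.1 hx.1)
      (mem_trivSet.1 hy.1)).1 hxy
    exact Prod.ext this.2 this.1
  rw [← Finset.sum_image (f := f) hinj]
  exact Finset.sum_le_sum_of_subset_of_nonneg (Finset.subset_univ _) (fun ω _ _ => hf ω)

/-- a linear character of a group of odd order equal to its inverse is trivial -/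
theorem eq_one_of_inv_eq [Finite G] (hodd : Odd (Nat.card ↥(W₁ ⊔ W₂))) {ψ : WChar W₁ W₂}
    (h : ψ⁻¹ = ψ) : ψ = 1 := by
  ext w
  have h1 : ψ w * ψ w = 1 := by
    have := DFunLike.congr_fun h w
    rw [MonoidHom.inv_apply] at this
    calc ψ w * ψ w = (ψ w)⁻¹ * ψ w := by rw [this]
      _ = 1 := inv_mul_cancel _
  have h2 : (ψ w) ^ (Nat.card ↥(W₁ ⊔ W₂)) = 1 := by
    rw [← map_pow, pow_card_eq_one', map_one]
  obtain ⟨k, hk⟩ := hodd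
  rw [hk, pow_succ, pow_mul, pow_two, h1, one_pow, one_mul] at h2
  rw [h2]; rfl

variable {M U : Subgroup G} [Fintype M]
  {mu : WChar W₁ W₂ → (↥M → ℂ)} {dl : WChar W₁ W₂ → ℂ}
  {τ₁ : (↥M → ℂ) → (G → ℂ)} {ζ : ↥M → ℂ}

/-- MODULE [TAU1-MU] (helper24 #4017), exact statement. -/
theorem tau1_mu (h : MCtx M W₁ U W₂ mu dl η τ₁ ζ) (hf : MFacts M W₁ W₂ mu dl η)
    (hχ : ∀ ω : WChar W₁ W₂, classInner (τ₁ ζ) (η ω) = 0) :
    (∀ ψ : WChar W₁ W₂, TrivOn W₁ ψ → ψ ≠ 1 → τ₁ (muSum mu ψ) = dl ψ • etaSum η ψ) ∨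
      (Nat.card W₂ = 3 ∧ ∀ ψ : WChar W₁ W₂, TrivOn W₁ ψ → ψ ≠ 1 →
        τ₁ (muSum mu ψ) = -(dl ψ • etaSum η ψ⁻¹)) := by
  classical
  have F := irrFacts G
  haveI : Fintype (WChar W₁ W₂) := Fintype.ofFinite _
  have hηf := h.hη
  have hqc : (trivSet W₁ W₂ W₂).card = Nat.card W₁ :=
    Cfsg.Agent.Lib.Helper51.PFCyc.card_trivSet_W₂ h.hW
  have hpc : (trivSet W₁ W₂ W₁).card = Nat.card W₂ := card_trivSet_left h.hW
  have hqpos : 0 < Nat.card W₁ := Nat.card_pos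
  have hWM : W₁ ⊔ W₂ ≤ M :=
    sup_le h.hP.W₁_compl.2.1
      (((h.hP.W₂_le.trans inf_le_left).trans h.hP.U_compl.1).trans h.hP.W₁_compl.1)
  have hoddW : Odd (Nat.card ↥(W₁ ⊔ W₂)) :=
    Odd.of_dvd_nat h.hodd (Subgroup.card_dvd_of_le hWM)
  have hp3 : 3 ≤ Nat.card W₂ := by
    have h2 : Nat.card W₂ ∣ Nat.card M := Subgroup.card_dvd_of_le (le_sup_right.trans hWM)
    have hoddp : Odd (Nat.card W₂) := Odd.of_dvd_nat h.hodd h2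
    have := h.hp.two_le
    rcases hoddp with ⟨k, hk⟩
    omega
  obtain ⟨ψ₀, hψ₀, hψ₀1⟩ := Cfsg.Agent.Lib.Helper23.PFCycX0.exists_psi h.hW h.hp.one_lt
  -- the common sign
  obtain ⟨δZ, hδZ, hδ⟩ : ∃ δZ : ℤ, (δZ = 1 ∨ δZ = -1) ∧ dl ψ₀ = (δZ : ℂ) := by
    rcases h.md.sign ψ₀ with h1 | h1
    · exact ⟨1, Or.inl rfl, by rw [h1]; simp⟩
    · exact ⟨-1, Or.inr rfl, by rw [h1]; simp⟩
  have hδsq : (δZ : ℂ) * (δZ : ℂ) = 1 := by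
    rcases hδZ with rfl | rfl <;> simp
  have hδconj : (starRingEnd ℂ) (δZ : ℂ) = (δZ : ℂ) := map_intCast (starRingEnd ℂ) δZ
  have hdl : ∀ ψ : WChar W₁ W₂, TrivOn W₁ ψ → ψ ≠ 1 → dl ψ = (δZ : ℂ) := fun ψ hψ hψ1 => by
    rw [← hδ]; exact (hf.mu_const ψ ψ₀ hψ hψ₀ hψ1 hψ₀1).1
  have hS : ∀ ψ : WChar W₁ W₂, TrivOn W₁ ψ → ψ ≠ 1 → muSum mu ψ ∈ zspan (calS M) :=
    fun ψ hψ hψ1 => subset_zspan _ (hf.muSum_mem ψ hψ hψ1)
  -- `a ψ - a ψ' = b ψ - b ψ'`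
  have hdiff : ∀ ψ ψ' : WChar W₁ W₂, TrivOn W₁ ψ → TrivOn W₁ ψ' → ψ ≠ 1 → ψ' ≠ 1 → ψ ≠ ψ' →
      τ₁ (muSum mu ψ) - τ₁ (muSum mu ψ') =
        (δZ : ℂ) • etaSum η ψ - (δZ : ℂ) • etaSum η ψ' := by
    intro ψ ψ' hψ hψ' hψ1 hψ'1 hne
    have hmem := (Cfsg.Agent.Lib.Helper51.PFCyc.muSum_facts h hf ψ hψ hψ1).2.2.2.2 ψ' hψ' hψ'1
    rw [← isom_sub (isZClosed_zspan _) h.hτ₁ (hS ψ hψ hψ1) (hS ψ' hψ' hψ'1), h.hext _ hmem,
      (hf.musub ψ ψ' hψ hψ' hψ1 hψ'1 hne).2, hdl ψ hψ hψ1, smul_sub]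
  set Z : G → ℂ := τ₁ (muSum mu ψ₀) - (δZ : ℂ) • etaSum η ψ₀ with hZ
  have haZ : ∀ ψ : WChar W₁ W₂, TrivOn W₁ ψ → ψ ≠ 1 →
      τ₁ (muSum mu ψ) = (δZ : ℂ) • etaSum η ψ + Z := by
    intro ψ hψ hψ1
    by_cases he : ψ = ψ₀
    · rw [he, hZ]; abel
    · have := hdiff ψ ψ₀ hψ hψ₀ hψ1 hψ₀1 he
      rw [hZ]
      rw [sub_eq_iff_eq_add] at this
      rw [this]; abel
  -- norms
  have haa : ∀ ψ : WChar W₁ W₂, TrivOn W₁ ψ → ψ ≠ 1 →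
      classInner (τ₁ (muSum mu ψ)) (τ₁ (muSum mu ψ)) = (Nat.card W₁ : ℂ) := by
    intro ψ hψ hψ1
    rw [isom_inner h.hτ₁ (hS ψ hψ hψ1) (hS ψ hψ hψ1)]
    exact (Cfsg.Agent.Lib.Helper51.PFCyc.muSum_facts h hf ψ hψ hψ1).2.1
  have hbb : ∀ ψ ψ' : WChar W₁ W₂, TrivOn W₁ ψ → TrivOn W₁ ψ' →
      classInner ((δZ : ℂ) • etaSum η ψ) ((δZ : ℂ) • etaSum η ψ') =
        if ψ = ψ' then (Nat.card W₁ : ℂ) else 0 := by
    intro ψ ψ' hψ hψ'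
    rw [classInner_smul_left, classInner_smul_right, hδconj,
      etaSum_inner_etaSum h.hW hηf hψ hψ', ← mul_assoc, hδsq, one_mul]
  -- `Z` is a generalized character, so its coefficients are integers
  have hEgen : ∀ ψ : WChar W₁ W₂, IsGeneralizedCharacter G (etaSum η ψ) := fun ψ =>
    F.gen_sum _ _ (fun φ _ => eta_gen hηf _)
  have hbgen : ∀ ψ : WChar W₁ W₂, IsGeneralizedCharacter G ((δZ : ℂ) • etaSum η ψ) := by
    intro ψ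
    rcases hδZ with rfl | rfl
    · simpa using hEgen ψ
    · have := gen_neg (hEgen ψ)
      simpa using this
  have hZgen : IsGeneralizedCharacter G Z :=
    F.gen_sub (isom_gen h.hτ₁ (hS ψ₀ hψ₀ hψ₀1)) (hbgen ψ₀)
  have hex : ∀ ω : WChar W₁ W₂, ∃ n : ℤ, classInner Z (η ω) = (n : ℂ) := fun ω =>
    Cfsg.Agent.Lib.Helper25.PFCyc.eta_inner_int η hηf Z hZgen ω
  choose e he using hex
  -- row sums
  have hZE : ∀ ψ : WChar W₁ W₂, classInner Z (etaSum η ψ) =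
      ((∑ φ ∈ trivSet W₁ W₂ W₂, e (φ * ψ) : ℤ) : ℂ) := by
    intro ψ
    have h1 : etaSum η ψ = ∑ φ ∈ trivSet W₁ W₂ W₂, η (φ * ψ) := rfl
    rw [h1, classInner_sum_right]
    push_cast
    exact Finset.sum_congr rfl (fun φ _ => he _)
  have hZb : ∀ ψ : WChar W₁ W₂, classInner Z ((δZ : ℂ) • etaSum η ψ) =
      ((δZ * ∑ φ ∈ trivSet W₁ W₂ W₂, e (φ * ψ) : ℤ) : ℂ) := by
    intro ψ
    rw [classInner_smul_right, hδconj, hZE ψ]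
    push_cast; ring
  -- the norm equation
  have hnorm : ∀ ψ : WChar W₁ W₂, TrivOn W₁ ψ → ψ ≠ 1 →
      classInner Z Z = ((-2 * (δZ * ∑ φ ∈ trivSet W₁ W₂ W₂, e (φ * ψ)) : ℤ) : ℂ) := by
    intro ψ hψ hψ1
    have h1 := haa ψ hψ hψ1
    rw [haZ ψ hψ hψ1, classInner_add_left, classInner_add_right, classInner_add_right,
      hbb ψ ψ hψ hψ, if_pos rfl, hZb ψ, ← classInner_conj_symm Z ((δZ : ℂ) • etaSum η ψ),
      hZb ψ, map_intCast] at h1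
    push_cast at h1 ⊢
    linear_combination h1
  set hh : ℤ := -(δZ * ∑ φ ∈ trivSet W₁ W₂ W₂, e (φ * ψ₀)) with hhdef
  have hZZ : classInner Z Z = ((2 * hh : ℤ) : ℂ) := by
    rw [hnorm ψ₀ hψ₀ hψ₀1, hhdef]
    push_cast; ring
  have hrow : ∀ ψ : WChar W₁ W₂, TrivOn W₁ ψ → ψ ≠ 1 →
      ∑ φ ∈ trivSet W₁ W₂ W₂, e (φ * ψ) = -δZ * hh := by
    intro ψ hψ hψ1
    have h1 := hnorm ψ hψ hψ1
    rw [hZZ] at h1
    have h2 : 2 * hh = -2 * (δZ * ∑ φ ∈ trivSet W₁ W₂ W₂, e (φ * ψ)) := by exact_mod_cast h1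
    have h3 : δZ * δZ = 1 := by rcases hδZ with rfl | rfl <;> norm_num
    have h4 : hh = -(δZ * ∑ φ ∈ trivSet W₁ W₂ W₂, e (φ * ψ)) := by linarith
    rw [h4]
    have : -δZ * -(δZ * ∑ φ ∈ trivSet W₁ W₂ W₂, e (φ * ψ)) =
        (δZ * δZ) * ∑ φ ∈ trivSet W₁ W₂ W₂, e (φ * ψ) := by ring
    rw [this, h3, one_mul]
  have hhnn : 0 ≤ hh := by
    have h1 := Cfsg.Agent.Lib.Helper25.PFCyc.norm_re_nonneg' Z
    rw [hZZ] at h1
    have h2 : (((2 * hh : ℤ) : ℂ)).re = ((2 * hh : ℤ) : ℝ) := by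
      rw [← Complex.ofReal_intCast, Complex.ofReal_re]
    rw [h2] at h1
    have h3 : (0 : ℤ) ≤ 2 * hh := by exact_mod_cast h1
    omega
  -- Bessel
  have hbes : ∑ ψ ∈ trivSet W₁ W₂ W₁, ∑ φ ∈ trivSet W₁ W₂ W₂, (e (φ * ψ)) ^ 2 ≤ 2 * hh := by
    have h1 := Cfsg.Agent.Lib.Helper64.PF11.bessel_on Z η
      (fun ω => by rw [hηf.orthonormal, if_pos rfl])
      (fun ω ω' hne => by rw [hηf.orthonormal, if_neg hne])
      (fun ω => (e ω : ℝ)) (fun ω => by rw [he ω]; push_cast; rfl)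
    rw [hZZ] at h1
    have h2 : (((2 * hh : ℤ) : ℂ)).re = ((2 * hh : ℤ) : ℝ) := by
      rw [← Complex.ofReal_intCast, Complex.ofReal_re]
    rw [h2] at h1
    have h3 := rows_le (W₁ := W₁) (W₂ := W₂) (fun ω => (e ω : ℝ) ^ 2) (fun ω => sq_nonneg _)
    have h4 : ((∑ ψ ∈ trivSet W₁ W₂ W₁, ∑ φ ∈ trivSet W₁ W₂ W₂, (e (φ * ψ)) ^ 2 : ℤ) : ℝ) ≤
        ((2 * hh : ℤ) : ℝ) := by
      push_cast
      push_cast at h1
      linarith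
    exact_mod_cast h4
  -- the rectangle rule
  have hrect : ∀ φ φ' ψ ψ' : WChar W₁ W₂, TrivOn W₂ φ → TrivOn W₂ φ' → TrivOn W₁ ψ →
      TrivOn W₁ ψ' → e (φ * ψ) + e (φ' * ψ') = e (φ * ψ') + e (φ' * ψ) := by
    intro φ φ' ψ ψ' hφ hφ' hψ hψ'
    have hψ₀S := hf.muSum_mem ψ₀ hψ₀ hψ₀1
    obtain ⟨hMc, hMK, -, -, d, -, hd, hβ⟩ :=
      Cfsg.Agent.Lib.Helper51.PFCyc.calS_basic h _ hψ₀S
    obtain ⟨hζc, hζK, -⟩ := Cfsg.Agent.Lib.Helper51.PFCyc.calS_basic h ζ h.hζ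
    have hζz : ζ ∈ zspan (calS M) := subset_zspan _ h.hζ
    have hζcf := Cfsg.Agent.Lib.Helper78.IsCharacter.isClassFunction hζc
    have hMcf := Cfsg.Agent.Lib.Helper78.IsCharacter.isClassFunction hMc
    have hβτ : τ₁ ((d : ℤ) • ζ - muSum mu ψ₀) = (d : ℤ) • τ₁ ζ - τ₁ (muSum mu ψ₀) := by
      rw [isom_sub (isZClosed_zspan _) h.hτ₁ (zspan_zsmul _ hζz) (hS ψ₀ hψ₀ hψ₀1),
        isom_zsmul h.hτ₁ _ hζz]
    have hβcf : IsClassFunction ↥M ((d : ℤ) • ζ - muSum mu ψ₀) := by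
      intro g x
      simp only [Pi.sub_apply, Pi.smul_apply]
      rw [hζcf g x, hMcf g x]
    have hβK : ∀ m : ↥M, (m : G) ∉ ⁅M, M⁆ → ((d : ℤ) • ζ - muSum mu ψ₀) m = 0 := by
      intro m hm
      simp only [Pi.sub_apply, Pi.smul_apply]
      rw [hζK m hm, hMK m hm]; simp
    have hΘcf : IsClassFunction G (tauM M ((d : ℤ) • ζ - muSum mu ψ₀)) :=
      tauM_isClassFunction h hβcf
    have hΘV : ∀ w : ↥(W₁ ⊔ W₂), (w : G) ∉ W₁ → (w : G) ∉ W₂ →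
        tauM M ((d : ℤ) • ζ - muSum mu ψ₀) w = 0 :=
      fun w hw1 hw2 => tauM_vanish_W h hf _ hβcf hβK w hw1 hw2
    have hrec := Cfsg.Agent.S1506.result W₁ W₂ h.hW η hηf _ hΘcf hΘV φ φ' ψ ψ'
      (fun w hw => ⟨hφ w hw, hφ' w hw⟩) (fun w hw => ⟨hψ w hw, hψ' w hw⟩)
    -- coefficients of `Θ`
    have hcoef : ∀ φ₁ ψ₁ : WChar W₁ W₂, TrivOn W₂ φ₁ → TrivOn W₁ ψ₁ →
        classInner (tauM M ((d : ℤ) • ζ - muSum mu ψ₀)) (η (φ₁ * ψ₁)) =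
          -((δZ : ℂ) * (if ψ₁ = ψ₀ then 1 else 0) + (e (φ₁ * ψ₁) : ℂ)) := by
      intro φ₁ ψ₁ hφ₁ hψ₁
      rw [← h.hext _ hβ, hβτ, classInner_sub_left, classInner_zsmul_left, hχ, mul_zero,
        zero_sub, haZ ψ₀ hψ₀ hψ₀1, classInner_add_left, classInner_smul_left,
        etaSum_inner_eta hηf hφ₁ hψ₁ hψ₀, he]
    rw [hcoef φ ψ hφ hψ, hcoef φ' ψ' hφ' hψ', hcoef φ ψ' hφ hψ', hcoef φ' ψ hφ' hψ] at hrec
    have : ((e (φ * ψ) + e (φ' * ψ') : ℤ) : ℂ) = ((e (φ * ψ') + e (φ' * ψ) : ℤ) : ℂ) := by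
      push_cast
      linear_combination (-1 : ℂ) * hrec
    exact_mod_cast this
  -- the lattice argument
  have h1mem : (1 : WChar W₁ W₂) ∈ trivSet W₁ W₂ W₁ := mem_trivSet.2 (trivOn_one _)
  have hlat := lattice_arith
    (ι := {x // x ∈ trivSet W₁ W₂ W₂}) (κ := {x // x ∈ trivSet W₁ W₂ W₁})
    (fun i j => e (i.1 * j.1)) ⟨1, h1mem⟩ δZ hh hδZ hhnn
    (by rw [Fintype.card_coe, hqc]; exact hqpos)
    (by rw [Fintype.card_coe, hpc]; exact hp3)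
    (by
      intro j hj
      have hj1 : j.1 ≠ 1 := fun h0 => hj (Subtype.ext h0)
      have := hrow j.1 (mem_trivSet.1 j.2) hj1
      rw [← this]
      exact Finset.sum_coe_sort (trivSet W₁ W₂ W₂) (fun φ => e (φ * j.1)))
    (by
      have h1 : ∑ j : {x // x ∈ trivSet W₁ W₂ W₁}, ∑ i : {x // x ∈ trivSet W₁ W₂ W₂},
          (e (i.1 * j.1)) ^ 2 =
          ∑ ψ ∈ trivSet W₁ W₂ W₁, ∑ φ ∈ trivSet W₁ W₂ W₂, (e (φ * ψ)) ^ 2 := by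
        rw [← Finset.sum_coe_sort (trivSet W₁ W₂ W₁)]
        apply Finset.sum_congr rfl
        intro j _
        exact Finset.sum_coe_sort (trivSet W₁ W₂ W₂) (fun φ => (e (φ * j.1)) ^ 2)
      rw [h1]; exact hbes)
    (fun i i' j j' => hrect i.1 i'.1 j.1 j'.1 (mem_trivSet.1 i.2) (mem_trivSet.1 i'.2)
      (mem_trivSet.1 j.2) (mem_trivSet.1 j'.2))
  rcases hlat with h0 | ⟨hc3, hhq⟩
  · -- `Z = 0`
    left
    have hZ0 : Z = 0 := by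
      apply classInner_self_eq_zero
      rw [hZZ, h0]; simp
    intro ψ hψ hψ1
    rw [haZ ψ hψ hψ1, hZ0, add_zero, hdl ψ hψ hψ1]
  · right
    rw [Fintype.card_coe, hpc] at hc3
    rw [Fintype.card_coe, hqc] at hhq
    refine ⟨hc3, ?_⟩
    intro ψ hψ hψ1
    have hψi : TrivOn W₁ ψ⁻¹ := hψ.inv
    have hψi1 : ψ⁻¹ ≠ 1 := by
      intro h0
      apply hψ1
      ext w
      have := DFunLike.congr_fun h0 w
      rw [MonoidHom.inv_apply, MonoidHom.one_apply, inv_eq_one] at this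
      rw [this]; rfl
    have hψne : ψ ≠ ψ⁻¹ := fun h0 => hψ1 (eq_one_of_inv_eq hoddW h0.symm)
    rw [hdl ψ hψ hψ1]
    have hy : classInner (τ₁ (muSum mu ψ)) ((δZ : ℂ) • etaSum η ψ⁻¹) = -(Nat.card W₁ : ℂ) := by
      rw [haZ ψ hψ hψ1, classInner_add_left, hbb ψ ψ⁻¹ hψ hψi, if_neg hψne, zero_add, hZb,
        hrow ψ⁻¹ hψi hψi1, hhq]
      have h3 : δZ * δZ = 1 := by rcases hδZ with rfl | rfl <;> norm_num
      have : δZ * (-δZ * (Nat.card W₁ : ℤ)) = -((δZ * δZ) * (Nat.card W₁ : ℤ)) := by ring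
      rw [this, h3]
      push_cast; ring
    have hnorm0 : classInner (τ₁ (muSum mu ψ) + (δZ : ℂ) • etaSum η ψ⁻¹)
        (τ₁ (muSum mu ψ) + (δZ : ℂ) • etaSum η ψ⁻¹) = 0 := by
      rw [classInner_add_left, classInner_add_right, classInner_add_right, haa ψ hψ hψ1, hy,
        ← classInner_conj_symm (τ₁ (muSum mu ψ)) ((δZ : ℂ) • etaSum η ψ⁻¹), hy,
        hbb ψ⁻¹ ψ⁻¹ hψi hψi, if_pos rfl]
      simp
    have := classInner_self_eq_zero hnorm0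
    exact eq_neg_of_add_eq_zero_left this

end Cfsg.Agent.Lib.Helper23.PFCycTau1Mu
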