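-- helper23: PF sec.13 (helper16's S1547 path), module PF13-[OT-INST] (helper4 #5028):
-- `orth_of_two_degrees`: the orthogonality statement of [ORTH] in the tight two-degree configuration
-- (degrees `e₁ < d e₁`, at least `2 d` members of degree `e₁`), from helper4's abstract
-- `tight_beta_eta` / `tight_gamma_eta`.
import Mathlib
import Cfsg.Agent.Lib.Helper16.PF13Defs
import Cfsg.Agent.Lib.Helper4.PFTightAbs
import Cfsg.Agent.Lib.Helper47.PF13Orth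
import Cfsg.Agent.Lib.Helper51.PF13SubCoh
import Cfsg.Agent.Lib.Helper49.PF13MuSub
import Cfsg.Agent.Lib.Helper23.PF13Tau1Mu
import Cfsg.Agent.S1517
import Cfsg.Agent.S1506

set_option autoImplicit false
set_option linter.unusedVariables false
set_option linter.unusedSectionVars false

namespace Cfsg.Agent.Lib.Helper23.PF13OT

open Cfsg Cfsg.Agent.Lib.Helper24.PFCyc Cfsg.Agent.Lib.Helper4.PF Cfsg.Agent.Lib.Helper16.PF13
open Cfsg.Agent.Lib.Helper26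
open scoped ComplexConjugate

universe u

section generic

variable {L : Type u} [Group L] [Fintype L]

/-- `⟨a - n b, c - m e⟩` expanded -/
theorem classInner_sub_zsmul (a b c e : L → ℂ) (n m : ℤ) :
    classInner (a - n • b) (c - m • e) =
      classInner a c - (m : ℂ) * classInner a e - (n : ℂ) * classInner b c +
        (n : ℂ) * (m : ℂ) * classInner b e := by
  rw [classInner_sub_left, classInner_sub_right, classInner_sub_right, classInner_zsmul_left,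
    classInner_zsmul_left, classInner_zsmul_right, classInner_zsmul_right]
  ring

end generic

variable {G : Type u} [Group G] [Fintype G] {S W₁ U W₂ : Subgroup G} [Fintype S]
  {mu : WChar W₁ W₂ → (↥S → ℂ)} {dl : WChar W₁ W₂ → ℂ} {η : WChar W₁ W₂ → (G → ℂ)}

/-- the members of `calZ S` are orthogonal to the principal character of `S` -/
theorem calZ_inner_one {ζ : ↥S → ℂ} (hζ : ζ ∈ calZ S) :
    classInner (fun _ : ↥S => (1 : ℂ)) ζ = 0 := by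
  classical
  obtain ⟨θ, hθ, hk, rfl⟩ := Cfsg.Agent.Lib.Helper51.PF13.mem_calZ_iff.mp hζ
  have hne := Cfsg.Agent.Lib.Helper51.PF13.ne_one_of_exists hk
  have hcf : IsClassFunction ↥S (fun _ : ↥S => (1 : ℂ)) := fun _ _ => rfl
  rw [Cfsg.Agent.Lib.Helper75.frobenius_reciprocity' (KM S) θ hcf]
  exact Cfsg.Agent.Lib.Helper78.classInner_irr_ne Cfsg.Agent.Lib.Helper78.isIrrCharacter_one hθ
    (fun hc => hne hc.symm)


/-- **MODULE PF13-[OT-INST]**: the orthogonality statement in the tight two-degree configuration. -/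
theorem orth_of_two_degrees (h : PSide S W₁ U W₂ mu dl η) (e₁ d : ℕ) (hd : 2 ≤ d) (he₁ : 0 < e₁)
    (hdeg : ∀ ζ ∈ calZ S, ζ 1 = (e₁ : ℂ) ∨ ζ 1 = ((d * e₁ : ℕ) : ℂ))
    (hmu : ∀ ψ : WChar W₁ W₂, TrivOn W₁ ψ → ψ ≠ 1 → muSum mu ψ 1 = ((d * e₁ : ℕ) : ℂ))
    (hcount : 2 * d ≤ {ζ : ↥S → ℂ | ζ ∈ calZ S ∧ ζ 1 = (e₁ : ℂ)}.ncard)
    (hp5 : 5 ≤ Nat.card W₂)
    (φ ψ : WChar W₁ W₂) (hφ : TrivOn W₂ φ) (hψ : TrivOn W₁ ψ) (hψ1 : ψ ≠ 1) :
    ∃ (ε : ℤ) (ψ' : WChar W₁ W₂), (ε = 1 ∨ ε = -1) ∧ TrivOn W₁ ψ' ∧ ψ' ≠ 1 ∧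
      ∀ α ∈ zspanOn (calZ S) ({1}ᶜ : Set ↥S),
        classInner (fun s : ↥S => η (φ * ψ) (s : G) - (ε : ℂ) * mu ψ' s) α = 0 := by
  classical
  obtain ⟨hZsub, hZchar, hZorth, hZvan, hZmu, hZcases⟩ := Cfsg.Agent.Lib.Helper51.PF13.calZ_facts h
  obtain ⟨δ, hδ, hdl, hsub⟩ := Cfsg.Agent.Lib.Helper49.PF13.musub_pair h
  have F := irrFacts ↥S
  have FG := irrFacts G
  have hW : IsSelfNormalizingCyclic W₁ W₂ := h.hP.selfNormalizing
  have hδc : conj δ = δ := by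
    rcases hδ with h1 | h1 <;> rw [h1] <;> simp
  obtain ⟨εZ, hεZ, hεδ⟩ : ∃ εZ : ℤ, (εZ = 1 ∨ εZ = -1) ∧ (εZ : ℂ) = δ := by
    rcases hδ with h1 | h1
    · exact ⟨1, Or.inl rfl, by rw [h1]; simp⟩
    · exact ⟨-1, Or.inr rfl, by rw [h1]; simp⟩
  have he₁c : (e₁ : ℂ) ≠ 0 := by exact_mod_cast he₁.ne'
  have hde₁ : ((d * e₁ : ℕ) : ℂ) ≠ (e₁ : ℂ) := by
    intro hc
    have h1 : d * e₁ = e₁ := by exact_mod_cast hc
    have h2 : d * e₁ = 1 * e₁ := by rw [h1, one_mul]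
    have h3 := Nat.eq_of_mul_eq_mul_right he₁ h2
    omega
  -- reduction to the Dade map, by Frobenius reciprocity (helper47)
  have red : ∀ (ε : ℤ) (ψ' : WChar W₁ W₂), (∀ α ∈ zspanOn (calZ S) ({1}ᶜ : Set ↥S),
      classInner (η (φ * ψ)) (tauM S α) = (ε : ℂ) * classInner (mu ψ') α) →
      ∀ α ∈ zspanOn (calZ S) ({1}ᶜ : Set ↥S),
        classInner (fun s : ↥S => η (φ * ψ) (s : G) - (ε : ℂ) * mu ψ' s) α = 0 := by
    intro ε ψ' hkey α hα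
    have e1 : (fun s : ↥S => η (φ * ψ) (s : G) - (ε : ℂ) * mu ψ' s) =
        (fun s : ↥S => η (φ * ψ) (s : G)) - (ε : ℂ) • mu ψ' := by
      funext s
      simp
    rw [e1, classInner_sub_left, classInner_smul_left,
      ← Cfsg.Agent.Lib.Helper75.frobenius_reciprocity' S α
        (Cfsg.Agent.Lib.Helper47.PF13.eta_isClassFunction h.hη _),
      ← Cfsg.Agent.Lib.Helper47.PF13.tauM_eq_indFun h (fun χ hχ => (hZchar χ hχ).1) hZvan hα,
      hkey α hα, sub_self]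
  -- the sub-family of the members of degree `e₁`
  set S1 : Set (↥S → ℂ) := {ζ : ↥S → ℂ | ζ ∈ calZ S ∧ ζ 1 = (e₁ : ℂ)} with hS1def
  have hS1sub : S1 ⊆ calZ S := fun ζ hζ => hζ.1
  have hcard4 : 4 ≤ S1.ncard := by omega
  have hS1fin : S1.Finite := Set.finite_of_ncard_pos (by omega)
  have hS1ne : S1.Nonempty := Set.nonempty_of_ncard_ne_zero (by omega)
  have hS1conj : ∀ χ ∈ S1, conjFun χ ∈ S1 := by
    intro χ hχ
    refine ⟨(hZchar χ hχ.1).2.1, ?_⟩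
    show conj (χ 1) = (e₁ : ℂ)
    rw [hχ.2]
    simp
  have hS1irr : ∀ ζ ∈ S1, IsIrrCharacter ↥S ζ ∧ ∀ ω, ζ ≠ mu ω := by
    intro ζ hζ
    rcases hZcases ζ hζ.1 with hi | ⟨ψ'', hψ'', hψ''1, rfl⟩
    · exact hi
    · exfalso
      apply hde₁
      rw [← hmu ψ'' hψ'' hψ''1]
      exact hζ.2
  obtain ⟨φ₀, hφ₀⟩ := hS1ne
  have hφ₀Z : φ₀ ∈ calZ S := hφ₀.1
  have hφ₀i := (hS1irr φ₀ hφ₀).1
  have hφ₀mu := (hS1irr φ₀ hφ₀).2
  have hφ₀1 : φ₀ 1 = (e₁ : ℂ) := hφ₀.2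
  -- coherence of `S1`
  obtain ⟨R, hR, -, -⟩ := Cfsg.Agent.Lib.Helper51.PF13.subcoherent_calZ_sub h S1 hS1sub
    ⟨φ₀, hφ₀⟩ hS1conj
  have hcoh1 : IsCoherent S1 ({1}ᶜ : Set ↥S) (tauM S) :=
    Cfsg.Agent.S1517.result S1 (tauM S) R hR (fun a ha b hb => by rw [ha.2, hb.2])
  obtain ⟨-, τ₁, hτ₁, hext⟩ := hcoh1
  -- the Dade isometry on `zspanOn (calZ S) {1}ᶜ`
  obtain ⟨R', hR', -, -⟩ := Cfsg.Agent.Lib.Helper51.PF13.subcoherent_calZ h ⟨φ₀, hφ₀Z⟩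
  have hiso : IsLinearIsometryOn (zspanOn (calZ S) ({1}ᶜ : Set ↥S)) (tauM S) := hR'.isometry
  -- membership facts
  have hS1z : ∀ ζ ∈ S1, ζ ∈ zspan S1 := fun ζ hζ => subset_zspan _ hζ
  have hZz : ∀ ζ ∈ calZ S, ζ ∈ zspan (calZ S) := fun ζ hζ => subset_zspan _ hζ
  have hdiff1 : ∀ ζ ∈ S1, ζ - φ₀ ∈ zspanOn S1 ({1}ᶜ : Set ↥S) := by
    intro ζ hζ
    rw [mem_zspanOn_compl_one]
    refine ⟨zspan_sub (hS1z ζ hζ) (hS1z φ₀ hφ₀), ?_⟩
    rw [Pi.sub_apply, hζ.2, hφ₀1, sub_self]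
  have hdiff1' : ∀ ζ ∈ S1, ζ - φ₀ ∈ zspanOn (calZ S) ({1}ᶜ : Set ↥S) :=
    fun ζ hζ => zspanOn_mono _ hS1sub (hdiff1 ζ hζ)
  have htau1 : ∀ ζ ∈ S1, tauM S (ζ - φ₀) = τ₁ ζ - τ₁ φ₀ := by
    intro ζ hζ
    rw [← hext _ (hdiff1 ζ hζ), isom_sub (isZClosed_zspan _) hτ₁ (hS1z ζ hζ) (hS1z φ₀ hφ₀)]
  have hbridge : ∀ χ ∈ calZ S, χ 1 = ((d * e₁ : ℕ) : ℂ) →
      χ - (d : ℤ) • φ₀ ∈ zspanOn (calZ S) ({1}ᶜ : Set ↥S) := by
    intro χ hχ hχ1
    rw [mem_zspanOn_compl_one]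
    refine ⟨zspan_sub (hZz χ hχ) (zspan_zsmul _ (hZz φ₀ hφ₀Z)), ?_⟩
    rw [Pi.sub_apply, Pi.smul_apply, hχ1, hφ₀1, zsmul_eq_mul]
    push_cast
    ring
  -- the index type and the orthonormal family `X`
  let I : Type u := ↥(hS1fin.toFinset)
  have hImem : ∀ k : I, k.1 ∈ S1 := fun k => hS1fin.mem_toFinset.1 k.2
  have hIcard : Fintype.card I = S1.ncard := by
    rw [Fintype.card_coe, Set.ncard_eq_toFinset_card S1 hS1fin]
  let k₀ : I := ⟨φ₀, hS1fin.mem_toFinset.2 hφ₀⟩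
  let X : I → G → ℂ := fun k => τ₁ k.1
  have hXdef : ∀ k : I, X k = τ₁ k.1 := fun _ => rfl
  have hX : ∀ k k' : I, classInner (X k) (X k') = if k = k' then 1 else 0 := by
    intro k k'
    rw [hXdef, hXdef, isom_inner hτ₁ (hS1z _ (hImem k)) (hS1z _ (hImem k')),
      F.orthonormal _ _ (hS1irr _ (hImem k)).1 (hS1irr _ (hImem k')).1]
    by_cases hkk : k = k'
    · rw [if_pos hkk, if_pos (congrArg Subtype.val hkk)]
    · rw [if_neg hkk, if_neg (fun hc => hkk (Subtype.ext hc))]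
  have hXgen : ∀ k : I, IsGeneralizedCharacter G (X k) :=
    fun k => isom_gen hτ₁ (hS1z _ (hImem k))
  have hXη : ∀ (k : I) (ω : WChar W₁ W₂), classInner (X k) (η ω) = 0 := fun k ω =>
    Cfsg.Agent.Lib.Helper51.PF13.tau1_irr_orth_sub h hS1sub hS1conj hτ₁ hext k.1 (hImem k)
      (hS1irr _ (hImem k)).1 ω
  have hn1 : 2 * d ≤ Fintype.card I := by rw [hIcard]; exact hcount
  have hn3 : 3 ≤ Fintype.card I := by rw [hIcard]; omega
  have hXk₀ : X k₀ = τ₁ φ₀ := rfl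
  have hXsub : ∀ k : I, X k - X k₀ = tauM S (k.1 - φ₀) := by
    intro k
    rw [htau1 _ (hImem k)]
  -- the bridging elements `χ - d φ₀`, `χ ∈ calZ S` of degree `d e₁`
  have hbrne : ∀ χ ∈ calZ S, χ 1 = ((d * e₁ : ℕ) : ℂ) → ∀ ζ ∈ S1, χ ≠ ζ := by
    intro χ hχ hχ1 ζ hζ hc
    apply hde₁
    rw [← hχ1, hc]
    exact hζ.2
  have hbrX : ∀ χ ∈ calZ S, χ 1 = ((d * e₁ : ℕ) : ℂ) → ∀ k : I, k ≠ k₀ →
      classInner (tauM S (χ - (d : ℤ) • φ₀)) (X k) =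
        classInner (tauM S (χ - (d : ℤ) • φ₀)) (X k₀) + d := by
    intro χ hχ hχ1 k hk
    have hkne : k.1 ≠ φ₀ := fun hc => hk (Subtype.ext hc)
    have h1 : classInner (tauM S (χ - (d : ℤ) • φ₀)) (X k - X k₀) = d := by
      rw [hXsub k, isom_inner hiso (hbridge χ hχ hχ1) (hdiff1' _ (hImem k))]
      simp only [classInner_sub_left, classInner_sub_right, classInner_zsmul_left]
      rw [hZorth χ hχ k.1 (hS1sub (hImem k)) (hbrne χ hχ hχ1 _ (hImem k)),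
        hZorth χ hχ φ₀ hφ₀Z (hbrne χ hχ hχ1 _ hφ₀),
        hZorth φ₀ hφ₀Z k.1 (hS1sub (hImem k)) (Ne.symm hkne),
        Cfsg.Agent.Lib.Helper78.classInner_irr_self hφ₀i]
      push_cast
      ring
    rw [classInner_sub_right] at h1
    linear_combination h1
  have hbrn : ∀ χ ∈ calZ S, χ 1 = ((d * e₁ : ℕ) : ℂ) →
      classInner (tauM S (χ - (d : ℤ) • φ₀)) (tauM S (χ - (d : ℤ) • φ₀)) =
        classInner χ χ + (d : ℂ) ^ 2 := by
    intro χ hχ hχ1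
    rw [isom_inner hiso (hbridge χ hχ hχ1) (hbridge χ hχ hχ1)]
    simp only [classInner_sub_left, classInner_sub_right, classInner_zsmul_left,
      classInner_zsmul_right]
    rw [hZorth χ hχ φ₀ hφ₀Z (hbrne χ hχ hχ1 _ hφ₀),
      hZorth φ₀ hφ₀Z χ hχ (Ne.symm (hbrne χ hχ hχ1 _ hφ₀)),
      Cfsg.Agent.Lib.Helper78.classInner_irr_self hφ₀i]
    push_cast
    ring
  -- (g3): irreducible members of degree `d e₁`
  have g3 : ∀ χ ∈ calZ S, IsIrrCharacter ↥S χ → χ 1 = ((d * e₁ : ℕ) : ℂ) →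
      ∀ ω, classInner (tauM S (χ - (d : ℤ) • φ₀)) (η ω) = 0 := by
    intro χ hχ hχi hχ1
    have hcχ : conjFun χ ∈ calZ S := (hZchar χ hχ).2.1
    have hcχne : conjFun χ ≠ χ := (hZchar χ hχ).2.2
    have hcχi : IsIrrCharacter ↥S (conjFun χ) := Cfsg.Agent.Lib.Helper81.isIrrCharacter_conj hχi
    have hcχ1 : conjFun χ 1 = ((d * e₁ : ℕ) : ℂ) := by
      show conj (χ 1) = _
      rw [hχ1]
      simp
    obtain ⟨ν, hν, hτν, -, hνη⟩ := Cfsg.Agent.Lib.Helper51.PF13.irr_member_calZ h hχ hχi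
    have hdiffeq : tauM S (χ - (d : ℤ) • φ₀) - tauM S (conjFun χ - (d : ℤ) • φ₀) =
        tauM S (χ - conjFun χ) := by
      rw [← tauM_sub]
      congr 1
      abel
    have hmem : χ - conjFun χ ∈ zspanOn (calZ S) ({1}ᶜ : Set ↥S) := by
      rw [mem_zspanOn_compl_one]
      refine ⟨zspan_sub (hZz χ hχ) (hZz _ hcχ), ?_⟩
      rw [Pi.sub_apply, hχ1, hcχ1, sub_self]
    refine Cfsg.Agent.Lib.Helper4.PFTight.tight_gamma_eta h.hη k₀ X hX hXgen hXη d hn1 hn3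
      (tauM S (χ - (d : ℤ) • φ₀)) (tauM S (conjFun χ - (d : ℤ) • φ₀))
      (isom_gen hiso (hbridge χ hχ hχ1)) (isom_gen hiso (hbridge _ hcχ hcχ1))
      (hbrX χ hχ hχ1) (hbrX _ hcχ hcχ1) ?_ ?_ ?_ ?_
    · rw [hbrn χ hχ hχ1, Cfsg.Agent.Lib.Helper78.classInner_irr_self hχi]
    · rw [hbrn _ hcχ hcχ1, Cfsg.Agent.Lib.Helper78.classInner_irr_self hcχi]
    · intro ω
      rw [hdiffeq, hτν, classInner_sub_left, (hνη ω).1, (hνη ω).2, sub_zero]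
    · rw [hdiffeq, isom_inner hiso hmem hmem]
      simp only [classInner_sub_left, classInner_sub_right]
      rw [Cfsg.Agent.Lib.Helper78.classInner_irr_self hχi,
        Cfsg.Agent.Lib.Helper78.classInner_irr_self hcχi,
        Cfsg.Agent.Lib.Helper78.classInner_irr_ne hχi hcχi (Ne.symm hcχne),
        Cfsg.Agent.Lib.Helper78.classInner_irr_ne hcχi hχi hcχne]
      ring
  -- (g2): the `μ_ψ`
  have hqc : (trivSet W₁ W₂ W₂).card = Nat.card W₁ :=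
    Cfsg.Agent.Lib.Helper51.PFCyc.card_trivSet_W₂ hW
  have hnormmu : ∀ ω : WChar W₁ W₂, classInner (muSum mu ω) (muSum mu ω) = (Nat.card W₁ : ℂ) := by
    intro ω
    unfold muSum
    rw [Cfsg.Agent.Lib.Helper51.PFCyc.classInner_sum_irr_self (trivSet W₁ W₂ W₂)
      (fun φ => mu (φ * ω)) (fun φ _ => h.md.irr _)
      (fun φ _ φ' _ hh => mul_right_cancel (h.md.inj hh)), hqc]
  have hoffK : ∀ χ ∈ calZ S, ∀ m : ↥S, (m : G) ∉ ⁅S, S⁆ → χ m = 0 := by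
    intro χ hχm m hm
    apply hZvan χ hχm m
    · rintro rfl
      exact hm (Subgroup.one_mem _)
    · intro hmA
      exact hm (h.hA_sub _ hmA).1
  have g2 : ∀ ψ'' : WChar W₁ W₂, TrivOn W₁ ψ'' → ψ'' ≠ 1 →
      ∀ φ' ψ' : WChar W₁ W₂, TrivOn W₂ φ' → TrivOn W₁ ψ' →
        classInner (tauM S (muSum mu ψ'' - (d : ℤ) • φ₀)) (η (φ' * ψ')) =
          if ψ' = ψ'' then (εZ : ℂ) else 0 := by
    intro ψ'' hψ'' hψ''1
    have hmem : ∀ ψ₂ : WChar W₁ W₂, TrivOn W₁ ψ₂ → ψ₂ ≠ 1 →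
        muSum mu ψ₂ - (d : ℤ) • φ₀ ∈ zspanOn (calZ S) ({1}ᶜ : Set ↥S) :=
      fun ψ₂ h2 h21 => hbridge _ (hZmu ψ₂ h2 h21) (hmu ψ₂ h2 h21)
    have hαmem := hmem ψ'' hψ'' hψ''1
    have hβgen : IsGeneralizedCharacter G (tauM S (muSum mu ψ'' - (d : ℤ) • φ₀)) :=
      isom_gen hiso hαmem
    obtain ⟨c₀, hc₀, -⟩ := Cfsg.Agent.Lib.Helper25.inner_int' hβgen (hXgen k₀)
    have hex : ∀ ω : WChar W₁ W₂, ∃ n : ℤ,
        classInner (tauM S (muSum mu ψ'' - (d : ℤ) • φ₀)) (η ω) = (n : ℂ) := fun ω =>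
      Cfsg.Agent.Lib.Helper25.PFCyc.eta_inner_int η h.hη _ hβgen ω
    choose e he using hex
    have hαcf : IsClassFunction ↥S (muSum mu ψ'' - (d : ℤ) • φ₀) :=
      Cfsg.Agent.Lib.Helper47.PF13.isClassFunction_of_mem_zspan
        (fun χ hχ => Cfsg.Agent.Lib.Helper3.IsCharacter.isClassFunction (hZchar χ hχ).1) hαmem.1
    have hαK : ∀ m : ↥S, (m : G) ∉ ⁅S, S⁆ → (muSum mu ψ'' - (d : ℤ) • φ₀) m = 0 :=
      fun m hm => Cfsg.Agent.Lib.Helper47.PF13.zspan_apply_eq_zero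
        (fun χ hχ => hoffK χ hχ m hm) hαmem.1
    have hΘcf : IsClassFunction G (tauM S (muSum mu ψ'' - (d : ℤ) • φ₀)) :=
      Cfsg.Agent.Lib.Helper3.Dade.dade_isClassFunction h.hD hαcf
    have hΘV : ∀ w : ↥(W₁ ⊔ W₂), (w : G) ∉ W₁ → (w : G) ∉ W₂ →
        tauM S (muSum mu ψ'' - (d : ℤ) • φ₀) w = 0 :=
      fun w hw1 hw2 => Cfsg.Agent.Lib.Helper23.PF13.tauM_vanish_W' h.hP h.hD _ hαcf hαK w hw1 hw2
    have he1 : e 1 = 0 := by
      have h1 : classInner (tauM S (muSum mu ψ'' - (d : ℤ) • φ₀)) (η 1) = 0 := by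
        have hcf1 : IsClassFunction G (fun _ : G => (1 : ℂ)) := fun _ _ => rfl
        have h2 : classInner (fun _ : G => (1 : ℂ)) (tauM S (muSum mu ψ'' - (d : ℤ) • φ₀)) = 0 := by
          rw [Cfsg.Agent.Lib.Helper47.PF13.tauM_eq_indFun h (fun χ hχ => (hZchar χ hχ).1) hZvan
            hαmem, Cfsg.Agent.Lib.Helper75.frobenius_reciprocity' S _ hcf1]
          show classInner (fun _ : ↥S => (1 : ℂ)) (muSum mu ψ'' - (d : ℤ) • φ₀) = 0
          rw [classInner_sub_right, classInner_zsmul_right,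
            calZ_inner_one (hZmu ψ'' hψ'' hψ''1), calZ_inner_one hφ₀Z]
          ring
        rw [h.hη.map_one, ← classInner_conj_symm, h2]
        simp
      have h3 := he 1
      rw [h1] at h3
      exact_mod_cast h3.symm
    have hrect : ∀ φ₁ ψ₁ : WChar W₁ W₂, TrivOn W₂ φ₁ → TrivOn W₁ ψ₁ →
        e (φ₁ * ψ₁) = e φ₁ + e ψ₁ := by
      intro φ₁ ψ₁ hφ₁ hψ₁
      have hrec := Cfsg.Agent.S1506.result W₁ W₂ hW η h.hη _ hΘcf hΘV φ₁ 1 ψ₁ 1
        (fun w hw => ⟨hφ₁ w hw, rfl⟩) (fun w hw => ⟨hψ₁ w hw, rfl⟩)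
      rw [show (1 : WChar W₁ W₂) * 1 = 1 from mul_one (1 : WChar W₁ W₂),
        show φ₁ * (1 : WChar W₁ W₂) = φ₁ from mul_one φ₁,
        show (1 : WChar W₁ W₂) * ψ₁ = ψ₁ from one_mul ψ₁] at hrec
      rw [he, he, he, he, he1] at hrec
      have h4 : e (φ₁ * ψ₁) + 0 = e φ₁ + e ψ₁ := by exact_mod_cast hrec
      rw [add_zero] at h4
      exact h4
    have hβnorm : ∀ ψ₂ : WChar W₁ W₂, TrivOn W₁ ψ₂ → ψ₂ ≠ 1 →
        classInner (tauM S (muSum mu ψ₂ - (d : ℤ) • φ₀)) (tauM S (muSum mu ψ₂ - (d : ℤ) • φ₀)) =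
          (Nat.card W₁ : ℂ) + (d : ℂ) ^ 2 := by
      intro ψ₂ h2 h21
      rw [hbrn _ (hZmu ψ₂ h2 h21) (hmu ψ₂ h2 h21), hnormmu]
    have hβdiff : ∀ ψ₂ : WChar W₁ W₂, TrivOn W₁ ψ₂ → ψ₂ ≠ 1 →
        tauM S (muSum mu ψ₂ - (d : ℤ) • φ₀) - tauM S (muSum mu ψ'' - (d : ℤ) • φ₀) =
          (εZ : ℂ) • (etaSum η ψ₂ - etaSum η ψ'') := by
      intro ψ₂ h2 h21
      by_cases e2 : ψ₂ = ψ''
      · rw [e2, sub_self, sub_self, smul_zero]
      · rw [← tauM_sub, hεδ]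
        have h5 : muSum mu ψ₂ - (d : ℤ) • φ₀ - (muSum mu ψ'' - (d : ℤ) • φ₀) =
            muSum mu ψ₂ - muSum mu ψ'' := by abel
        rw [h5]
        exact hsub ψ₂ ψ'' h2 hψ'' h21 hψ''1 e2
    exact Cfsg.Agent.Lib.Helper4.PFTight.tight_beta_eta hW h.hη hp5 k₀ X hX hXη d hn1 εZ hεZ
      (fun ψ₂ => tauM S (muSum mu ψ₂ - (d : ℤ) • φ₀)) ψ'' hψ'' hψ''1 c₀ hc₀
      (hbrX _ (hZmu ψ'' hψ'' hψ''1) (hmu ψ'' hψ'' hψ''1)) e he he1 hrect hβnorm hβdiff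
  -- the defect functional (helper47)
  have htau0 : tauM S (0 : ↥S → ℂ) = 0 := by
    have h0 := tauM_smul S (0 : ℂ) (0 : ↥S → ℂ)
    simpa using h0
  let Lf : (↥S → ℂ) → ℂ := fun β =>
    classInner (η (φ * ψ)) (tauM S β) - δ * classInner (mu ψ) β
  have L_def : ∀ β, Lf β = classInner (η (φ * ψ)) (tauM S β) - δ * classInner (mu ψ) β :=
    fun _ => rfl
  have L_add : ∀ x y, Lf (x + y) = Lf x + Lf y := by
    intro x y
    rw [L_def, L_def, L_def, tauM_add, classInner_add_right, classInner_add_right]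
    ring
  have L_sub : ∀ x y, Lf (x - y) = Lf x - Lf y := by
    intro x y
    rw [L_def, L_def, L_def, tauM_sub, classInner_sub_right, classInner_sub_right]
    ring
  have L_zsmul : ∀ (a : ℤ) x, Lf (a • x) = (a : ℂ) * Lf x := by
    intro a x
    rw [L_def, L_def, tauM_zsmul, classInner_zsmul_right, classInner_zsmul_right]
    ring
  have L_zero : Lf 0 = 0 := by
    rw [L_def, htau0, classInner_zero_right, classInner_zero_right, mul_zero, sub_zero]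
  -- `⟨μ_ψ, ζ⟩ = 0` for the irreducible members
  have hmuirr : ∀ ζ : ↥S → ℂ, IsIrrCharacter ↥S ζ → (∀ ω, ζ ≠ mu ω) →
      classInner (mu ψ) ζ = 0 := by
    intro ζ hζi hζne
    rw [F.orthonormal _ _ (h.md.irr ψ) hζi, if_neg (fun e => hζne ψ e.symm)]
  have hmuφ₀ : classInner (mu ψ) φ₀ = 0 := hmuirr φ₀ hφ₀i hφ₀mu
  -- the three kinds of generators
  have L_g1 : ∀ ζ ∈ S1, Lf ζ = Lf φ₀ := by
    intro ζ hζ
    have h0 : Lf (ζ - φ₀) = 0 := by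
      have h1 : classInner (η (φ * ψ)) (τ₁ ζ) = 0 := by
        rw [← classInner_conj_symm,
          Cfsg.Agent.Lib.Helper51.PF13.tau1_irr_orth_sub h hS1sub hS1conj hτ₁ hext ζ hζ
            (hS1irr ζ hζ).1 (φ * ψ)]
        simp
      have h2 : classInner (η (φ * ψ)) (τ₁ φ₀) = 0 := by
        rw [← classInner_conj_symm,
          Cfsg.Agent.Lib.Helper51.PF13.tau1_irr_orth_sub h hS1sub hS1conj hτ₁ hext φ₀ hφ₀
            hφ₀i (φ * ψ)]
        simp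
      rw [L_def, htau1 ζ hζ, classInner_sub_right, classInner_sub_right, h1, h2,
        hmuirr ζ (hS1irr ζ hζ).1 (hS1irr ζ hζ).2, hmuφ₀]
      ring
    rw [L_sub] at h0
    exact sub_eq_zero.1 h0
  have L_g2 : ∀ ψ'' : WChar W₁ W₂, TrivOn W₁ ψ'' → ψ'' ≠ 1 →
      Lf (muSum mu ψ'') = (d : ℂ) * Lf φ₀ := by
    intro ψ'' hψ'' hψ''1
    have h0 : Lf (muSum mu ψ'' - (d : ℤ) • φ₀) = 0 := by
      have h1 : classInner (η (φ * ψ)) (tauM S (muSum mu ψ'' - (d : ℤ) • φ₀)) =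
          if ψ = ψ'' then δ else 0 := by
        rw [← classInner_conj_symm, g2 ψ'' hψ'' hψ''1 φ ψ hφ hψ, hεδ]
        split_ifs
        · exact hδc
        · simp
      rw [L_def, h1, classInner_sub_right, classInner_zsmul_right,
        Cfsg.Agent.Lib.Helper47.PF13.mu_inner_muSum h.md hψ hψ'', hmuφ₀]
      split_ifs <;> ring
    rw [L_sub, L_zsmul] at h0
    have h1 := sub_eq_zero.1 h0
    rw [h1]
    push_cast
    ring
  have L_g3 : ∀ χ ∈ calZ S, IsIrrCharacter ↥S χ → (∀ ω, χ ≠ mu ω) →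
      χ 1 = ((d * e₁ : ℕ) : ℂ) → Lf χ = (d : ℂ) * Lf φ₀ := by
    intro χ hχ hχi hχne hχ1
    have h0 : Lf (χ - (d : ℤ) • φ₀) = 0 := by
      have h1 : classInner (η (φ * ψ)) (tauM S (χ - (d : ℤ) • φ₀)) = 0 := by
        rw [← classInner_conj_symm, g3 χ hχ hχi hχ1 (φ * ψ)]
        simp
      rw [L_def, h1, classInner_sub_right, classInner_zsmul_right, hmuirr χ hχi hχne, hmuφ₀]
      ring
    rw [L_sub, L_zsmul] at h0
    have h1 := sub_eq_zero.1 h0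
    rw [h1]
    push_cast
    ring
  have main : ∀ β ∈ zspan (calZ S), ∃ n : ℤ, β 1 = (n : ℂ) * (e₁ : ℂ) ∧
      Lf β = (n : ℂ) * Lf φ₀ := by
    intro β hβ
    have hβ' : β ∈ Submodule.span ℤ (calZ S) := hβ
    refine Submodule.span_induction
      (p := fun β _ => ∃ n : ℤ, β 1 = (n : ℂ) * (e₁ : ℂ) ∧ Lf β = (n : ℂ) * Lf φ₀)
      ?_ ?_ ?_ ?_ hβ'
    · intro x hx
      rcases hZcases x hx with ⟨hxi, hxne⟩ | ⟨ψ'', hψ'', hψ''1, rfl⟩
      · rcases hdeg x hx with hx1 | hx1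
        · refine ⟨1, ?_, ?_⟩
          · rw [hx1]
            simp
          · rw [L_g1 x ⟨hx, hx1⟩]
            simp
        · refine ⟨(d : ℤ), ?_, ?_⟩
          · rw [hx1]
            push_cast
            ring
          · rw [L_g3 x hx hxi hxne hx1]
            push_cast
            ring
      · refine ⟨(d : ℤ), ?_, ?_⟩
        · rw [hmu ψ'' hψ'' hψ''1]
          push_cast
          ring
        · rw [L_g2 ψ'' hψ'' hψ''1]
          push_cast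
          ring
    · refine ⟨0, ?_, ?_⟩
      · simp
      · rw [L_zero]
        simp
    · rintro x y _ _ ⟨n₁, hx1, hx2⟩ ⟨n₂, hy1, hy2⟩
      refine ⟨n₁ + n₂, ?_, ?_⟩
      · rw [Pi.add_apply, hx1, hy1]
        push_cast
        ring
      · rw [L_add, hx2, hy2]
        push_cast
        ring
    · rintro a x _ ⟨n₁, hx1, hx2⟩
      refine ⟨a * n₁, ?_, ?_⟩
      · rw [Pi.smul_apply, hx1, zsmul_eq_mul]
        push_cast
        ring
      · rw [L_zsmul, hx2]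
        push_cast
        ring
  refine ⟨εZ, ψ, hεZ, hψ, hψ1, red εZ ψ ?_⟩
  intro α hα
  obtain ⟨n, hn1', hn2⟩ := main α hα.1
  have hα1 : α 1 = 0 := hα.2 1 (by simp)
  rw [hα1] at hn1'
  have hn0 : (n : ℂ) = 0 := by
    rcases mul_eq_zero.1 hn1'.symm with h0 | h0
    · exact h0
    · exact absurd h0 he₁c
  rw [hn0, zero_mul, L_def] at hn2
  rw [hεδ]
  exact sub_eq_zero.1 hn2

end Cfsg.Agent.Lib.Helper23.PF13OT
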