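/-
helper23 shared library: Bender–Glauberman Theorem 10.6 (every proper subgroup of a minimal simple
group of odd order has `p`-length one), proved from the statements of S1404, S1405, S1407 and S1444
taken as hypotheses.
All declarations live in `Cfsg.Agent.Lib.Helper23`.
-/
import Mathlib
import Cfsg.Prelude.Def_OddOrderLocal
import Cfsg.Agent.Lib.Helper63.PLen3
import Cfsg.Agent.Lib.Helper34.SigmaFusion
import Cfsg.Agent.Lib.Helper33.TransferControl2
import Cfsg.Agent.Lib.Helper76.PCore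
import Cfsg.Agent.S1459
import Cfsg.Agent.S1450
import Cfsg.Agent.Lib.Helper50.AlphaCore

set_option autoImplicit false

namespace Cfsg.Agent.Lib.Helper23

open Cfsg
open scoped commutatorElement

universe u

section PLength

variable {X : Type*} [Group X] [Finite X] {p : ℕ} [hp : Fact p.Prime]

/-- A group with a normal `p`-subgroup of index prime to `p` has `p`-length at most one. -/
theorem plengthLE_one_of_normal_pGroup (R : Subgroup X) [R.Normal] (hR : IsPGroup p R)
    (hidx : R.index.Coprime p) : PLengthLE p 1 X := by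
  have h1 : PLengthLE p 1 ↥R := Cfsg.Agent.Lib.Helper63.PLengthLE.one_of_isPGroup hR
  have h0 : PLengthLE p 0 (X ⧸ R) := by
    apply Cfsg.Agent.Lib.Helper63.PLengthLE.zero_of_coprime
    rw [← Subgroup.index_eq_card]
    exact hidx
  exact Cfsg.Agent.Lib.Helper63.PLengthLE.extension R h1 h0

/-- If `O_{p',p}(X)` has index prime to `p`, then `X` has `p`-length at most one. -/
theorem plengthLE_one_of_index_pPrimePCore (h : (pPrimePCore p X).index.Coprime p) :
    PLengthLE p 1 X := by
  have h0 : PLengthLE p 0 ↥(pPrimeCore p X) :=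
    Cfsg.Agent.Lib.Helper63.PLengthLE.zero_of_coprime (Cfsg.Agent.Lib.Helper76.pPrimeCore_coprime p)
  have hidx : (pCore p (X ⧸ pPrimeCore p X)).index = (pPrimePCore p X).index := by
    unfold pPrimePCore
    rw [Subgroup.index_comap_of_surjective _ (QuotientGroup.mk'_surjective _)]
  have h1 : PLengthLE p 1 (X ⧸ pPrimeCore p X) := by
    apply plengthLE_one_of_normal_pGroup (pCore p (X ⧸ pPrimeCore p X))
      (Cfsg.Agent.Lib.Helper1.pCore_isPGroup p)
    rw [hidx]; exact h
  have := Cfsg.Agent.Lib.Helper63.PLengthLE.extension (pPrimeCore p X) h0 h1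
  simpa using this

/-- `p`-length at most one passes up from a normal subgroup of index prime to `p`. -/
theorem plengthLE_one_of_normal_of_index_coprime (N : Subgroup X) [N.Normal]
    (hN : PLengthLE p 1 ↥N) (hidx : N.index.Coprime p) : PLengthLE p 1 X := by
  have h0 : PLengthLE p 0 (X ⧸ N) := by
    apply Cfsg.Agent.Lib.Helper63.PLengthLE.zero_of_coprime
    rw [← Subgroup.index_eq_card]
    exact hidx
  exact Cfsg.Agent.Lib.Helper63.PLengthLE.extension N hN h0

/-- `p`-length at most one for a subgroup `H ≤ M` from that of `M`. -/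
theorem plengthLE_one_of_le {G : Type*} [Group G] [Finite G] {H M : Subgroup G} (hHM : H ≤ M)
    (hM : PLengthLE p 1 ↥M) : PLengthLE p 1 ↥H := by
  have h1 : PLengthLE p 1 ↥(H.subgroupOf M) := Cfsg.Agent.Lib.Helper63.PLengthLE.subgroup hM _
  exact Cfsg.Agent.Lib.Helper63.PLengthLE.of_equiv h1 (Subgroup.subgroupOfEquivOfLe hHM)

end PLength

section Ten6

/-- The statement of S1407 for the group `G`, as a hypothesis. -/
def Stmt1407 (G : Type*) [Group G] : Prop :=
  ∀ (M : Subgroup G), IsCoatom M → Cfsg.alphaCore M ≠ ⊥ → ∀ (p : ℕ) [Fact p.Prime],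
    p ∣ Nat.card M → p ∉ Cfsg.sigma M → ∀ (P : Sylow p M),
    ∃ x : G, x ∈ ((Subgroup.center ↥(P : Subgroup M)).map (P : Subgroup M).subtype).map M.subtype ∧
      orderOf x = p ∧
      IsZGroup ↥(Cfsg.alphaCore M ⊓ Subgroup.centralizer ({x} : Set G)) ∧
      ¬ (Subgroup.centralizer ({x} : Set G) ≤ M ∧ ∀ L : Subgroup G, IsCoatom L →
        Subgroup.centralizer ({x} : Set G) ≤ L → L = M)

/-- The statement of S1444 in the universe `u`, as a hypothesis. -/
def Stmt1444 : Prop :=
  ∀ (X : Type u) [Group X] [Finite X] [Group.IsSolvable X], Odd (Nat.card X) →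
    ∀ (H R R₀ : Subgroup X) [H.Normal], (Nat.card H).Coprime H.index →
    Subgroup.IsComplement' H R → R₀ ≤ R → (Nat.card R₀).Prime →
    IsZGroup ↥(H ⊓ Subgroup.centralizer (R₀ : Set X)) → ∀ (p : ℕ) [Fact p.Prime],
    Cfsg.PLengthLE p 1 ↥⁅H, R⁆

/-- A subgroup containing every Sylow subgroup is the whole group. -/
theorem eq_top_of_forall_sylow_le {X : Type*} [Group X] [Finite X] (K : Subgroup X)
    (h : ∀ (r : ℕ) [Fact r.Prime] (S : Sylow r X), (S : Subgroup X) ≤ K) : K = ⊤ := by
  rw [← Subgroup.index_eq_one]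
  by_contra hne
  obtain ⟨r, hr, hdvd⟩ := Nat.exists_prime_and_dvd hne
  have : Fact r.Prime := ⟨hr⟩
  obtain ⟨S⟩ : Nonempty (Sylow r X) := inferInstance
  exact S.not_dvd_index (hdvd.trans (Subgroup.index_dvd_of_le (h r S)))

/-- A subgroup whose order is prime to the index of a normal subgroup lies in it. -/
theorem le_of_coprime_card_index {X : Type*} [Group X] [Finite X] (H K : Subgroup X) [K.Normal]
    (h : (Nat.card H).Coprime K.index) : H ≤ K := by
  have h1 : Nat.card (H.map (QuotientGroup.mk' K)) ∣ Nat.card H := Subgroup.card_map_dvd _ _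
  have h2 : Nat.card (H.map (QuotientGroup.mk' K)) ∣ K.index := by
    rw [Subgroup.index_eq_card]
    exact Subgroup.card_subgroup_dvd_card _
  have h3 : Nat.card (H.map (QuotientGroup.mk' K)) = 1 :=
    Nat.eq_one_of_dvd_coprimes h h1 h2
  have h4 := Subgroup.eq_bot_of_card_eq _ h3
  intro x hx
  have : QuotientGroup.mk' K x ∈ H.map (QuotientGroup.mk' K) := ⟨x, hx, rfl⟩
  rw [h4, Subgroup.mem_bot] at this
  exact (QuotientGroup.eq_one_iff x).mp this

/-- Solvable groups of odd order and `p`-rank at most two have `p`-length at most one. -/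
theorem plengthLE_one_of_pRankLE_two {X : Type*} [Group X] [Finite X] [Group.IsSolvable X]
    {p : ℕ} [hp : Fact p.Prime] (hodd : Odd (Nat.card X)) (hr : PRankLE p 2 X) :
    PLengthLE p 1 X := by
  by_cases hpX : p ∣ Nat.card X
  · exact plengthLE_one_of_index_pPrimePCore (Cfsg.Agent.S1450.result hodd p hpX hr).2.2.2.2.2
  · exact Cfsg.Agent.Lib.Helper63.PLengthLE_mono (Cfsg.Agent.Lib.Helper63.PLengthLE.zero_of_coprime
      ((Nat.Prime.coprime_iff_not_dvd hp.out).mpr hpX).symm) (by omega)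

/-- Transport `Sylow ≤ ⁅M, M⁆` (in `G`) to `Sylow ≤ commutator ↥M`. -/
theorem sylow_le_commutator_subtype {G : Type*} [Group G] [Finite G]
    (hG : IsMinSimpleOddOrder G) (hU : Cfsg.Agent.Lib.Helper50.UniqThree G)
    (M : Subgroup G) (hM : IsCoatom M) (r : ℕ) [Fact r.Prime] (hr : r ∈ sigma M) (S : Sylow r M) :
    (S : Subgroup M) ≤ commutator ↥M := by
  have h1 := Cfsg.Agent.Lib.Helper50.sylow_le_commutator_of_mem_sigma hG hU M hM r hr S
  intro x hx
  have hx' : (x : G) ∈ ⁅M, M⁆ := h1 ⟨x, hx, rfl⟩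
  rw [← Subgroup.map_subtype_commutator] at hx'
  obtain ⟨y, hy, hyx⟩ := hx'
  have : y = x := Subtype.ext hyx
  rwa [← this]

/-- **Bender–Glauberman, Theorem 10.6** for maximal subgroups, from BG 10.4 (S1407), BG 3.6 (S1444) and
the Uniqueness Theorem. -/
theorem plengthLE_one_coatom {G : Type u} [Group G] [Finite G] (h1407 : Stmt1407 G)
    (h1444 : Stmt1444.{u}) (hG : IsMinSimpleOddOrder G) (hU : Cfsg.Agent.Lib.Helper50.UniqThree G)
    (M : Subgroup G) (hM : IsCoatom M) (p : ℕ) [hp : Fact p.Prime] : PLengthLE p 1 ↥M := by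
  have hsolv : Group.IsSolvable ↥M := hG.2.2.2 M hM.1
  have hodd : Odd (Nat.card ↥M) := Odd.of_dvd_nat hG.1 (Subgroup.card_subgroup_dvd_card M)
  by_cases hr : PRankLE p 2 ↥M
  · exact plengthLE_one_of_pRankLE_two hodd hr
  have hpα : p ∈ alpha M := ⟨hp.out, hr⟩
  have hασ := Cfsg.Agent.Lib.Helper50.alpha_subset_sigma hG hU M hM
  have hpM : p ∣ Nat.card ↥M := (hασ hpα).2.1
  set Hm : Subgroup ↥M := piCore (alpha M) ↥M with hHm
  have hnd : ∀ r, r ∈ alpha M → ¬ r ∣ Hm.index := fun r hr =>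
    Cfsg.Agent.Lib.Helper50.not_dvd_index_piCore_alpha hG hU M hM r hr
  have hHall : (Nat.card Hm).Coprime Hm.index := by
    apply Nat.coprime_of_dvd
    intro r hr hdvd
    exact hnd r (Cfsg.Agent.Lib.Helper54.piCore_isPi (alpha M) r hr hdvd)
  -- `Hm ≤ M'`
  have hHc : Hm ≤ commutator ↥M := by
    apply le_of_coprime_card_index
    apply Nat.coprime_of_dvd
    intro r hr hdvd
    have hrα : r ∈ alpha M := Cfsg.Agent.Lib.Helper54.piCore_isPi (alpha M) r hr hdvd
    have : Fact r.Prime := ⟨hr⟩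
    obtain ⟨S⟩ : Nonempty (Sylow r ↥M) := inferInstance
    have hS := sylow_le_commutator_subtype hG hU M hM r (hασ hrα) S
    intro hd
    exact S.not_dvd_index (hd.trans (Subgroup.index_dvd_of_le hS))
  -- a prime outside `σ(M)`
  have hMnt : Nontrivial ↥M := by
    rw [← Finite.one_lt_card_iff_nontrivial]
    have := Nat.le_of_dvd Nat.card_pos hpM
    have := hp.out.one_lt
    omega
  obtain ⟨q, hq, hqM, hqσ⟩ : ∃ q : ℕ, q.Prime ∧ q ∣ Nat.card ↥M ∧ q ∉ sigma M := by
    by_contra hcon
    push Not at hcon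
    have htop : commutator ↥M = ⊤ := by
      apply eq_top_of_forall_sylow_le
      intro r hr S
      by_cases hrM : r ∣ Nat.card ↥M
      · exact sylow_le_commutator_subtype hG hU M hM r (hcon r hr.out hrM) S
      · have hS1 : Nat.card (S : Subgroup ↥M) = 1 := by
          rcases S.2.card_eq_or_dvd with h | h
          · exact h
          · exact absurd (h.trans (Subgroup.card_subgroup_dvd_card _)) hrM
        rw [Subgroup.eq_bot_of_card_eq _ hS1]
        exact bot_le
    exact (Group.IsSolvable.commutator_lt_top_of_nontrivial ↥M).ne htop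
  have : Fact q.Prime := ⟨hq⟩
  have hqα : q ∉ alpha M := fun h => hqσ (hασ h)
  -- the complement
  obtain ⟨K₀, hK₀⟩ := Subgroup.exists_right_complement'_of_coprime hHall
  obtain ⟨Q⟩ : Nonempty (Sylow q ↥K₀) := inferInstance
  set Q' : Subgroup ↥M := (Q : Subgroup ↥K₀).map K₀.subtype with hQ'
  have hQ'p : IsPGroup q Q' := Q.2.map _
  have hQ'i : ¬ q ∣ Q'.index := by
    rw [hQ', Subgroup.index_map_subtype, hK₀.index_eq_card]
    refine Nat.Prime.not_dvd_mul hq Q.not_dvd_index ?_
    have := Cfsg.Agent.Lib.Helper50.card_piCore_alpha_coprime M q hq hqα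
    exact (Nat.Prime.coprime_iff_not_dvd hq).mp this.symm
  set P : Sylow q ↥M := hQ'p.toSylow hQ'i with hP
  have hPQ : (P : Subgroup ↥M) = Q' := rfl
  -- `M_α ≠ 1`
  have hHmne : Hm ≠ ⊥ := by
    intro h
    have h1 : Nat.card Hm = 1 := by rw [h]; exact Subgroup.card_bot
    have h2 := Hm.card_mul_index
    rw [h1, one_mul] at h2
    exact hnd p hpα (h2 ▸ hpM)
  have hMα : alphaCore M ≠ ⊥ := by
    intro h
    apply hHmne
    exact (Subgroup.map_eq_bot_iff_of_injective _ M.subtype_injective).mp h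
  obtain ⟨x, hx, hxo, hZ, -⟩ := h1407 M hM hMα q hqM hqσ P
  obtain ⟨y, ⟨z, hz, rfl⟩, rfl⟩ := hx
  set y : ↥M := (P : Subgroup ↥M).subtype z with hy
  have hyK : y ∈ K₀ := by
    have : y ∈ Q' := by rw [← hPQ]; exact z.2
    exact Subgroup.map_subtype_le _ this
  have hyo : orderOf y = q := by
    rw [← hxo]
    exact (Subgroup.orderOf_coe y).symm
  set R₀ : Subgroup ↥M := Subgroup.zpowers y with hR₀
  have hR₀K : R₀ ≤ K₀ := Subgroup.zpowers_le.mpr hyK
  have hR₀p : (Nat.card R₀).Prime := by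
    rw [hR₀, Nat.card_zpowers, hyo]; exact hq
  have hZ' : IsZGroup ↥(Hm ⊓ Subgroup.centralizer (R₀ : Set ↥M)) := by
    have hmem : ∀ w : ↥(Hm ⊓ Subgroup.centralizer (R₀ : Set ↥M)),
        M.subtype ((Hm ⊓ Subgroup.centralizer (R₀ : Set ↥M)).subtype w) ∈
          alphaCore M ⊓ Subgroup.centralizer ({M.subtype y} : Set G) := by
      intro w
      refine ⟨⟨(w : ↥M), w.2.1, rfl⟩, ?_⟩
      show M.subtype ((Hm ⊓ Subgroup.centralizer (R₀ : Set ↥M)).subtype w) ∈
        Subgroup.centralizer ({M.subtype y} : Set G)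
      rw [Subgroup.mem_centralizer_singleton_iff]
      have h1 := Subgroup.mem_centralizer_iff.mp w.2.2 y (Subgroup.mem_zpowers y)
      have h2 := congrArg M.subtype h1
      simpa using h2.symm
    refine IsZGroup.of_injective (f := (M.subtype.comp
      (Hm ⊓ Subgroup.centralizer (R₀ : Set ↥M)).subtype).codRestrict _ hmem) ?_
    intro a b hab
    have h1 := congrArg Subtype.val hab
    exact Subtype.ext (Subtype.ext h1)
  have h10 := h1444 ↥M hodd Hm K₀ R₀ hHall hK₀ hR₀K hR₀p hZ' p
  have e := ((Cfsg.Agent.S1459.result (G := ↥M)).1 Hm K₀ inferInstance hHall hK₀ hHc).1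
  rw [← e] at h10
  refine plengthLE_one_of_normal_of_index_coprime Hm h10 ?_
  exact ((Nat.Prime.coprime_iff_not_dvd hp.out).mpr (hnd p hpα)).symm

/-- **Bender–Glauberman, Theorem 10.6**: proper subgroups have `p`-length one. -/
theorem s1410_of {G : Type u} [Group G] [Finite G] (h1407 : Stmt1407 G)
    (h1444 : Stmt1444.{u}) (hG : IsMinSimpleOddOrder G) (hU : Cfsg.Agent.Lib.Helper50.UniqThree G)
    (p : ℕ) [Fact p.Prime] (H : Subgroup G) (hH : H ≠ ⊤) : PLengthLE p 1 ↥H := by
  rcases eq_top_or_exists_le_coatom H with h | ⟨M, hM, hHM⟩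
  · exact absurd h hH
  · exact plengthLE_one_of_le hHM (plengthLE_one_coatom h1407 h1444 hG hU M hM p)

end Ten6

end Cfsg.Agent.Lib.Helper23
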