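/-
helper23 shared library: Bender–Glauberman Corollary 10.7 (b): the structure of a Sylow `p`-subgroup of
`p`-rank at most two in a minimal simple group of odd order.
Proved from the statement of S1410 (BG Theorem 10.6) taken as a hypothesis.
All declarations live in `Cfsg.Agent.Lib.Helper23`.
-/
import Mathlib
import Cfsg.Prelude.Def_OddOrderLocal
import Cfsg.Agent.Lib.Helper23.BGTen7
import Cfsg.Agent.Lib.Helper24.ExtraSp
import Cfsg.Agent.S1448

set_option autoImplicit false

namespace Cfsg.Agent.Lib.Helper23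

open Cfsg
open scoped commutatorElement

universe u

section Ten9

/-- In a non-commutative subgroup of order `p ^ 3` the derived subgroup is the centre. -/
theorem commutator_eq_inf_centralizer_of_card_cube {X : Type*} [Group X] {p : ℕ} [Fact p.Prime]
    (R₁ : Subgroup X) [Finite R₁] (hcard : Nat.card R₁ = p ^ 3) (hnc : ¬ IsMulCommutative R₁) :
    ⁅R₁, R₁⁆ = R₁ ⊓ Subgroup.centralizer (R₁ : Set X) := by
  have hnc' : ¬ ∀ a b : ↥R₁, a * b = b * a := fun h => hnc ⟨⟨h⟩⟩
  obtain ⟨hZ, hcomm⟩ := Cfsg.Agent.Lib.Helper24.center_of_card_cube hcard hnc'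
  have hle : commutator ↥R₁ ≤ Subgroup.center ↥R₁ := by
    rw [commutator_def, Subgroup.commutator_le]
    intro a _ b _
    exact hcomm a b
  have hne : commutator ↥R₁ ≠ ⊥ := by
    intro h
    apply hnc'
    intro a b
    have h1 : ⁅a, b⁆ ∈ commutator ↥R₁ := by
      rw [commutator_def]
      exact Subgroup.commutator_mem_commutator (Subgroup.mem_top a) (Subgroup.mem_top b)
    rw [h, Subgroup.mem_bot] at h1
    exact commutatorElement_eq_one_iff_mul_comm.mp h1
  have hdvd : Nat.card (commutator ↥R₁) ∣ p := by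
    rw [← hZ]
    exact Subgroup.card_dvd_of_le hle
  have hcardc : Nat.card (commutator ↥R₁) = p := by
    rcases (Nat.dvd_prime (Fact.out : p.Prime)).mp hdvd with h | h
    · exact absurd (Subgroup.eq_bot_of_card_eq _ h) hne
    · exact h
  have heq : commutator ↥R₁ = Subgroup.center ↥R₁ :=
    Subgroup.eq_of_le_of_card_ge hle (by rw [hZ, hcardc])
  rw [← Subgroup.map_subtype_commutator, heq]
  ext x
  constructor
  · rintro ⟨z, hz, rfl⟩
    refine ⟨z.2, Subgroup.mem_centralizer_iff.mpr (fun h hh => ?_)⟩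
    have := Subgroup.mem_center_iff.mp hz ⟨h, hh⟩
    exact congrArg Subtype.val this
  · rintro ⟨hx1, hx2⟩
    exact ⟨⟨x, hx1⟩, Subgroup.mem_center_iff.mpr
      (fun h => Subtype.ext (Subgroup.mem_centralizer_iff.mp hx2 h h.2)), rfl⟩

variable {G : Type u} [Group G] [Finite G]

/-- a complement of the Sylow subgroup `P` in its normalizer -/
theorem exists_isComplIn_normalizer_sylow (p : ℕ) [Fact p.Prime] (P : Sylow p G) :
    ∃ V : Subgroup G, Cfsg.IsComplIn (P : Subgroup G) V
        (Subgroup.normalizer ((P : Subgroup G) : Set G)) ∧ (Nat.card V).Coprime p := by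
  set N : Subgroup G := Subgroup.normalizer ((P : Subgroup G) : Set G) with hN
  have hPN : (P : Subgroup G) ≤ N := Subgroup.le_normalizer
  set S : Sylow p N := P.subtype hPN with hS
  have hScoe : (S : Subgroup N) = (P : Subgroup G).subgroupOf N := Sylow.coe_subtype P hPN
  set H : Subgroup ↥N := (P : Subgroup G).subgroupOf N with hH
  have hHn : H.Normal := Subgroup.normal_in_normalizer
  have hHall : (Nat.card H).Coprime H.index := by
    rw [← hScoe]; exact S.card_coprime_index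
  obtain ⟨K, hK⟩ := Subgroup.exists_right_complement'_of_coprime hHall
  refine ⟨K.map N.subtype, ⟨hPN, Subgroup.map_subtype_le _, ?_, ?_⟩, ?_⟩
  · rw [eq_bot_iff]
    rintro x ⟨hx1, ⟨k, hk, rfl⟩⟩
    have hkH : k ∈ H := Subgroup.mem_subgroupOf.mpr hx1
    have : k ∈ H ⊓ K := ⟨hkH, hk⟩
    rw [hK.disjoint.eq_bot, Subgroup.mem_bot] at this
    rw [Subgroup.mem_bot, this]
    rfl
  · intro m hm
    obtain ⟨⟨h, k⟩, hhk⟩ := hK.2 ⟨m, hm⟩
    refine ⟨(h : ↥N), Subgroup.mem_subgroupOf.mp h.2, (k : ↥N), ⟨k, k.2, rfl⟩, ?_⟩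
    have := congrArg Subtype.val hhk
    exact this.symm
  · have h1 : Nat.card (K.map N.subtype) = Nat.card K :=
      Subgroup.card_map_of_injective N.subtype_injective
    have h2 := hK.card_mul_card
    have h3 := H.card_mul_index
    have h4 : Nat.card K = H.index := by
      have hpos : 0 < Nat.card H := Nat.card_pos
      exact Nat.eq_of_mul_eq_mul_left hpos (h2.trans h3.symm)
    rw [h1, h4, ← hScoe]
    exact ((Nat.Prime.coprime_iff_not_dvd (Fact.out : p.Prime)).mpr S.not_dvd_index).symm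

/-- **Bender–Glauberman, Corollary 10.7 (b)**. -/
theorem s1412_of (h1410 : Stmt1410 G) (hG : IsMinSimpleOddOrder G) (p : ℕ) [Fact p.Prime]
    (P : Sylow p G) (hr : Cfsg.PRankLE p 2 (P : Subgroup G)) :
    IsMulCommutative (P : Subgroup G) ∨ ∃ P₁ P₂ : Subgroup G, P₁ ⊔ P₂ = (P : Subgroup G) ∧
      (∀ a ∈ P₁, ∀ b ∈ P₂, a * b = b * a) ∧
        ¬ IsMulCommutative P₁ ∧ Nat.card P₁ = p ^ 3 ∧ Monoid.exponent P₁ = p ∧ IsCyclic P₂ ∧
        Subgroup.closure {x : G | x ∈ P₂ ∧ x ^ p = 1} = P₁ ⊓ Subgroup.centralizer (P₁ : Set G) := by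
  by_cases hP1 : (P : Subgroup G) = ⊥
  · left
    refine ⟨⟨fun a b => ?_⟩⟩
    have hbot : ∀ c : ↥(P : Subgroup G), c = 1 := by
      intro c
      have h1 : (c : G) ∈ (⊥ : Subgroup G) := hP1 ▸ c.2
      exact Subtype.ext (Subgroup.mem_bot.mp h1)
    rw [hbot a, one_mul, mul_one]
  obtain ⟨V, hV, hVcop⟩ := exists_isComplIn_normalizer_sylow p P
  obtain ⟨e, -⟩ := s1411_of h1410 hG p P V hV
  have hp2 : p ≠ 2 := by
    rintro rfl
    rcases P.isPGroup'.card_eq_or_dvd with h | h
    · exact hP1 (Subgroup.eq_bot_of_card_eq _ h)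
    · have h2 : 2 ∣ Nat.card G := h.trans (Subgroup.card_subgroup_dvd_card _)
      exact (Nat.not_even_iff_odd.mpr hG.1) (even_iff_two_dvd.mpr h2)
  have hVodd : Odd (Nat.card V) := Odd.of_dvd_nat hG.1 (Subgroup.card_subgroup_dvd_card V)
  have h48 := Cfsg.Agent.S1448.result p hp2 (P : Subgroup G) V P.isPGroup' hP1 hr hV.2.1 hVcop
    hVodd e.symm
  rcases h48.2 with h | ⟨R₁, R₂, h1, h2, h3, h4, h5, h6, h7⟩
  · left; exact h
  · right
    refine ⟨R₁, R₂, h1, h2, h3, h4, h5, h6, ?_⟩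
    rw [h7]
    exact commutator_eq_inf_centralizer_of_card_cube R₁ h4 h3

end Ten9

end Cfsg.Agent.Lib.Helper23
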