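import Mathlib
import Cfsg.Prelude.Def_OddOrderLocal
import Cfsg.Agent.Lib.Helper33.Conj
import Cfsg.Agent.Lib.Helper23.BGSigmaTI
import Cfsg.Agent.Lib.Helper23.BGHallFusion
import Cfsg.Agent.Lib.Helper23.TypeP
import Cfsg.Agent.Lib.Helper51.BGTwelveA
import Cfsg.Agent.Lib.Helper54.Coprime

/-!
# B&G Lemma 14.5(b) (S1377), part A: `R(x)` is canonical  (helper23)

Hypotheses are the literal statements of S1350 (first clause), S1374, S1375 for a fixed group `G`
(`Hall1350`, `Stmt1374`, `Stmt1375`).  Main results, for a maximal subgroup `L` and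
`x ∈ L_σ`, `x ≠ 1`:

* `supportR_isComplIn`: `R_L(x) = supportR L x` is a normal complement of `C_L(x)` in `C_G(x)`
  (and `|C_L(x)|` is prime to its index);
* `exists_supportR_cj`: every conjugate of `L` containing `x` is `L^r` for some `r ∈ R_L(x)`;
* `supportR_cj`: `R_{L^y}(x^y) = R_L(x)^y`;
* `supportR_eq_of_cj`: `R_{L^g}(x) = R_L(x)` when `x ∈ (L^g)_σ` too.
-/

set_option autoImplicit false

namespace Cfsg.Agent.Lib.Helper23

open Cfsg
open Cfsg.Agent.Lib.Helper33 (cj mem_cj conj_mem_cj cj_mono cj_inv_cj cj_cj_inv cj_mul cj_inf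
  cj_eq_self_of_mem cj_eq_self_of_mem_normalizer card_cj cj_normalizer cj_le_cj cj_injective
  mem_normalizer_iff_cj_eq)

universe u

variable {G : Type u} [Group G]

/-- First clause of S1350 for all maximal subgroups of `G`. -/
def Hall1350 (G : Type u) [Group G] : Prop :=
  ∀ M : Subgroup G, IsCoatom M → IsPiHallOf (sigma M) (sigmaCore M) M

/-- The literal statement of S1374 for the group `G`. -/
def Stmt1374 (G : Type u) [Group G] : Prop :=
  ∀ (M : Subgroup G), IsCoatom M → ∀ x : G, x ∈ sigmaCore M → x ≠ 1 →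
    (Nat.card ↥(M ⊓ Subgroup.centralizer ({x} : Set G))).Coprime
        ((M ⊓ Subgroup.centralizer ({x} : Set G)).relIndex (Subgroup.centralizer ({x} : Set G))) ∧
      ∃ R : Subgroup G, Subgroup.centralizer ({x} : Set G) ≤ Subgroup.normalizer (R : Set G) ∧
        IsComplIn (M ⊓ Subgroup.centralizer ({x} : Set G)) R (Subgroup.centralizer ({x} : Set G)) ∧
        ∀ g : G, x ∈ M.map (MulAut.conj g).toMonoidHom →
          ∃! r : G, r ∈ R ∧
            M.map (MulAut.conj r).toMonoidHom = M.map (MulAut.conj g).toMonoidHom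

/-- The part of the literal statement of S1375 used here, for the group `G`. -/
def Stmt1375 (G : Type u) [Group G] : Prop :=
  ∀ (M : Subgroup G), IsCoatom M → ∀ x : G, x ∈ sigmaCore M → x ≠ 1 →
    ¬ Subgroup.centralizer ({x} : Set G) ≤ M →
    ∃ N : Subgroup G, (IsCoatom N ∧ Subgroup.centralizer ({x} : Set G) ≤ N) ∧
      (∀ L : Subgroup G, IsCoatom L → Subgroup.centralizer ({x} : Set G) ≤ L → L = N) ∧
      sigmaCore N = fittingHallOf N ∧
      Subgroup.centralizer ({x} : Set G) ≤ Subgroup.normalizer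
        ((sigmaCore N ⊓ Subgroup.centralizer ({x} : Set G) : Subgroup G) : Set G) ∧
      IsComplIn (M ⊓ Subgroup.centralizer ({x} : Set G))
        (sigmaCore N ⊓ Subgroup.centralizer ({x} : Set G)) (Subgroup.centralizer ({x} : Set G))

/-- The literal statement of S1433 for the group `G`. -/
def Stmt1433 (G : Type u) [Group G] : Prop :=
  ∀ (M N : Subgroup G), IsCoatom M → IsCoatom N → ∀ x y : G, x ∈ sigmaCore M → y ∈ sigmaCore N →
    x ≠ 1 → y ≠ 1 → x ≠ y → ∀ r ∈ supportR M x, ∀ s ∈ supportR N y, x * r ≠ y * s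

/-! ### conjugation transport -/

theorem cj_centralizer_singleton (y x : G) :
    cj y (Subgroup.centralizer ({x} : Set G)) = Subgroup.centralizer ({y * x * y⁻¹} : Set G) := by
  ext z
  rw [mem_cj, Subgroup.mem_centralizer_singleton_iff, Subgroup.mem_centralizer_singleton_iff]
  constructor
  · intro h
    calc z * (y * x * y⁻¹) = y * ((y⁻¹ * z * y) * x) * y⁻¹ := by group
      _ = y * (x * (y⁻¹ * z * y)) * y⁻¹ := by rw [h]
      _ = y * x * y⁻¹ * z := by group
  · intro h
    calc y⁻¹ * z * y * x = y⁻¹ * (z * (y * x * y⁻¹)) * y := by group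
      _ = y⁻¹ * ((y * x * y⁻¹) * z) * y := by rw [h]
      _ = x * (y⁻¹ * z * y) := by group

theorem isComplIn_cj {A B C : Subgroup G} (h : IsComplIn A B C) (y : G) :
    IsComplIn (cj y A) (cj y B) (cj y C) := by
  obtain ⟨hA, hB, hAB, hf⟩ := h
  refine ⟨cj_mono hA, cj_mono hB, ?_, ?_⟩
  · rw [← cj_inf, hAB]; exact Cfsg.Agent.Lib.Helper33.cj_bot y
  · intro m hm
    rw [mem_cj] at hm
    obtain ⟨a, ha, b, hb, hab⟩ := hf _ hm
    refine ⟨y * a * y⁻¹, conj_mem_cj ha, y * b * y⁻¹, conj_mem_cj hb, ?_⟩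
    calc m = y * (y⁻¹ * m * y) * y⁻¹ := by group
      _ = y * (a * b) * y⁻¹ := by rw [hab]
      _ = y * a * y⁻¹ * (y * b * y⁻¹) := by group

theorem sigmaCore_cj [Finite G] (h50 : Hall1350 G) {M : Subgroup G} (hM : IsCoatom M) (g : G) :
    sigmaCore (cj g M) = cj g (sigmaCore M) := by
  have key : ∀ (L : Subgroup G), IsCoatom L → ∀ h : G, cj h (sigmaCore L) ≤ sigmaCore (cj h L) := by
    intro L hL h
    apply le_sigmaCore_of_forall_prime_mem (cj h L) (h50 _ (isCoatom_cj_h23 hL h))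
      (cj_mono (sigmaCore_le_self_h23 L))
    intro r hr hrd
    have hs : sigma (cj h L) = sigma L := Cfsg.Agent.Lib.Helper51.BG12.sigma_cj h L
    rw [hs]
    rw [card_cj] at hrd
    exact (h50 L hL).2.1 r hr hrd
  apply le_antisymm
  · have h1 := key (cj g M) (isCoatom_cj_h23 hM g) g⁻¹
    rw [cj_inv_cj] at h1
    have h2 := cj_mono (g := g) h1
    rwa [cj_cj_inv] at h2
  · exact key M hM g

/-! ### `supportR` -/

theorem supportR_eq_bot_of_le_h23 {M : Subgroup G} {x : G}
    (h : Subgroup.centralizer ({x} : Set G) ≤ M) : supportR M x = ⊥ := by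
  unfold supportR
  split_ifs with h'
  · exact absurd h h'.1
  · rfl

theorem supportR_eq_of_unique_h23 {M N : Subgroup G} {x : G}
    (hxM : ¬ Subgroup.centralizer ({x} : Set G) ≤ M) (hN : IsCoatom N)
    (hCN : Subgroup.centralizer ({x} : Set G) ≤ N)
    (huniq : ∀ L : Subgroup G, IsCoatom L → Subgroup.centralizer ({x} : Set G) ≤ L → L = N) :
    supportR M x = fittingHallOf N ⊓ Subgroup.centralizer ({x} : Set G) := by
  unfold supportR
  split_ifs with h'
  · have hspec := Classical.choose_spec h'.2.exists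
    rw [huniq _ hspec.1 hspec.2]
  · exact absurd ⟨hxM, N, ⟨hN, hCN⟩, fun L hL => huniq L hL.1 hL.2⟩ h'

/-- Uniqueness of a normal Hall complement: if `R` is a normal complement of `D` in `C`, `|D|` is
prime to its index in `C`, and `R'` is another complement of `D` in `C`, then `R' = R`. -/
theorem eq_of_isComplIn_of_normal_of_coprime [Finite G] {C D R R' : Subgroup G}
    (hR : IsComplIn D R C) (hR' : IsComplIn D R' C)
    (hn : C ≤ Subgroup.normalizer (R : Set G))
    (hcop : (Nat.card D).Coprime (D.relIndex C)) : R' = R := by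
  have hc1 := card_of_isComplIn hR
  have hc2 := card_of_isComplIn hR'
  have hD := Cfsg.Agent.Lib.Helper54.card_mul_relIndex hR.1
  have hcardR : Nat.card R = D.relIndex C := by
    apply Nat.eq_of_mul_eq_mul_left (Nat.card_pos (α := D))
    rw [← hc1, hD]
  have hcardR' : Nat.card R' = D.relIndex C := by
    apply Nat.eq_of_mul_eq_mul_left (Nat.card_pos (α := D))
    rw [← hc2, hD]
  have hRC : R ≤ C := hR.2.1
  have hR'C : R' ≤ C := hR'.2.1
  have hidx : R.relIndex C = Nat.card D := by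
    have h1 := Cfsg.Agent.Lib.Helper54.card_mul_relIndex hRC
    apply Nat.eq_of_mul_eq_mul_left (Nat.card_pos (α := R))
    rw [h1, hc1]; ring
  have hle : R' ≤ R := by
    have hnorm : (R.subgroupOf C).Normal := Subgroup.normal_subgroupOf_of_le_normalizer hn
    have hcop' : (Nat.card (R'.subgroupOf C)).Coprime (R.subgroupOf C).index := by
      have e : (R.subgroupOf C).index = R.relIndex C := rfl
      rw [e, hidx, Nat.card_congr (Subgroup.subgroupOfEquivOfLe hR'C).toEquiv, hcardR']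
      exact hcop.symm
    have hle := le_normal_of_coprime_card_index (R'.subgroupOf C) (R.subgroupOf C) hcop'
    intro x hx
    have : (⟨x, hR'C hx⟩ : C) ∈ R'.subgroupOf C := Subgroup.mem_subgroupOf.mpr hx
    exact Subgroup.mem_subgroupOf.mp (hle this)
  exact Subgroup.eq_of_le_of_card_ge hle (by rw [hcardR, hcardR'])

/-- `R_L(x)` is a normal complement of `C_L(x)` in `C_G(x)`. -/
theorem supportR_isComplIn [Finite G] (h75 : Stmt1375 G) {L : Subgroup G} (hL : IsCoatom L)
    {x : G} (hx : x ∈ sigmaCore L) (hx1 : x ≠ 1) :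
    Subgroup.centralizer ({x} : Set G) ≤ Subgroup.normalizer ((supportR L x : Subgroup G) : Set G) ∧
      IsComplIn (L ⊓ Subgroup.centralizer ({x} : Set G)) (supportR L x)
        (Subgroup.centralizer ({x} : Set G)) := by
  by_cases hxL : Subgroup.centralizer ({x} : Set G) ≤ L
  · rw [supportR_eq_bot_of_le_h23 hxL]
    refine ⟨?_, inf_le_right, bot_le, inf_bot_eq _, ?_⟩
    · intro c _
      rw [Subgroup.mem_normalizer_iff]
      intro h
      simp [Subgroup.mem_bot]
    · intro m hm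
      exact ⟨m, ⟨hxL hm, hm⟩, 1, Subgroup.one_mem _, (mul_one m).symm⟩
  · obtain ⟨N, ⟨hN, hCN⟩, huniq, hσF, hnorm, hcompl⟩ := h75 L hL x hx hx1 hxL
    rw [supportR_eq_of_unique_h23 hxL hN hCN huniq, ← hσF]
    exact ⟨hnorm, hcompl⟩

/-- `R_L(x)` has the transitivity property of S1374 (existence half). -/
theorem exists_supportR_cj [Finite G] (h74 : Stmt1374 G) (h75 : Stmt1375 G) {L : Subgroup G}
    (hL : IsCoatom L) {x : G} (hx : x ∈ sigmaCore L) (hx1 : x ≠ 1) {g : G} (hg : x ∈ cj g L) :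
    ∃ r ∈ supportR L x, cj r L = cj g L := by
  obtain ⟨hcop, R, hRn, hRc, hR⟩ := h74 L hL x hx hx1
  obtain ⟨hSn, hSc⟩ := supportR_isComplIn h75 hL hx hx1
  have hEq : supportR L x = R := eq_of_isComplIn_of_normal_of_coprime hRc hSc hRn hcop
  obtain ⟨r, ⟨hr, hrg⟩, -⟩ := hR g hg
  exact ⟨r, hEq ▸ hr, hrg⟩

theorem supportR_le_centralizer [Finite G] (h75 : Stmt1375 G) {L : Subgroup G} (hL : IsCoatom L)
    {x : G} (hx : x ∈ sigmaCore L) (hx1 : x ≠ 1) :
    supportR L x ≤ Subgroup.centralizer ({x} : Set G) :=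
  (supportR_isComplIn h75 hL hx hx1).2.2.1

theorem supportR_inf_eq_bot [Finite G] (h75 : Stmt1375 G) {L : Subgroup G} (hL : IsCoatom L)
    {x : G} (hx : x ∈ sigmaCore L) (hx1 : x ≠ 1) : supportR L x ⊓ L = ⊥ := by
  have h := supportR_isComplIn h75 hL hx hx1
  rw [eq_bot_iff, ← h.2.2.2.1]
  intro z hz
  exact ⟨⟨hz.2, h.2.2.1 hz.1⟩, hz.1⟩

/-- `R_{L^y}(x^y) = R_L(x)^y`. -/
theorem supportR_cj [Finite G] (h50 : Hall1350 G) (h74 : Stmt1374 G) (h75 : Stmt1375 G)
    {L : Subgroup G} (hL : IsCoatom L) {x : G} (hx : x ∈ sigmaCore L) (hx1 : x ≠ 1) (y : G) :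
    supportR (cj y L) (y * x * y⁻¹) = cj y (supportR L x) := by
  have hL' : IsCoatom (cj y L) := isCoatom_cj_h23 hL y
  have hx' : y * x * y⁻¹ ∈ sigmaCore (cj y L) := by
    rw [sigmaCore_cj h50 hL]; exact conj_mem_cj hx
  have hx'1 : y * x * y⁻¹ ≠ 1 := by
    intro h
    apply hx1
    have : x = y⁻¹ * (y * x * y⁻¹) * y := by group
    rw [this, h]; group
  obtain ⟨hn', hc'⟩ := supportR_isComplIn h75 hL' hx' hx'1
  obtain ⟨-, hc⟩ := supportR_isComplIn h75 hL hx hx1
  have hc2 := isComplIn_cj hc y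
  rw [cj_inf, cj_centralizer_singleton] at hc2
  have hcop := (h74 (cj y L) hL' _ hx' hx'1).1
  exact (eq_of_isComplIn_of_normal_of_coprime hc' hc2 hn' hcop).symm

/-- `R_{L^g}(x) = R_L(x)` if `x` lies in `L_σ` and in `L^g`. -/
theorem supportR_eq_of_cj [Finite G] (h50 : Hall1350 G) (h74 : Stmt1374 G) (h75 : Stmt1375 G)
    {L : Subgroup G} (hL : IsCoatom L) {x : G} (hx : x ∈ sigmaCore L) (hx1 : x ≠ 1) {g : G}
    (hg : x ∈ cj g L) : supportR (cj g L) x = supportR L x := by
  obtain ⟨r, hr, hrg⟩ := exists_supportR_cj h74 h75 hL hx hx1 hg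
  have hrc : r * x * r⁻¹ = x := by
    have := Subgroup.mem_centralizer_singleton_iff.mp (supportR_le_centralizer h75 hL hx hx1 hr)
    rw [this]; group
  have h := supportR_cj h50 h74 h75 hL hx hx1 r
  rw [hrc, hrg, cj_eq_self_of_mem hr] at h
  exact h

end Cfsg.Agent.Lib.Helper23
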