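import Mathlib
import Cfsg.Prelude.Def_OddOrderLocal
import Cfsg.Agent.Lib.Helper23.BGFourteenCountA
import Cfsg.Agent.Lib.Helper46.BGTenB

/-!
# B&G Lemma 14.5(b) (S1377), part B: the count `|M̃| = (|M_σ| - 1) |G : M|`  (helper23)

`s1377_of`: the statement of S1377 from the literal statements of S1350 (first clause), S1374,
S1375 and S1433.
-/

set_option autoImplicit false

namespace Cfsg.Agent.Lib.Helper23

open Cfsg
open Cfsg.Agent.Lib.Helper33 (cj mem_cj conj_mem_cj cj_mono cj_inv_cj cj_cj_inv cj_mul cj_inf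
  cj_eq_self_of_mem cj_eq_self_of_mem_normalizer card_cj cj_normalizer cj_le_cj cj_injective
  mem_normalizer_iff_cj_eq cj_one)

universe u

variable {G : Type u} [Group G]

/-! ### the fibre of `y ↦ y⁻¹ x y` -/

/-- A `σ(L)`-element of a conjugate of `L` lies in its `σ`-core. -/
theorem mem_sigmaCore_cj_of_mem [Finite G] (h50 : Hall1350 G) {L : Subgroup G} (hL : IsCoatom L)
    {x : G} (hx : x ∈ sigmaCore L) {h : G} (hxh : x ∈ cj h L) : x ∈ sigmaCore (cj h L) := by
  have hz : Subgroup.zpowers x ≤ sigmaCore (cj h L) := by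
    apply le_sigmaCore_of_forall_prime_mem (cj h L) (h50 _ (isCoatom_cj_h23 hL h))
    · rw [Subgroup.zpowers_le]; exact hxh
    · intro r hr hrd
      have hs : sigma (cj h L) = sigma L := Cfsg.Agent.Lib.Helper51.BG12.sigma_cj h L
      rw [hs]
      apply (h50 L hL).2.1 r hr
      exact hrd.trans (Subgroup.card_dvd_of_le (by rw [Subgroup.zpowers_le]; exact hx))
  exact hz (Subgroup.mem_zpowers x)

/-- The number of `h` with `x ∈ (L^h)_σ` is `|R_L(x)| |L|`. -/
theorem card_conj_fibre [Finite G] (hs : IsSimpleGroup G) (h50 : Hall1350 G) (h74 : Stmt1374 G)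
    (h75 : Stmt1375 G) {L : Subgroup G} (hL : IsCoatom L) {x : G} (hx : x ∈ sigmaCore L)
    (hx1 : x ≠ 1) :
    Nat.card {h : G // x ∈ sigmaCore (cj h L)} = Nat.card (supportR L x) * Nat.card L := by
  have hxL : x ∈ L := sigmaCore_le_self_h23 L hx
  have hL1 : L ≠ ⊥ := by
    rintro rfl
    exact hx1 (Subgroup.mem_bot.mp hxL)
  have hNL : Subgroup.normalizer (L : Set G) = L :=
    Cfsg.Agent.Lib.Helper46.BGTen.normalizer_eq_self_of_isCoatom hs hL hL1
  have hRC := supportR_le_centralizer h75 hL hx hx1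
  have hRL := supportR_inf_eq_bot h75 hL hx hx1
  rw [← Nat.card_prod]
  symm
  have hwd : ∀ p : ↥(supportR L x) × ↥L, x ∈ sigmaCore (cj ((p.1 : G) * (p.2 : G)) L) := by
    rintro ⟨⟨r, hr⟩, ⟨l, hl⟩⟩
    apply mem_sigmaCore_cj_of_mem h50 hL hx
    rw [cj_mul, cj_eq_self_of_mem hl, mem_cj]
    have hc := Subgroup.mem_centralizer_singleton_iff.mp (hRC hr)
    have : r⁻¹ * x * r = x := by
      calc r⁻¹ * x * r = r⁻¹ * (x * r) := by group
        _ = r⁻¹ * (r * x) := by rw [← hc]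
        _ = x := by group
    rw [this]; exact hxL
  let f : ↥(supportR L x) × ↥L → {h : G // x ∈ sigmaCore (cj h L)} :=
    fun p => ⟨(p.1 : G) * (p.2 : G), hwd p⟩
  refine Nat.card_congr (Equiv.ofBijective f ⟨?_, ?_⟩)
  · rintro ⟨⟨r, hr⟩, ⟨l, hl⟩⟩ ⟨⟨r', hr'⟩, ⟨l', hl'⟩⟩ hp
    have hp' : r * l = r' * l' := congrArg Subtype.val hp
    have h1 : r'⁻¹ * r = l' * l⁻¹ := by
      calc r'⁻¹ * r = r'⁻¹ * (r * l) * l⁻¹ := by group
        _ = r'⁻¹ * (r' * l') * l⁻¹ := by rw [hp']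
        _ = l' * l⁻¹ := by group
    have h2 : r'⁻¹ * r ∈ supportR L x ⊓ L :=
      ⟨Subgroup.mul_mem _ (Subgroup.inv_mem _ hr') hr, h1 ▸ Subgroup.mul_mem _ hl' (Subgroup.inv_mem _ hl)⟩
    rw [hRL, Subgroup.mem_bot] at h2
    have hrr : r = r' := by
      calc r = r' * (r'⁻¹ * r) := by group
        _ = r' := by rw [h2, mul_one]
    have hll : l = l' := by
      have h3 : l' * l⁻¹ = 1 := by rw [← h1, h2]
      calc l = (l' * l⁻¹)⁻¹ * l' := by group
        _ = l' := by rw [h3]; group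
    exact Prod.ext (Subtype.ext hrr) (Subtype.ext hll)
  · rintro ⟨h, hh⟩
    have hxh : x ∈ cj h L := sigmaCore_le_self_h23 _ hh
    obtain ⟨r, hr, hrh⟩ := exists_supportR_cj h74 h75 hL hx hx1 hxh
    have hl : r⁻¹ * h ∈ L := by
      rw [← hNL, mem_normalizer_iff_cj_eq, cj_mul, ← hrh, cj_inv_cj]
    refine ⟨(⟨r, hr⟩, ⟨r⁻¹ * h, hl⟩), ?_⟩
    apply Subtype.ext
    show r * (r⁻¹ * h) = h
    group

/-! ### the canonical `R(x')` for `x'` in a conjugate of `M_σ` -/

open Classical in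
/-- A `g` with `x' ∈ (M^g)_σ`, if there is one. -/
noncomputable def baseConj (M : Subgroup G) (x' : G) : G :=
  if h : ∃ g : G, x' ∈ sigmaCore (cj g M) then Classical.choose h else 1

/-- `R(x')` computed in the base conjugate. -/
noncomputable def Rp (M : Subgroup G) (x' : G) : Subgroup G := supportR (cj (baseConj M x') M) x'

/-- The non-identity elements of the conjugates of `M_σ`. -/
def Xset (M : Subgroup G) : Set G := {x' | x' ≠ 1 ∧ ∃ g : G, x' ∈ sigmaCore (cj g M)}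

theorem mem_sigmaCore_baseConj {M : Subgroup G} {x' : G} (hx' : x' ∈ Xset M) :
    x' ∈ sigmaCore (cj (baseConj M x') M) := by
  unfold baseConj
  rw [dif_pos hx'.2]
  exact Classical.choose_spec hx'.2

theorem Rp_eq [Finite G] (h50 : Hall1350 G) (h74 : Stmt1374 G) (h75 : Stmt1375 G)
    {M : Subgroup G} (hM : IsCoatom M) {x' : G} (hx' : x' ∈ Xset M) {g : G}
    (hg : x' ∈ sigmaCore (cj g M)) : Rp M x' = supportR (cj g M) x' := by
  have hb := mem_sigmaCore_baseConj hx'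
  have hL : IsCoatom (cj g M) := isCoatom_cj_h23 hM g
  have h1 : cj (baseConj M x') M = cj (baseConj M x' * g⁻¹) (cj g M) := by
    rw [cj_mul, cj_inv_cj]
  unfold Rp
  rw [h1]
  apply supportR_eq_of_cj h50 h74 h75 hL hg hx'.1
  rw [← h1]
  exact sigmaCore_le_self_h23 _ hb

/-- `M̃` is the union of the cosets `x' R(x')`. -/
theorem mem_tildeOf_iff [Finite G] (h50 : Hall1350 G) (h74 : Stmt1374 G) (h75 : Stmt1375 G)
    {M : Subgroup G} (hM : IsCoatom M) (t : G) :
    t ∈ tildeOf M ((sigmaCore M : Set G) \ {1}) ↔ ∃ x' ∈ Xset M, ∃ ρ ∈ Rp M x', t = x' * ρ := by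
  constructor
  · rintro ⟨a, ⟨ha, ha1⟩, r, hr, y, rfl⟩
    have ha1' : a ≠ 1 := fun h => ha1 (Set.mem_singleton_iff.mpr h)
    have hx'σ : y * a * y⁻¹ ∈ sigmaCore (cj y M) := by
      rw [sigmaCore_cj h50 hM]; exact conj_mem_cj ha
    have hx'1 : y * a * y⁻¹ ≠ 1 := by
      intro h
      apply ha1'
      have : a = y⁻¹ * (y * a * y⁻¹) * y := by group
      rw [this, h]; group
    have hX : y * a * y⁻¹ ∈ Xset M := ⟨hx'1, y, hx'σ⟩
    refine ⟨y * a * y⁻¹, hX, y * r * y⁻¹, ?_, by group⟩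
    rw [Rp_eq h50 h74 h75 hM hX hx'σ, supportR_cj h50 h74 h75 hM ha ha1' y]
    exact conj_mem_cj hr
  · rintro ⟨x', hX, ρ, hρ, rfl⟩
    have hb := mem_sigmaCore_baseConj hX
    set g₀ := baseConj M x' with hg₀
    have hL : IsCoatom (cj g₀ M) := isCoatom_cj_h23 hM g₀
    have ha : g₀⁻¹ * x' * g₀ ∈ sigmaCore M := by
      rw [sigmaCore_cj h50 hM, mem_cj] at hb; exact hb
    have ha1 : g₀⁻¹ * x' * g₀ ≠ 1 := by
      intro h
      apply hX.1
      have : x' = g₀ * (g₀⁻¹ * x' * g₀) * g₀⁻¹ := by group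
      rw [this, h]; group
    have h2 := supportR_cj h50 h74 h75 hL hb hX.1 g₀⁻¹
    rw [cj_inv_cj] at h2
    have hr : g₀⁻¹ * ρ * g₀ ∈ supportR M (g₀⁻¹ * x' * g₀) := by
      have e : g₀⁻¹ * x' * g₀ = g₀⁻¹ * x' * g₀⁻¹⁻¹ := by group
      rw [e, h2, mem_cj]
      have : g₀⁻¹⁻¹ * (g₀⁻¹ * ρ * g₀) * g₀⁻¹ = ρ := by group
      rw [this]; exact hρ
    refine ⟨g₀⁻¹ * x' * g₀, ⟨ha, fun h => ha1 (Set.mem_singleton_iff.mp h)⟩, g₀⁻¹ * ρ * g₀, hr, g₀, ?_⟩
    group

/-! ### the count -/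

open Classical in
theorem card_mul_ncard_eq_sum_aux [Fintype G] (S : Set G) :
    Fintype.card G * S.ncard =
      ∑ x' : G, (Finset.univ.filter (fun y : G => y⁻¹ * x' * y ∈ S)).card := by
  have h1 : ∀ y : G, (Finset.univ.filter (fun x' : G => y⁻¹ * x' * y ∈ S)).card = S.ncard := by
    intro y
    rw [Set.ncard_eq_toFinset_card' S]
    apply Finset.card_bij (fun x' _ => y⁻¹ * x' * y)
    · intro x' hx'
      rw [Finset.mem_filter] at hx'
      exact Set.mem_toFinset.mpr hx'.2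
    · intro a _ b _ hab
      calc a = y * (y⁻¹ * a * y) * y⁻¹ := by group
        _ = y * (y⁻¹ * b * y) * y⁻¹ := by rw [hab]
        _ = b := by group
    · intro s hs
      refine ⟨y * s * y⁻¹, ?_, by group⟩
      rw [Finset.mem_filter]
      refine ⟨Finset.mem_univ _, ?_⟩
      have : y⁻¹ * (y * s * y⁻¹) * y = s := by group
      rw [this]; exact Set.mem_toFinset.mp hs
  calc Fintype.card G * S.ncard = ∑ _y : G, S.ncard := by
        rw [Finset.sum_const, Finset.card_univ, smul_eq_mul]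
    _ = ∑ y : G, (Finset.univ.filter (fun x' : G => y⁻¹ * x' * y ∈ S)).card := by
        apply Finset.sum_congr rfl; intro y _; exact (h1 y).symm
    _ = ∑ y : G, ∑ x' : G, (if y⁻¹ * x' * y ∈ S then 1 else 0) := by
        apply Finset.sum_congr rfl; intro y _; rw [Finset.card_filter]
    _ = ∑ x' : G, ∑ y : G, (if y⁻¹ * x' * y ∈ S then 1 else 0) := Finset.sum_comm
    _ = ∑ x' : G, (Finset.univ.filter (fun y : G => y⁻¹ * x' * y ∈ S)).card := by
        apply Finset.sum_congr rfl; intro x' _; rw [Finset.card_filter]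

/-- Double counting: `|G| |S| = Σ_{x'} #{y | y⁻¹ x' y ∈ S}`. -/
theorem card_mul_ncard_eq_sum [Fintype G] (S : Set G)
    [∀ x' : G, DecidablePred fun y : G => y⁻¹ * x' * y ∈ S] :
    Fintype.card G * S.ncard =
      ∑ x' : G, (Finset.univ.filter (fun y : G => y⁻¹ * x' * y ∈ S)).card := by
  rw [card_mul_ncard_eq_sum_aux S]
  apply Finset.sum_congr rfl
  intro x' _
  congr

/-- The fibre over `x' ∈ X` has `|M| |R(x')|` elements. -/
theorem card_filter_conj_mem [Fintype G] (hs : IsSimpleGroup G) (h50 : Hall1350 G)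
    (h74 : Stmt1374 G) (h75 : Stmt1375 G) {M : Subgroup G} (hM : IsCoatom M) {x' : G}
    (hX : x' ∈ Xset M)
    [DecidablePred fun y : G => y⁻¹ * x' * y ∈ ((sigmaCore M : Set G) \ {1})] :
    (Finset.univ.filter (fun y : G => y⁻¹ * x' * y ∈ ((sigmaCore M : Set G) \ {1}))).card =
      Nat.card M * Nat.card (Rp M x') := by
  classical
  have hb := mem_sigmaCore_baseConj hX
  set g₀ := baseConj M x' with hg₀
  have hL : IsCoatom (cj g₀ M) := isCoatom_cj_h23 hM g₀
  have h1 := card_conj_fibre hs h50 h74 h75 hL hb hX.1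
  have h2 : Nat.card (Rp M x') = Nat.card (supportR (cj g₀ M) x') := rfl
  rw [h2, mul_comm, ← card_cj g₀ M, ← h1, ← Fintype.card_subtype, Nat.card_eq_fintype_card]
  apply Fintype.card_congr
  refine ⟨fun y => ⟨(y : G) * g₀⁻¹, ?_⟩, fun h => ⟨(h : G) * g₀, ?_⟩, ?_, ?_⟩
  · have hy := y.2
    rw [Set.mem_sdiff, SetLike.mem_coe, ← mem_cj, ← sigmaCore_cj h50 hM] at hy
    rw [← cj_mul, inv_mul_cancel_right]
    exact hy.1
  · have hh := h.2
    rw [← cj_mul] at hh
    rw [Set.mem_sdiff, SetLike.mem_coe, ← mem_cj, ← sigmaCore_cj h50 hM]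
    refine ⟨hh, ?_⟩
    intro h1'
    apply hX.1
    have h3 : ((h : G) * g₀)⁻¹ * x' * ((h : G) * g₀) = 1 := Set.mem_singleton_iff.mp h1'
    calc x' = ((h : G) * g₀) * (((h : G) * g₀)⁻¹ * x' * ((h : G) * g₀)) * ((h : G) * g₀)⁻¹ := by
          group
      _ = 1 := by rw [h3]; group
  · intro y; apply Subtype.ext; simp
  · intro h; apply Subtype.ext; simp

/-- The fibre over `x' ∉ X` is empty. -/
theorem card_filter_conj_mem_eq_zero [Fintype G] (h50 : Hall1350 G) {M : Subgroup G}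
    (hM : IsCoatom M) {x' : G} (hX : x' ∉ Xset M)
    [DecidablePred fun y : G => y⁻¹ * x' * y ∈ ((sigmaCore M : Set G) \ {1})] :
    (Finset.univ.filter (fun y : G => y⁻¹ * x' * y ∈ ((sigmaCore M : Set G) \ {1}))).card = 0 := by
  rw [Finset.card_eq_zero, Finset.filter_eq_empty_iff]
  intro y _ hy
  apply hX
  rw [Set.mem_sdiff, SetLike.mem_coe, ← mem_cj, ← sigmaCore_cj h50 hM] at hy
  refine ⟨?_, y, hy.1⟩
  rintro rfl
  apply hy.2
  rw [Set.mem_singleton_iff]; group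

/-- `|M̃| = Σ_{x' ∈ X} |R(x')|`. -/
theorem ncard_tildeOf_eq_sum [Fintype G] (h50 : Hall1350 G) (h74 : Stmt1374 G) (h75 : Stmt1375 G)
    (h33 : Stmt1433 G) {M : Subgroup G} (hM : IsCoatom M) [DecidablePred fun x' : G => x' ∈ Xset M] :
    Set.ncard (tildeOf M ((sigmaCore M : Set G) \ {1})) =
      ∑ x' ∈ Finset.univ.filter (fun x' : G => x' ∈ Xset M), Nat.card (Rp M x') := by
  classical
  set Xf := Finset.univ.filter (fun x' : G => x' ∈ Xset M) with hXf
  set t : G → Finset G := fun x' =>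
    (Finset.univ.filter (fun ρ : G => ρ ∈ Rp M x')).image (fun ρ => x' * ρ) with ht
  have hT : tildeOf M ((sigmaCore M : Set G) \ {1}) = ↑(Xf.biUnion t) := by
    ext z
    rw [mem_tildeOf_iff h50 h74 h75 hM, Finset.mem_coe, Finset.mem_biUnion]
    constructor
    · rintro ⟨x', hx', ρ, hρ, rfl⟩
      refine ⟨x', Finset.mem_filter.mpr ⟨Finset.mem_univ _, hx'⟩, ?_⟩
      exact Finset.mem_image.mpr ⟨ρ, Finset.mem_filter.mpr ⟨Finset.mem_univ _, hρ⟩, rfl⟩
    · rintro ⟨x', hx', hz⟩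
      obtain ⟨ρ, hρ, rfl⟩ := Finset.mem_image.mp hz
      exact ⟨x', (Finset.mem_filter.mp hx').2, ρ, (Finset.mem_filter.mp hρ).2, rfl⟩
  rw [hT, Set.ncard_coe_finset, Finset.card_biUnion]
  · apply Finset.sum_congr rfl
    intro x' _
    rw [ht, Finset.card_image_of_injective _ (mul_right_injective x'), ← Fintype.card_subtype,
      Nat.card_eq_fintype_card]
  · intro a ha b hb hab
    show Disjoint (t a) (t b)
    rw [Finset.disjoint_left]
    intro z hza hzb
    obtain ⟨ρ, hρ, rfl⟩ := Finset.mem_image.mp hza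
    obtain ⟨ρ', hρ', hz⟩ := Finset.mem_image.mp hzb
    have haX : a ∈ Xset M := (Finset.mem_filter.mp (Finset.mem_coe.mp ha)).2
    have hbX : b ∈ Xset M := (Finset.mem_filter.mp (Finset.mem_coe.mp hb)).2
    exact h33 (cj (baseConj M a) M) (cj (baseConj M b) M) (isCoatom_cj_h23 hM _)
      (isCoatom_cj_h23 hM _) a b (mem_sigmaCore_baseConj haX) (mem_sigmaCore_baseConj hbX) haX.1
      hbX.1 hab ρ (Finset.mem_filter.mp hρ).2 ρ' (Finset.mem_filter.mp hρ').2 hz.symm

/-- **S1377** (B&G Lemma 14.5(b)) from S1350, S1374, S1375, S1433. -/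
theorem s1377_of [Finite G] (hs : IsSimpleGroup G) (h50 : Hall1350 G) (h74 : Stmt1374 G)
    (h75 : Stmt1375 G) (h33 : Stmt1433 G) (M : Subgroup G) (hM : IsCoatom M) :
    Set.ncard (tildeOf M ((sigmaCore M : Set G) \ {1})) =
      (Nat.card (sigmaCore M) - 1) * M.index := by
  classical
  cases nonempty_fintype G
  have hS : ((sigmaCore M : Set G) \ {1}).ncard = Nat.card (sigmaCore M) - 1 := by
    rw [Set.ncard_sdiff_singleton_of_mem (Subgroup.one_mem _)]
    congr 1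
  have h1 := card_mul_ncard_eq_sum ((sigmaCore M : Set G) \ {1})
  have h2 : ∑ x' : G, (Finset.univ.filter
      (fun y : G => y⁻¹ * x' * y ∈ ((sigmaCore M : Set G) \ {1}))).card =
      ∑ x' ∈ Finset.univ.filter (fun x' : G => x' ∈ Xset M), Nat.card M * Nat.card (Rp M x') := by
    rw [← Finset.sum_filter_add_sum_filter_not Finset.univ (fun x' : G => x' ∈ Xset M)]
    have hz : ∑ x' ∈ Finset.univ.filter (fun x' : G => ¬ x' ∈ Xset M), (Finset.univ.filter
        (fun y : G => y⁻¹ * x' * y ∈ ((sigmaCore M : Set G) \ {1}))).card = 0 := by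
      apply Finset.sum_eq_zero
      intro x' hx'
      exact card_filter_conj_mem_eq_zero h50 hM (Finset.mem_filter.mp hx').2
    rw [hz, add_zero]
    apply Finset.sum_congr rfl
    intro x' hx'
    exact card_filter_conj_mem hs h50 h74 h75 hM (Finset.mem_filter.mp hx').2
  rw [h2, ← Finset.mul_sum, ← ncard_tildeOf_eq_sum h50 h74 h75 h33 hM, hS,
    ← Nat.card_eq_fintype_card, ← M.card_mul_index, mul_assoc] at h1
  have h3 := Nat.eq_of_mul_eq_mul_left (Nat.card_pos (α := M)) h1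
  rw [← h3, mul_comm]

end Cfsg.Agent.Lib.Helper23
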