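import Mathlib
import Cfsg.Prelude.Def_OddOrderLocal
import Cfsg.Agent.S1474
import Cfsg.Agent.Lib.Helper22.BGFourteenFourB
import Cfsg.Agent.Lib.Helper64.CNMaximal
import Cfsg.Agent.Lib.Helper23.BGSigmaTI
import Cfsg.Agent.Lib.Helper23.TypeP

/-!
# B&G Theorem 15.2 / Theorem A(1): `M_F ≠ 1`, `M_F ≤ M_σ ≤ M' < M`, `M'/M_F` nilpotent  (helper23)

`s1355_of`: the statement of S1355 from S1350, S1426(2), S1415(1) and the dichotomy
"`M_σ` nilpotent, or the structure of S1437".
-/

set_option autoImplicit false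

namespace Cfsg.Agent.Lib.Helper23

open Cfsg

universe u

variable {G : Type u} [Group G]

/-- `M_F ≤ M_σ`. -/
theorem fittingHallOf_le_sigmaCore [Finite G] (hs : IsSimpleGroup G) {M : Subgroup G}
    (hM : IsCoatom M) (hHall : IsPiHallOf (sigma M) (sigmaCore M) M) :
    fittingHallOf M ≤ sigmaCore M := by
  apply le_sigmaCore_of_forall_prime_mem M hHall (Subgroup.map_subtype_le _)
  intro r hr hrd
  have : Fact r.Prime := ⟨hr⟩
  have hcard : Nat.card (fittingHallOf M) = Nat.card (fittingHall ↥M) := by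
    unfold fittingHallOf
    exact Subgroup.card_map_of_injective M.subtype_injective
  have hrd : r ∣ Nat.card (fittingHall ↥M) := hcard ▸ hrd
  obtain ⟨P⟩ : Nonempty (Sylow r ↥M) := inferInstance
  have h1 := Cfsg.Agent.Lib.Helper64.sylow_normal_of_dvd_card_fittingHall r hrd P
  have hrM : r ∣ Nat.card M := hrd.trans (Subgroup.card_subgroup_dvd_card _)
  exact Cfsg.Agent.Lib.Helper22.BGFourteenFour.mem_sigma_of_normal_sylow hs hM hrM P h1.1

/-- `M_σ ≤ M_F` if `M_σ` is nilpotent. -/
theorem piCore_le_fittingHall_of_isNilpotent [Finite G] {M : Subgroup G}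
    (hHall : IsPiHallOf (sigma M) (sigmaCore M) M) (hnil : Group.IsNilpotent (sigmaCore M)) :
    piCore (sigma M) ↥M ≤ fittingHall ↥M := by
  apply le_sSup
  refine ⟨piCore_normal _ _, ?_, ?_⟩
  · have e : (piCore (sigma M) ↥M) ≃* ((piCore (sigma M) ↥M).map M.subtype) :=
      Subgroup.equivMapOfInjective _ _ M.subtype_injective
    have : Group.IsNilpotent ((piCore (sigma M) ↥M).map M.subtype) := hnil
    exact Group.nilpotent_of_mulEquiv e.symm
  · have hidx : (piCore (sigma M) ↥M).index = (sigmaCore M).relIndex M := by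
      rw [Subgroup.relIndex, sigmaCore, Subgroup.subgroupOf,
        Subgroup.comap_map_eq_self_of_injective M.subtype_injective]
    have hcard : Nat.card (piCore (sigma M) ↥M) = Nat.card (sigmaCore M) := by
      rw [sigmaCore, Subgroup.card_map_of_injective M.subtype_injective]
    rw [hidx, hcard]
    apply Nat.coprime_of_dvd
    intro k hk hk1 hk2
    exact hHall.2.2 k hk (hHall.2.1 k hk hk1) hk2

/-- `M_F = M_σ` (inside `M`) if `M_σ` is nilpotent. -/
theorem fittingHall_eq_piCore_of_isNilpotent [Finite G] (hs : IsSimpleGroup G) {M : Subgroup G}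
    (hM : IsCoatom M) (hHall : IsPiHallOf (sigma M) (sigmaCore M) M)
    (hnil : Group.IsNilpotent (sigmaCore M)) : fittingHall ↥M = piCore (sigma M) ↥M := by
  apply le_antisymm
  · have h := fittingHallOf_le_sigmaCore hs hM hHall
    intro x hx
    have hx' : (x : G) ∈ sigmaCore M := h ⟨x, hx, rfl⟩
    obtain ⟨y, hy, hyx⟩ := hx'
    have : y = x := Subtype.ext hyx
    rwa [this] at hy
  · exact piCore_le_fittingHall_of_isNilpotent hHall hnil

/-- Schur–Zassenhaus in `IsComplIn` form: a normal Hall subgroup `Q` of `N` has a complement. -/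
theorem exists_isComplIn_of_normal_coprime [Finite G] {Q N : Subgroup G} (hQN : Q ≤ N)
    (hn : N ≤ Subgroup.normalizer (Q : Set G)) (hcop : (Nat.card Q).Coprime (Q.relIndex N)) :
    ∃ D : Subgroup G, IsComplIn Q D N := by
  have hnorm : (Q.subgroupOf N).Normal := Subgroup.normal_subgroupOf_of_le_normalizer hn
  have hcop' : (Nat.card (Q.subgroupOf N)).Coprime (Q.subgroupOf N).index := by
    rw [Nat.card_congr (Subgroup.subgroupOfEquivOfLe hQN).toEquiv]; exact hcop
  obtain ⟨H, hH⟩ := Subgroup.exists_right_complement'_of_coprime hcop'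
  refine ⟨H.map N.subtype, hQN, Subgroup.map_subtype_le _, ?_, ?_⟩
  · rw [eq_bot_iff]
    rintro x ⟨hxQ, y, hy, rfl⟩
    have h1 : y ∈ Q.subgroupOf N ⊓ H := ⟨Subgroup.mem_subgroupOf.mpr hxQ, hy⟩
    rw [hH.disjoint.eq_bot, Subgroup.mem_bot] at h1
    rw [h1]; exact Subgroup.one_mem _
  · intro m hm
    obtain ⟨⟨⟨a, ha⟩, ⟨b, hb⟩⟩, hab, -⟩ :=
      (Subgroup.isComplement_iff_existsUnique.mp hH) ⟨m, hm⟩
    simp only at hab
    refine ⟨a, Subgroup.mem_subgroupOf.mp ha, b, ⟨b, hb, rfl⟩, ?_⟩
    have := congrArg Subtype.val hab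
    simpa using this.symm

/-- The image of a nilpotent subgroup under a homomorphism is nilpotent. -/
theorem isNilpotent_map_h23 {A B : Type*} [Group A] [Group B] (f : A →* B) (H : Subgroup A)
    (hH : Group.IsNilpotent H) : Group.IsNilpotent (H.map f) :=
  Group.nilpotent_of_surjective (f.subgroupMap H) (f.subgroupMap_surjective H)

/-- `D.subgroupOf M` is nilpotent if `D ≤ M` is. -/
theorem isNilpotent_subgroupOf_h23 {D M : Subgroup G} (hDM : D ≤ M) (hD : Group.IsNilpotent D) :
    Group.IsNilpotent (D.subgroupOf M) :=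
  Group.nilpotent_of_mulEquiv (Subgroup.subgroupOfEquivOfLe hDM).symm

/-- **S1355** from its inputs. -/
theorem s1355_of [Finite G] (hs : IsSimpleGroup G) (M : Subgroup G) (hM : IsCoatom M)
    (hsolvM : Group.IsSolvable M) (hHall : IsPiHallOf (sigma M) (sigmaCore M) M)
    (hσ1 : sigmaCore M ≠ ⊥) (E : Subgroup G) (hE : IsComplIn E (sigmaCore M) M)
    (h26 : ⁅sigmaCore M, E⁆ = sigmaCore M) (h15 : Group.IsNilpotent ↥⁅E, E⁆)
    (hcase : Group.IsNilpotent (sigmaCore M) ∨
      (sigmaCore M = ⁅M, M⁆ ∧ ∃ Q : Subgroup G, Q ≤ fittingHallOf M ∧ Q ≠ ⊥ ∧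
        M ≤ Subgroup.normalizer (Q : Set G) ∧ (Nat.card Q).Coprime (Q.relIndex (sigmaCore M)) ∧
        ∀ D : Subgroup G, IsComplIn Q D (sigmaCore M) → Group.IsNilpotent D)) :
    fittingHallOf M ≠ ⊥ ∧ fittingHallOf M ≤ sigmaCore M ∧ sigmaCore M ≤ ⁅M, M⁆ ∧ ⁅M, M⁆ < M ∧
      Group.IsNilpotent ↥((commutator ↥M).map (QuotientGroup.mk' (fittingHall ↥M))) := by
  have hσM : sigmaCore M ≤ M := sigmaCore_le_self_h23 M
  have hFσ := fittingHallOf_le_sigmaCore hs hM hHall
  have hM1 : M ≠ ⊥ := by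
    rintro rfl
    exact hσ1 (le_bot_iff.mp hσM)
  have hcomm : (commutator ↥M).map M.subtype = ⁅M, M⁆ := Subgroup.map_subtype_commutator M
  refine ⟨?_, hFσ, ?_, ?_, ?_⟩
  · rcases hcase with hnil | ⟨-, Q, hQF, hQ1, -⟩
    · intro h
      apply hσ1
      have h1 := piCore_le_fittingHall_of_isNilpotent hHall hnil
      have h2 : sigmaCore M ≤ fittingHallOf M := Subgroup.map_mono h1
      rw [h] at h2
      exact le_bot_iff.mp h2
    · intro h
      rw [h] at hQF
      exact hQ1 (le_bot_iff.mp hQF)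
  · rw [← h26]
    exact Subgroup.commutator_mono hσM hE.1
  · have hle : ⁅M, M⁆ ≤ M := by rw [← hcomm]; exact Subgroup.map_subtype_le _
    refine lt_of_le_of_ne hle ?_
    intro h
    have : Nontrivial ↥M := (Subgroup.nontrivial_iff_ne_bot M).mpr hM1
    have hlt := Group.IsSolvable.commutator_lt_top_of_nontrivial ↥M
    apply hlt.ne
    rw [eq_top_iff]
    intro x _
    have hx : (x : G) ∈ ⁅M, M⁆ := by rw [h]; exact x.2
    rw [← hcomm] at hx
    obtain ⟨y, hy, hyx⟩ := hx
    have : y = x := Subtype.ext hyx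
    rwa [this] at hy
  · set f := QuotientGroup.mk' (fittingHall ↥M) with hf
    rcases hcase with hnil | ⟨hM', Q, hQF, hQ1, hQn, hQcop, hD⟩
    · -- `M_F = M_σ`; the image of `M'` is the image of `E'`
      have hF := fittingHall_eq_piCore_of_isNilpotent hs hM hHall hnil
      set Em : Subgroup ↥M := E.subgroupOf M with hEm
      have htop : (⊤ : Subgroup ↥M).map f = Em.map f := by
        apply le_antisymm
        · rintro _ ⟨m, -, rfl⟩
          obtain ⟨a, ha, b, hb, hab⟩ := hE.2.2.2 (m : G) m.2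
          have hbM : b ∈ M := hσM hb
          have haM : a ∈ M := hE.1 ha
          have hm : m = (⟨a, haM⟩ : ↥M) * ⟨b, hbM⟩ := Subtype.ext hab
          have hbF : (⟨b, hbM⟩ : ↥M) ∈ fittingHall ↥M := by
            rw [hF]
            obtain ⟨y, hy, hyb⟩ := hb
            have : y = ⟨b, hbM⟩ := Subtype.ext hyb
            rwa [this] at hy
          refine ⟨⟨a, haM⟩, Subgroup.mem_subgroupOf.mpr ha, ?_⟩
          rw [hm, map_mul]
          have : f ⟨b, hbM⟩ = 1 := (QuotientGroup.eq_one_iff _).mpr hbF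
          rw [this, mul_one]
        · exact Subgroup.map_mono le_top
      have h1 : (commutator ↥M).map f = (⁅Em, Em⁆).map f := by
        rw [commutator_def, Subgroup.map_commutator, htop, ← Subgroup.map_commutator]
      rw [h1]
      apply isNilpotent_map_h23
      have h2 : (⁅Em, Em⁆).map M.subtype = ⁅E, E⁆ := by
        rw [Subgroup.map_commutator, hEm, Subgroup.map_subgroupOf_eq_of_le hE.1]
      have e : ↥⁅Em, Em⁆ ≃* ↥((⁅Em, Em⁆).map M.subtype) :=
        Subgroup.equivMapOfInjective _ _ M.subtype_injective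
      have h3 : Group.IsNilpotent ↥((⁅Em, Em⁆).map M.subtype) := by rw [h2]; exact h15
      exact Group.nilpotent_of_mulEquiv e.symm
    · -- `M' = M_σ = Q D` with `D` nilpotent and `Q ≤ M_F`
      have hQσ : Q ≤ sigmaCore M := hQF.trans hFσ
      obtain ⟨D, hDc⟩ := exists_isComplIn_of_normal_coprime hQσ (hσM.trans hQn) hQcop
      have hDnil := hD D hDc
      have hDM : D ≤ M := hDc.2.1.trans hσM
      set Dm : Subgroup ↥M := D.subgroupOf M with hDm
      have h1 : (commutator ↥M).map f = Dm.map f := by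
        apply le_antisymm
        · rintro _ ⟨m, hm, rfl⟩
          have hmG : (m : G) ∈ ⁅M, M⁆ := by rw [← hcomm]; exact ⟨m, hm, rfl⟩
          rw [← hM'] at hmG
          obtain ⟨a, ha, b, hb, hab⟩ := hDc.2.2.2 (m : G) hmG
          have haM : a ∈ M := hσM (hQσ ha)
          have hbM : b ∈ M := hDM hb
          have hm' : m = (⟨a, haM⟩ : ↥M) * ⟨b, hbM⟩ := Subtype.ext hab
          have haF : (⟨a, haM⟩ : ↥M) ∈ fittingHall ↥M := by
            obtain ⟨y, hy, hya⟩ := hQF ha
            have : y = ⟨a, haM⟩ := Subtype.ext hya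
            rwa [this] at hy
          refine ⟨⟨b, hbM⟩, Subgroup.mem_subgroupOf.mpr hb, ?_⟩
          rw [hm', map_mul]
          have : f ⟨a, haM⟩ = 1 := (QuotientGroup.eq_one_iff _).mpr haF
          rw [this, one_mul]
        · apply Subgroup.map_mono
          intro x hx
          have hxD : (x : G) ∈ D := Subgroup.mem_subgroupOf.mp hx
          have hxσ : (x : G) ∈ ⁅M, M⁆ := by rw [← hM']; exact hDc.2.1 hxD
          rw [← hcomm] at hxσ
          obtain ⟨y, hy, hyx⟩ := hxσ
          have : y = x := Subtype.ext hyx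
          rwa [this] at hy
      rw [h1]
      exact isNilpotent_map_h23 f Dm (isNilpotent_subgroupOf_h23 hDM hDnil)

end Cfsg.Agent.Lib.Helper23
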