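/-
helper23 shared library: the statement S1364 (for a maximal subgroup `M` of type 𝒫 with standard
factorisation `M = K U M_σ`: `K* = C_{M_σ}(K)` is cyclic, nontrivial, contained in `M_F`, and `M_F` is not
cyclic), derived from S1368 (`K K*` cyclic), S1437 (`|K*|` prime dividing `|M_F|` when
`M_F ≠ M_σ`) and S1431 (Sylow subgroups of `M_σ` for primes of `K*` are not contained in `K*`), all taken
as hypotheses.  All declarations live in `Cfsg.Agent.Lib.Helper23`.
-/
import Mathlib
import Cfsg.Prelude.Def_OddOrderLocal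
import Cfsg.Agent.Lib.Helper23.BGFourteenB
import Cfsg.Agent.Lib.Helper23.CoprimeHyperplane
import Cfsg.Agent.Lib.Helper64.CNMaximal

set_option autoImplicit false

namespace Cfsg.Agent.Lib.Helper23

open Cfsg
open scoped Pointwise

section BGFourteenC

variable {G : Type*} [Group G]

/-- A subgroup of a cyclic subgroup is cyclic. -/
theorem isCyclic_of_le_h23 {A B : Subgroup G} (h : A ≤ B) (hB : IsCyclic B) : IsCyclic A := by
  have : IsCyclic (A.subgroupOf B) := inferInstance
  exact (Subgroup.subgroupOfEquivOfLe h).isCyclic.mp this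

/-- `M` normalizes the image in `G` of a normal subgroup of `M`. -/
theorem le_normalizer_map_subtype_of_normal {M : Subgroup G} (N : Subgroup M) [hN : N.Normal] :
    M ≤ Subgroup.normalizer ((N.map M.subtype : Subgroup G) : Set G) := by
  have key : ∀ m ∈ M, ∀ y ∈ N.map M.subtype, m * y * m⁻¹ ∈ N.map M.subtype := by
    rintro m hm _ ⟨y, hy, rfl⟩
    exact ⟨⟨m, hm⟩ * y * ⟨m, hm⟩⁻¹, hN.conj_mem y hy ⟨m, hm⟩, rfl⟩
  intro m hm
  rw [Subgroup.mem_normalizer_iff]
  intro y
  constructor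
  · exact key m hm y
  · intro h
    have := key m⁻¹ (M.inv_mem hm) _ h
    have e : m⁻¹ * (m * y * m⁻¹) * m⁻¹⁻¹ = y := by group
    rwa [e] at this

/-- S1364 from S1368, S1437, S1431 (hypotheses). -/
theorem s1364_of [Finite G] (M K : Subgroup G) (hKM : K ≤ M)
    (hcop : (Nat.card K).Coprime (Nat.card (sigmaCore M)))
    (hZ : IsCyclic ↥(K ⊔ (sigmaCore M ⊓ Subgroup.centralizer (K : Set G))))
    (hKs1 : sigmaCore M ⊓ Subgroup.centralizer (K : Set G) ≠ ⊥)
    (h1437 : fittingHallOf M ≠ sigmaCore M →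
      (Nat.card ↥(sigmaCore M ⊓ Subgroup.centralizer (K : Set G))).Prime ∧
      Nat.card ↥(sigmaCore M ⊓ Subgroup.centralizer (K : Set G)) ∣ Nat.card (fittingHallOf M))
    (h1431 : ∀ p : ℕ, p.Prime →
      p ∣ Nat.card ↥(sigmaCore M ⊓ Subgroup.centralizer (K : Set G)) →
      ∀ S : Sylow p ↥(sigmaCore M), ¬ (S : Subgroup ↥(sigmaCore M)).map (sigmaCore M).subtype ≤
        sigmaCore M ⊓ Subgroup.centralizer (K : Set G)) :
    IsCyclic ↥(sigmaCore M ⊓ Subgroup.centralizer (K : Set G)) ∧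
      (sigmaCore M ⊓ Subgroup.centralizer (K : Set G)) ≠ ⊥ ∧
      (sigmaCore M ⊓ Subgroup.centralizer (K : Set G)) ≤ fittingHallOf M ∧
      ¬ IsCyclic (fittingHallOf M) := by
  set Ks : Subgroup G := sigmaCore M ⊓ Subgroup.centralizer (K : Set G) with hKs
  have hσM : sigmaCore M ≤ M := sigmaCore_le_self_h23 M
  have hKsM : Ks ≤ M := inf_le_left.trans hσM
  have hFcard : Nat.card (fittingHallOf M) = Nat.card (fittingHall M) :=
    Subgroup.card_map_of_injective M.subtype_injective
  -- every `p`-subgroup of `M` lies in `M_F` when `p ∣ |M_F|`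
  have hpF : ∀ (p : ℕ) [Fact p.Prime], p ∣ Nat.card (fittingHallOf M) → ∀ Q : Subgroup G, Q ≤ M →
      IsPGroup p Q → Q ≤ fittingHallOf M := by
    intro p _ hp Q hQM hQ
    have hQ' : IsPGroup p (Q.subgroupOf M) :=
      hQ.of_equiv (Subgroup.subgroupOfEquivOfLe hQM).symm
    obtain ⟨P, hP⟩ := hQ'.exists_le_sylow
    have h1 := (Cfsg.Agent.Lib.Helper64.sylow_normal_of_dvd_card_fittingHall p
      (by rwa [hFcard] at hp) P).2
    intro x hx
    exact ⟨⟨x, hQM hx⟩, h1 (hP (Subgroup.mem_subgroupOf.mpr hx)), rfl⟩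
  have hKsF : Ks ≤ fittingHallOf M := by
    by_cases hF : fittingHallOf M = sigmaCore M
    · rw [hF]; exact inf_le_left
    · obtain ⟨hq, hqF⟩ := h1437 hF
      have : Fact (Nat.card Ks).Prime := ⟨hq⟩
      apply hpF (Nat.card Ks) hqF Ks hKsM
      apply IsPGroup.of_card (n := 1)
      rw [pow_one]
  refine ⟨isCyclic_of_le_h23 le_sup_right hZ, hKs1, hKsF, ?_⟩
  intro hF
  have hcard : Nat.card Ks ≠ 1 := fun h => hKs1 (Subgroup.eq_bot_of_card_eq Ks h)
  obtain ⟨p, hp, hpK⟩ := Nat.exists_prime_and_dvd hcard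
  have : Fact p.Prime := ⟨hp⟩
  obtain ⟨x, hx⟩ := exists_prime_orderOf_dvd_card' (G := Ks) p hpK
  have hxord : orderOf (x : G) = p := by rw [Subgroup.orderOf_coe]; exact hx
  have hx1 : (x : G) ≠ 1 := by
    intro h
    rw [h, orderOf_one] at hxord
    exact hp.one_lt.ne hxord
  have hpF' : p ∣ Nat.card (fittingHallOf M) := by
    have h1 : orderOf (⟨(x : G), hKsF x.2⟩ : fittingHallOf M) = p := by
      rw [← Subgroup.orderOf_coe]; exact hxord
    rw [← h1]
    exact orderOf_dvd_natCard _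
  obtain ⟨S⟩ : Nonempty (Sylow p ↥(sigmaCore M)) := inferInstance
  set S' : Subgroup G := (S : Subgroup ↥(sigmaCore M)).map (sigmaCore M).subtype with hS'
  have hS'σ : S' ≤ sigmaCore M := Subgroup.map_subtype_le _
  have hS'p : IsPGroup p S' := S.isPGroup'.map _
  have hS'F : S' ≤ fittingHallOf M := hpF p hpF' S' (hS'σ.trans hσM) hS'p
  have hS'c : IsCyclic S' := isCyclic_of_le_h23 hS'F hF
  have hMF : M ≤ Subgroup.normalizer ((fittingHallOf M : Subgroup G) : Set G) :=
    le_normalizer_map_subtype_of_normal (fittingHall M)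
  have hKS' : K ≤ Subgroup.normalizer (S' : Set G) := fun k hk =>
    Cfsg.Agent.Lib.Helper82.NilAbel.mem_normalizer_of_le_cyclic hF hS'F (hMF (hKM hk))
  -- `x ∈ S'`
  have hS'card : Nat.card S' = p ^ (Nat.card (sigmaCore M)).factorization p := by
    rw [hS', Subgroup.card_map_of_injective (sigmaCore M).subtype_injective]
    exact S.card_eq_multiplicity
  have hpσ : p ∣ Nat.card (sigmaCore M) :=
    hpK.trans (Subgroup.card_dvd_of_le (inf_le_left : Ks ≤ sigmaCore M))
  have hpS' : p ∣ Nat.card S' := by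
    rw [hS'card]
    have h0 : (Nat.card (sigmaCore M)).factorization p ≠ 0 := by
      have := (hp.dvd_iff_one_le_factorization Nat.card_pos.ne').mp hpσ
      omega
    exact dvd_pow_self p h0
  obtain ⟨y, hy⟩ := exists_prime_orderOf_dvd_card' (G := S') p hpS'
  have hyord : orderOf (y : G) = p := by rw [Subgroup.orderOf_coe]; exact hy
  have hxS' : (x : G) ∈ S' := by
    have h1 : Subgroup.zpowers (x : G) = Subgroup.zpowers (y : G) := by
      apply Cfsg.Agent.Lib.Helper82.NilAbel.eq_of_card_eq_of_le_cyclic hF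
      · rw [Subgroup.zpowers_le]; exact hKsF x.2
      · rw [Subgroup.zpowers_le]; exact hS'F y.2
      · rw [Nat.card_zpowers, Nat.card_zpowers, hxord, hyord]
    have h2 : (x : G) ∈ Subgroup.zpowers (y : G) := by rw [← h1]; exact Subgroup.mem_zpowers _
    exact (Subgroup.zpowers_le.mpr y.2) h2
  -- coprime action of `K` on the cyclic `p`-group `S'`
  have hcop' : (Nat.card K).Coprime (Nat.card S') :=
    Nat.Coprime.coprime_dvd_right (Subgroup.card_dvd_of_le hS'σ) hcop
  have hS'comm : IsMulCommutative S' := by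
    let _ := IsCyclic.commGroup (α := S')
    exact ⟨⟨fun a b => mul_comm a b⟩⟩
  obtain ⟨h1, h2⟩ := Cfsg.Agent.S0055.result K S' hKS' hcop'
  set A : Subgroup G := S' ⊓ Subgroup.centralizer (K : Set G) with hA
  set B : Subgroup G := ⁅S', K⁆ with hB
  have hAS : A ≤ S' := inf_le_left
  have hBS : B ≤ S' := by rw [← h2]; exact le_sup_right
  have hxA : (x : G) ∈ A := ⟨hxS', x.2.2⟩
  rcases le_total (Nat.card A) (Nat.card B) with hle | hle
  · have hAB : A ≤ B := le_of_card_le_of_le_cyclic hS'c hS'p hAS hBS hle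
    have : (x : G) ∈ A ⊓ B := ⟨hxA, hAB hxA⟩
    rw [h1, Subgroup.mem_bot] at this
    exact hx1 this
  · have hBA : B ≤ A := le_of_card_le_of_le_cyclic hS'c hS'p hBS hAS hle
    have hB1 : B = ⊥ := by
      rw [eq_bot_iff, ← h1]
      exact le_inf hBA le_rfl
    rw [hB1, sup_bot_eq] at h2
    apply h1431 p hp hpK S
    intro z hz
    have hzA : z ∈ A := by rw [h2]; exact hz
    exact ⟨hS'σ hz, hzA.2⟩

end BGFourteenC

end Cfsg.Agent.Lib.Helper23
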