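import Mathlib
import Cfsg.Prelude.Def_OddOrderLocal
import Cfsg.Agent.S1545
import Cfsg.Agent.Lib.Helper54.Coprime
import Cfsg.Agent.Lib.Helper23.BGFourteenB

/-!
# B&G Lemma 3.10 (`Frobenius_primact`) and its use in §14: `U ≠ 1 ⇒ |K|` prime  (helper23)

* `card_prime_of_frobenius_primeAction`: a Frobenius group `U ⋊ K` acts coprimely on a solvable group
  `N` with `C_N(U) = 1`, `K` acts in a prime manner (`C_N(k) = C_N(K)` for `k ∈ K#`) and
  `C_N(K) ≠ 1`.  Then `|K|` is prime and `|N| = |C_N(K)| ^ |K|`.  (From the Frobenius–Wielandt fixed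
  point formula S1545.)
* `inf_centralizer_eq_bot_of_sigmaDecomposition`: `C_{M_σ}(U) = 1` for the `U ≠ 1` of a standard
  factorisation, from the conclusion of S1429 (B&G 14.1).
* `card_kappaHall_prime_of`: `M = K U M_σ` with `K ≠ 1`, `U ≠ 1`: `|K|` is prime and
  `|M_σ| = |K*| ^ |K|`.
-/

set_option autoImplicit false

namespace Cfsg.Agent.Lib.Helper23

open Cfsg

/-- **B&G Lemma 3.10** (first two conclusions). -/
theorem card_prime_of_frobenius_primeAction {X : Type*} [Group X] [Finite X] (N U K : Subgroup X)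
    (hU1 : U ≠ ⊥) (hK1 : K ≠ ⊥)
    (hKU : K ≤ Subgroup.normalizer (U : Set X))
    (hreg : ∀ k ∈ K, k ≠ 1 → U ⊓ Subgroup.centralizer ({k} : Set X) = ⊥)
    (hUN : U ≤ Subgroup.normalizer (N : Set X)) (hKN : K ≤ Subgroup.normalizer (N : Set X))
    (hsolv : Group.IsSolvable N)
    (hcU : (Nat.card N).Coprime (Nat.card U)) (hcK : (Nat.card N).Coprime (Nat.card K))
    (hCU : N ⊓ Subgroup.centralizer (U : Set X) = ⊥)
    (hprime : ∀ k ∈ K, k ≠ 1 →
      N ⊓ Subgroup.centralizer ({k} : Set X) = N ⊓ Subgroup.centralizer (K : Set X))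
    (hKs : N ⊓ Subgroup.centralizer (K : Set X) ≠ ⊥) :
    (Nat.card K).Prime ∧
      Nat.card N = Nat.card ↥(N ⊓ Subgroup.centralizer (K : Set X)) ^ Nat.card K := by
  -- the key formula for every nontrivial subgroup of `K`
  have key : ∀ K₀ : Subgroup X, K₀ ≤ K → K₀ ≠ ⊥ →
      Nat.card N = Nat.card ↥(N ⊓ Subgroup.centralizer (K : Set X)) ^ Nat.card K₀ := by
    intro K₀ hK₀ hK₀1
    have hUE : U ⊓ K₀ = ⊥ := by
      rw [eq_bot_iff]
      rintro x ⟨hxU, hxK⟩
      rw [Subgroup.mem_bot]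
      by_contra hx1
      have : x ∈ U ⊓ Subgroup.centralizer ({x} : Set X) :=
        ⟨hxU, Subgroup.mem_centralizer_singleton_iff.mpr rfl⟩
      rw [hreg x (hK₀ hxK) hx1, Subgroup.mem_bot] at this
      exact hx1 this
    have hUn : ∀ e ∈ K₀, ∀ u ∈ U, e * u * e⁻¹ ∈ U := by
      intro e he u hu
      exact ((Subgroup.mem_normalizer_iff.mp (hKU (hK₀ he))) u).mp hu
    have hfpf : ∀ e ∈ K₀, e ≠ 1 → ∀ u ∈ U, e * u = u * e → u = 1 := by
      intro e he he1 u hu hcomm
      have : u ∈ U ⊓ Subgroup.centralizer ({e} : Set X) :=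
        ⟨hu, Subgroup.mem_centralizer_singleton_iff.mpr hcomm.symm⟩
      rw [hreg e (hK₀ he) he1, Subgroup.mem_bot] at this
      exact this
    have hUK₀N : U ⊔ K₀ ≤ Subgroup.normalizer (N : Set X) := sup_le hUN (hK₀.trans hKN)
    have hHn : ∀ x ∈ U ⊔ K₀, ∀ h ∈ N, x * h * x⁻¹ ∈ N := by
      intro x hx h hh
      exact ((Subgroup.mem_normalizer_iff.mp (hUK₀N hx)) h).mp hh
    have hcard : Nat.card (U ⊔ K₀ : Subgroup X) = Nat.card U * Nat.card K₀ :=
      Cfsg.Agent.Lib.Helper54.card_sup_of_le_normalizer (hK₀.trans hKU) hUE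
    have hcop : (Nat.card N).Coprime (Nat.card ↥(U ⊔ K₀)) := by
      rw [hcard]
      exact Nat.Coprime.mul_right hcU
        (Nat.Coprime.coprime_dvd_right (Subgroup.card_dvd_of_le hK₀) hcK)
    have hdisj : N ⊓ (U ⊔ K₀) = ⊥ := (Subgroup.disjoint_of_coprime_natCard hcop).eq_bot
    have hform := Cfsg.Agent.S1545.result U K₀ N hU1 hK₀1 hUE hUn hfpf hHn hdisj hsolv hcop
    have h1 : N ⊓ Subgroup.centralizer ((U ⊔ K₀ : Subgroup X) : Set X) = ⊥ := by
      rw [eq_bot_iff, ← hCU]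
      exact inf_le_inf_left N (Subgroup.centralizer_le (by
        intro x hx; exact (le_sup_left : U ≤ U ⊔ K₀) hx))
    have h2 : N ⊓ Subgroup.centralizer (K₀ : Set X) = N ⊓ Subgroup.centralizer (K : Set X) := by
      apply le_antisymm
      · obtain ⟨k, hk, hk1⟩ : ∃ k : X, k ∈ K₀ ∧ k ≠ 1 := by
          obtain ⟨a, ha⟩ := Subgroup.ne_bot_iff_exists_ne_one.mp hK₀1
          exact ⟨(a : X), a.2, fun h => ha (Subtype.ext h)⟩
        rw [← hprime k (hK₀ hk) hk1]
        exact inf_le_inf_left N (Subgroup.centralizer_le (by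
          intro x hx; rw [Set.mem_singleton_iff] at hx; rw [hx]; exact hk))
      · exact inf_le_inf_left N (Subgroup.centralizer_le (by
          intro x hx; exact hK₀ hx))
    rw [h1, hCU, h2] at hform
    simpa using hform
  have hc : 2 ≤ Nat.card ↥(N ⊓ Subgroup.centralizer (K : Set X)) := by
    have h0 : 0 < Nat.card ↥(N ⊓ Subgroup.centralizer (K : Set X)) := Nat.card_pos
    have h1 : Nat.card ↥(N ⊓ Subgroup.centralizer (K : Set X)) ≠ 1 := by
      intro h; exact hKs (Subgroup.card_eq_one.mp h)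
    omega
  have hfull := key K le_rfl hK1
  refine ⟨?_, hfull⟩
  -- a subgroup of prime order of `K` has the same order as `K`
  have hK1' : Nat.card K ≠ 1 := fun h => hK1 (Subgroup.card_eq_one.mp h)
  obtain ⟨p, hp, hpK⟩ := Nat.exists_prime_and_dvd hK1'
  have : Fact p.Prime := ⟨hp⟩
  obtain ⟨x, hx⟩ := exists_prime_orderOf_dvd_card' (G := K) p hpK
  have hxo : orderOf (x : X) = p := by rw [Subgroup.orderOf_coe, hx]
  have hz : Subgroup.zpowers (x : X) ≤ K := by
    rw [Subgroup.zpowers_le]; exact x.2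
  have hz1 : Subgroup.zpowers (x : X) ≠ ⊥ := by
    intro h
    have : Nat.card (Subgroup.zpowers (x : X)) = 1 := by rw [h]; exact Subgroup.card_bot
    rw [Nat.card_zpowers, hxo] at this
    exact hp.one_lt.ne' this
  have h3 := key _ hz hz1
  rw [Nat.card_zpowers, hxo, hfull] at h3
  have := Nat.pow_right_injective hc h3
  rw [this]; exact hp

variable {G : Type*} [Group G]

/-- `C_{M_σ}(U) = 1` for the `U ≠ 1` of a standard factorisation `M = K U M_σ`, from the conclusion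
of S1429 (B&G Lemma 14.1) for `M`. -/
theorem inf_centralizer_eq_bot_of_sigmaDecomposition [Finite G] {M K U : Subgroup G}
    (hHall : IsPiHallOf (sigma M) (sigmaCore M) M)
    (hKU : IsSigmaDecomposition M K U) (hU1 : U ≠ ⊥)
    (h29 : ¬ (∀ q : ℕ, q.Prime → q ∣ Nat.card M → q ∉ sigma M → q ∈ kappa M) →
      ∀ (p : ℕ) [Fact p.Prime], p ∣ Nat.card M → p ∉ sigma M ∪ kappa M → ∀ S : Sylow p M,
        sigmaCore M ⊓ Subgroup.centralizer ((Subgroup.closure
          {x : G | x ∈ (S : Subgroup M).map M.subtype ∧ x ^ p = 1} : Subgroup G) : Set G) = ⊥) :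
    sigmaCore M ⊓ Subgroup.centralizer (U : Set G) = ⊥ := by
  have hUM : U ≤ M := hKU.compl.1
  have hcard := card_eq_of_sigmaDecomposition hHall hKU
  obtain ⟨hcUK, hcUσ⟩ := coprime_card_of_sigmaDecomposition hHall hKU
  have hU1' : Nat.card U ≠ 1 := fun h => hU1 (Subgroup.card_eq_one.mp h)
  obtain ⟨p, hp, hpU⟩ := Nat.exists_prime_and_dvd hU1'
  have : Fact p.Prime := ⟨hp⟩
  have hpM : p ∣ Nat.card M := hpU.trans (Subgroup.card_dvd_of_le hUM)
  have hpK : ¬ p ∣ Nat.card K := fun h =>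
    hp.one_lt.ne' (Nat.eq_one_of_dvd_coprimes hcUK hpU h)
  have hpσ' : ¬ p ∣ Nat.card (sigmaCore M) := fun h =>
    hp.one_lt.ne' (Nat.eq_one_of_dvd_coprimes hcUσ hpU h)
  have hσM : sigmaCore M ≤ M := sigmaCore_le_self_h23 M
  have hpσ : p ∉ sigma M := by
    intro h
    apply hHall.2.2 p hp h
    have h3 := Cfsg.Agent.Lib.Helper54.card_mul_relIndex hσM
    have h4 : (sigmaCore M).relIndex M = Nat.card U * Nat.card K := by
      apply Nat.eq_of_mul_eq_mul_left (Nat.card_pos (α := sigmaCore M))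
      rw [h3, hcard]; ring
    rw [h4]; exact Dvd.dvd.mul_right hpU _
  have hpκ : p ∉ kappa M := by
    intro h
    apply hKU.hall.2.2 p hp h
    have h3 := Cfsg.Agent.Lib.Helper54.card_mul_relIndex hKU.hall.1
    have h4 : K.relIndex M = Nat.card U * Nat.card (sigmaCore M) := by
      apply Nat.eq_of_mul_eq_mul_left (Nat.card_pos (α := K))
      rw [h3, hcard]; ring
    rw [h4]; exact Dvd.dvd.mul_right hpU _
  have hP1 : ¬ (∀ q : ℕ, q.Prime → q ∣ Nat.card M → q ∉ sigma M → q ∈ kappa M) :=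
    fun h => hpκ (h p hp hpM hpσ)
  -- a Sylow `p`-subgroup of `M` inside `U`
  obtain ⟨P⟩ : Nonempty (Sylow p U) := inferInstance
  set P' : Subgroup G := (P : Subgroup U).map U.subtype with hP'
  have hP'U : P' ≤ U := by
    rintro _ ⟨y, -, rfl⟩; exact y.2
  have hcardP' : Nat.card P' = p ^ (Nat.card M).factorization p := by
    rw [hP', Nat.card_congr (Subgroup.equivMapOfInjective _ _ U.subtype_injective).symm.toEquiv,
      Sylow.card_eq_multiplicity, hcard]
    congr 1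
    have hσ0 : Nat.card (sigmaCore M) ≠ 0 := Nat.card_pos.ne'
    have hK0 : Nat.card K ≠ 0 := Nat.card_pos.ne'
    have hU0 : Nat.card U ≠ 0 := Nat.card_pos.ne'
    rw [Nat.factorization_mul hU0 (Nat.mul_ne_zero hσ0 hK0), Nat.factorization_mul hσ0 hK0]
    simp only [Finsupp.coe_add, Pi.add_apply]
    rw [Nat.factorization_eq_zero_of_not_dvd hpσ', Nat.factorization_eq_zero_of_not_dvd hpK]
    omega
  obtain ⟨S, hS⟩ := Cfsg.Agent.Lib.Helper54.exists_sylow_of_card M P' (hP'U.trans hUM) hcardP'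
  have h := h29 hP1 p hpM (fun h => h.elim hpσ hpκ) S
  rw [eq_bot_iff, ← h]
  apply inf_le_inf_left
  apply Subgroup.centralizer_le
  have : Subgroup.closure {x : G | x ∈ (S : Subgroup M).map M.subtype ∧ x ^ p = 1} ≤ U := by
    rw [Subgroup.closure_le]
    rintro x ⟨hx, -⟩
    rw [hS] at hx
    exact hP'U hx
  exact this

/-- **`U ≠ 1 ⇒ |K|` prime** (B&G Theorem 14.7(f), second half; Theorem 15.2): in a standard
factorisation `M = K U M_σ` with `K ≠ 1` and `U ≠ 1`, `|K|` is prime and `|M_σ| = |K*| ^ |K|`.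
Hypotheses: `hreg` is the conclusion of S1353, `hprime` is S1430(1), `hKs` is S1354, `h29` is the
second conclusion of S1429. -/
theorem card_kappaHall_prime_of [Finite G] {M K U : Subgroup G}
    (hsolv : Group.IsSolvable (sigmaCore M))
    (hHall : IsPiHallOf (sigma M) (sigmaCore M) M)
    (hKU : IsSigmaDecomposition M K U) (hK1 : K ≠ ⊥) (hU1 : U ≠ ⊥)
    (hreg : ∀ k ∈ K, k ≠ 1 → U ⊓ Subgroup.centralizer ({k} : Set G) = ⊥)
    (hprime : ∀ k ∈ K, k ≠ 1 → sigmaCore M ⊓ Subgroup.centralizer ({k} : Set G) =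
      sigmaCore M ⊓ Subgroup.centralizer (K : Set G))
    (hKs : sigmaCore M ⊓ Subgroup.centralizer (K : Set G) ≠ ⊥)
    (h29 : ¬ (∀ q : ℕ, q.Prime → q ∣ Nat.card M → q ∉ sigma M → q ∈ kappa M) →
      ∀ (p : ℕ) [Fact p.Prime], p ∣ Nat.card M → p ∉ sigma M ∪ kappa M → ∀ S : Sylow p M,
        sigmaCore M ⊓ Subgroup.centralizer ((Subgroup.closure
          {x : G | x ∈ (S : Subgroup M).map M.subtype ∧ x ^ p = 1} : Subgroup G) : Set G) = ⊥) :
    (Nat.card K).Prime ∧ Nat.card (sigmaCore M) =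
      Nat.card ↥(sigmaCore M ⊓ Subgroup.centralizer (K : Set G)) ^ Nat.card K := by
  obtain ⟨hcUK, hcUσ⟩ := coprime_card_of_sigmaDecomposition hHall hKU
  have hcKσ : (Nat.card K).Coprime (Nat.card (sigmaCore M)) :=
    coprime_card_kappa_sigmaCore hHall hKU.hall.2.1
  exact card_prime_of_frobenius_primeAction (sigmaCore M) U K hU1 hK1 hKU.normal hreg
    (hKU.compl.1.trans (le_normalizer_sigmaCore_h23 M))
    (hKU.hall.1.trans (le_normalizer_sigmaCore_h23 M)) hsolv hcUσ.symm hcKσ.symm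
    (inf_centralizer_eq_bot_of_sigmaDecomposition hHall hKU hU1 h29) hprime hKs

end Cfsg.Agent.Lib.Helper23
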