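import Mathlib
import Cfsg.Prelude.Def_OddOrderLocal
import Cfsg.Agent.S1545
import Cfsg.Agent.S1403
import Cfsg.Agent.S1404
import Cfsg.Agent.S1417
import Cfsg.Agent.Lib.Helper54.Coprime
import Cfsg.Agent.Lib.Helper54.UqBasic
import Cfsg.Agent.Lib.Helper54.BGTransitivity
import Cfsg.Agent.Lib.Helper22.BGTwelveM
import Cfsg.Agent.Lib.Helper34.FittingSigma
import Cfsg.Agent.Lib.Helper82.NilAbelCyclic
import Cfsg.Agent.Lib.Helper65.NilpBasic
import Cfsg.Agent.Lib.Helper33.Conj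
import Cfsg.Agent.Lib.Helper23.BGSigmaTI
import Cfsg.Agent.Lib.Helper23.BGFourteenA
import Cfsg.Agent.Lib.Helper23.BGFourteenB
import Cfsg.Agent.Lib.Helper23.BGHallFusion
import Cfsg.Agent.Lib.Helper55.BGElevenD

/-!
# `F(M)` is a TI-subset (B&G Theorem 15.7-type statements) without B&G 15.8/15.9  (helper23)

The Fitting subgroup `F(M)` of a maximal subgroup `M` is a TI-subset of `G` as soon as every element
of prime order `r ∈ σ(M)` of `F(M)` is controlled (`g x g⁻¹ ∈ F(M) ⇒ g ∈ M`): the `σ(M)'`-part of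
`F(M)` is cyclic (B&G 12.x, helper34's `FittingSigma`), so its subgroups of prime order are normal
in `M`.

For the primes of `σ(M)` the control comes from the Uniqueness Theorem (S1403): if `x` centralizes
an elementary abelian subgroup of `M` of order `> s ^ 2` then `C_G(x) ≤ M`, and then S1404 gives
`g ∈ M`.

* type `P₂` (`K ≠ 1`, `U ≠ 1`): `M_σ` is nilpotent and `Ω₁` of a Sylow subgroup of `Z(M_σ)` is a
  free `K`-module by the Frobenius–Wielandt formula S1545, so it has rank `≥ |K| ≥ 3`;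
* `M_F ≠ M_σ`: the normal Sylow `q`-subgroup `Q ≤ M_F` with `q ∈ β(M)` has rank `≥ 3`.
-/

set_option autoImplicit false

namespace Cfsg.Agent.Lib.Helper23

open Cfsg
open Cfsg.Agent.Lib.Helper33 (cj mem_cj conj_mem_cj cj_mono mem_normalizer_iff_cj_eq)

section General

variable {X : Type*} [Group X]

/-- **Frobenius–Wielandt formula** for a Frobenius group `U ⋊ K` acting coprimely on a solvable
group `N` with `C_N(U) = 1`: `|N| = |C_N(K)| ^ |K|`. -/
theorem card_eq_pow_of_frobenius_action [Finite X] (N U K : Subgroup X)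
    (hU1 : U ≠ ⊥) (hK1 : K ≠ ⊥)
    (hKU : K ≤ Subgroup.normalizer (U : Set X))
    (hreg : ∀ k ∈ K, k ≠ 1 → U ⊓ Subgroup.centralizer ({k} : Set X) = ⊥)
    (hUN : U ≤ Subgroup.normalizer (N : Set X)) (hKN : K ≤ Subgroup.normalizer (N : Set X))
    (hsolv : Group.IsSolvable N)
    (hcU : (Nat.card N).Coprime (Nat.card U)) (hcK : (Nat.card N).Coprime (Nat.card K))
    (hCU : N ⊓ Subgroup.centralizer (U : Set X) = ⊥) :
    Nat.card N = Nat.card ↥(N ⊓ Subgroup.centralizer (K : Set X)) ^ Nat.card K := by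
  have hUE : U ⊓ K = ⊥ := by
    rw [eq_bot_iff]
    rintro x ⟨hxU, hxK⟩
    rw [Subgroup.mem_bot]
    by_contra hx1
    have : x ∈ U ⊓ Subgroup.centralizer ({x} : Set X) :=
      ⟨hxU, Subgroup.mem_centralizer_singleton_iff.mpr rfl⟩
    rw [hreg x hxK hx1, Subgroup.mem_bot] at this
    exact hx1 this
  have hUn : ∀ e ∈ K, ∀ u ∈ U, e * u * e⁻¹ ∈ U := by
    intro e he u hu
    exact ((Subgroup.mem_normalizer_iff.mp (hKU he)) u).mp hu
  have hfpf : ∀ e ∈ K, e ≠ 1 → ∀ u ∈ U, e * u = u * e → u = 1 := by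
    intro e he he1 u hu hcomm
    have : u ∈ U ⊓ Subgroup.centralizer ({e} : Set X) :=
      ⟨hu, Subgroup.mem_centralizer_singleton_iff.mpr hcomm.symm⟩
    rw [hreg e he he1, Subgroup.mem_bot] at this
    exact this
  have hUKN : U ⊔ K ≤ Subgroup.normalizer (N : Set X) := sup_le hUN hKN
  have hHn : ∀ x ∈ U ⊔ K, ∀ h ∈ N, x * h * x⁻¹ ∈ N := by
    intro x hx h hh
    exact ((Subgroup.mem_normalizer_iff.mp (hUKN hx)) h).mp hh
  have hcard : Nat.card (U ⊔ K : Subgroup X) = Nat.card U * Nat.card K :=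
    Cfsg.Agent.Lib.Helper54.card_sup_of_le_normalizer hKU hUE
  have hcop : (Nat.card N).Coprime (Nat.card ↥(U ⊔ K)) := by
    rw [hcard]
    exact Nat.Coprime.mul_right hcU hcK
  have hdisj : N ⊓ (U ⊔ K) = ⊥ := (Subgroup.disjoint_of_coprime_natCard hcop).eq_bot
  have hform := Cfsg.Agent.S1545.result U K N hU1 hK1 hUE hUn hfpf hHn hdisj hsolv hcop
  have h1 : N ⊓ Subgroup.centralizer ((U ⊔ K : Subgroup X) : Set X) = ⊥ := by
    rw [eq_bot_iff, ← hCU]
    exact inf_le_inf_left N (Subgroup.centralizer_le (by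
      intro x hx; exact (le_sup_left : U ≤ U ⊔ K) hx))
  rw [h1, hCU] at hform
  simpa using hform

/-- The elements of order dividing `s` of the centre of `N`, as a subgroup of the ambient group. -/
def omegaCenter (s : ℕ) (N : Subgroup X) : Subgroup X where
  carrier := {z | z ∈ N ∧ z ∈ Subgroup.centralizer (N : Set X) ∧ z ^ s = 1}
  one_mem' := ⟨N.one_mem, Subgroup.one_mem _, one_pow _⟩
  mul_mem' := by
    rintro a b ⟨haN, haC, has⟩ ⟨hbN, hbC, hbs⟩
    refine ⟨N.mul_mem haN hbN, Subgroup.mul_mem _ haC hbC, ?_⟩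
    have hc : Commute a b := (Subgroup.mem_centralizer_iff.mp hbC a haN)
    rw [hc.mul_pow, has, hbs, one_mul]
  inv_mem' := by
    rintro a ⟨haN, haC, has⟩
    exact ⟨N.inv_mem haN, Subgroup.inv_mem _ haC, by rw [inv_pow, has, inv_one]⟩

theorem mem_omegaCenter {s : ℕ} {N : Subgroup X} {z : X} :
    z ∈ omegaCenter s N ↔ z ∈ N ∧ z ∈ Subgroup.centralizer (N : Set X) ∧ z ^ s = 1 := Iff.rfl

theorem omegaCenter_le (s : ℕ) (N : Subgroup X) : omegaCenter s N ≤ N := fun _ h => h.1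

theorem omegaCenter_le_centralizer (s : ℕ) (N : Subgroup X) :
    omegaCenter s N ≤ Subgroup.centralizer (N : Set X) := fun _ h => h.2.1

theorem omegaCenter_comm (s : ℕ) (N : Subgroup X) :
    ∀ x ∈ omegaCenter s N, ∀ y ∈ omegaCenter s N, x * y = y * x := by
  intro x hx y hy
  exact (Subgroup.mem_centralizer_iff.mp hx.2.1 y hy.1).symm

theorem omegaCenter_pow (s : ℕ) (N : Subgroup X) : ∀ x ∈ omegaCenter s N, x ^ s = 1 :=
  fun _ h => h.2.2

/-- whatever normalizes `N` normalizes `Ω_s(Z(N))` -/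
theorem normalizer_le_normalizer_omegaCenter (s : ℕ) (N : Subgroup X) :
    Subgroup.normalizer (N : Set X) ≤ Subgroup.normalizer ((omegaCenter s N : Subgroup X) : Set X) := by
  have key : ∀ h ∈ Subgroup.normalizer (N : Set X), ∀ v ∈ omegaCenter s N,
      h * v * h⁻¹ ∈ omegaCenter s N := by
    rintro h hh v ⟨hvN, hvC, hvs⟩
    refine ⟨(Subgroup.mem_normalizer_iff.mp hh v).mp hvN, ?_, ?_⟩
    · rw [Subgroup.mem_centralizer_iff]
      intro n hn
      have hn' : h⁻¹ * n * h⁻¹⁻¹ ∈ N :=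
        (Subgroup.mem_normalizer_iff.mp (Subgroup.inv_mem _ hh) n).mp hn
      have hc := Subgroup.mem_centralizer_iff.mp hvC _ hn'
      -- hc : h⁻¹ * n * h⁻¹⁻¹ * v = v * (h⁻¹ * n * h⁻¹⁻¹)
      have e1 : n * (h * v * h⁻¹) = h * ((h⁻¹ * n * h⁻¹⁻¹) * v) * h⁻¹ := by group
      have e2 : h * v * h⁻¹ * n = h * (v * (h⁻¹ * n * h⁻¹⁻¹)) * h⁻¹ := by group
      rw [e1, e2, hc]
    · rw [conj_pow, hvs, mul_one, mul_inv_cancel]
  intro h hh
  rw [Subgroup.mem_normalizer_iff]
  intro v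
  constructor
  · exact key h hh v
  · intro hv
    have := key h⁻¹ (Subgroup.inv_mem _ hh) _ hv
    have e : h⁻¹ * (h * v * h⁻¹) * h⁻¹⁻¹ = v := by group
    rwa [e] at this

/-- **A central elementary abelian subgroup of rank at least `3`**: a Frobenius group `U ⋊ K` of odd
order acts coprimely on a nilpotent group `N ≠ 1` with `C_N(U) = 1`.  Then for some prime `s`,
`Ω_s(Z(N))` has order greater than `s ^ 2`. -/
theorem exists_omegaCenter_card_gt [Finite X] (hodd : Odd (Nat.card X)) (N U K : Subgroup X)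
    (hN1 : N ≠ ⊥) (hnil : Group.IsNilpotent N)
    (hU1 : U ≠ ⊥) (hK1 : K ≠ ⊥)
    (hKU : K ≤ Subgroup.normalizer (U : Set X))
    (hreg : ∀ k ∈ K, k ≠ 1 → U ⊓ Subgroup.centralizer ({k} : Set X) = ⊥)
    (hUN : U ≤ Subgroup.normalizer (N : Set X)) (hKN : K ≤ Subgroup.normalizer (N : Set X))
    (hcU : (Nat.card N).Coprime (Nat.card U)) (hcK : (Nat.card N).Coprime (Nat.card K))
    (hCU : N ⊓ Subgroup.centralizer (U : Set X) = ⊥) :
    ∃ s : ℕ, s.Prime ∧ s ^ 2 < Nat.card ↥(omegaCenter s N) := by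
  -- the centre `Z = N ⊓ C(N)` of `N` is nontrivial
  have hNnt : Nontrivial ↥N := (Subgroup.nontrivial_iff_ne_bot N).mpr hN1
  have hcen : Subgroup.center ↥N ≠ ⊥ := Group.IsNilpotent.center_ne_bot ↥N
  obtain ⟨z, hz1⟩ := (Subgroup.ne_bot_iff_exists_ne_one.mp hcen)
  have hzN : ((z : ↥N) : X) ∈ N := (z : ↥N).2
  have hzC : ((z : ↥N) : X) ∈ Subgroup.centralizer (N : Set X) := by
    rw [Subgroup.mem_centralizer_iff]
    intro n hn
    have h := Subgroup.mem_center_iff.mp z.2 ⟨n, hn⟩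
    exact congrArg Subtype.val h
  have hz1' : ((z : ↥N) : X) ≠ 1 := by
    intro h
    apply hz1
    apply Subtype.ext
    apply Subtype.ext
    exact h
  set Z : Subgroup X := N ⊓ Subgroup.centralizer (N : Set X) with hZ
  have hZ1 : Nat.card Z ≠ 1 := by
    intro h
    have hb := Subgroup.card_eq_one.mp h
    have hm : ((z : ↥N) : X) ∈ Z := ⟨hzN, hzC⟩
    rw [hb, Subgroup.mem_bot] at hm
    exact hz1' hm
  obtain ⟨s, hs, hsZ⟩ := Nat.exists_prime_and_dvd hZ1
  have : Fact s.Prime := ⟨hs⟩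
  refine ⟨s, hs, ?_⟩
  obtain ⟨w, hw⟩ := exists_prime_orderOf_dvd_card' (G := Z) s hsZ
  set V : Subgroup X := omegaCenter s N with hV
  have hVN : V ≤ N := omegaCenter_le s N
  have hwV : ((w : ↥Z) : X) ∈ V := by
    refine ⟨w.2.1, w.2.2, ?_⟩
    have h1 : (w : ↥Z) ^ s = 1 := by rw [← hw]; exact pow_orderOf_eq_one w
    have h2 := congrArg Subtype.val h1
    simpa using h2
  have hw1 : ((w : ↥Z) : X) ≠ 1 := by
    intro h
    have h1 : w = 1 := Subtype.ext h
    rw [h1, orderOf_one] at hw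
    exact hs.one_lt.ne hw
  have hNV := normalizer_le_normalizer_omegaCenter s N
  have hsolvN : Group.IsSolvable ↥N := inferInstance
  have hsolvV : Group.IsSolvable ↥V := Cfsg.Agent.Lib.Helper54.isSolvable_of_le hVN hsolvN
  have hdvd : Nat.card V ∣ Nat.card N := Subgroup.card_dvd_of_le hVN
  have hform := card_eq_pow_of_frobenius_action V U K hU1 hK1 hKU hreg (hUN.trans hNV)
    (hKN.trans hNV) hsolvV (Nat.Coprime.coprime_dvd_left hdvd hcU)
    (Nat.Coprime.coprime_dvd_left hdvd hcK)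
    (by
      rw [eq_bot_iff, ← hCU]
      exact inf_le_inf_right _ hVN)
  set C : Subgroup X := V ⊓ Subgroup.centralizer (K : Set X) with hC
  have hVcard1 : Nat.card V ≠ 1 := by
    intro h
    have hb := Subgroup.card_eq_one.mp h
    rw [hb, Subgroup.mem_bot] at hwV
    exact hw1 hwV
  have hCcard1 : Nat.card C ≠ 1 := by
    intro h
    rw [h, one_pow] at hform
    exact hVcard1 hform
  -- `s ∣ |C|`
  have hsC : s ∣ Nat.card C := by
    obtain ⟨t, ht, htC⟩ := Nat.exists_prime_and_dvd hCcard1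
    have : Fact t.Prime := ⟨ht⟩
    obtain ⟨c, hc⟩ := exists_prime_orderOf_dvd_card' (G := C) t htC
    have hcs : (c : ↥C) ^ s = 1 := by
      apply Subtype.ext
      have := omegaCenter_pow s N (c : X) c.2.1
      simpa using this
    have h1 : t ∣ s := by rw [← hc]; exact orderOf_dvd_of_pow_eq_one hcs
    have h2 : t = s := (Nat.prime_dvd_prime_iff_eq ht hs).mp h1
    rw [← h2]; exact htC
  have hsC' : s ≤ Nat.card C := Nat.le_of_dvd Nat.card_pos hsC
  -- `|K| ≥ 3`
  have hK3 : 3 ≤ Nat.card K := by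
    have hK1' : Nat.card K ≠ 1 := fun h => hK1 (Subgroup.card_eq_one.mp h)
    have hKodd : Odd (Nat.card K) := by
      have hd : Nat.card K ∣ Nat.card X := Subgroup.card_subgroup_dvd_card K
      exact Odd.of_dvd_nat hodd hd
    have hpos : 0 < Nat.card K := Nat.card_pos
    rcases hKodd with ⟨m, hm⟩
    omega
  calc s ^ 2 < s ^ 3 := Nat.pow_lt_pow_right hs.one_lt (by norm_num)
    _ ≤ Nat.card C ^ 3 := Nat.pow_le_pow_left hsC' 3
    _ ≤ Nat.card C ^ Nat.card K := Nat.pow_le_pow_right Nat.card_pos hK3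
    _ = Nat.card V := hform.symm

end General


section Main

variable {G : Type*} [Group G] [Finite G]

open Cfsg.Agent.Lib.Helper34 (UniquenessThm)

/-- With the Uniqueness Theorem: a proper subgroup `H` of `G` containing an elementary abelian
subgroup `B ≤ M` of order greater than `p ^ 2` lies in the maximal subgroup `M`. -/
theorem le_coatom_of_elemAb_le (hG : IsMinSimpleOddOrder G) {M : Subgroup G} (hM : IsCoatom M)
    {p : ℕ} [Fact p.Prime] {B H : Subgroup G} (hBM : B ≤ M)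
    (hBc : ∀ x ∈ B, ∀ y ∈ B, x * y = y * x) (hBexp : ∀ x ∈ B, x ^ p = 1)
    (hcard : p ^ 2 < Nat.card B) (hH : H ≠ ⊤) (hBH : B ≤ H) : H ≤ M := by
  have hU : UniquenessThm G := fun K hK h1 h2 => Cfsg.Agent.S1403.result hG K hK h1 h2
  have hBtop : B ≠ ⊤ := fun h => hM.1 (top_le_iff.mp (h ▸ hBM))
  have hB := Cfsg.Agent.Lib.Helper22.BGTwelveM.inUniqueMaximal_of_elemAb hU hBtop le_rfl hBc hBexp
    hcard
  obtain ⟨L, hL, hBL, hu⟩ := Cfsg.Agent.Lib.Helper54.exists_forall_of_inUniqueMaximal hB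
  have hML : M = L := hu M hM hBM
  rw [hML]
  exact Cfsg.Agent.Lib.Helper54.le_of_unique_coatom hu hH hBH

/-- `σ`-fusion control (S1404) for an element `x ∈ M` of prime order `r ∈ σ(M)` with
`C_G(x) ≤ M`: if `g x g⁻¹ ∈ M` then `g ∈ M`. -/
theorem mem_of_conj_mem_of_centralizer_le (hG : IsMinSimpleOddOrder G) {M : Subgroup G}
    (hM : IsCoatom M) {r : ℕ} [Fact r.Prime] (hr : r ∈ sigma M) {x g : G} (hxM : x ∈ M)
    (hxo : orderOf x = r) (hC : Subgroup.centralizer ({x} : Set G) ≤ M)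
    (hg : g * x * g⁻¹ ∈ M) : g ∈ M := by
  have hrp : r.Prime := Fact.out
  have hXp : IsPGroup r (Subgroup.zpowers x) :=
    IsPGroup.of_card (n := 1) (by rw [Nat.card_zpowers, hxo, pow_one])
  have hX1 : Subgroup.zpowers x ≠ ⊥ := by
    intro h
    rw [Subgroup.zpowers_eq_bot] at h
    rw [h, orderOf_one] at hxo
    exact hrp.one_lt.ne hxo
  have hXM : Subgroup.zpowers x ≤ M := by rw [Subgroup.zpowers_le]; exact hxM
  have h := (Cfsg.Agent.S1404.result hG M hM r hr (Subgroup.zpowers x) hXp hX1 hXM).1 g (by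
    rw [MonoidHom.map_zpowers, Subgroup.zpowers_le]; exact hg)
  obtain ⟨m, hm, c, hc, rfl⟩ := h
  rw [centralizer_zpowers_eq] at hc
  exact M.mul_mem hm (hC hc)

omit [Finite G] in
/-- `M_F ≤ F(M)`. -/
theorem fittingHallOf_le_fittingOf (M : Subgroup G) : fittingHallOf M ≤ fittingOf M := by
  apply Subgroup.map_mono
  apply sSup_le
  intro N hN
  exact le_sSup ⟨hN.1, hN.2.1⟩

/-- **`F(M)` is a TI-subset as soon as its elements of prime order `r ∈ σ(M)` are controlled.**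
The `σ(M)'`-part of `F(M)` is cyclic (Bender–Glauberman 12.x via helper34's `FittingSigma`). -/
theorem isTISubset_fittingOf_of_forall (hG : IsMinSimpleOddOrder G) {M : Subgroup G}
    (hM : IsCoatom M)
    (hσ : ∀ r ∈ sigma M, ∀ x ∈ fittingOf M, orderOf x = r →
      ∀ g : G, g * x * g⁻¹ ∈ fittingOf M → g ∈ M) :
    IsTISubset (fittingOf M : Set G) := by
  have hs : IsSimpleGroup G := hG.2.1
  have hU : UniquenessThm G := fun K hK h1 h2 => Cfsg.Agent.S1403.result hG K hK h1 h2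
  have h12 : Cfsg.Agent.Lib.Helper34.Tau2Omega M := by
    intro p _ hp A hAM hAe hAc P hAP
    exact ((Cfsg.Agent.S1417.result hG M hM p hp A ⟨hAM, hAe, hAc⟩).2.1 P).2 hAP
  intro g hg x hx hgx
  by_contra hx1
  apply hg
  apply Cfsg.Agent.Lib.Helper34.le_normalizer_fittingOf M
  -- a power of `x` of prime order
  have hn1 : orderOf x ≠ 1 := by rwa [Ne, orderOf_eq_one_iff]
  have hn0 : orderOf x ≠ 0 := (orderOf_pos x).ne'
  obtain ⟨r, hr, hrn⟩ := Nat.exists_prime_and_dvd hn1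
  obtain ⟨k, hk⟩ := hrn
  have hk0 : k ≠ 0 := by
    rintro rfl
    rw [mul_zero] at hk
    exact hn0 hk
  have hyo : orderOf (x ^ k) = r := by
    rw [orderOf_pow_of_dvd hk0 ⟨r, by rw [hk, mul_comm]⟩, hk]
    exact Nat.mul_div_cancel _ (Nat.pos_of_ne_zero hk0)
  have hyF : x ^ k ∈ fittingOf M := pow_mem hx k
  have hgy : g * x ^ k * g⁻¹ ∈ fittingOf M := by
    rw [← conj_pow]; exact pow_mem hgx k
  by_cases hrσ : r ∈ sigma M
  · exact hσ r hrσ (x ^ k) hyF hyo g hgy
  · have : Fact r.Prime := ⟨hr⟩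
    have hOc : IsCyclic ↥(Cfsg.Agent.Lib.Helper34.pCoreOf r M) :=
      Cfsg.Agent.Lib.Helper34.isCyclic_pCoreOf_of_not_mem_sigma hG.1 hU hM h12 hrσ
    have hYcard : Nat.card (Subgroup.zpowers (x ^ k)) = r := by rw [Nat.card_zpowers, hyo]
    have hYp : IsPGroup r (Subgroup.zpowers (x ^ k)) :=
      IsPGroup.of_card (n := 1) (by rw [hYcard, pow_one])
    have hYO : Subgroup.zpowers (x ^ k) ≤ Cfsg.Agent.Lib.Helper34.pCoreOf r M :=
      Cfsg.Agent.Lib.Helper34.le_pCoreOf_of_le_fittingOf hYp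
        (by rw [Subgroup.zpowers_le]; exact hyF)
    have hY'eq : Subgroup.zpowers (g * x ^ k * g⁻¹) = cj g (Subgroup.zpowers (x ^ k)) := by
      unfold cj
      rw [MonoidHom.map_zpowers]
      rfl
    have hY'card : Nat.card (Subgroup.zpowers (g * x ^ k * g⁻¹)) = r := by
      rw [hY'eq, Cfsg.Agent.Lib.Helper33.card_cj, hYcard]
    have hY'p : IsPGroup r (Subgroup.zpowers (g * x ^ k * g⁻¹)) :=
      IsPGroup.of_card (n := 1) (by rw [hY'card, pow_one])
    have hY'O : Subgroup.zpowers (g * x ^ k * g⁻¹) ≤ Cfsg.Agent.Lib.Helper34.pCoreOf r M :=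
      Cfsg.Agent.Lib.Helper34.le_pCoreOf_of_le_fittingOf hY'p
        (by rw [Subgroup.zpowers_le]; exact hgy)
    have heq : Subgroup.zpowers (g * x ^ k * g⁻¹) = Subgroup.zpowers (x ^ k) :=
      Cfsg.Agent.Lib.Helper82.NilAbel.eq_of_card_eq_of_le_cyclic hOc hY'O hYO
        (by rw [hY'card, hYcard])
    have hgN : g ∈ Subgroup.normalizer ((Subgroup.zpowers (x ^ k) : Subgroup G) : Set G) :=
      mem_normalizer_iff_cj_eq.mpr (by rw [← hY'eq, heq])
    have hMN : M ≤ Subgroup.normalizer ((Subgroup.zpowers (x ^ k) : Subgroup G) : Set G) :=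
      fun m hm => Cfsg.Agent.Lib.Helper82.NilAbel.mem_normalizer_of_le_cyclic hOc hYO
        (Cfsg.Agent.Lib.Helper34.le_normalizer_pCoreOf r M hm)
    have hY1 : Subgroup.zpowers (x ^ k) ≠ ⊥ := by
      intro h
      rw [h, Subgroup.card_bot] at hYcard
      exact hr.one_lt.ne hYcard
    have hYM : Subgroup.zpowers (x ^ k) ≤ M := hYO.trans (Cfsg.Agent.Lib.Helper34.pCoreOf_le r M)
    exact Cfsg.Agent.Lib.Helper34.normalizer_le_of_le_normalizer hM hY1 hYM hMN hgN

/-- an element of `M` of prime order `r ∈ σ(M)` lies in `M_σ` -/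
theorem mem_sigmaCore_of_orderOf_mem_sigma {M : Subgroup G}
    (hHall : IsPiHallOf (sigma M) (sigmaCore M) M) {r : ℕ} (hr : r ∈ sigma M) {x : G}
    (hxM : x ∈ M) (hxo : orderOf x = r) : x ∈ sigmaCore M := by
  have hle : Subgroup.zpowers x ≤ sigmaCore M := by
    apply le_sigmaCore_of_forall_prime_mem M hHall (by rw [Subgroup.zpowers_le]; exact hxM)
    intro t ht htd
    rw [Nat.card_zpowers, hxo] at htd
    have : t = r := (Nat.prime_dvd_prime_iff_eq ht hr.1).mp htd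
    rw [this]; exact hr
  exact hle (Subgroup.mem_zpowers x)

/-- `U ≠ 1` gives a prime divisor of `|M|` outside `σ(M) ∪ κ(M)` (so `M` is not of type `P₁`). -/
theorem exists_prime_not_mem_of_sigmaDecomposition {M K U : Subgroup G}
    (hHall : IsPiHallOf (sigma M) (sigmaCore M) M)
    (hKU : IsSigmaDecomposition M K U) (hU1 : U ≠ ⊥) :
    ∃ p : ℕ, p.Prime ∧ p ∣ Nat.card M ∧ p ∉ sigma M ∧ p ∉ kappa M := by
  have hUM : U ≤ M := hKU.compl.1
  have hcard := card_eq_of_sigmaDecomposition hHall hKU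
  obtain ⟨hcUK, hcUσ⟩ := coprime_card_of_sigmaDecomposition hHall hKU
  have hU1' : Nat.card U ≠ 1 := fun h => hU1 (Subgroup.card_eq_one.mp h)
  obtain ⟨p, hp, hpU⟩ := Nat.exists_prime_and_dvd hU1'
  have hpM : p ∣ Nat.card M := hpU.trans (Subgroup.card_dvd_of_le hUM)
  have hσM : sigmaCore M ≤ M := sigmaCore_le_self_h23 M
  refine ⟨p, hp, hpM, ?_, ?_⟩
  · intro h
    apply hHall.2.2 p hp h
    have h3 := Cfsg.Agent.Lib.Helper54.card_mul_relIndex hσM
    have h4 : (sigmaCore M).relIndex M = Nat.card U * Nat.card K := by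
      apply Nat.eq_of_mul_eq_mul_left (Nat.card_pos (α := sigmaCore M))
      rw [h3, hcard]; ring
    rw [h4]; exact Dvd.dvd.mul_right hpU _
  · intro h
    apply hKU.hall.2.2 p hp h
    have h3 := Cfsg.Agent.Lib.Helper54.card_mul_relIndex hKU.hall.1
    have h4 : K.relIndex M = Nat.card U * Nat.card (sigmaCore M) := by
      apply Nat.eq_of_mul_eq_mul_left (Nat.card_pos (α := K))
      rw [h3, hcard]; ring
    rw [h4]; exact Dvd.dvd.mul_right hpU _

/-- **Type `P₂`** (`K ≠ 1`, `U ≠ 1`): `F(M)` is a TI-subset of `G` containing `M_σ`.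
`hreg` is the conclusion of S1353; `hCU` (`C_{M_σ}(U) = 1`) and `hnil` come from S1429. -/
theorem isTISubset_fittingOf_of_typeP2 (hG : IsMinSimpleOddOrder G) {M K U : Subgroup G}
    (hM : IsCoatom M) (hHall : IsPiHallOf (sigma M) (sigmaCore M) M)
    (hKU : IsSigmaDecomposition M K U) (hK1 : K ≠ ⊥) (hU1 : U ≠ ⊥)
    (hreg : ∀ k ∈ K, k ≠ 1 → U ⊓ Subgroup.centralizer ({k} : Set G) = ⊥)
    (hCU : sigmaCore M ⊓ Subgroup.centralizer (U : Set G) = ⊥)
    (hnil : Group.IsNilpotent (sigmaCore M)) :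
    IsTISubset (fittingOf M : Set G) ∧ sigmaCore M ≤ fittingOf M := by
  have hU : UniquenessThm G := fun K hK h1 h2 => Cfsg.Agent.S1403.result hG K hK h1 h2
  have hσ1 : sigmaCore M ≠ ⊥ := Cfsg.Agent.Lib.Helper55.BGEleven.sigmaCore_ne_bot hG hU M hM
  obtain ⟨hcUK, hcUσ⟩ := coprime_card_of_sigmaDecomposition hHall hKU
  have hcKσ : (Nat.card K).Coprime (Nat.card (sigmaCore M)) :=
    coprime_card_kappa_sigmaCore hHall hKU.hall.2.1
  obtain ⟨s, hs, hV⟩ := exists_omegaCenter_card_gt hG.1 (sigmaCore M) U K hσ1 hnil hU1 hK1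
    hKU.normal hreg (hKU.compl.1.trans (le_normalizer_sigmaCore_h23 M))
    (hKU.hall.1.trans (le_normalizer_sigmaCore_h23 M)) hcUσ.symm hcKσ.symm hCU
  have : Fact s.Prime := ⟨hs⟩
  refine ⟨?_, Cfsg.Agent.Lib.Helper34.le_fittingOf (sigmaCore_le_self_h23 M)
    (le_normalizer_sigmaCore_h23 M) hnil⟩
  apply isTISubset_fittingOf_of_forall hG hM
  intro r hr x hxF hxo g hgx
  have : Fact r.Prime := ⟨hr.1⟩
  have hxM : x ∈ M := Cfsg.Agent.Lib.Helper34.fittingOf_le M hxF
  have hxσ : x ∈ sigmaCore M := mem_sigmaCore_of_orderOf_mem_sigma hHall hr hxM hxo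
  have hx1 : x ≠ 1 := by
    intro h
    rw [h, orderOf_one] at hxo
    exact hr.1.one_lt.ne hxo
  have hVC : omegaCenter s (sigmaCore M) ≤ Subgroup.centralizer ({x} : Set G) := by
    intro v hv
    rw [Subgroup.mem_centralizer_singleton_iff]
    exact (Subgroup.mem_centralizer_iff.mp hv.2.1 x hxσ).symm
  have hC : Subgroup.centralizer ({x} : Set G) ≤ M :=
    le_coatom_of_elemAb_le hG hM ((omegaCenter_le s _).trans (sigmaCore_le_self_h23 M))
      (omegaCenter_comm s _) (omegaCenter_pow s _) hV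
      (Cfsg.Agent.Lib.Helper54.centralizer_singleton_ne_top hG.2.1 hG.2.2.1 hx1) hVC
  exact mem_of_conj_mem_of_centralizer_le hG hM hr hxM hxo hC
    (Cfsg.Agent.Lib.Helper34.fittingOf_le M hgx)

/-- **`M_F ≠ M_σ`-type**: if `M` has a normal `q`-subgroup `Q ≤ M_F` which is a Sylow `q`-subgroup
of `M_σ`, for a prime `q ∈ β(M)`, then `F(M)` is a TI-subset of `G`.  `h26` is part of S1426. -/
theorem isTISubset_fittingOf_of_beta (hG : IsMinSimpleOddOrder G) {M : Subgroup G}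
    (hM : IsCoatom M) (hHall : IsPiHallOf (sigma M) (sigmaCore M) M) {q : ℕ} (hq : q.Prime)
    (hqσ : q ∈ sigma M) (hqβ : q ∈ beta M) {Q : Subgroup G} (hQF : Q ≤ fittingHallOf M)
    (hQσ : Q ≤ sigmaCore M)
    (hMQ : M ≤ Subgroup.normalizer (Q : Set G)) (hQp : IsPGroup q Q)
    (hQidx : ¬ q ∣ Q.relIndex (sigmaCore M))
    (h26 : ∀ g : G, g ∉ M → ∀ p : ℕ, p.Prime →
      p ∣ Nat.card ↥(sigmaCore M ⊓ M.map (MulAut.conj g).toMonoidHom) → p ∉ beta M) :
    IsTISubset (fittingOf M : Set G) := by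
  have : Fact q.Prime := ⟨hq⟩
  have hσM : sigmaCore M ≤ M := sigmaCore_le_self_h23 M
  have hQM : Q ≤ M := hQσ.trans hσM
  -- an elementary abelian subgroup of order `> q ^ 2` inside `Q`
  obtain ⟨B, hBM, hBc, hBexp, hBcard⟩ :=
    Cfsg.Agent.Lib.Helper22.BGTwelveM.exists_elemAb_of_not_pRankLE hqβ.1.2
  have hBQ : B ≤ Q := by
    have hn : (Q.subgroupOf M).Normal := Subgroup.normal_subgroupOf_of_le_normalizer hMQ
    have hidx : (Q.subgroupOf M).index = Q.relIndex M := rfl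
    have hBp : IsPGroup q B := by
      intro b
      refine ⟨1, ?_⟩
      apply Subtype.ext
      have := hBexp b.1 b.2
      simpa using this
    obtain ⟨j, hj⟩ := IsPGroup.iff_card.mp hBp
    have hcardB : Nat.card (B.subgroupOf M) = q ^ j := by
      rw [Nat.card_congr (Subgroup.subgroupOfEquivOfLe hBM).toEquiv, hj]
    have hnd : ¬ q ∣ Q.relIndex M := by
      rw [← Subgroup.relIndex_mul_relIndex Q (sigmaCore M) M hQσ hσM]
      intro h
      rcases (Nat.Prime.dvd_mul hq).mp h with h | h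
      · exact hQidx h
      · exact hHall.2.2 q hq hqσ h
    have hcop : (Nat.card (B.subgroupOf M)).Coprime (Q.subgroupOf M).index := by
      rw [hcardB, hidx]
      exact Nat.Coprime.pow_left j ((Nat.Prime.coprime_iff_not_dvd hq).mpr hnd)
    have hle := le_normal_of_coprime_card_index (B.subgroupOf M) (Q.subgroupOf M) hcop
    intro b hb
    have : (⟨b, hBM hb⟩ : M) ∈ B.subgroupOf M := Subgroup.mem_subgroupOf.mpr hb
    exact Subgroup.mem_subgroupOf.mp (hle this)
  have hFnil : Group.IsNilpotent ↥(fittingOf M) := Cfsg.Agent.Lib.Helper34.fittingOf_isNilpotent M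
  have hQF' : Q ≤ fittingOf M := hQF.trans (fittingHallOf_le_fittingOf M)
  apply isTISubset_fittingOf_of_forall hG hM
  intro r hr x hxF hxo g hgx
  have : Fact r.Prime := ⟨hr.1⟩
  have hxM : x ∈ M := Cfsg.Agent.Lib.Helper34.fittingOf_le M hxF
  have hxσ : x ∈ sigmaCore M := mem_sigmaCore_of_orderOf_mem_sigma hHall hr hxM hxo
  have hx1 : x ≠ 1 := by
    intro h
    rw [h, orderOf_one] at hxo
    exact hr.1.one_lt.ne hxo
  have hgxM : g * x * g⁻¹ ∈ M := Cfsg.Agent.Lib.Helper34.fittingOf_le M hgx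
  by_cases hrq : r = q
  · by_contra hgM
    have hg' : g⁻¹ ∉ M := fun h => hgM (by simpa using M.inv_mem h)
    have hxD : x ∈ sigmaCore M ⊓ M.map (MulAut.conj g⁻¹).toMonoidHom := by
      refine ⟨hxσ, ?_⟩
      have : x ∈ cj g⁻¹ M := by
        rw [mem_cj, inv_inv]; exact hgxM
      exact this
    have hdvd : r ∣ Nat.card ↥(sigmaCore M ⊓ M.map (MulAut.conj g⁻¹).toMonoidHom) := by
      rw [← hxo, ← Subgroup.orderOf_mk x hxD]
      exact orderOf_dvd_natCard _
    exact h26 g⁻¹ hg' r hr.1 hdvd (hrq ▸ hqβ)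
  · have hQC : Q ≤ Subgroup.centralizer ({x} : Set G) := by
      intro a ha
      rw [Subgroup.mem_centralizer_singleton_iff]
      obtain ⟨j, hj⟩ := (IsPGroup.iff_orderOf.mp hQp) ⟨a, ha⟩
      rw [Subgroup.orderOf_mk] at hj
      have hcop : Nat.Coprime (orderOf (⟨a, hQF' ha⟩ : ↥(fittingOf M)))
          (orderOf (⟨x, hxF⟩ : ↥(fittingOf M))) := by
        rw [Subgroup.orderOf_mk, Subgroup.orderOf_mk, hj, hxo]
        exact Nat.Coprime.pow_left j ((Nat.coprime_primes hq hr.1).mpr (Ne.symm hrq))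
      have hc := Cfsg.Agent.Lib.Helper65.commute_of_coprime_orderOf
        (⟨a, hQF' ha⟩ : ↥(fittingOf M)) ⟨x, hxF⟩ hcop
      exact congrArg Subtype.val hc.eq
    have hC : Subgroup.centralizer ({x} : Set G) ≤ M :=
      le_coatom_of_elemAb_le hG hM hBM hBc hBexp hBcard
        (Cfsg.Agent.Lib.Helper54.centralizer_singleton_ne_top hG.2.1 hG.2.2.1 hx1)
        (hBQ.trans hQC)
    exact mem_of_conj_mem_of_centralizer_le hG hM hr hxM hxo hC hgxM

end Main

end Cfsg.Agent.Lib.Helper23
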