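import Mathlib
import Cfsg.Prelude.Def_OddOrderLocal
import Cfsg.Agent.S1403
import Cfsg.Agent.S1417
import Cfsg.Agent.S1474
import Cfsg.Agent.Lib.Helper22.BGFourteenFourA
import Cfsg.Agent.Lib.Helper34.FittingSigma
import Cfsg.Agent.Lib.Helper54.Coprime
import Cfsg.Agent.Lib.Helper64.CNMaximal
import Cfsg.Agent.Lib.Helper65.NilpBasic
import Cfsg.Agent.Lib.Helper23.TypeP
import Cfsg.Agent.Lib.Helper23.BGSigmaTI
import Cfsg.Agent.Lib.Helper23.BGFourteenA
import Cfsg.Agent.Lib.Helper23.BGFourteenB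
import Cfsg.Agent.Lib.Helper23.BGFifteenB
import Cfsg.Agent.Lib.Helper62.PiHall
import Cfsg.Agent.Lib.Helper23.BGFifteenA
import Cfsg.Agent.Lib.Helper23.BGHallFusion

/-!
# B&G Lemma 15.6-type statement S1356: `M'' ≤ F(M) = C_M(M_F) M_F`, and `F(M) ≤ M'` if `κ(M) ≠ ∅`
(helper23)

Everything except the case `M_F ≠ M_σ` of the first two clauses (B&G Theorem 15.2(e)-(g), taken as a
hypothesis) is proved here from landed rows: S1420 (`E'` abelian), S1426 (`M_σ = [M_σ, E]`),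
S1430 (the abelian Hall subgroup `U` on which `K` acts regularly), helper97's `cent_hall_of`
(B&G 15.3 for `H = M_σ`) and helper34's `FittingSigma` (`O_q(M)` is cyclic for `q ∉ σ(M)`).
-/

set_option autoImplicit false

namespace Cfsg.Agent.Lib.Helper23

open Cfsg
open scoped commutatorElement

section General

variable {G : Type*} [Group G]

/-- `F(M) ≤ C_M(M_F) M_F`: the Hall subgroup `M_F` of the nilpotent group `F(M)` is a direct
factor. -/
theorem fittingOf_le_centralizer_sup_fittingHallOf [Finite G] (M : Subgroup G) :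
    fittingOf M ≤ (M ⊓ Subgroup.centralizer (fittingHallOf M : Set G)) ⊔ fittingHallOf M := by
  rw [Cfsg.Agent.Lib.Helper34.fittingOf_eq_iSup]
  apply iSup_le
  intro q
  have : Fact (q : ℕ).Prime := ⟨q.2⟩
  by_cases hq : (q : ℕ) ∣ Nat.card (fittingHall ↥M)
  · obtain ⟨P⟩ : Nonempty (Sylow (q : ℕ) ↥M) := inferInstance
    obtain ⟨-, hPle⟩ := Cfsg.Agent.Lib.Helper64.sylow_normal_of_dvd_card_fittingHall (q : ℕ) hq P
    exact ((Cfsg.Agent.Lib.Helper34.pCoreOf_le_sylow (q : ℕ) M P).trans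
      (Subgroup.map_mono hPle)).trans le_sup_right
  · refine le_trans ?_ le_sup_left
    intro x hx
    refine Subgroup.mem_inf.mpr ⟨Cfsg.Agent.Lib.Helper34.pCoreOf_le (q : ℕ) M hx, ?_⟩
    rw [Subgroup.mem_centralizer_iff]
    intro h hh
    have hFnil : Group.IsNilpotent ↥(fittingOf M) :=
      Cfsg.Agent.Lib.Helper34.fittingOf_isNilpotent M
    have hxF : x ∈ fittingOf M := Cfsg.Agent.Lib.Helper34.pCoreOf_le_fittingOf (q : ℕ) M hx
    have hhF : h ∈ fittingOf M := fittingHallOf_le_fittingOf M hh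
    obtain ⟨j, hj⟩ := (IsPGroup.iff_orderOf.mp
      (Cfsg.Agent.Lib.Helper34.pCoreOf_isPGroup (q : ℕ) M)) ⟨x, hx⟩
    rw [Subgroup.orderOf_mk] at hj
    have hho : orderOf h ∣ Nat.card (fittingHall ↥M) := by
      have h1 : orderOf (⟨h, hh⟩ : ↥(fittingHallOf M)) ∣ Nat.card ↥(fittingHallOf M) :=
        orderOf_dvd_natCard _
      rw [Subgroup.orderOf_mk] at h1
      have h2 : Nat.card ↥(fittingHallOf M) = Nat.card (fittingHall ↥M) :=
        Subgroup.card_map_of_injective M.subtype_injective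
      rwa [h2] at h1
    have hcop : Nat.Coprime (orderOf (⟨h, hhF⟩ : ↥(fittingOf M)))
        (orderOf (⟨x, hxF⟩ : ↥(fittingOf M))) := by
      rw [Subgroup.orderOf_mk, Subgroup.orderOf_mk, hj]
      apply Nat.Coprime.pow_right
      apply Nat.Coprime.coprime_dvd_left hho
      exact (Nat.Coprime.symm ((Nat.Prime.coprime_iff_not_dvd q.2).mpr hq))
    have hc := Cfsg.Agent.Lib.Helper65.commute_of_coprime_orderOf
      (⟨h, hhF⟩ : ↥(fittingOf M)) ⟨x, hxF⟩ hcop
    exact congrArg Subtype.val hc.eq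

/-- `[AN, AN] ≤ N [A, A]` when `A` normalizes `N`. -/
theorem commutator_sup_le_h23 {A N : Subgroup G} (hAN : A ≤ Subgroup.normalizer (N : Set G)) :
    ⁅A ⊔ N, A ⊔ N⁆ ≤ N ⊔ ⁅A, A⁆ := by
  have hconj : ∀ a ∈ A, ∀ n ∈ N, a * n * a⁻¹ ∈ N := by
    intro a ha n hn
    exact (Subgroup.mem_normalizer_iff.mp (hAN ha) n).mp hn
  rw [Subgroup.commutator_le]
  intro g₁ hg₁ g₂ hg₂
  obtain ⟨a₁, ha₁, n₁, hn₁, rfl⟩ := exists_mul_of_mem_sup_h23 hAN hg₁
  obtain ⟨a₂, ha₂, n₂, hn₂, rfl⟩ := exists_mul_of_mem_sup_h23 hAN hg₂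
  have e : ⁅a₁ * n₁, a₂ * n₂⁆ = (a₁ * n₁ * a₁⁻¹) * ((a₁ * a₂) * (n₂ * n₁⁻¹) * (a₁ * a₂)⁻¹) *
      ((a₁ * a₂ * a₁⁻¹) * n₂⁻¹ * (a₁ * a₂ * a₁⁻¹)⁻¹) * ⁅a₁, a₂⁆ := by
    rw [commutatorElement_def, commutatorElement_def]
    group
  rw [e]
  refine Subgroup.mul_mem _ (Subgroup.mul_mem _ (Subgroup.mul_mem _ ?_ ?_) ?_) ?_
  · exact Subgroup.mem_sup_left (hconj a₁ ha₁ n₁ hn₁)
  · exact Subgroup.mem_sup_left (hconj _ (A.mul_mem ha₁ ha₂) _ (N.mul_mem hn₂ (N.inv_mem hn₁)))
  · exact Subgroup.mem_sup_left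
      (hconj _ (A.mul_mem (A.mul_mem ha₁ ha₂) (A.inv_mem ha₁)) _ (N.inv_mem hn₂))
  · exact Subgroup.mem_sup_right (Subgroup.commutator_mem_commutator ha₁ ha₂)

/-- `M'' ≤ M_σ` if `E'` is abelian for a complement `E` of `M_σ` in `M`. -/
theorem derived_two_le_sigmaCore {M E : Subgroup G} (hE : IsComplIn E (sigmaCore M) M)
    (hE' : IsMulCommutative ↥⁅E, E⁆) : ⁅⁅M, M⁆, ⁅M, M⁆⁆ ≤ sigmaCore M := by
  have hEN : E ≤ Subgroup.normalizer ((sigmaCore M : Subgroup G) : Set G) :=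
    hE.1.trans (le_normalizer_sigmaCore_h23 M)
  have hM : M ≤ E ⊔ sigmaCore M := by
    intro m hm
    obtain ⟨a, ha, b, hb, rfl⟩ := hE.2.2.2 m hm
    exact Subgroup.mul_mem _ (Subgroup.mem_sup_left ha) (Subgroup.mem_sup_right hb)
  have h1 : ⁅M, M⁆ ≤ ⁅E, E⁆ ⊔ sigmaCore M := by
    refine (Subgroup.commutator_mono hM hM).trans ?_
    rw [sup_comm ⁅E, E⁆]
    exact commutator_sup_le_h23 hEN
  have hE'N : ⁅E, E⁆ ≤ Subgroup.normalizer ((sigmaCore M : Subgroup G) : Set G) :=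
    le_trans (Subgroup.commutator_le.mpr (fun a ha b hb => by
      rw [commutatorElement_def]
      exact E.mul_mem (E.mul_mem (E.mul_mem ha hb) (E.inv_mem ha)) (E.inv_mem hb))) hEN
  have h2 := commutator_sup_le_h23 hE'N
  have h3 : ⁅⁅E, E⁆, ⁅E, E⁆⁆ = ⊥ := by
    rw [Subgroup.commutator_eq_bot_iff_le_centralizer]
    intro a ha
    rw [Subgroup.mem_centralizer_iff]
    intro b hb
    have := hE'.is_comm.comm (⟨b, hb⟩ : ↥⁅E, E⁆) ⟨a, ha⟩
    exact congrArg Subtype.val this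
  rw [h3, sup_bot_eq] at h2
  exact (Subgroup.commutator_mono h1 h1).trans h2

/-- an abelian subgroup of `N` normalized by `N` lies in `F(N)` -/
theorem le_fittingOf_of_comm [Finite G] {N V : Subgroup G} (hVN : V ≤ N)
    (hNV : N ≤ Subgroup.normalizer (V : Set G)) (hc : ∀ a ∈ V, ∀ b ∈ V, a * b = b * a) :
    V ≤ fittingOf N := by
  apply Cfsg.Agent.Lib.Helper34.le_fittingOf hVN hNV
  let _ : CommGroup ↥V :=
    { (inferInstance : Group ↥V) with
      mul_comm := fun a b => Subtype.ext (hc a a.2 b b.2) }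
  exact CommGroup.isNilpotent

/-- `M` normalizes `S ⊓ C(N)` if it normalizes `S` and `N`. -/
theorem le_normalizer_inf_centralizer_of {M S N : Subgroup G}
    (hMS : M ≤ Subgroup.normalizer (S : Set G)) (hMN : M ≤ Subgroup.normalizer (N : Set G)) :
    M ≤ Subgroup.normalizer ((S ⊓ Subgroup.centralizer (N : Set G) : Subgroup G) : Set G) := by
  have key : ∀ m ∈ M, ∀ c ∈ S ⊓ Subgroup.centralizer (N : Set G),
      m * c * m⁻¹ ∈ S ⊓ Subgroup.centralizer (N : Set G) := by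
    intro m hm c hc
    obtain ⟨hcS, hcC⟩ := Subgroup.mem_inf.mp hc
    refine Subgroup.mem_inf.mpr ⟨(Subgroup.mem_normalizer_iff.mp (hMS hm) c).mp hcS, ?_⟩
    rw [Subgroup.mem_centralizer_iff]
    intro n hn
    have hn' : m⁻¹ * n * m⁻¹⁻¹ ∈ N :=
      (Subgroup.mem_normalizer_iff.mp (hMN (M.inv_mem hm)) n).mp hn
    have hcomm := Subgroup.mem_centralizer_iff.mp hcC _ hn'
    have e1 : n * (m * c * m⁻¹) = m * ((m⁻¹ * n * m⁻¹⁻¹) * c) * m⁻¹ := by group
    have e2 : m * c * m⁻¹ * n = m * (c * (m⁻¹ * n * m⁻¹⁻¹)) * m⁻¹ := by group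
    rw [e1, e2, hcomm]
  intro m hm
  rw [Subgroup.mem_normalizer_iff]
  intro c
  constructor
  · exact key m hm c
  · intro hc
    have := key m⁻¹ (M.inv_mem hm) _ hc
    have e : m⁻¹ * (m * c * m⁻¹) * m⁻¹⁻¹ = c := by group
    rwa [e] at this

/-- The centralizer in `S` of a normal subgroup `Q` of `S` with a nilpotent complement is
nilpotent: it is a central extension of a subgroup of `S/Q`. -/
theorem isNilpotent_inf_centralizer_of_isComplIn {S Q D : Subgroup G}
    (hSQ : S ≤ Subgroup.normalizer (Q : Set G)) (hD : IsComplIn Q D S)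
    (hDnil : Group.IsNilpotent ↥D) :
    Group.IsNilpotent ↥(S ⊓ Subgroup.centralizer (Q : Set G)) := by
  have hn : (Q.subgroupOf S).Normal := Subgroup.normal_subgroupOf_of_le_normalizer hSQ
  let π : ↥S →* ↥S ⧸ Q.subgroupOf S := QuotientGroup.mk' (Q.subgroupOf S)
  let g : ↥D →* ↥S ⧸ Q.subgroupOf S := π.comp (Subgroup.inclusion hD.2.1)
  have hg : Function.Surjective g := by
    intro y
    obtain ⟨s, rfl⟩ := QuotientGroup.mk'_surjective (Q.subgroupOf S) y
    obtain ⟨a, ha, b, hb, hs⟩ := hD.2.2.2 s.1 s.2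
    refine ⟨⟨b, hb⟩, ?_⟩
    have hs' : s = (⟨a, hD.1 ha⟩ : ↥S) * ⟨b, hD.2.1 hb⟩ := Subtype.ext hs
    have ha1 : π (⟨a, hD.1 ha⟩ : ↥S) = 1 :=
      (QuotientGroup.eq_one_iff _).mpr (Subgroup.mem_subgroupOf.mpr ha)
    show π (Subgroup.inclusion hD.2.1 ⟨b, hb⟩) = π s
    rw [hs', map_mul, ha1, one_mul]
    rfl
  have hQnil : Group.IsNilpotent (↥S ⧸ Q.subgroupOf S) := Group.nilpotent_of_surjective g hg
  let f : ↥(S ⊓ Subgroup.centralizer (Q : Set G)) →* ↥S ⧸ Q.subgroupOf S :=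
    π.comp (Subgroup.inclusion inf_le_left)
  apply Subgroup.isNilpotent_of_ker_le_center f
  intro c hc
  rw [MonoidHom.mem_ker] at hc
  have hcQ : (c : G) ∈ Q := by
    have h1 : π (Subgroup.inclusion inf_le_left c) = 1 := hc
    have h2 := (QuotientGroup.eq_one_iff _).mp h1
    exact Subgroup.mem_subgroupOf.mp h2
  rw [Subgroup.mem_center_iff]
  intro x
  apply Subtype.ext
  have hx : (x : G) ∈ Subgroup.centralizer (Q : Set G) := (Subgroup.mem_inf.mp x.2).2
  exact (Subgroup.mem_centralizer_iff.mp hx c hcQ).symm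

/-- `M` normalizes `C_M(N)` for every subgroup `N` normalized by `M`. -/
theorem le_normalizer_inf_centralizer {M N : Subgroup G}
    (hMN : M ≤ Subgroup.normalizer (N : Set G)) :
    M ≤ Subgroup.normalizer ((M ⊓ Subgroup.centralizer (N : Set G) : Subgroup G) : Set G) :=
  le_normalizer_inf_centralizer_of Subgroup.le_normalizer hMN

/-- **`C_M(M_σ) ≤ F(M)`** from B&G Lemma 15.3 for `H = M_σ`: `C_M(M_σ) = Z(M_σ) X` with `X`
cyclic is abelian and normal in `M`. -/
theorem inf_centralizer_sigmaCore_le_fittingOf [Finite G] {M : Subgroup G}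
    (h : ∃ X : Subgroup G, IsCyclic X ∧ M ⊓ Subgroup.centralizer ((sigmaCore M : Subgroup G) : Set G) =
      (sigmaCore M ⊓ Subgroup.centralizer ((sigmaCore M : Subgroup G) : Set G)) ⊔ X) :
    M ⊓ Subgroup.centralizer ((sigmaCore M : Subgroup G) : Set G) ≤ fittingOf M := by
  obtain ⟨X, hXc, hCX⟩ := h
  apply le_fittingOf_of_comm inf_le_left
    (le_normalizer_inf_centralizer (le_normalizer_sigmaCore_h23 M))
  set Z : Subgroup G := sigmaCore M ⊓ Subgroup.centralizer ((sigmaCore M : Subgroup G) : Set G)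
    with hZ
  have hXC : X ≤ Subgroup.centralizer ((sigmaCore M : Subgroup G) : Set G) := by
    have : X ≤ M ⊓ Subgroup.centralizer ((sigmaCore M : Subgroup G) : Set G) := by
      rw [hCX]; exact le_sup_right
    exact this.trans inf_le_right
  have hZZ : Z ≤ Subgroup.centralizer (Z : Set G) := by
    intro a ha
    exact Subgroup.centralizer_le (show (Z : Set G) ⊆ (sigmaCore M : Set G) from
      fun x hx => hx.1) ha.2
  have hXZ : X ≤ Subgroup.centralizer (Z : Set G) := by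
    intro a ha
    exact Subgroup.centralizer_le (show (Z : Set G) ⊆ (sigmaCore M : Set G) from
      fun x hx => hx.1) (hXC ha)
  have hXX : X ≤ Subgroup.centralizer (X : Set G) := by
    intro a ha
    rw [Subgroup.mem_centralizer_iff]
    intro b hb
    let _ := IsCyclic.commGroup (α := X)
    have := mul_comm (⟨b, hb⟩ : X) ⟨a, ha⟩
    exact congrArg Subtype.val this
  have hZX : Z ≤ Subgroup.centralizer (X : Set G) := Subgroup.le_centralizer_iff.mp hXZ
  have hall : Z ⊔ X ≤ Subgroup.centralizer ((Z ⊔ X : Subgroup G) : Set G) := by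
    apply sup_le
    · rw [Subgroup.le_centralizer_iff]
      exact sup_le hZZ hXZ
    · rw [Subgroup.le_centralizer_iff]
      exact sup_le hZX hXX
  intro a ha b hb
  rw [hCX] at ha hb
  exact (Subgroup.mem_centralizer_iff.mp (hall hb) a ha)

end General


section Main

variable {G : Type*} [Group G] [Finite G]

open Cfsg.Agent.Lib.Helper34 (UniquenessThm)

/-- `O_q(M)` lies in every Hall `π`-subgroup of `M` for `q ∈ π`. -/
theorem pCoreOf_le_hall {π : Set ℕ} {M U : Subgroup G} (hU : IsPiHallOf π U M) {q : ℕ}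
    [Fact q.Prime] (hq : q ∈ π) : Cfsg.Agent.Lib.Helper34.pCoreOf q M ≤ U := by
  have hqp : q.Prime := Fact.out
  obtain ⟨S0⟩ : Nonempty (Sylow q ↥U) := inferInstance
  set P' : Subgroup G := (S0 : Subgroup ↥U).map U.subtype with hP'
  have hP'U : P' ≤ U := Subgroup.map_subtype_le _
  have hcard : Nat.card P' = q ^ (Nat.card M).factorization q := by
    rw [hP', Subgroup.card_map_of_injective U.subtype_injective, Sylow.card_eq_multiplicity]
    congr 1
    have h1 := Cfsg.Agent.Lib.Helper54.card_mul_relIndex hU.1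
    have hnd : ¬ q ∣ U.relIndex M := hU.2.2 q hqp hq
    have hU0 : Nat.card U ≠ 0 := Nat.card_pos.ne'
    have hr0 : U.relIndex M ≠ 0 := by
      intro h0
      rw [h0, mul_zero] at h1
      exact (Nat.card_pos (α := ↥M)).ne h1
    rw [← h1, Nat.factorization_mul hU0 hr0]
    simp only [Finsupp.coe_add, Pi.add_apply]
    rw [Nat.factorization_eq_zero_of_not_dvd hnd, add_zero]
  obtain ⟨S, hS⟩ := Cfsg.Agent.Lib.Helper54.exists_sylow_of_card M P' (hP'U.trans hU.1) hcard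
  exact ((Cfsg.Agent.Lib.Helper34.pCoreOf_le_sylow q M S).trans (le_of_eq hS)).trans hP'U

/-- **`F(M) ≤ M'` when `κ(M) ≠ ∅`**: from `M_σ ≤ M'` (S1426), the regular action of a Hall
`κ(M)`-subgroup `K ≠ 1` on the abelian Hall `(κ(M) ∪ σ(M))'`-subgroup `U` (S1430) and the cyclicity
of `O_q(M)` for `q ∉ σ(M)`. -/
theorem fittingOf_le_commutator_of_kappa (hG : IsMinSimpleOddOrder G) {M K U : Subgroup G}
    (hM : IsCoatom M) (hHall : IsPiHallOf (sigma M) (sigmaCore M) M)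
    (hσ' : sigmaCore M ≤ ⁅M, M⁆) (hKM : K ≤ M) (hK1 : K ≠ ⊥)
    (hUH : IsPiHallOf {q | q.Prime ∧ q ∉ kappa M ∧ q ∉ sigma M} U M)
    (hreg : ∀ k ∈ K, k ≠ 1 → U ⊓ Subgroup.centralizer ({k} : Set G) = ⊥) :
    fittingOf M ≤ ⁅M, M⁆ := by
  have hs : IsSimpleGroup G := hG.2.1
  have hU : UniquenessThm G := fun K hK h1 h2 => Cfsg.Agent.S1403.result hG K hK h1 h2
  rw [Cfsg.Agent.Lib.Helper34.fittingOf_eq_iSup]
  apply iSup_le
  intro q
  have : Fact (q : ℕ).Prime := ⟨q.2⟩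
  by_cases hqσ : (q : ℕ) ∈ sigma M
  · refine le_trans ?_ hσ'
    apply le_sigmaCore_of_forall_prime_mem M hHall (Cfsg.Agent.Lib.Helper34.pCoreOf_le (q : ℕ) M)
    intro r hr hrd
    have := Cfsg.Agent.Lib.Helper34.eq_of_prime_dvd_card_of_isPGroup
      (Cfsg.Agent.Lib.Helper34.pCoreOf_isPGroup (q : ℕ) M) hr hrd
    rw [this]; exact hqσ
  · by_cases hO : Cfsg.Agent.Lib.Helper34.pCoreOf (q : ℕ) M = ⊥
    · rw [hO]; exact bot_le
    have hτ : (q : ℕ) ∈ tau2 M :=
      Cfsg.Agent.Lib.Helper34.mem_tau2_of_pCoreOf_ne_bot hU hM hqσ hO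
    have hqκ : (q : ℕ) ∉ kappa M := by
      intro hκ
      apply hτ.2.2.2
      apply Cfsg.Agent.Lib.Helper22.BGFourteenFour.pRankLE_one_of_sylow_isCyclic
      intro P
      exact (hκ.2.2.2 P).1
    have hOU : Cfsg.Agent.Lib.Helper34.pCoreOf (q : ℕ) M ≤ U :=
      pCoreOf_le_hall hUH ⟨q.2, hqκ, hqσ⟩
    obtain ⟨⟨k, hk⟩, hk1⟩ := (Subgroup.ne_bot_iff_exists_ne_one).mp hK1
    have hk1' : k ≠ 1 := fun h => hk1 (Subtype.ext h)
    have hkM : k ∈ M := hKM hk
    have hMO := Cfsg.Agent.Lib.Helper34.le_normalizer_pCoreOf (q : ℕ) M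
    have hconj : ∀ x ∈ Cfsg.Agent.Lib.Helper34.pCoreOf (q : ℕ) M,
        k * x * k⁻¹ ∈ Cfsg.Agent.Lib.Helper34.pCoreOf (q : ℕ) M := by
      intro x hx
      exact (Subgroup.mem_normalizer_iff.mp (hMO hkM) x).mp hx
    -- the map `x ↦ [x, k]` on `O_q(M)` is injective, hence surjective
    let f : ↥(Cfsg.Agent.Lib.Helper34.pCoreOf (q : ℕ) M) →
        ↥(Cfsg.Agent.Lib.Helper34.pCoreOf (q : ℕ) M) := fun x =>
      ⟨(x : G) * (k * (x : G)⁻¹ * k⁻¹), Subgroup.mul_mem _ x.2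
        (hconj _ (Subgroup.inv_mem _ x.2))⟩
    have hinj : Function.Injective f := by
      intro x y hxy
      have h1 : (x : G) * (k * (x : G)⁻¹ * k⁻¹) = (y : G) * (k * (y : G)⁻¹ * k⁻¹) :=
        congrArg Subtype.val hxy
      have h2 : ((y : G)⁻¹ * (x : G)) * k = k * ((y : G)⁻¹ * (x : G)) := by
        have e1 : ((y : G)⁻¹ * (x : G)) * k =
            (y : G)⁻¹ * ((x : G) * (k * (x : G)⁻¹ * k⁻¹)) * k * (x : G) := by group
        have e2 : k * ((y : G)⁻¹ * (x : G)) =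
            (y : G)⁻¹ * ((y : G) * (k * (y : G)⁻¹ * k⁻¹)) * k * (x : G) := by group
        rw [e1, e2, h1]
      have h3 : (y : G)⁻¹ * (x : G) ∈ U ⊓ Subgroup.centralizer ({k} : Set G) :=
        ⟨hOU (Subgroup.mul_mem _ (Subgroup.inv_mem _ y.2) x.2),
          Subgroup.mem_centralizer_singleton_iff.mpr h2⟩
      rw [hreg k hk hk1', Subgroup.mem_bot] at h3
      apply Subtype.ext
      have : (x : G) = (y : G) * ((y : G)⁻¹ * (x : G)) := by group
      rw [this, h3, mul_one]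
    have hsurj : Function.Surjective f := Finite.injective_iff_surjective.mp hinj
    intro o ho
    obtain ⟨x, hx⟩ := hsurj ⟨o, ho⟩
    have h1 : (x : G) * (k * (x : G)⁻¹ * k⁻¹) = o := congrArg Subtype.val hx
    have h2 : ⁅(x : G), k⁆ = o := by
      rw [commutatorElement_def, ← h1]; group
    rw [← h2]
    exact Subgroup.commutator_mem_commutator
      (Cfsg.Agent.Lib.Helper34.pCoreOf_le (q : ℕ) M x.2) hkM

/-- `q ∈ β(M)` and `Q` a normal Sylow `q`-subgroup of `M` (through `M_σ`): `|Q| > q ^ 2`. -/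
theorem sq_lt_card_of_beta {M Q : Subgroup G} (hHall : IsPiHallOf (sigma M) (sigmaCore M) M)
    {q : ℕ} (hq : q.Prime) (hqσ : q ∈ sigma M) (hqβ : q ∈ beta M) (hQσ : Q ≤ sigmaCore M)
    (hMQ : M ≤ Subgroup.normalizer (Q : Set G)) (hQidx : ¬ q ∣ Q.relIndex (sigmaCore M)) :
    q ^ 2 < Nat.card Q := by
  have : Fact q.Prime := ⟨hq⟩
  have hσM : sigmaCore M ≤ M := sigmaCore_le_self_h23 M
  obtain ⟨B, hBM, hBc, hBexp, hBcard⟩ :=
    Cfsg.Agent.Lib.Helper22.BGTwelveM.exists_elemAb_of_not_pRankLE hqβ.1.2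
  have hBQ : B ≤ Q := by
    have hn : (Q.subgroupOf M).Normal := Subgroup.normal_subgroupOf_of_le_normalizer hMQ
    have hidx : (Q.subgroupOf M).index = Q.relIndex M := rfl
    have hBp : IsPGroup q B := by
      intro b
      refine ⟨1, ?_⟩
      apply Subtype.ext
      have := hBexp b.1 b.2
      simpa using this
    obtain ⟨j, hj⟩ := IsPGroup.iff_card.mp hBp
    have hcardB : Nat.card (B.subgroupOf M) = q ^ j := by
      rw [Nat.card_congr (Subgroup.subgroupOfEquivOfLe hBM).toEquiv, hj]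
    have hnd : ¬ q ∣ Q.relIndex M := by
      rw [← Subgroup.relIndex_mul_relIndex Q (sigmaCore M) M hQσ hσM]
      intro h
      rcases (Nat.Prime.dvd_mul hq).mp h with h | h
      · exact hQidx h
      · exact hHall.2.2 q hq hqσ h
    have hcop : (Nat.card (B.subgroupOf M)).Coprime (Q.subgroupOf M).index := by
      rw [hcardB, hidx]
      exact Nat.Coprime.pow_left j ((Nat.Prime.coprime_iff_not_dvd hq).mpr hnd)
    have hle := le_normal_of_coprime_card_index (B.subgroupOf M) (Q.subgroupOf M) hcop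
    intro b hb
    have : (⟨b, hBM hb⟩ : M) ∈ B.subgroupOf M := Subgroup.mem_subgroupOf.mpr hb
    exact Subgroup.mem_subgroupOf.mp (hle this)
  exact lt_of_lt_of_le hBcard (Subgroup.card_le_of_le hBQ)

/-- **`C_{M_σ}(Q) ≤ F(M)`** for a normal Sylow `q`-subgroup `Q` of `M_σ`, normal in `M`, whose
complements in `M_σ` are nilpotent (data of S1437): `C_{M_σ}(Q)` is a central extension of a
subgroup of `M_σ/Q`, hence nilpotent, and it is normal in `M`. -/
theorem sigmaCore_inf_centralizer_le_fittingOf {M Q : Subgroup G} {q : ℕ} (hq : q.Prime)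
    (hQσ : Q ≤ sigmaCore M) (hMQ : M ≤ Subgroup.normalizer (Q : Set G)) (hQp : IsPGroup q Q)
    (hQidx : ¬ q ∣ Q.relIndex (sigmaCore M))
    (hD : ∀ D : Subgroup G, IsComplIn Q D (sigmaCore M) → Group.IsNilpotent ↥D) :
    sigmaCore M ⊓ Subgroup.centralizer (Q : Set G) ≤ fittingOf M := by
  have : Fact q.Prime := ⟨hq⟩
  have hσM : sigmaCore M ≤ M := sigmaCore_le_self_h23 M
  have hcop : (Nat.card Q).Coprime (Q.relIndex (sigmaCore M)) := by
    obtain ⟨j, hj⟩ := IsPGroup.iff_card.mp hQp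
    rw [hj]
    exact Nat.Coprime.pow_left j ((Nat.Prime.coprime_iff_not_dvd hq).mpr hQidx)
  obtain ⟨D, hDc⟩ := exists_isComplIn_of_normal_coprime hQσ (hσM.trans hMQ) hcop
  have hnil := isNilpotent_inf_centralizer_of_isComplIn (hσM.trans hMQ) hDc (hD D hDc)
  exact Cfsg.Agent.Lib.Helper34.le_fittingOf (inf_le_left.trans hσM)
    (le_normalizer_inf_centralizer_of (le_normalizer_sigmaCore_h23 M) hMQ) hnil

/-- **`C_M(M_F) ≤ F(M)` when `M_F ≠ M_σ`**, from the data of S1437 (B&G Theorem 15.2): `M = M_σ K`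
with `|K| = p` prime, `|C_{M_σ}(K)| = q`, `Q ≤ M_F` a normal Sylow `q`-subgroup of `M_σ` with
`q ∈ β(M)`, and nilpotent complements of `Q` in `M_σ`. -/
theorem inf_centralizer_fittingHallOf_le_fittingOf (hG : IsMinSimpleOddOrder G)
    {M K Q : Subgroup G} (hM : IsCoatom M) (hHall : IsPiHallOf (sigma M) (sigmaCore M) M)
    (hKH : IsPiHallOf (kappa M) K M) (hKp : (Nat.card K).Prime)
    (hcard : Nat.card M = Nat.card (sigmaCore M) * Nat.card K)
    {q : ℕ} (hq : q.Prime)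
    (hKs : Nat.card ↥(sigmaCore M ⊓ Subgroup.centralizer (K : Set G)) = q)
    (hqσ : q ∈ sigma M) (hqβ : q ∈ beta M) (hQF : Q ≤ fittingHallOf M)
    (hQσ : Q ≤ sigmaCore M) (hMQ : M ≤ Subgroup.normalizer (Q : Set G)) (hQp : IsPGroup q Q)
    (hQidx : ¬ q ∣ Q.relIndex (sigmaCore M))
    (hD : ∀ D : Subgroup G, IsComplIn Q D (sigmaCore M) → Group.IsNilpotent ↥D) :
    M ⊓ Subgroup.centralizer (fittingHallOf M : Set G) ≤ fittingOf M := by
  have : Fact q.Prime := ⟨hq⟩
  have hσM : sigmaCore M ≤ M := sigmaCore_le_self_h23 M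
  have hsM : Group.IsSolvable M := hG.2.2.2 M hM.1
  have hMF : M ≤ Subgroup.normalizer ((fittingHallOf M : Subgroup G) : Set G) :=
    Cfsg.Agent.Lib.Helper54.le_normalizer_map_subtype M _
  have hMC := le_normalizer_inf_centralizer hMF
  set C : Subgroup G := M ⊓ Subgroup.centralizer (fittingHallOf M : Set G) with hC
  have hCQ : C ≤ Subgroup.centralizer (Q : Set G) :=
    inf_le_right.trans (Subgroup.centralizer_le (by exact_mod_cast hQF))
  have hQcard := sq_lt_card_of_beta hHall hq hqσ hqβ hQσ hMQ hQidx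
  -- Step 1: `C ≤ M_σ`
  have hCσ : C ≤ sigmaCore M := by
    intro c hc
    by_contra hcσ
    set p := Nat.card K with hp
    have hcM : c ∈ M := (Subgroup.mem_inf.mp hc).1
    have hpdvd : p ∣ orderOf c := by
      by_contra hnd
      apply hcσ
      have hle : Subgroup.zpowers c ≤ sigmaCore M := by
        apply le_sigmaCore_of_forall_prime_mem M hHall (by rw [Subgroup.zpowers_le]; exact hcM)
        intro r hr hrd
        rw [Nat.card_zpowers] at hrd
        have h1 : r ∣ Nat.card M := hrd.trans (by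
          have : orderOf (⟨c, hcM⟩ : ↥M) ∣ Nat.card ↥M := orderOf_dvd_natCard _
          rwa [Subgroup.orderOf_mk] at this)
        rw [hcard] at h1
        rcases (Nat.Prime.dvd_mul hr).mp h1 with h2 | h2
        · exact hHall.2.1 r hr h2
        · exfalso
          have : r = p := (Nat.prime_dvd_prime_iff_eq hr hKp).mp h2
          exact hnd (this ▸ hrd)
      exact hle (Subgroup.mem_zpowers c)
    have hn0 : orderOf c ≠ 0 := (orderOf_pos c).ne'
    obtain ⟨k, hk⟩ := hpdvd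
    have hk0 : k ≠ 0 := by
      rintro rfl
      rw [mul_zero] at hk
      exact hn0 hk
    have hc'o : orderOf (c ^ k) = p := by
      rw [orderOf_pow_of_dvd hk0 ⟨p, by rw [hk, mul_comm]⟩, hk]
      exact Nat.mul_div_cancel _ (Nat.pos_of_ne_zero hk0)
    have hc'C : c ^ k ∈ C := pow_mem hc k
    have hPC : Subgroup.zpowers (c ^ k) ≤ C := by rw [Subgroup.zpowers_le]; exact hc'C
    have hPcard : Nat.card (Subgroup.zpowers (c ^ k)) = p := by rw [Nat.card_zpowers, hc'o]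
    have hPM : Subgroup.zpowers (c ^ k) ≤ M := hPC.trans inf_le_left
    have hPH : IsPiHallOf (kappa M) (Subgroup.zpowers (c ^ k)) M := by
      refine ⟨hPM, ?_, ?_⟩
      · intro r hr hrd
        rw [hPcard] at hrd
        have : r = p := (Nat.prime_dvd_prime_iff_eq hr hKp).mp hrd
        rw [this]
        exact hKH.2.1 p hKp dvd_rfl
      · intro r hr hrκ hrd
        apply hKH.2.2 r hr hrκ
        have h1 := Cfsg.Agent.Lib.Helper54.card_mul_relIndex hPM
        have h2 := Cfsg.Agent.Lib.Helper54.card_mul_relIndex hKH.1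
        rw [hPcard] at h1
        have h3 : (Subgroup.zpowers (c ^ k)).relIndex M = K.relIndex M := by
          apply Nat.eq_of_mul_eq_mul_left hKp.pos
          rw [h1]; exact h2.symm
        rwa [h3] at hrd
    obtain ⟨g, hgM, hgP⟩ := Cfsg.Agent.Lib.Helper62.isPiHallOf_conj hsM hPH hKH
    have hKC : K ≤ C := by
      intro x hx
      rw [← hgP] at hx
      have hy : g⁻¹ * x * g ∈ Subgroup.zpowers (c ^ k) :=
        Cfsg.Agent.Lib.Helper54.mem_conj_smul_iff.mp hx
      have : g * (g⁻¹ * x * g) * g⁻¹ ∈ C :=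
        (Subgroup.mem_normalizer_iff.mp (hMC hgM) _).mp (hPC hy)
      have e : g * (g⁻¹ * x * g) * g⁻¹ = x := by group
      rwa [e] at this
    have hQK : Q ≤ sigmaCore M ⊓ Subgroup.centralizer (K : Set G) :=
      le_inf hQσ (Subgroup.le_centralizer_iff.mp (hKC.trans hCQ))
    have h1 : Nat.card Q ≤ q := hKs ▸ Subgroup.card_le_of_le hQK
    have h2 : q < q ^ 2 := by
      have := hq.one_lt
      nlinarith
    omega
  -- Step 2: `C ≤ C_{M_σ}(Q)`, which is nilpotent and normal in `M`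
  exact (le_inf hCσ hCQ).trans
    (sigmaCore_inf_centralizer_le_fittingOf hq hQσ hMQ hQp hQidx hD)

/-- `M_σ` is nilpotent when `M_F = M_σ`. -/
theorem isNilpotent_sigmaCore_of_eq {M : Subgroup G} (h : fittingHallOf M = sigmaCore M) :
    Group.IsNilpotent ↥(sigmaCore M) := by
  have h1 : Group.IsNilpotent ↥(fittingHall ↥M) := Cfsg.Agent.S1474.fittingHall_isNilpotent
  have h2 : Group.IsNilpotent ↥(fittingHallOf M) :=
    Group.nilpotent_of_mulEquiv
      ((fittingHall ↥M).equivMapOfInjective M.subtype M.subtype_injective)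
  rw [h] at h2
  exact h2

/-- **S1356 from its inputs.**  `hE` is S1420(2) for a complement `E`; `hσ'` follows from S1426(2);
`h153` is B&G Lemma 15.3 for `H = M_σ` (helper97's `cent_hall_of`); `hκ` is S1430(2) for a Hall
`κ(M)`-subgroup `K`; `hB` is the part of B&G Theorem 15.2 not recorded in S1437. -/
theorem s1356_of (hG : IsMinSimpleOddOrder G) {M : Subgroup G} (hM : IsCoatom M)
    (hHall : IsPiHallOf (sigma M) (sigmaCore M) M)
    (hE : ∃ E : Subgroup G, IsComplIn E (sigmaCore M) M ∧ IsMulCommutative ↥⁅E, E⁆)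
    (hσ' : sigmaCore M ≤ ⁅M, M⁆)
    (h153 : ∃ X : Subgroup G, IsCyclic X ∧
      M ⊓ Subgroup.centralizer ((sigmaCore M : Subgroup G) : Set G) =
        (sigmaCore M ⊓ Subgroup.centralizer ((sigmaCore M : Subgroup G) : Set G)) ⊔ X)
    (hκ : (kappa M).Nonempty → ∃ K U : Subgroup G, K ≤ M ∧ K ≠ ⊥ ∧
      IsPiHallOf {q | q.Prime ∧ q ∉ kappa M ∧ q ∉ sigma M} U M ∧
      ∀ k ∈ K, k ≠ 1 → U ⊓ Subgroup.centralizer ({k} : Set G) = ⊥)
    (hB : fittingHallOf M ≠ sigmaCore M →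
      ⁅⁅M, M⁆, ⁅M, M⁆⁆ ≤ fittingOf M ∧
        M ⊓ Subgroup.centralizer (fittingHallOf M : Set G) ≤ fittingOf M) :
    ⁅⁅M, M⁆, ⁅M, M⁆⁆ ≤ fittingOf M ∧
      fittingOf M = (M ⊓ Subgroup.centralizer (fittingHallOf M : Set G)) ⊔ fittingHallOf M ∧
      ((kappa M).Nonempty → fittingOf M ≤ ⁅M, M⁆) := by
  have h3 : (kappa M).Nonempty → fittingOf M ≤ ⁅M, M⁆ := by
    intro hne
    obtain ⟨K, U, hKM, hK1, hUH, hreg⟩ := hκ hne
    exact fittingOf_le_commutator_of_kappa hG hM hHall hσ' hKM hK1 hUH hreg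
  have h12 : ⁅⁅M, M⁆, ⁅M, M⁆⁆ ≤ fittingOf M ∧
      M ⊓ Subgroup.centralizer (fittingHallOf M : Set G) ≤ fittingOf M := by
    by_cases heq : fittingHallOf M = sigmaCore M
    · have hnil := isNilpotent_sigmaCore_of_eq heq
      have hσF : sigmaCore M ≤ fittingOf M :=
        Cfsg.Agent.Lib.Helper34.le_fittingOf (sigmaCore_le_self_h23 M)
          (le_normalizer_sigmaCore_h23 M) hnil
      obtain ⟨E, hE1, hE2⟩ := hE
      refine ⟨(derived_two_le_sigmaCore hE1 hE2).trans hσF, ?_⟩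
      rw [heq]
      exact inf_centralizer_sigmaCore_le_fittingOf h153
    · exact hB heq
  refine ⟨h12.1, ?_, h3⟩
  apply le_antisymm (fittingOf_le_centralizer_sup_fittingHallOf M)
  exact sup_le h12.2 (fittingHallOf_le_fittingOf M)

end Main

end Cfsg.Agent.Lib.Helper23
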