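/-
helper23 shared library: the set `Ẑ = K K* ∖ (K ∪ K*)` of a maximal subgroup of type 𝒫
(Bender–Glauberman Theorem 14.7(e), statements S1370 and S1371).  Generic "self-normalizing cyclic
subgroup" lemma: if `Z = K × K*` is cyclic, `C_G(xy) = Z` for `x ∈ K#`, `y ∈ K*#`, `M ∩ M* = Z`,
and `M*` (resp. `M`) is the only maximal subgroup over the centralizers of the subgroups of prime order of
`K` (resp. `K*`), then `Ẑ` is a TI-subset of `G` with normalizer `Z`.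
All declarations live in `Cfsg.Agent.Lib.Helper23`.
-/
import Mathlib
import Cfsg.Prelude.Def_OddOrderLocal
import Cfsg.Agent.Lib.Helper82.NilAbelCyclic
import Cfsg.Agent.Lib.Helper54.BGTransitivity
import Cfsg.Agent.Lib.Helper23.TypeP

set_option autoImplicit false

namespace Cfsg.Agent.Lib.Helper23

open Cfsg
open scoped Pointwise

section BGFourteenD

variable {G : Type*} [Group G]

/-- The set `Ẑ = K K* ∖ (K ∪ K*)`. -/
def zHat (K Ks : Subgroup G) : Set G := (↑(K ⊔ Ks) : Set G) \ ((K : Set G) ∪ ↑Ks)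

theorem mem_zHat_iff {K Ks : Subgroup G} {z : G} :
    z ∈ zHat K Ks ↔ z ∈ K ⊔ Ks ∧ z ∉ K ∧ z ∉ Ks := by
  unfold zHat
  simp only [Set.mem_sdiff, SetLike.mem_coe, Set.mem_union, not_or]

/-- A nonidentity element of a subgroup has a power of prime order. -/
theorem exists_zpowers_prime_le {H : Subgroup G} [Finite G] (hH : H ≠ ⊥) :
    ∃ Y : Subgroup G, Y ≤ H ∧ (Nat.card Y).Prime := by
  have hcard : Nat.card H ≠ 1 := fun h => hH (Subgroup.eq_bot_of_card_eq H h)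
  obtain ⟨p, hp, hpH⟩ := Nat.exists_prime_and_dvd hcard
  have : Fact p.Prime := ⟨hp⟩
  obtain ⟨y, hy⟩ := exists_prime_orderOf_dvd_card' (G := H) p hpH
  refine ⟨Subgroup.zpowers (y : G), ?_, ?_⟩
  · rw [Subgroup.zpowers_le]; exact y.2
  · rw [Nat.card_zpowers, Subgroup.orderOf_coe, hy]; exact hp

/-- If `M*` is the only maximal subgroup over `C_G(Y)` for the subgroups `Y` of prime order of the cyclic
group `K ≠ 1`, then `N_G(K) ≤ M*`. -/
theorem normalizer_le_of_centralizer_uniq [Finite G] (hs : IsSimpleGroup G) {K L₀ : Subgroup G}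
    (hKc : IsCyclic K) (hK1 : K ≠ ⊥) (hKtop : K ≠ ⊤)
    (h : ∀ Y : Subgroup G, Y ≤ K → (Nat.card Y).Prime →
      ∀ L : Subgroup G, IsCoatom L → Subgroup.centralizer (Y : Set G) ≤ L → L = L₀) :
    Subgroup.normalizer (K : Set G) ≤ L₀ := by
  obtain ⟨Y, hYK, hYp⟩ := exists_zpowers_prime_le hK1
  have hY1 : Y ≠ ⊥ := by
    intro h0
    rw [h0, Subgroup.card_bot] at hYp
    exact Nat.not_prime_one hYp
  have hYtop : Y ≠ ⊤ := by
    intro h0
    apply hKtop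
    rw [eq_top_iff, ← h0]
    exact hYK
  have hN := Cfsg.Agent.Lib.Helper54.normalizer_ne_top_of_simple hs hY1 hYtop
  obtain ⟨L, hL, hNL⟩ := (eq_top_or_exists_le_coatom _).resolve_left hN
  have hLL₀ : L = L₀ := h Y hYK hYp L hL ((Subgroup.centralizer_le_normalizer _).trans hNL)
  rw [← hLL₀]
  refine le_trans ?_ hNL
  intro g hg
  exact Cfsg.Agent.Lib.Helper82.NilAbel.mem_normalizer_of_le_cyclic hKc hYK hg

/-- Elements of `Ẑ` are products `x * y` with `x ∈ K#`, `y ∈ K*#`. -/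
theorem exists_mul_of_mem_zHat {K Ks : Subgroup G}
    (hcomm : ∀ a ∈ K, ∀ b ∈ Ks, a * b = b * a) {z : G} (hz : z ∈ zHat K Ks) :
    ∃ x ∈ K, x ≠ 1 ∧ ∃ y ∈ Ks, y ≠ 1 ∧ z = x * y := by
  obtain ⟨hzZ, hzK, hzKs⟩ := mem_zHat_iff.mp hz
  obtain ⟨x, hx, y, hy, rfl⟩ := exists_mul_of_mem_sup_of_commute K Ks hcomm hzZ
  refine ⟨x, hx, ?_, y, hy, ?_, rfl⟩
  · rintro rfl
    apply hzKs
    rw [one_mul]; exact hy
  · rintro rfl
    apply hzK
    rw [mul_one]; exact hx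

/-- Products `x * y` with `x ∈ K#`, `y ∈ K*#` lie in `Ẑ` when `K ∩ K* = 1`. -/
theorem mul_mem_zHat {K Ks : Subgroup G} (hdisj : K ⊓ Ks = ⊥) {x y : G} (hx : x ∈ K) (hx1 : x ≠ 1)
    (hy : y ∈ Ks) (hy1 : y ≠ 1) : x * y ∈ zHat K Ks := by
  rw [mem_zHat_iff]
  refine ⟨Subgroup.mul_mem _ (Subgroup.mem_sup_left hx) (Subgroup.mem_sup_right hy), ?_, ?_⟩
  · intro h
    have hyK : y ∈ K := by
      have := K.mul_mem (K.inv_mem hx) h
      simpa using this
    have : y ∈ K ⊓ Ks := ⟨hyK, hy⟩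
    rw [hdisj, Subgroup.mem_bot] at this
    exact hy1 this
  · intro h
    have hxKs : x ∈ Ks := by
      have := Ks.mul_mem h (Ks.inv_mem hy)
      simpa using this
    have : x ∈ K ⊓ Ks := ⟨hx, hxKs⟩
    rw [hdisj, Subgroup.mem_bot] at this
    exact hx1 this

/-- Conjugation by an element normalizing the cyclic group `Z = K K*` preserves `Ẑ`. -/
theorem conj_mem_zHat_of_mem_normalizer [Finite G] {K Ks : Subgroup G}
    (hZc : IsCyclic ↥(K ⊔ Ks)) {g : G}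
    (hg : g ∈ Subgroup.normalizer ((K ⊔ Ks : Subgroup G) : Set G)) {z : G}
    (hz : z ∈ zHat K Ks) : g * z * g⁻¹ ∈ zHat K Ks := by
  obtain ⟨hzZ, hzK, hzKs⟩ := mem_zHat_iff.mp hz
  have hgK := Cfsg.Agent.Lib.Helper82.NilAbel.mem_normalizer_of_le_cyclic hZc
    (le_sup_left : K ≤ K ⊔ Ks) hg
  have hgKs := Cfsg.Agent.Lib.Helper82.NilAbel.mem_normalizer_of_le_cyclic hZc
    (le_sup_right : Ks ≤ K ⊔ Ks) hg
  rw [mem_zHat_iff]
  refine ⟨(Subgroup.mem_normalizer_iff.mp hg z).mp hzZ, ?_, ?_⟩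
  · intro h; exact hzK ((Subgroup.mem_normalizer_iff.mp hgK z).mpr h)
  · intro h; exact hzKs ((Subgroup.mem_normalizer_iff.mp hgKs z).mpr h)

/-- **Self-normalizing cyclic subgroup.**  `Ẑ` is a TI-subset of `G` with normalizer `Z = K K*`. -/
theorem isTISubset_zHat [Finite G] (hs : IsSimpleGroup G) {K Ks M Ms : Subgroup G}
    (hK1 : K ≠ ⊥) (hKs1 : Ks ≠ ⊥) (hdisj : K ⊓ Ks = ⊥)
    (hcomm : ∀ a ∈ K, ∀ b ∈ Ks, a * b = b * a)
    (hZc : IsCyclic ↥(K ⊔ Ks)) (hZtop : K ⊔ Ks ≠ ⊤)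
    (hMM : M ⊓ Ms = K ⊔ Ks)
    (hcent : ∀ x ∈ K, x ≠ 1 → ∀ y ∈ Ks, y ≠ 1 →
      Subgroup.centralizer ({x * y} : Set G) = K ⊔ Ks)
    (hNK : ∀ Y : Subgroup G, Y ≤ K → (Nat.card Y).Prime →
      ∀ L : Subgroup G, IsCoatom L → Subgroup.centralizer (Y : Set G) ≤ L → L = Ms)
    (hNKs : ∀ X : Subgroup G, X ≤ Ks → (Nat.card X).Prime →
      ∀ L : Subgroup G, IsCoatom L → Subgroup.centralizer (X : Set G) ≤ L → L = M) :
    IsTISubset (zHat K Ks) ∧ Subgroup.normalizer (zHat K Ks) = K ⊔ Ks := by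
  have hKc : IsCyclic K := by
    have : IsCyclic (K.subgroupOf (K ⊔ Ks)) := inferInstance
    exact (Subgroup.subgroupOfEquivOfLe (le_sup_left : K ≤ K ⊔ Ks)).isCyclic.mp this
  have hKsc : IsCyclic Ks := by
    have : IsCyclic (Ks.subgroupOf (K ⊔ Ks)) := inferInstance
    exact (Subgroup.subgroupOfEquivOfLe (le_sup_right : Ks ≤ K ⊔ Ks)).isCyclic.mp this
  have hKtop : K ≠ ⊤ := by
    intro h; apply hZtop; rw [h]; exact top_sup_eq _
  have hKstop : Ks ≠ ⊤ := by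
    intro h; apply hZtop; rw [h]; exact sup_top_eq _
  have hNK' : Subgroup.normalizer (K : Set G) ≤ Ms :=
    normalizer_le_of_centralizer_uniq hs hKc hK1 hKtop hNK
  have hNKs' : Subgroup.normalizer (Ks : Set G) ≤ M :=
    normalizer_le_of_centralizer_uniq hs hKsc hKs1 hKstop hNKs
  -- the key step: `g z g⁻¹ ∈ Ẑ` for some `z ∈ Ẑ` forces `g ∈ N_G(Z)`
  have key : ∀ g z : G, z ∈ zHat K Ks → g * z * g⁻¹ ∈ zHat K Ks →
      g ∈ Subgroup.normalizer ((K ⊔ Ks : Subgroup G) : Set G) := by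
    intro g z hz hgz
    obtain ⟨x, hx, hx1, y, hy, hy1, rfl⟩ := exists_mul_of_mem_zHat hcomm hz
    obtain ⟨x', hx', hx'1, y', hy', hy'1, hxy'⟩ := exists_mul_of_mem_zHat hcomm hgz
    have hc := hcent x hx hx1 y hy hy1
    have hc' := hcent x' hx' hx'1 y' hy' hy'1
    rw [← hxy'] at hc'
    -- `C_G(g z g⁻¹) = g C_G(z) g⁻¹`
    have hconj : ∀ c : G, c ∈ K ⊔ Ks ↔ g * c * g⁻¹ ∈ K ⊔ Ks := by
      intro c
      have e1 : c ∈ K ⊔ Ks ↔ c ∈ Subgroup.centralizer ({x * y} : Set G) := by rw [hc]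
      have e2 : g * c * g⁻¹ ∈ K ⊔ Ks ↔
          g * c * g⁻¹ ∈ Subgroup.centralizer ({g * (x * y) * g⁻¹} : Set G) := by rw [hc']
      rw [e1, e2, Subgroup.mem_centralizer_singleton_iff,
        Subgroup.mem_centralizer_singleton_iff]
      constructor
      · intro h
        calc g * c * g⁻¹ * (g * (x * y) * g⁻¹) = g * (c * (x * y)) * g⁻¹ := by group
          _ = g * ((x * y) * c) * g⁻¹ := by rw [h]
          _ = g * (x * y) * g⁻¹ * (g * c * g⁻¹) := by group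
      · intro h
        calc c * (x * y) = g⁻¹ * (g * c * g⁻¹ * (g * (x * y) * g⁻¹)) * g := by group
          _ = g⁻¹ * (g * (x * y) * g⁻¹ * (g * c * g⁻¹)) * g := by rw [h]
          _ = (x * y) * c := by group
    rw [Subgroup.mem_normalizer_iff]
    exact hconj
  have hNZ : ∀ g : G, g ∈ Subgroup.normalizer ((K ⊔ Ks : Subgroup G) : Set G) →
      g ∈ Subgroup.normalizer (zHat K Ks) := by
    intro g hg
    rw [Subgroup.mem_set_normalizer_iff]
    intro n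
    constructor
    · exact conj_mem_zHat_of_mem_normalizer hZc hg
    · intro h
      have := conj_mem_zHat_of_mem_normalizer hZc (Subgroup.inv_mem _ hg) h
      have e : g⁻¹ * (g * n * g⁻¹) * g⁻¹⁻¹ = n := by group
      rwa [e] at this
  constructor
  · intro g hg z hz hgz
    exact absurd (hNZ g (key g z hz hgz)) hg
  · apply le_antisymm
    · intro g hg
      -- `Ẑ` is nonempty
      obtain ⟨⟨x, hx⟩, hx1⟩ := (Subgroup.ne_bot_iff_exists_ne_one).mp hK1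
      obtain ⟨⟨y, hy⟩, hy1⟩ := (Subgroup.ne_bot_iff_exists_ne_one).mp hKs1
      have hx1' : x ≠ 1 := fun h => hx1 (Subtype.ext h)
      have hy1' : y ≠ 1 := fun h => hy1 (Subtype.ext h)
      have hz := mul_mem_zHat hdisj hx hx1' hy hy1'
      have hgz : g * (x * y) * g⁻¹ ∈ zHat K Ks :=
        ((Subgroup.mem_set_normalizer_iff.mp hg) (x * y)).mp hz
      have hgZ := key g (x * y) hz hgz
      have hgK := Cfsg.Agent.Lib.Helper82.NilAbel.mem_normalizer_of_le_cyclic hZc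
        (le_sup_left : K ≤ K ⊔ Ks) hgZ
      have hgKs := Cfsg.Agent.Lib.Helper82.NilAbel.mem_normalizer_of_le_cyclic hZc
        (le_sup_right : Ks ≤ K ⊔ Ks) hgZ
      rw [← hMM]
      exact ⟨hNKs' hgKs, hNK' hgK⟩
    · intro g hg
      exact hNZ g (Subgroup.le_normalizer hg)

end BGFourteenD

end Cfsg.Agent.Lib.Helper23
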