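-- helper23: PF sec.10 M-side (helper24 #4310), module [A2']: the mass bound for `χ` from the bridge
-- `τ(μ_0 - ζ) = ∑_φ η_φ - χ` and the relations `⟨χ, τ(dζ - μ_ψ)⟩ = d`, without coherence.
import Mathlib
import Cfsg.Agent.Lib.Helper24.PFCycCtx0
import Cfsg.Agent.Lib.Helper23.PFCycTau1MuA
import Cfsg.Agent.S1525
import Cfsg.Agent.Lib.Helper66.PF127Mass2
import Cfsg.Agent.Lib.Helper73.PF127Mass
import Cfsg.Agent.Lib.Helper64.PFElevenKZero
import Cfsg.Agent.Lib.Helper26.IrrFacts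
import Cfsg.Agent.Lib.Helper78.CharValues

set_option autoImplicit false
set_option linter.unusedVariables false

namespace Cfsg.Agent.Lib.Helper23.PFCycA2

open Cfsg Cfsg.Agent.Lib.Helper4.PF Cfsg.Agent.Lib.Helper74.PF127 Cfsg.Agent.Lib.Helper24.PFCyc
open Cfsg.Agent.Lib.Helper26

universe u

variable {G : Type u} [Group G] [Fintype G] {M W₁ U W₂ : Subgroup G} [Fintype M]
  {mu : WChar W₁ W₂ → (↥M → ℂ)} {dl : WChar W₁ W₂ → ℂ} {η : WChar W₁ W₂ → (G → ℂ)}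
  {ζ : ↥M → ℂ}

omit [Fintype G] [Fintype M] in
theorem tauM_zero : tauM M (0 : ↥M → ℂ) = 0 := by
  have := tauM_smul (M := M) (0 : ℂ) (0 : ↥M → ℂ)
  simpa using this

omit [Fintype G] [Fintype M] in
theorem tauM_sum {ι : Type*} (s : Finset ι) (f : ι → ↥M → ℂ) :
    tauM M (∑ i ∈ s, f i) = ∑ i ∈ s, tauM M (f i) := by
  classical
  induction s using Finset.induction_on with
  | empty => simp [tauM_zero]
  | insert a s ha ih => rw [Finset.sum_insert ha, Finset.sum_insert ha, tauM_add, ih]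

omit [Fintype M] in
theorem finsum_mem_eq_sum_indicator' {X : Type*} [Fintype X] (s : Set X) (f : X → ℝ) :
    ∑ᶠ x ∈ s, f x = ∑ x, s.indicator f x := by
  rw [finsum_mem_def, finsum_eq_sum_of_fintype]

/-- MODULE [A2'] (helper24 #4310), exact statement. -/
theorem chi_mass_bridge (h : MCtx0 M W₁ U W₂ mu dl η ζ) (hf : MFacts M W₁ W₂ mu dl η)
    (χ : G → ℂ) (hχ : IsClassFunction G χ) (hn : classInner χ χ = 1)
    (ho : ∀ ω : WChar W₁ W₂, classInner χ (η ω) = 0)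
    (hb : tauM M (muSum mu 1 - ζ) = etaSum η 1 - χ)
    (d : ℕ) (hd : ∀ ψ : WChar W₁ W₂, TrivOn W₁ ψ → ψ ≠ 1 → mu ψ 1 = (d : ℂ))
    (hr : ∀ ψ : WChar W₁ W₂, TrivOn W₁ ψ → ψ ≠ 1 →
      classInner χ (tauM M ((d : ℂ) • ζ - muSum mu ψ)) = (d : ℂ)) :
    ∑ᶠ g ∈ (suppM M)ᶜ, ‖χ g‖ ^ 2 ≤
      (Nat.card W₁ : ℝ) /
        ((Nat.card W₁ : ℝ) + 1 + ((Nat.card W₂ : ℝ) - 1) * (d : ℝ) ^ 2) * (Nat.card G : ℝ) := by
  classical
  have hqpos : 0 < Nat.card W₁ := Nat.card_pos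
  have hp1 : 1 ≤ Nat.card W₂ := Nat.card_pos
  have hqR : (0 : ℝ) < (Nat.card W₁ : ℝ) := by exact_mod_cast hqpos
  have hpR : (0 : ℝ) ≤ (Nat.card W₂ : ℝ) - 1 := by
    have : (1 : ℝ) ≤ (Nat.card W₂ : ℝ) := by exact_mod_cast hp1
    linarith
  set J : Finset (WChar W₁ W₂) := (trivSet W₁ W₂ W₁).erase 1 with hJdef
  have hJ : ∀ ψ ∈ J, TrivOn W₁ ψ ∧ ψ ≠ 1 := fun ψ hψ =>
    ⟨mem_trivSet.1 (Finset.mem_of_mem_erase hψ), Finset.ne_of_mem_erase hψ⟩
  have hJcard : J.card = Nat.card W₂ - 1 := by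
    rw [hJdef, Finset.card_erase_of_mem (mem_trivSet.2 (trivOn_one _)),
      Cfsg.Agent.Lib.Helper23.PFCycTau1Mu.card_trivSet_left h.hW]
  have hJcardC : (J.card : ℂ) = (Nat.card W₂ : ℂ) - 1 := by
    rw [hJcard, Nat.cast_sub hp1]; simp
  -- the real number `m`
  set mR : ℝ := 1 + ((Nat.card W₂ : ℝ) - 1) * (d : ℝ) ^ 2 with hmR
  have hmpos : 0 < mR := by
    have : 0 ≤ ((Nat.card W₂ : ℝ) - 1) * (d : ℝ) ^ 2 := mul_nonneg hpR (sq_nonneg _)
    linarith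
  have hmC : (mR : ℂ) = 1 + ((Nat.card W₂ : ℂ) - 1) * (d : ℂ) ^ 2 := by
    rw [hmR]; push_cast; ring
  -- facts on `ζ`, `μ_0`, `μ_ψ`
  obtain ⟨hM0c, hM0K, hM0v, hM0n, hM01, hM0S⟩ := Zero.mu0_facts h hf
  obtain ⟨hζc, hζK, -, -, -⟩ := Zero.calS_basic h ζ h.hζ
  have hζζ : classInner ζ ζ = 1 := Cfsg.Agent.Lib.Helper78.classInner_irr_self h.hζirr
  have hM0ζ : classInner (muSum mu 1) ζ = 0 := hM0S ζ h.hζ
  have hζM0 : classInner ζ (muSum mu 1) = 0 := by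
    rw [← classInner_conj_symm, hM0ζ, map_zero]
  have hM0cf := Cfsg.Agent.Lib.Helper78.IsCharacter.isClassFunction hM0c
  have hζcf := Cfsg.Agent.Lib.Helper78.IsCharacter.isClassFunction hζc
  have hψS : ∀ ψ ∈ J, muSum mu ψ ∈ calS M := fun ψ hψ => hf.muSum_mem ψ (hJ ψ hψ).1 (hJ ψ hψ).2
  have hψcf : ∀ ψ ∈ J, IsClassFunction ↥M (muSum mu ψ) := fun ψ hψ =>
    Cfsg.Agent.Lib.Helper78.IsCharacter.isClassFunction (Zero.calS_basic h _ (hψS ψ hψ)).1
  have hψK : ∀ ψ ∈ J, ∀ m : ↥M, (m : G) ∉ ⁅M, M⁆ → muSum mu ψ m = 0 := fun ψ hψ =>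
    (Zero.calS_basic h _ (hψS ψ hψ)).2.1
  have hψ1 : ∀ ψ ∈ J, muSum mu ψ 1 = (Nat.card W₁ : ℂ) * (d : ℂ) := fun ψ hψ => by
    rw [(Zero.muSum_facts h hf ψ (hJ ψ hψ).1 (hJ ψ hψ).2).2.2.1, hd ψ (hJ ψ hψ).1 (hJ ψ hψ).2]
  have hζψ : ∀ ψ ∈ J, classInner ζ (muSum mu ψ) = 0 := fun ψ hψ =>
    Zero.calS_orth h ζ _ h.hζ (hψS ψ hψ)
      (Ne.symm (Zero.muSum_facts h hf ψ (hJ ψ hψ).1 (hJ ψ hψ).2).1)
  have hψζ : ∀ ψ ∈ J, classInner (muSum mu ψ) ζ = 0 := fun ψ hψ => by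
    rw [← classInner_conj_symm, hζψ ψ hψ, map_zero]
  have hM0ψ : ∀ ψ ∈ J, classInner (muSum mu 1) (muSum mu ψ) = 0 := fun ψ hψ =>
    hM0S _ (hψS ψ hψ)
  have hψM0 : ∀ ψ ∈ J, classInner (muSum mu ψ) (muSum mu 1) = 0 := fun ψ hψ => by
    rw [← classInner_conj_symm, hM0ψ ψ hψ, map_zero]
  have hψψ : ∀ ψ ∈ J, ∀ ψ' ∈ J, classInner (muSum mu ψ) (muSum mu ψ') =
      if ψ = ψ' then (Nat.card W₁ : ℂ) else 0 := by
    intro ψ hψ ψ' hψ'
    by_cases he : ψ = ψ'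
    · subst he
      rw [if_pos rfl]
      exact (Zero.muSum_facts h hf ψ (hJ ψ hψ).1 (hJ ψ hψ).2).2.1
    · rw [if_neg he]
      apply Zero.calS_orth h _ _ (hψS ψ hψ) (hψS ψ' hψ')
      exact (Zero.muSum_facts h hf ψ' (hJ ψ' hψ').1 (hJ ψ' hψ').2).2.2.2.1 ψ (hJ ψ hψ).1
        (hJ ψ hψ).2 he
  -- the sum `S`
  set S : ↥M → ℂ := ∑ ψ ∈ J, muSum mu ψ with hS
  have hζS : classInner ζ S = 0 := by
    rw [hS, classInner_sum_right]
    exact Finset.sum_eq_zero (fun ψ hψ => hζψ ψ hψ)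
  have hSζ : classInner S ζ = 0 := by
    rw [← classInner_conj_symm, hζS, map_zero]
  have hM0S' : classInner (muSum mu 1) S = 0 := by
    rw [hS, classInner_sum_right]
    exact Finset.sum_eq_zero (fun ψ hψ => hM0ψ ψ hψ)
  have hSM0 : classInner S (muSum mu 1) = 0 := by
    rw [← classInner_conj_symm, hM0S', map_zero]
  have hSS : classInner S S = ((Nat.card W₂ : ℂ) - 1) * (Nat.card W₁ : ℂ) := by
    rw [hS, classInner_sum_left]
    have h1 : ∀ ψ ∈ J, classInner (muSum mu ψ) (∑ ψ' ∈ J, muSum mu ψ') = (Nat.card W₁ : ℂ) := by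
      intro ψ hψ
      rw [classInner_sum_right, Finset.sum_congr rfl (fun ψ' hψ' => hψψ ψ hψ ψ' hψ'),
        Finset.sum_ite_eq J ψ, if_pos hψ]
    rw [Finset.sum_congr rfl h1, Finset.sum_const, nsmul_eq_mul, hJcardC]
  -- the function `f`
  set f : ↥M → ℂ := (mR : ℂ) • ζ - muSum mu 1 - (d : ℂ) • S with hfdef
  have hScf : IsClassFunction ↥M S := by
    rw [hS]
    exact Cfsg.Agent.Lib.Helper78.isClassFunction_sum J _ (fun ψ hψ => hψcf ψ hψ)
  have hfcf : IsClassFunction ↥M f := by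
    rw [hfdef]
    exact Cfsg.Agent.Lib.Helper78.isClassFunction_sub
      (Cfsg.Agent.Lib.Helper78.isClassFunction_sub
        (Cfsg.Agent.Lib.Helper78.isClassFunction_smul _ hζcf) hM0cf)
      (Cfsg.Agent.Lib.Helper78.isClassFunction_smul _ hScf)
  have hSK : ∀ m : ↥M, (m : G) ∉ ⁅M, M⁆ → S m = 0 := by
    intro m hm
    rw [hS, Finset.sum_apply]
    exact Finset.sum_eq_zero (fun ψ hψ => hψK ψ hψ m hm)
  have hfK : ∀ m : ↥M, (m : G) ∉ ⁅M, M⁆ → f m = 0 := by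
    intro m hm
    rw [hfdef]
    simp only [Pi.sub_apply, Pi.smul_apply, smul_eq_mul]
    rw [hζK m hm, hM0K m hm, hSK m hm]; ring
  have hS1 : S 1 = ((Nat.card W₂ : ℂ) - 1) * ((Nat.card W₁ : ℂ) * (d : ℂ)) := by
    rw [hS, Finset.sum_apply, Finset.sum_congr rfl (fun ψ hψ => hψ1 ψ hψ), Finset.sum_const,
      nsmul_eq_mul, hJcardC]
  have hf1 : f 1 = 0 := by
    rw [hfdef]
    simp only [Pi.sub_apply, Pi.smul_apply, smul_eq_mul]
    rw [h.hζ1, hM0v 1 (Subgroup.one_mem _), hS1, hmC]; ring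
  have hfA0 := Zero.off_litA0 h f hfK hf1
  have hfA := Zero.off_litA h f hfK hf1
  -- the norm of `f`
  have hff : classInner f f = ((mR * (mR + (Nat.card W₁ : ℝ)) : ℝ) : ℂ) := by
    rw [hfdef]
    simp only [classInner_sub_left, classInner_sub_right, classInner_smul_left,
      classInner_smul_right, hζζ, hM0ζ, hζM0, hM0n, hζS, hSζ, hM0S', hSM0, hSS,
      Complex.conj_ofReal, Complex.conj_natCast]
    push_cast
    rw [hmC]; ring
  -- `τ f`
  have hfdec : f = -(muSum mu 1 - ζ) + (d : ℂ) • ∑ ψ ∈ J, ((d : ℂ) • ζ - muSum mu ψ) := by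
    rw [hfdef, Finset.sum_sub_distrib, Finset.sum_const, ← hS]
    ext a
    simp only [Pi.sub_apply, Pi.smul_apply, Pi.add_apply, Pi.neg_apply, smul_eq_mul,
      nsmul_eq_mul, Pi.mul_apply, Pi.natCast_apply]
    rw [hJcardC, hmC]; ring
  have hτf : tauM M f = -(etaSum η 1 - χ) +
      (d : ℂ) • ∑ ψ ∈ J, tauM M ((d : ℂ) • ζ - muSum mu ψ) := by
    rw [hfdec, tauM_add, tauM_smul, tauM_sum, ← hb]
    congr 1
    have := tauM_smul (M := M) (-1 : ℂ) (muSum mu 1 - ζ)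
    simpa using this
  have hEχ : classInner (etaSum η 1) χ = 0 := by
    unfold etaSum
    rw [classInner_sum_left]
    apply Finset.sum_eq_zero
    intro φ _
    rw [← classInner_conj_symm, ho, map_zero]
  have hτfχ : classInner (tauM M f) χ = (mR : ℂ) := by
    rw [hτf, classInner_add_left, classInner_neg_left, classInner_sub_left, hEχ, hn,
      classInner_smul_left, classInner_sum_left]
    have h1 : ∀ ψ ∈ J, classInner (tauM M ((d : ℂ) • ζ - muSum mu ψ)) χ = (d : ℂ) := by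
      intro ψ hψ
      rw [← classInner_conj_symm, hr ψ (hJ ψ hψ).1 (hJ ψ hψ).2, Complex.conj_natCast]
    rw [Finset.sum_congr rfl h1, Finset.sum_const, nsmul_eq_mul, hJcardC, hmC]; ring
  -- the Dade restriction of `χ`
  set ρ : ↥M → ℂ := dadeRes (litA0 M) M (supportR M) χ with hρ
  have hfρ : classInner f ρ = (mR : ℂ) := by
    rw [← Zero.tauM_adjoint h hfcf hfA0 hχ, hτfχ]
  set ρ' : ↥M → ℂ := fun a => if (a : G) ∈ litA M then ρ a else 0 with hρ'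
  have hfρ' : classInner f ρ' = (mR : ℂ) := by
    rw [← hfρ]
    unfold classInner
    congr 1
    apply Finset.sum_congr rfl
    intro a _
    by_cases ha : (a : G) ∈ litA M
    · simp only [hρ', if_pos ha]
    · rw [hfA a ha, zero_mul, zero_mul]
  have hbes := Cfsg.Agent.Lib.Helper64.PF11.bessel_orthogonal ρ' (fun _ : Unit => f)
    (fun _ => mR * (mR + (Nat.card W₁ : ℝ))) (fun _ => mul_pos hmpos (by linarith))
    (fun _ => hff) (fun k l hkl => absurd (Subsingleton.elim k l) hkl)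
    (fun _ => mR)
    (fun _ => by rw [← classInner_conj_symm, hfρ', Complex.conj_ofReal])
  simp only [Finset.univ_unique, Finset.sum_singleton] at hbes
  rw [Cfsg.Agent.Lib.Helper73.PF127Mass.classInner_self_re ρ'] at hbes
  have hρ'sum : ∑ a : ↥M, ‖ρ' a‖ ^ 2 = ∑ᶠ a ∈ {a : ↥M | (a : G) ∈ litA M}, ‖ρ a‖ ^ 2 := by
    rw [finsum_mem_eq_sum_indicator']
    apply Finset.sum_congr rfl
    intro a _
    by_cases ha : (a : G) ∈ litA M
    · rw [Set.indicator_of_mem (by simpa using ha)]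
      simp only [hρ', if_pos ha]
    · rw [Set.indicator_of_notMem (by simpa using ha)]
      simp only [hρ', if_neg ha]
      simp
  rw [hρ'sum] at hbes
  -- S1525
  have hMM : (⁅M, M⁆ : Subgroup G) ≤ M :=
    Subgroup.commutator_le.2 (fun a ha b hb =>
      M.mul_mem (M.mul_mem (M.mul_mem ha hb) (M.inv_mem ha)) (M.inv_mem hb))
  have hD : DadeHypothesis (litA M) M (supportR M) := by
    apply Cfsg.Agent.Lib.Helper66.PF127.dadeHypothesis_mono h.hD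
    · exact Set.subset_union_left
    · intro x hx a ha
      rw [h.hA] at ha ⊢
      refine ⟨?_, ?_⟩
      · have h1 : x * a * x⁻¹ = (x * a * x⁻¹ * a⁻¹) * a := by group
        rw [h1]
        exact (⁅M, M⁆ : Subgroup G).mul_mem
          (by rw [← commutatorElement_def]; exact Subgroup.commutator_mem_commutator hx (hMM ha.1))
          ha.1
      · intro h1
        apply ha.2
        have h2 : x * a * x⁻¹ = 1 := h1
        have h3 : a = x⁻¹ * (x * a * x⁻¹) * x := by group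
        rw [h3, h2]
        simp
  have key := Cfsg.Agent.S1525.result (litA M) M (supportR M) hD χ hχ ρ
    (fun a ha => by
      have ha0 : (a : G) ∈ litA0 M := (Set.subset_union_left : litA M ⊆ litA0 M) ha
      rw [hρ, dadeRes_of_mem _ _ _ _ _ ha0]
      rfl)
  have hsupp : {g : G | ∃ a ∈ litA M, ∃ u ∈ supportR M a, ∃ x : G, x * g * x⁻¹ = a * u} =
      suppM M := rfl
  rw [hsupp] at key
  -- total mass of `χ`
  have hG : (0 : ℝ) < (Nat.card G : ℝ) := by exact_mod_cast Nat.card_pos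
  have hT : ∑ g : G, ‖χ g‖ ^ 2 = (Nat.card G : ℝ) := by
    have h1 := Cfsg.Agent.Lib.Helper73.PF127Mass.classInner_self_re χ
    rw [hn, Complex.one_re] at h1
    field_simp at h1
    linarith
  have hAB : ∑ᶠ g ∈ suppM M, ‖χ g‖ ^ 2 + ∑ᶠ g ∈ (suppM M)ᶜ, ‖χ g‖ ^ 2 = (Nat.card G : ℝ) := by
    rw [finsum_mem_eq_sum_indicator', finsum_mem_eq_sum_indicator', ← Finset.sum_add_distrib,
      ← hT]
    apply Finset.sum_congr rfl
    intro g _
    exact Set.indicator_self_add_compl_apply _ _ g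
  -- conclusion
  have h1 : mR ^ 2 / (mR * (mR + (Nat.card W₁ : ℝ))) ≤
      (Nat.card G : ℝ)⁻¹ * ∑ᶠ g ∈ suppM M, ‖χ g‖ ^ 2 := le_trans hbes key
  have h2 : mR ^ 2 / (mR * (mR + (Nat.card W₁ : ℝ))) = mR / (mR + (Nat.card W₁ : ℝ)) := by
    have : mR + (Nat.card W₁ : ℝ) ≠ 0 := by linarith
    field_simp
  rw [h2] at h1
  have h3 : (Nat.card G : ℝ) * (mR / (mR + (Nat.card W₁ : ℝ))) ≤
      ∑ᶠ g ∈ suppM M, ‖χ g‖ ^ 2 := by
    have := mul_le_mul_of_nonneg_left h1 hG.le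
    rwa [← mul_assoc (Nat.card G : ℝ) (Nat.card G : ℝ)⁻¹, mul_inv_cancel₀ hG.ne', one_mul] at this
  have h4 : (Nat.card W₁ : ℝ) + 1 + ((Nat.card W₂ : ℝ) - 1) * (d : ℝ) ^ 2 =
      mR + (Nat.card W₁ : ℝ) := by rw [hmR]; ring
  rw [h4]
  have h5 : (Nat.card W₁ : ℝ) / (mR + (Nat.card W₁ : ℝ)) * (Nat.card G : ℝ) =
      (Nat.card G : ℝ) - (Nat.card G : ℝ) * (mR / (mR + (Nat.card W₁ : ℝ))) := by
    have : mR + (Nat.card W₁ : ℝ) ≠ 0 := by linarith
    field_simp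
    ring
  rw [h5]
  linarith

end Cfsg.Agent.Lib.Helper23.PFCycA2
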