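import Mathlib
import Cfsg.Agent.Lib.Helper60.PFTenTDefs
import Cfsg.Agent.Lib.Helper51.PFCycCalS
import Cfsg.Agent.Lib.Helper16.PFNineTen
import Cfsg.Agent.Lib.Helper26.PFBookC

/-!
# Peterfalvi section 10, T-side: the Dade supports of `A(M)` and `A(T)` are disjoint (helper23)

Module `PFTenT-[TS-SUPP]` of helper60's T-side batch 2.

`M` is of Type III, IV or V with type-P data `(W₁, U, W₂)`, `T` its partner with data `(W₂, V, W₁)` and
`T_s = T_F`.  If the supports met, Peterfalvi (8.17) (`Helper26.PFBook.main_step`) would make `|T_s|`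
coprime to `|C_M(z)|` for all `z ∈ A(M)`; but for `1 ≠ z ∈ W₂` both are divisible by `|W₁| ≠ 1`.
-/

set_option autoImplicit false

namespace Cfsg.Agent.Lib.Helper23.PFTenT

open Cfsg Cfsg.Agent.Lib.Helper24.PFCyc Cfsg.Agent.Lib.Helper4.PF Cfsg.Agent.Lib.Helper4.PFTen
  Cfsg.Agent.Lib.Helper58.PF9 Cfsg.Agent.Lib.Helper74.PF127

universe u

/-- For `M` of Type III, IV or V, `M' ≤ M_s`. -/
theorem commutator_le_typeCore_of_typeIIItoV {G : Type u} [Group G] {M : Subgroup G}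
    (h : IsOfTypeIII M ∨ IsOfTypeIV M ∨ IsOfTypeV M) : ⁅M, M⁆ ≤ typeCore M := by
  classical
  unfold typeCore
  by_cases h34 : IsOfTypeIII M ∨ IsOfTypeIV M
  · rw [if_pos h34]
  · rw [if_neg h34]
    have h5 : IsOfTypeV M := by
      rcases h with h | h | h
      · exact absurd (Or.inl h) h34
      · exact absurd (Or.inr h) h34
      · exact h
    obtain ⟨W₁', U', W₂', hP', hU', -⟩ := h5
    intro a ha
    obtain ⟨x, hx, y, hy, rfl⟩ := hP'.U_compl.2.2.2 a ha
    rw [hU', Subgroup.mem_bot] at hy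
    subst hy
    simpa using hx

/-- Two maximal subgroups with type-P data `(W₁, U, W₂)` and `(W₂, V, W₁)` are not conjugate. -/
theorem not_conj_of_typeP_pair {G : Type u} [Group G] [Finite G] {M T W₁ W₂ U V : Subgroup G}
    (hSP : IsTypePWith M W₁ U W₂) (hTP : IsTypePWith T W₂ V W₁) (g : G) :
    conjSub g T ≠ M := by
  intro hconj
  have hinj : Function.Injective (MulAut.conj g).toMonoidHom := (MulAut.conj g).injective
  have hcardM : Nat.card ↥M = Nat.card ↥T := by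
    rw [← hconj]
    exact Subgroup.card_map_of_injective hinj
  have hcomm : ⁅M, M⁆ = conjSub g ⁅T, T⁆ := by
    rw [← hconj]
    exact (Subgroup.map_commutator T T (MulAut.conj g).toMonoidHom).symm
  have hcardM' : Nat.card ↥⁅M, M⁆ = Nat.card ↥⁅T, T⁆ := by
    rw [hcomm]
    exact Subgroup.card_map_of_injective hinj
  have h1 := Cfsg.Agent.Lib.Helper23.card_of_isComplIn hSP.W₁_compl
  have h2 := Cfsg.Agent.Lib.Helper23.card_of_isComplIn hTP.W₁_compl
  have hpos : 0 < Nat.card ↥⁅T, T⁆ := Nat.card_pos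
  have hW : Nat.card ↥W₁ = Nat.card ↥W₂ := by
    rw [hcardM, hcardM', h2] at h1
    exact (Nat.eq_of_mul_eq_mul_left hpos h1).symm
  have hcop := Cfsg.Agent.Lib.Helper51.PFCyc.coprime_W hSP
  rw [hW] at hcop
  have h1' : Nat.card ↥W₂ = 1 := (Nat.coprime_self _).1 hcop
  exact hSP.selfNormalizing.2.1 (Subgroup.card_eq_one.1 h1')

/-- **PFTenT-[TS-SUPP]**: the Dade supports of `A(M)` and `A(T)` are disjoint. -/
theorem dadeSupp_disjoint {G : Type u} [Group G] [Finite G] (hG : IsMinSimpleOddOrder G)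
    (bg : BookBGData G) {M T W₁ W₂ U V : Subgroup G} (hpair : PairHyp M T W₁ W₂ U V)
    (hMtype : IsOfTypeIII M ∨ IsOfTypeIV M ∨ IsOfTypeV M)
    (hcore : typeCore T = fittingHallOf T) :
    Disjoint (dadeSupp (litA M) (supportR M)) (dadeSupp (litA T) (supportR T)) := by
  classical
  rw [Set.disjoint_left]
  rintro g ⟨a, ha, r, hr, y, hy⟩ ⟨b, hb, s, hs, y', hy'⟩
  have hSP := hpair.hSP
  have hTP := hpair.hTP
  have hMP : IsOfTypeP M := ⟨W₁, U, W₂, hSP⟩
  have hM'core : ⁅M, M⁆ ≤ typeCore M := commutator_le_typeCore_of_typeIIItoV hMtype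
  have heq : a * r = (y * y'⁻¹) * (b * s) * (y * y'⁻¹)⁻¹ := by
    rw [← hy, ← hy']; group
  have ha1 : a ∈ typeA1 M := by
    unfold litA at ha
    rw [if_pos hMP] at ha
    exact ⟨hM'core ha.1, by simpa using ha.2.1⟩
  have hnc : ∀ g : G, conjSub g T ≠ M := not_conj_of_typeP_pair hSP hTP
  have hmain := (Cfsg.Agent.Lib.Helper26.PFBook.main_step hG bg hpair.hS hpair.hT hnc ha1 hr hb hs
    heq).2
  -- a non-identity element of `W₂`
  obtain ⟨z, hzW, hz1⟩ : ∃ z ∈ W₂, z ≠ 1 := by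
    by_contra hcon
    exact hSP.selfNormalizing.2.1 ((Subgroup.eq_bot_iff_forall _).2
      (fun x hx => by_contra (fun h => hcon ⟨x, hx, h⟩)))
  have hW₂M' : W₂ ≤ ⁅M, M⁆ := (hSP.W₂_le.trans inf_le_left).trans hSP.U_compl.1
  have hzA : z ∈ litA M := by
    unfold litA
    rw [if_pos hMP]
    exact ⟨hW₂M' hzW, hz1, z, hM'core (hW₂M' hzW), hz1, rfl⟩
  have hcop := hmain z hzA
  have hW₁core : W₁ ≤ typeCore T := by
    rw [hcore]; exact hTP.W₂_le.trans inf_le_left
  have hW₁cent : W₁ ≤ M ⊓ Subgroup.centralizer ({z} : Set G) := by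
    refine le_inf hSP.W₁_compl.2.1 ?_
    intro w hw
    rw [Subgroup.mem_centralizer_iff]
    intro x hx
    rw [Set.mem_singleton_iff] at hx
    subst hx
    exact (hSP.selfNormalizing.2.2.2.1 w hw x hzW).symm
  have h1 : Nat.card ↥W₁ = 1 :=
    Nat.eq_one_of_dvd_coprimes hcop (Subgroup.card_dvd_of_le hW₁core)
      (Subgroup.card_dvd_of_le hW₁cent)
  exact hSP.W₁_ne (Subgroup.card_eq_one.1 h1)

end Cfsg.Agent.Lib.Helper23.PFTenT
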