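-- helper23: PF (10.8) Case 2 group step [FROB-T] (helper4 #3926): an abelian group `U` acting
-- coprimely on `H`, semiregularly on the section `H/H₀ ≠ 1`, with a subgroup `U₀` of the same exponent
-- acting without fixed points on `H`: then `U` is cyclic and acts without fixed points on `H`.
import Mathlib
import Cfsg.Agent.Lib.Helper35.FpfCyclic

set_option autoImplicit false

namespace Cfsg.Agent.Lib.Helper23.PFTenFrobT

variable {G : Type*} [Group G]

/-- An abelian subgroup `U` normalizing `H₀ < H` (with `H` normalizing `H₀`), of order prime to `|H|`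
and acting semiregularly on the section `H/H₀`, is cyclic. -/
theorem isCyclic_of_semiregular_section [Finite G] (H U H₀ : Subgroup G)
    (hUab : ∀ a ∈ U, ∀ b ∈ U, a * b = b * a)
    (hUH : U ≤ Subgroup.normalizer (H : Set G))
    (hUH₀ : U ≤ Subgroup.normalizer (H₀ : Set G))
    (hH₀H : H₀ < H)
    (hHH₀ : H ≤ Subgroup.normalizer (H₀ : Set G))
    (hcop : (Nat.card U).Coprime (Nat.card H))
    (hsemi : ∀ u ∈ U, u ≠ 1 → ∀ h ∈ H, u * h * u⁻¹ * h⁻¹ ∈ H₀ → h ∈ H₀) :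
    IsCyclic U := by
  classical
  set L : Subgroup G := H ⊔ U with hL
  have hHL : H ≤ L := le_sup_left
  have hUL : U ≤ L := le_sup_right
  have hH₀L : H₀ ≤ L := hH₀H.le.trans hHL
  have hLN₀ : L ≤ Subgroup.normalizer (H₀ : Set G) := sup_le hHH₀ hUH₀
  have hLN : L ≤ Subgroup.normalizer (H : Set G) := sup_le Subgroup.le_normalizer hUH
  have hN₀ : (H₀.subgroupOf L).Normal :=
    (Subgroup.normal_subgroupOf_iff_le_normalizer hH₀L).2 hLN₀
  have hHn : (H.subgroupOf L).Normal :=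
    (Subgroup.normal_subgroupOf_iff_le_normalizer hHL).2 hLN
  let π : L →* L ⧸ H₀.subgroupOf L := QuotientGroup.mk' (H₀.subgroupOf L)
  have hπ1 : ∀ x : L, π x = 1 ↔ (x : G) ∈ H₀ := by
    intro x
    show (QuotientGroup.mk' (H₀.subgroupOf L)) x = 1 ↔ _
    rw [QuotientGroup.mk'_apply, QuotientGroup.eq_one_iff, Subgroup.mem_subgroupOf]
  let f : U →* L ⧸ H₀.subgroupOf L := π.comp (Subgroup.inclusion hUL)
  let g : H →* L ⧸ H₀.subgroupOf L := π.comp (Subgroup.inclusion hHL)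
  -- `U ∩ H = 1`
  have hUHbot : ∀ x : G, x ∈ U → x ∈ H → x = 1 := by
    intro x hxU hxH
    have h1 : orderOf x ∣ Nat.card U := by
      have := orderOf_dvd_natCard (⟨x, hxU⟩ : U)
      rwa [Subgroup.orderOf_mk] at this
    have h2 : orderOf x ∣ Nat.card H := by
      have := orderOf_dvd_natCard (⟨x, hxH⟩ : H)
      rwa [Subgroup.orderOf_mk] at this
    have := Nat.eq_one_of_dvd_coprimes hcop h1 h2
    exact orderOf_eq_one_iff.1 this
  have hfinj : Function.Injective f := by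
    rw [injective_iff_map_eq_one]
    intro u hu
    have h1 : ((Subgroup.inclusion hUL u : L) : G) ∈ H₀ := (hπ1 _).1 hu
    have h2 : (u : G) ∈ H₀ := h1
    exact Subtype.ext (hUHbot u u.2 (hH₀H.le h2))
  -- the image of `H` is normal
  have hKn : g.range.Normal := by
    refine ⟨fun x hx q => ?_⟩
    obtain ⟨h, rfl⟩ := hx
    obtain ⟨l, rfl⟩ := QuotientGroup.mk'_surjective (H₀.subgroupOf L) q
    have h1 : l * (Subgroup.inclusion hHL h) * l⁻¹ ∈ H.subgroupOf L :=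
      hHn.conj_mem _ (by rw [Subgroup.mem_subgroupOf]; exact h.2) l
    rw [Subgroup.mem_subgroupOf] at h1
    refine ⟨⟨_, h1⟩, ?_⟩
    show π _ = π l * π _ * (π l)⁻¹
    rw [← map_inv, ← map_mul, ← map_mul]
    congr 1
  have hKbot : g.range ≠ ⊥ := by
    obtain ⟨h, hhH, hhH₀⟩ := SetLike.exists_of_lt hH₀H
    intro hbot
    have h1 : g ⟨h, hhH⟩ ∈ g.range := ⟨_, rfl⟩
    rw [hbot, Subgroup.mem_bot] at h1
    exact hhH₀ ((hπ1 _).1 h1)
  have hfpf : ∀ b ∈ f.range, b ≠ 1 → g.range ⊓ Subgroup.centralizer {b} = ⊥ := by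
    rintro b ⟨u, rfl⟩ hb1
    rw [eq_bot_iff]
    rintro x ⟨⟨h, rfl⟩, hxc⟩
    rw [Subgroup.mem_bot]
    have hu1 : (u : G) ≠ 1 := by
      intro h0
      apply hb1
      have : u = 1 := Subtype.ext h0
      rw [this, map_one]
    have hc : f u * g h = g h * f u :=
      Subgroup.mem_centralizer_iff.1 hxc (f u) (Set.mem_singleton _)
    have h1 : π (Subgroup.inclusion hUL u * Subgroup.inclusion hHL h *
        (Subgroup.inclusion hUL u)⁻¹ * (Subgroup.inclusion hHL h)⁻¹) = 1 := by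
      rw [map_mul, map_mul, map_mul, map_inv, map_inv]
      show f u * g h * (f u)⁻¹ * (g h)⁻¹ = 1
      rw [hc]; group
    have h2 := (hπ1 _).1 h1
    have h3 : (u : G) * (h : G) * (u : G)⁻¹ * (h : G)⁻¹ ∈ H₀ := h2
    have h4 := hsemi u u.2 hu1 h h.2 h3
    exact (hπ1 _).2 h4
  have hBcomm : IsMulCommutative f.range := by
    refine ⟨⟨?_⟩⟩
    rintro ⟨_, a, rfl⟩ ⟨_, b, rfl⟩
    apply Subtype.ext
    show f a * f b = f b * f a
    rw [← map_mul, ← map_mul]
    congr 1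
    exact Subtype.ext (hUab a a.2 b b.2)
  have hBsolv : Group.IsSolvable f.range := by
    have : ∀ a b : f.range, a * b = b * a := fun a b => hBcomm.1.1 a b
    exact Group.isSolvable_of_comm this
  have hcyc : IsCyclic f.range :=
    Cfsg.Agent.Lib.Helper35.isCyclic_of_fpf g.range f.range hKbot hfpf hBsolv (Or.inl hBcomm)
  exact (MonoidHom.ofInjective hfinj).isCyclic.2 hcyc

/-- **PF10-[FROB-T]** (helper4 #3926 (b)).  `U` abelian normalizing `H₀ < H`, `(|U|,|H|) = 1`,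
`U₀ ≤ U` of the same exponent acting without fixed points on `H`, `U` semiregular on `H/H₀`.
Then `U` is cyclic and acts without fixed points on `H` (so `H ⋊ U` is a Frobenius group). -/
theorem frobT [Finite G] (H U U₀ H₀ : Subgroup G)
    (hUab : ∀ a ∈ U, ∀ b ∈ U, a * b = b * a)
    (hUH : U ≤ Subgroup.normalizer (H : Set G))
    (hUH₀ : U ≤ Subgroup.normalizer (H₀ : Set G))
    (hH₀H : H₀ < H)
    (hHH₀ : H ≤ Subgroup.normalizer (H₀ : Set G))
    (hcop : (Nat.card U).Coprime (Nat.card H))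
    (hU₀U : U₀ ≤ U)
    (hexp : Monoid.exponent U₀ = Monoid.exponent U)
    (hfpf₀ : ∀ u ∈ U₀, u ≠ 1 → ∀ h ∈ H, u * h = h * u → h = 1)
    (hsemi : ∀ u ∈ U, u ≠ 1 → ∀ h ∈ H, u * h * u⁻¹ * h⁻¹ ∈ H₀ → h ∈ H₀) :
    IsCyclic U ∧ ∀ u ∈ U, u ≠ 1 → ∀ h ∈ H, u * h = h * u → h = 1 := by
  have hcyc : IsCyclic U :=
    isCyclic_of_semiregular_section H U H₀ hUab hUH hUH₀ hH₀H hHH₀ hcop hsemi
  refine ⟨hcyc, ?_⟩
  have hcyc₀ : IsCyclic U₀ :=
    isCyclic_of_injective (Subgroup.inclusion hU₀U) (Subgroup.inclusion_injective hU₀U)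
  have h1 : Monoid.exponent U = Nat.card U := IsCyclic.exponent_eq_card
  have h2 : Monoid.exponent U₀ = Nat.card U₀ := IsCyclic.exponent_eq_card
  have h3 : Nat.card U ≤ Nat.card U₀ := by rw [← h1, ← h2, hexp]
  have h4 : U₀ = U := Subgroup.eq_of_le_of_card_ge hU₀U h3
  intro u hu
  exact hfpf₀ u (h4 ▸ hu)

/-- `frobT` with the commutativity of `U` given as `IsMulCommutative U`. -/
theorem frobT' [Finite G] (H U U₀ H₀ : Subgroup G) (hUab : IsMulCommutative U)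
    (hUH : U ≤ Subgroup.normalizer (H : Set G))
    (hUH₀ : U ≤ Subgroup.normalizer (H₀ : Set G))
    (hH₀H : H₀ < H)
    (hHH₀ : H ≤ Subgroup.normalizer (H₀ : Set G))
    (hcop : (Nat.card U).Coprime (Nat.card H))
    (hU₀U : U₀ ≤ U)
    (hexp : Monoid.exponent U₀ = Monoid.exponent U)
    (hfpf₀ : ∀ u ∈ U₀, u ≠ 1 → ∀ h ∈ H, u * h = h * u → h = 1)
    (hsemi : ∀ u ∈ U, u ≠ 1 → ∀ h ∈ H, u * h * u⁻¹ * h⁻¹ ∈ H₀ → h ∈ H₀) :
    IsCyclic U ∧ ∀ u ∈ U, u ≠ 1 → ∀ h ∈ H, u * h = h * u → h = 1 :=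
  frobT H U U₀ H₀
    (fun a ha b hb => congrArg Subtype.val (hUab.1.1 (⟨a, ha⟩ : U) ⟨b, hb⟩))
    hUH hUH₀ hH₀H hHH₀ hcop hU₀U hexp hfpf₀ hsemi

end Cfsg.Agent.Lib.Helper23.PFTenFrobT
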