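import Mathlib
import Cfsg.Agent.Lib.Helper60.PFTenTDefs
import Cfsg.Agent.Lib.Helper51.PFCycCalS
import Cfsg.Agent.Lib.Helper16.PFNineTen
import Cfsg.Agent.Lib.Helper26.PFBookC
import Cfsg.Agent.Lib.Helper23.PFTenFrobT

/-!
# Peterfalvi section 10, T-side: `V` acts fixed-point-freely on `Q = T_F` (helper23)

Module `PFTenT-[TS-C2-FROB]` of helper60's T-side batch 2.

`T'` is of Frobenius type with kernel `Q = T_F`; its complement `Ũ` (with the subgroup `Ũ₀` of the
same exponent acting fixed-point-freely on `Q`) is conjugate in `T'` to `V`, by Hall's theorem in the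
solvable group `T'` (`S3745`).  Hence `V` has a subgroup `U₀` of the same exponent acting
fixed-point-freely on `Q`, and `PFTenFrobT.frobT'` upgrades a semiregular action of `V` on a
`T`-invariant section `Q / H₀` to a fixed-point-free action of `V` on `Q`.
-/

set_option autoImplicit false

namespace Cfsg.Agent.Lib.Helper23.PFTenT

open Cfsg Cfsg.Agent.Lib.Helper24.PFCyc Cfsg.Agent.Lib.Helper4.PF Cfsg.Agent.Lib.Helper4.PFTen
  Cfsg.Agent.Lib.Helper58.PF9 Cfsg.Agent.Lib.Helper74.PF127 Cfsg.Agent.Lib.Helper60.PFTenT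

universe u

/-- A complement (in the sense of `Subgroup.IsComplement'`) of `fittingHall ↥K` in `↥K`, pushed to `G`,
is a complement of `fittingHallOf K` in `K` in the sense of `IsComplIn`. -/
theorem isComplIn_map_of_isComplement' {G : Type u} [Group G] (K : Subgroup G) {U : Subgroup ↥K}
    (h : Subgroup.IsComplement' (fittingHall ↥K) U) :
    IsComplIn (fittingHallOf K) (U.map K.subtype) K := by
  refine ⟨Subgroup.map_subtype_le _, Subgroup.map_subtype_le _, ?_, ?_⟩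
  · unfold fittingHallOf
    rw [← Subgroup.map_inf _ _ _ K.subtype_injective, h.disjoint.eq_bot, Subgroup.map_bot]
  · intro m hm
    obtain ⟨⟨⟨a, ha⟩, ⟨b, hb⟩⟩, hab⟩ := h.2 ⟨m, hm⟩
    refine ⟨(a : G), ⟨a, ha, rfl⟩, (b : G), ⟨b, hb, rfl⟩, ?_⟩
    have := congrArg Subtype.val hab
    simpa using this.symm

/-- **PFTenT-[TS-C2-FROB]**: if `V` acts semiregularly on the `T`-invariant section `Q / H₀` of
`Q = T_F`, then `V` acts fixed-point-freely on `Q`. -/
theorem V_fpf_of_semiregular {G : Type u} [Group G] [Finite G] (hG : IsMinSimpleOddOrder G)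
    {T W₁ W₂ V : Subgroup G} (tf : TFrame T W₁ W₂ V) (H₀ : Subgroup G)
    (hH₀ : H₀ < fittingHallOf T) (hH₀n : T ≤ Subgroup.normalizer (H₀ : Set G))
    (hsemi : ∀ x ∈ V, x ≠ 1 → ∀ h ∈ fittingHallOf T, x * h * x⁻¹ * h⁻¹ ∈ H₀ → h ∈ H₀) :
    ∀ v ∈ V, v ≠ 1 → ∀ h ∈ fittingHallOf T, v * h = h * v → h = 1 := by
  classical
  have hT'T : ⁅T, T⁆ ≤ T := Subgroup.commutator_le_self T
  have hQT : fittingHallOf T ≤ T := Cfsg.Agent.Lib.Helper26.PFEight.fittingHallOf_le T
  have hVT' : V ≤ ⁅T, T⁆ := tf.hTP.U_compl.2.1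
  obtain ⟨hsolv, -, -, -, Ut, -, hcompl, -, U0t, hU0le, hexp, hfpf⟩ := tf.hF
  -- the complement of `Q` in `T'` given by the Frobenius type, as a subgroup of `G`
  have hC : IsComplIn (fittingHallOf T) (Ut.map (⁅T, T⁆).subtype) ⁅T, T⁆ := by
    have := isComplIn_map_of_isComplement' ⁅T, T⁆ hcompl
    rwa [tf.hFH] at this
  have hCV : IsComplIn (fittingHallOf T) V ⁅T, T⁆ := tf.hTP.U_compl
  have hcop : (Nat.card ↥(fittingHallOf T)).Coprime (Nat.card ↥V) :=
    (Cfsg.Agent.Lib.Helper23.typeP_coprime tf.hTP).1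
  have hcard : Nat.card ↥(Ut.map (⁅T, T⁆).subtype) = Nat.card ↥V := by
    have h1 := Cfsg.Agent.Lib.Helper23.card_of_isComplIn hC
    have h2 := Cfsg.Agent.Lib.Helper23.card_of_isComplIn hCV
    have hpos : 0 < Nat.card ↥(fittingHallOf T) := Nat.card_pos
    rw [h1] at h2
    exact Nat.eq_of_mul_eq_mul_left hpos h2
  -- both are Hall subgroups of `T'` for the primes dividing `|V|`
  let π : Set ℕ := {p | p ∣ Nat.card ↥V}
  have hV : IsPiHallOf π V ⁅T, T⁆ := by
    refine ⟨hVT', fun p _ hp => hp, fun p hp hpπ hdvd => ?_⟩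
    rw [Cfsg.Agent.Lib.Helper26.PFEight.relIndex_of_isComplIn hCV] at hdvd
    exact hp.one_lt.ne' (Nat.eq_one_of_dvd_coprimes hcop hdvd hpπ)
  have hU : IsPiHallOf π (Ut.map (⁅T, T⁆).subtype) ⁅T, T⁆ := by
    refine ⟨hC.2.1, fun p _ hp => ?_, fun p hp hpπ hdvd => ?_⟩
    · show p ∣ Nat.card ↥V
      rw [← hcard]; exact hp
    · rw [Cfsg.Agent.Lib.Helper26.PFEight.relIndex_of_isComplIn hC] at hdvd
      exact hp.one_lt.ne' (Nat.eq_one_of_dvd_coprimes hcop hdvd hpπ)
  have h := Cfsg.Agent.S3745.result (⊥ : Subgroup G) ⁅T, T⁆ bot_le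
    (by rw [Subgroup.card_bot]; exact Nat.coprime_one_left _) hsolv π
  obtain ⟨c, hc, hcV⟩ := h.2.1 (Ut.map (⁅T, T⁆).subtype) V hU bot_le hV bot_le
  have hcT' : c ∈ ⁅T, T⁆ := hc.1
  have hcT : c ∈ T := hT'T hcT'
  -- the conjugated Frobenius complement `U₀ ≤ V`
  set φ : G →* G := (MulAut.conj c).toMonoidHom with hφ
  have hφinj : Function.Injective φ := (MulAut.conj c).injective
  set ι : ↥⁅T, T⁆ →* G := φ.comp (⁅T, T⁆).subtype with hι
  have hιinj : Function.Injective ι := hφinj.comp (⁅T, T⁆).subtype_injective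
  have hVmap : V = Ut.map ι := by
    rw [hcV, hι, ← Subgroup.map_map]
  have hU₀V : U0t.map ι ≤ V := by
    rw [hVmap]; exact Subgroup.map_mono hU0le
  have hexp' : Monoid.exponent ↥(U0t.map ι) = Monoid.exponent ↥V := by
    have e1 : Monoid.exponent ↥(U0t.map ι) = Monoid.exponent ↥U0t :=
      (Monoid.exponent_eq_of_mulEquiv (U0t.equivMapOfInjective ι hιinj)).symm
    have e2 : Monoid.exponent ↥(Ut.map ι) = Monoid.exponent ↥Ut :=
      (Monoid.exponent_eq_of_mulEquiv (Ut.equivMapOfInjective ι hιinj)).symm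
    have e3 : Monoid.exponent ↥V = Monoid.exponent ↥(Ut.map ι) := by
      rw [← hVmap]
    rw [e1, e3, e2, hexp]
  have hfpf' : ∀ u ∈ U0t.map ι, u ≠ 1 → ∀ x ∈ fittingHallOf T, u * x = x * u → x = 1 := by
    rintro u ⟨u', hu', rfl⟩ hu1 x hx hux
    -- `c⁻¹ x c ∈ Q`
    have hx' : c⁻¹ * x * c ∈ fittingHallOf T := by
      have := Cfsg.Agent.Lib.Helper26.PFEight.conj_mem_fittingHallOf T (T.inv_mem hcT) hx
      simpa using this
    rw [← tf.hFH] at hx'
    obtain ⟨y, hy, hyx⟩ := hx'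
    have hu'1 : u' ≠ 1 := by
      rintro rfl
      exact hu1 (map_one ι)
    have hcomm : u' * y = y * u' := by
      apply Subtype.ext
      have hyx' : (y : G) = c⁻¹ * x * c := hyx
      have hιu : ι u' = c * (u' : G) * c⁻¹ := rfl
      rw [hιu] at hux
      show (u' : G) * (y : G) = (y : G) * (u' : G)
      rw [hyx']
      have e1 : (u' : G) * (c⁻¹ * x * c) = c⁻¹ * (c * (u' : G) * c⁻¹ * x) * c := by group
      have e2 : c⁻¹ * x * c * (u' : G) = c⁻¹ * (x * (c * (u' : G) * c⁻¹)) * c := by group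
      rw [e1, e2, hux]
    have hy1 : y = 1 := hfpf u' hu' hu'1 y hy hcomm
    have hyx' : (y : G) = c⁻¹ * x * c := hyx
    rw [hy1] at hyx'
    have : x = c * (c⁻¹ * x * c) * c⁻¹ := by group
    rw [this, ← hyx']
    simp
  -- apply the abstract Frobenius upgrade
  have hVab : IsMulCommutative ↥V :=
    ⟨⟨fun a b => Subtype.ext (tf.hVab a.1 a.2 b.1 b.2)⟩⟩
  have hVT : V ≤ T := hVT'.trans hT'T
  have hVNQ : V ≤ Subgroup.normalizer (fittingHallOf T : Set G) := by
    intro v hv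
    rw [Subgroup.mem_normalizer_iff]
    intro x
    constructor
    · intro hx
      exact Cfsg.Agent.Lib.Helper26.PFEight.conj_mem_fittingHallOf T (hVT hv) hx
    · intro hx
      have := Cfsg.Agent.Lib.Helper26.PFEight.conj_mem_fittingHallOf T (T.inv_mem (hVT hv)) hx
      have e : v⁻¹ * (v * x * v⁻¹) * v⁻¹⁻¹ = x := by group
      rwa [e] at this
  exact (Cfsg.Agent.Lib.Helper23.PFTenFrobT.frobT' (fittingHallOf T) V (U0t.map ι) H₀ hVab hVNQ
    (hVT.trans hH₀n) hH₀ (hQT.trans hH₀n) hcop.symm hU₀V hexp' hfpf' hsemi).2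

end Cfsg.Agent.Lib.Helper23.PFTenT
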