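-- helper23: modules S2127-[L2-RIGID] and S2127-[L2-SEMI] of helper19's `Out(²G₂(q))` project (S2127):
-- computations in the coordinates `R t u v` of the Sylow 3-subgroup of a small Ree group.
import Mathlib
import Cfsg.Agent.Lib.Helper19.ReeOutDefs

set_option autoImplicit false

namespace Cfsg.Agent.Lib.Helper23.ReeOutL2

open Cfsg.Agent.Lib.Helper19.ReeOut

variable {K : Type*} [Field K] {Γ : Type*} [Group Γ]

theorem R_congr (C : Coord K Γ) {t u v t' u' v' : K} (ht : t = t') (hu : u = u') (hv : v = v') :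
    C.R t u v = C.R t' u' v' := by
  rw [ht, hu, hv]

theorem R_zero (C : Coord K Γ) : C.R 0 0 0 = 1 := by
  have h2 : C.R 0 0 0 * C.R 0 0 0 = C.R 0 0 0 := by
    rw [C.R_mul]
    apply R_congr <;> simp
  exact mul_left_cancel (a := C.R 0 0 0) (by rw [h2, mul_one])

theorem R_split (C : Coord K Γ) (t u v : K) :
    C.R t u v = C.R t 0 0 * C.R 0 u 0 * C.R 0 0 v := by
  rw [C.R_mul, C.R_mul]
  apply R_congr <;> simp

theorem R_split' (C : Coord K Γ) (t u v : K) : C.R t u v = C.R t 0 0 * C.R 0 u v := by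
  rw [C.R_mul]
  apply R_congr <;> simp

theorem three_eq_zero [CharP K 3] : (3 : K) = 0 := by
  have h := CharP.cast_eq_zero K 3
  exact_mod_cast h

theorem R_cube [CharP K 3] (C : Coord K Γ) (t u v : K) :
    (C.R t u v) ^ 3 = C.R 0 0 (-(t ^ 2 * C.σ t)) := by
  have h3 : (3 : K) = 0 := three_eq_zero
  rw [pow_succ, pow_two, C.R_mul, C.R_mul]
  apply R_congr
  · linear_combination t * h3
  · linear_combination (u - t * C.σ t) * h3
  · linear_combination (v - t * u) * h3

theorem sigma_injective (C : Coord K Γ) : Function.Injective C.σ := C.σ.injective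

/-- `N t = t² σ(t)` is onto -/
theorem N_surj (C : Coord K Γ) (v : K) : ∃ t : K, t ^ 2 * C.σ t = v := by
  by_cases hv : v = 0
  · exact ⟨0, by rw [hv]; simp⟩
  · have hσv : C.σ v ≠ 0 := fun h => hv ((map_eq_zero C.σ).mp h)
    refine ⟨v ^ 2 / C.σ v, ?_⟩
    rw [map_div₀, map_pow, C.σσ]
    field_simp

/-- `N t = 0` only for `t = 0` -/
theorem N_eq_zero (C : Coord K Γ) {t : K} (h : t ^ 2 * C.σ t = 0) : t = 0 := by
  rcases mul_eq_zero.mp h with h1 | h1
  · exact pow_eq_zero_iff (two_ne_zero) |>.mp h1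
  · exact (map_eq_zero C.σ).mp h1


theorem neg_one_val : (((-1 : Kˣ) : Kˣ) : K) = -1 := by simp

/-- **MODULE S2127-[L2-RIGID]** -/
theorem rigid [Fintype K] [CharP K 3] (C : Coord K Γ) (α : Γ →* Γ)
    (hU : ∀ t u v, ∃ u' v', α (C.R t u v) = C.R t u' v')
    (hH : ∀ c, ∃ c', α (C.h c) = C.h c') :
    (∀ t u v, α (C.R t u v) = C.R t u v) ∧ ∀ c, α (C.h c) = C.h c := by
  have h3 : (3 : K) = 0 := three_eq_zero
  -- (a) the torus is fixed
  have ha : ∀ c, α (C.h c) = C.h c := by
    intro c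
    obtain ⟨c', hc'⟩ := hH c
    obtain ⟨F, G, hFG⟩ := hU 1 0 0
    have h1 : C.h c * C.R 1 0 0 * (C.h c)⁻¹ = C.R (c : K) 0 0 := by
      rw [C.h_conj]
      apply R_congr <;> simp
    obtain ⟨u', v', huv⟩ := hU (c : K) 0 0
    have h2 := congrArg α h1
    rw [map_mul, map_mul, map_inv, hc', hFG, huv, C.h_conj] at h2
    have h4 := (C.R_inj h2).1
    rw [mul_one] at h4
    rw [hc', Units.ext h4]
  -- (b) the centre is fixed
  have hb : ∀ v, α (C.R 0 0 v) = C.R 0 0 v := by
    intro v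
    obtain ⟨t, ht⟩ := N_surj C (-v)
    have h1 : C.R 0 0 v = (C.R t 0 0) ^ 3 := by rw [R_cube, ht, neg_neg]
    obtain ⟨u', v', huv⟩ := hU t 0 0
    rw [h1, map_pow, huv, R_cube C t u' v', R_cube C t 0 0]
  -- (c) the middle layer is fixed
  have hc : ∀ u, α (C.R 0 u 0) = C.R 0 u 0 := by
    intro u
    obtain ⟨u1, v1, h1⟩ := hU 0 u 0
    obtain ⟨F, G, hFG⟩ := hU 1 0 0
    have hcomm : C.R 1 0 0 * C.R 0 u 0 = C.R 0 u 0 * C.R 1 0 0 * C.R 0 0 u := by
      rw [C.R_mul, C.R_mul, C.R_mul]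
      apply R_congr <;> simp
    have h2 := congrArg α hcomm
    rw [map_mul, map_mul, map_mul, hFG, h1, hb, C.R_mul, C.R_mul, C.R_mul] at h2
    have h4 := (C.R_inj h2).2.2
    rw [map_zero] at h4
    have hu1 : u1 = u := by linear_combination h4
    rw [hu1] at h1
    have h5 : C.h (-1) * C.R 0 u 0 * (C.h (-1))⁻¹ = C.R 0 u 0 := by
      rw [C.h_conj]
      apply R_congr <;> simp
    have h6 := congrArg α h5
    rw [map_mul, map_mul, map_inv, ha, h1, C.h_conj] at h6
    have h7 := (C.R_inj h6).2.2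
    rw [neg_one_val, map_neg, map_one] at h7
    have hv1 : v1 = 0 := by linear_combination h7 + v1 * h3
    rw [hv1] at h1
    exact h1
  have hfix : ∀ a b, α (C.R 0 a b) = C.R 0 a b := by
    intro a b
    have h1 : C.R 0 a b = C.R 0 a 0 * C.R 0 0 b := by
      rw [C.R_mul]
      apply R_congr <;> simp
    rw [h1, map_mul, hc, hb]
  -- (d) the top layer
  have hex : ∀ t, ∃ F G, α (C.R t 0 0) = C.R t F G := fun t => hU t 0 0
  choose F G hFG using hex
  have hadd : ∀ t t', F (t + t') = F t + F t' ∧ G (t + t') = G t + G t' - t' * F t := by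
    intro t t'
    have h1 : C.R t 0 0 * C.R t' 0 0 =
        C.R (t + t') 0 0 * C.R 0 (-(t * C.σ t')) (t * t' * C.σ t' - t ^ 2 * C.σ t') := by
      rw [C.R_mul, C.R_mul]
      apply R_congr
      · ring
      · rw [map_zero]; ring
      · rw [map_zero]; ring
    have h2 := congrArg α h1
    rw [map_mul, map_mul, hFG, hFG, hFG, hfix, C.R_mul, C.R_mul] at h2
    obtain ⟨-, h4, h5⟩ := C.R_inj h2
    rw [map_zero] at h4 h5
    constructor
    · linear_combination -h4
    · linear_combination -h5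
  have htor : ∀ (c : Kˣ) (t : K), F ((c : K) * t) = (c : K) * C.σ c * F t ∧
      G ((c : K) * t) = (c : K) ^ 2 * C.σ c * G t := by
    intro c t
    have h1 : C.h c * C.R t 0 0 * (C.h c)⁻¹ = C.R ((c : K) * t) 0 0 := by
      rw [C.h_conj]
      apply R_congr <;> simp
    have h2 := congrArg α h1
    rw [map_mul, map_mul, map_inv, ha, hFG, hFG, C.h_conj] at h2
    obtain ⟨-, h4, h5⟩ := C.R_inj h2
    exact ⟨h4.symm, h5.symm⟩
  have hF00 : F 0 = 0 := by
    have h1 := (hadd 0 0).1
    rw [add_zero] at h1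
    linear_combination -h1
  have hF : ∀ t, F t = 0 := by
    intro t
    have h1 := (htor (-1) t).1
    rw [neg_one_val, map_neg, map_one] at h1
    have h2 := (hadd t (-1 * t)).1
    have h4 : t + -1 * t = 0 := by ring
    rw [h4, hF00, h1] at h2
    linear_combination h2 + F t * h3
  have hGadd : ∀ t t', G (t + t') = G t + G t' := by
    intro t t'
    have h1 := (hadd t t').2
    rw [hF t, mul_zero, sub_zero] at h1
    exact h1
  have hG00 : G 0 = 0 := by
    have h1 := hGadd 0 0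
    rw [add_zero] at h1
    linear_combination -h1
  have hG1 : G 1 = 0 := by
    obtain ⟨x, hx⟩ := C.σ_ne
    have hx0 : x ≠ 0 := by
      rintro rfl
      exact hx (map_zero _)
    have hx1 : x ≠ 1 := by
      rintro rfl
      exact hx (map_one _)
    have hxm : x + 1 ≠ 0 := by
      intro h0
      have : x = -1 := by linear_combination h0
      rw [this] at hx
      exact hx (by rw [map_neg, map_one])
    have e1 := (htor (Units.mk0 x hx0) 1).2
    have e2 := (htor (Units.mk0 (x + 1) hxm) 1).2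
    rw [Units.val_mk0, mul_one] at e1 e2
    have e3 := hGadd x 1
    rw [e1, e2, map_add, map_one] at e3
    have h5 : (x - 1) * (x - C.σ x) * G 1 = 0 := by
      linear_combination e3 - (x * C.σ x + x) * G 1 * h3
    rcases mul_eq_zero.mp h5 with h6 | h6
    · rcases mul_eq_zero.mp h6 with h7 | h7
      · exact absurd (sub_eq_zero.mp h7) hx1
      · exact absurd (sub_eq_zero.mp h7).symm hx
    · exact h6
  have hG : ∀ t, G t = 0 := by
    intro t
    by_cases ht : t = 0
    · rw [ht, hG00]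
    · have e1 := (htor (Units.mk0 t ht) 1).2
      rw [Units.val_mk0, mul_one, hG1, mul_zero] at e1
      exact e1
  refine ⟨?_, ha⟩
  intro t u v
  rw [R_split C t u v, map_mul, map_mul, hFG, hF, hG, hc, hb]


/-- **MODULE S2127-[L2-SEMI]** -/
theorem exists_semilinear [Fintype K] [CharP K 3] (C : Coord K Γ) (α : Γ →* Γ)
    (hinj : Function.Injective α)
    (hU : ∀ t u v, ∃ t' u' v', α (C.R t u v) = C.R t' u' v')
    (hH : ∀ c, ∃ c', α (C.h c) = C.h c') :
    ∃ (a : K) (φ : K ≃+* K), a ≠ 0 ∧ ∀ t u v, ∃ u' v', α (C.R t u v) = C.R (a * φ t) u' v' := by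
  choose T Uc Vc hTUV using hU
  choose κ hκ using hH
  -- elements of order dividing 3 have `t`-coordinate `0`
  have hcube0 : ∀ t u v, (C.R t u v) ^ 3 = 1 → t = 0 := by
    intro t u v h1
    rw [R_cube, ← R_zero C] at h1
    have h2 := (C.R_inj h1).2.2
    exact N_eq_zero C (neg_eq_zero.mp h2)
  have hT0 : ∀ u v, T 0 u v = 0 := by
    intro u v
    apply hcube0 (T 0 u v) (Uc 0 u v) (Vc 0 u v)
    rw [← hTUV, ← map_pow, R_cube]
    have h1 : C.R 0 0 (-((0 : K) ^ 2 * C.σ 0)) = 1 := by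
      rw [← R_zero C]
      apply R_congr <;> simp
    rw [h1, map_one]
  have hTA : ∀ t u v, T t u v = T t 0 0 := by
    intro t u v
    have h1 := congrArg α (R_split' C t u v)
    rw [map_mul, hTUV, hTUV t 0 0, hTUV 0 u v, C.R_mul] at h1
    have h2 := (C.R_inj h1).1
    rw [hT0, add_zero] at h2
    exact h2
  have hAadd : ∀ t t', T (t + t') 0 0 = T t 0 0 + T t' 0 0 := by
    intro t t'
    have h1 := congrArg α (C.R_mul t 0 0 t' 0 0)
    rw [map_mul, hTUV, hTUV, hTUV, C.R_mul] at h1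
    have h2 := (C.R_inj h1).1
    rw [h2]
    exact (hTA _ _ _).symm
  have hA0 : T 0 0 0 = 0 := hT0 0 0
  have hAinj : ∀ t, T t 0 0 = 0 → t = 0 := by
    intro t ht
    have h1 : (α (C.R t 0 0)) ^ 3 = 1 := by
      rw [hTUV, ht, R_cube]
      rw [← R_zero C]
      apply R_congr <;> simp
    rw [← map_pow, ← map_one α] at h1
    exact hcube0 t 0 0 (hinj h1)
  have hAtor : ∀ (c : Kˣ) (t : K), T ((c : K) * t) 0 0 = ((κ c : Kˣ) : K) * T t 0 0 := by
    intro c t
    have h1 : C.h c * C.R t 0 0 * (C.h c)⁻¹ = C.R ((c : K) * t) 0 0 := by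
      rw [C.h_conj]
      apply R_congr <;> simp
    have h2 := congrArg α h1
    rw [map_mul, map_mul, map_inv, hκ, hTUV, hTUV, C.h_conj] at h2
    exact (C.R_inj h2).1.symm
  set a : K := T 1 0 0 with ha
  have ha0 : a ≠ 0 := fun h0 => one_ne_zero (hAinj 1 h0)
  have hκa : ∀ c : Kˣ, T (c : K) 0 0 = ((κ c : Kˣ) : K) * a := by
    intro c
    have h1 := hAtor c 1
    rw [mul_one] at h1
    exact h1
  have hAmul : ∀ x y : K, T (x * y) 0 0 = T x 0 0 * T y 0 0 / a := by
    intro x y
    by_cases hx : x = 0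
    · rw [hx, zero_mul, hA0, zero_mul, zero_div]
    · have h1 := hAtor (Units.mk0 x hx) y
      have h2 := hκa (Units.mk0 x hx)
      rw [Units.val_mk0] at h1 h2
      rw [h1, h2]
      field_simp
  let φ₀ : K →+* K :=
    { toFun := fun x => T x 0 0 / a
      map_one' := div_self ha0
      map_mul' := by
        intro x y
        show T (x * y) 0 0 / a = T x 0 0 / a * (T y 0 0 / a)
        rw [hAmul]
        field_simp
      map_zero' := by
        show T 0 0 0 / a = 0
        rw [hA0, zero_div]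
      map_add' := by
        intro x y
        show T (x + y) 0 0 / a = T x 0 0 / a + T y 0 0 / a
        rw [hAadd, add_div] }
  have hφinj : Function.Injective φ₀ := φ₀.injective
  have hφbij : Function.Bijective φ₀ := ⟨hφinj, Finite.injective_iff_surjective.mp hφinj⟩
  refine ⟨a, RingEquiv.ofBijective φ₀ hφbij, ha0, ?_⟩
  intro t u v
  refine ⟨Uc t u v, Vc t u v, ?_⟩
  rw [hTUV t u v]
  apply R_congr _ _ rfl rfl
  show T t u v = a * (T t 0 0 / a)
  rw [hTA t u v]
  field_simp

end Cfsg.Agent.Lib.Helper23.ReeOutL2
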