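/-
helper23: module SAF-[COUNT2] of helper2's sheet (S4025): counting two-dimensional subspaces.
-/
import Mathlib
import Cfsg.Prelude.Def_Transfer
import Cfsg.Prelude.Def_CaseTheorems
import Cfsg.Prelude.Def_Perm
import Cfsg.Agent.Lib.Helper2.SafDefs

set_option autoImplicit false
set_option linter.unusedSectionVars false

namespace Cfsg.Agent.Lib.Helper23.SafCount2

open Cfsg Cfsg.Agent.Lib.Helper2.Saf

universe u

section Lin

variable {p : ℕ} [Fact p.Prime] {W : Type u} [AddCommGroup W] [Module (ZMod p) W] [Finite W]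

/-- the cardinality of a subspace -/
theorem card_sub (U : Submodule (ZMod p) W) :
    Nat.card U = p ^ Module.finrank (ZMod p) U := by
  rw [Module.natCard_eq_pow_finrank (K := ZMod p) (V := U), Nat.card_zmod]

theorem card_sub_eq_sq_iff (U : Submodule (ZMod p) W) :
    Nat.card U = p ^ 2 ↔ Module.finrank (ZMod p) U = 2 := by
  have hp : p.Prime := Fact.out
  rw [card_sub]
  constructor
  · intro h
    exact Nat.pow_right_injective hp.two_le h
  · intro h
    rw [h]

theorem card_span_singleton {v : W} (hv : v ≠ 0) :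
    Nat.card (Submodule.span (ZMod p) {v}) = p := by
  have e := LinearEquiv.toSpanNonzeroSingleton (ZMod p) W v hv
  rw [← Nat.card_congr e.toEquiv, Nat.card_zmod]

open Classical in
/-- the independent ordered pairs inside a subspace -/
noncomputable def pairsIn [Fintype W] (U : Submodule (ZMod p) W) : Finset (W × W) :=
  ((Finset.univ.filter (fun v : W => v ∈ U)) ×ˢ (Finset.univ.filter (fun v : W => v ∈ U))).filter
    (fun x => x.1 ≠ 0 ∧ x.2 ∉ Submodule.span (ZMod p) {x.1})

open Classical in
theorem card_filter_mem [Fintype W] (U : Submodule (ZMod p) W) :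
    (Finset.univ.filter (fun v : W => v ∈ U)).card = Nat.card U := by
  rw [Nat.card_eq_fintype_card, Fintype.card_subtype]

open Classical in
theorem card_pairsIn [Fintype W] (U : Submodule (ZMod p) W) :
    (pairsIn U).card = (Nat.card U - 1) * (Nat.card U - p) := by
  unfold pairsIn
  rw [Finset.card_filter, Finset.sum_product]
  have hinner : ∀ v ∈ Finset.univ.filter (fun v : W => v ∈ U),
      (∑ w ∈ Finset.univ.filter (fun v : W => v ∈ U),
        if (v ≠ 0 ∧ w ∉ Submodule.span (ZMod p) {v}) then 1 else 0)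
      = if v ≠ 0 then (Nat.card U - p) else 0 := by
    intro v hv
    have hvU : v ∈ U := (Finset.mem_filter.mp hv).2
    by_cases hv0 : v = 0
    · simp [hv0]
    · rw [if_pos hv0, ← Finset.card_filter]
      have hsub : Submodule.span (ZMod p) {v} ≤ U := by
        rw [Submodule.span_le]
        intro x hx
        rw [Set.mem_singleton_iff] at hx
        rw [hx]
        exact hvU
      have h1 : (Finset.univ.filter (fun v : W => v ∈ U)).filter
          (fun w => v ≠ 0 ∧ w ∉ Submodule.span (ZMod p) {v})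
          = (Finset.univ.filter (fun v : W => v ∈ U)) \
            (Finset.univ.filter (fun w : W => w ∈ Submodule.span (ZMod p) {v})) := by
        ext w
        simp only [Finset.mem_filter, Finset.mem_univ, true_and, Finset.mem_sdiff]
        tauto
      rw [h1, Finset.card_sdiff_of_subset, card_filter_mem, card_filter_mem,
        card_span_singleton hv0]
      intro w hw
      rw [Finset.mem_filter] at hw ⊢
      exact ⟨hw.1, hsub hw.2⟩
  rw [Finset.sum_congr rfl hinner, ← Finset.sum_filter, Finset.sum_const, smul_eq_mul]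
  congr 1
  have h0 : (0 : W) ∈ Finset.univ.filter (fun v : W => v ∈ U) := by
    rw [Finset.mem_filter]
    exact ⟨Finset.mem_univ _, U.zero_mem⟩
  rw [Finset.filter_ne', Finset.card_erase_of_mem h0, card_filter_mem]

theorem finrank_span_pair {v w : W} (hv : v ≠ 0) (hw : w ∉ Submodule.span (ZMod p) {v}) :
    Module.finrank (ZMod p) (Submodule.span (ZMod p) {v, w}) = 2 := by
  have hli : LinearIndependent (ZMod p) ![v, w] := by
    rw [LinearIndependent.pair_iff' hv]
    intro a ha
    apply hw
    rw [Submodule.mem_span_singleton]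
    exact ⟨a, ha⟩
  have := finrank_span_eq_card hli
  rw [Matrix.range_cons_cons_empty] at this
  simpa using this

open Classical in
/-- the number of two-dimensional subspaces -/
theorem card_planes_mul [Fintype W] [Fintype (Submodule (ZMod p) W)] :
    (Finset.univ.filter (fun U : Submodule (ZMod p) W => Module.finrank (ZMod p) U = 2)).card *
      ((p ^ 2 - 1) * (p ^ 2 - p)) = (Nat.card W - 1) * (Nat.card W - p) := by
  have htop : (pairsIn (⊤ : Submodule (ZMod p) W)).card = (Nat.card W - 1) * (Nat.card W - p) := by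
    rw [card_pairsIn]
    have : Nat.card (⊤ : Submodule (ZMod p) W) = Nat.card W :=
      Nat.card_congr (Submodule.topEquiv (R := ZMod p) (M := W)).toEquiv
    rw [this]
  rw [← htop]
  have hmaps : ((pairsIn (⊤ : Submodule (ZMod p) W) : Finset (W × W)) : Set (W × W)).MapsTo
      (fun x => Submodule.span (ZMod p) {x.1, x.2})
      (Finset.univ.filter (fun U : Submodule (ZMod p) W => Module.finrank (ZMod p) U = 2)) := by
    intro x hx
    have hx' := (Finset.mem_filter.mp (Finset.mem_coe.mp hx)).2
    rw [Finset.mem_coe, Finset.mem_filter]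
    exact ⟨Finset.mem_univ _, finrank_span_pair hx'.1 hx'.2⟩
  rw [Finset.card_eq_sum_card_fiberwise hmaps]
  have hfib : ∀ U ∈ Finset.univ.filter
      (fun U : Submodule (ZMod p) W => Module.finrank (ZMod p) U = 2),
      ((pairsIn (⊤ : Submodule (ZMod p) W)).filter
        (fun x => Submodule.span (ZMod p) {x.1, x.2} = U)).card = (p ^ 2 - 1) * (p ^ 2 - p) := by
    intro U hU
    have hU2 : Module.finrank (ZMod p) U = 2 := (Finset.mem_filter.mp hU).2
    have hcardU : Nat.card U = p ^ 2 := (card_sub_eq_sq_iff U).mpr hU2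
    have : (pairsIn (⊤ : Submodule (ZMod p) W)).filter
        (fun x => Submodule.span (ZMod p) {x.1, x.2} = U) = pairsIn U := by
      ext x
      unfold pairsIn
      simp only [Finset.mem_filter, Finset.mem_product, Finset.mem_univ, true_and,
        Submodule.mem_top]
      constructor
      · rintro ⟨⟨h1, h2⟩, h3⟩
        refine ⟨⟨?_, ?_⟩, h1, h2⟩
        · rw [← h3]
          exact Submodule.subset_span (Set.mem_insert _ _)
        · rw [← h3]
          exact Submodule.subset_span (Set.mem_insert_of_mem _ rfl)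
      · rintro ⟨⟨h1, h2⟩, h3, h4⟩
        refine ⟨⟨h3, h4⟩, ?_⟩
        apply Submodule.eq_of_le_of_finrank_eq
        · rw [Submodule.span_le]
          intro y hy
          rcases hy with rfl | hy
          · exact h1
          · rw [Set.mem_singleton_iff] at hy
            rw [hy]
            exact h2
        · rw [finrank_span_pair h3 h4, hU2]
    rw [this, card_pairsIn, hcardU]
  rw [Finset.sum_congr rfl hfib, Finset.sum_const, smul_eq_mul]

/-- the action of a group of linear automorphisms on the subspaces -/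
@[instance_reducible]
noncomputable def subAct (H : Subgroup (W ≃ₗ[ZMod p] W)) :
    MulAction ↥H (Submodule (ZMod p) W) where
  smul h U := U.map ((h : W ≃ₗ[ZMod p] W).toLinearMap)
  one_smul U := by
    show U.map (((1 : ↥H) : W ≃ₗ[ZMod p] W).toLinearMap) = U
    ext x
    simp
  mul_smul h₁ h₂ U := by
    show U.map (((h₁ * h₂ : ↥H) : W ≃ₗ[ZMod p] W).toLinearMap) =
      (U.map ((h₂ : W ≃ₗ[ZMod p] W).toLinearMap)).map ((h₁ : W ≃ₗ[ZMod p] W).toLinearMap)
    rw [← Submodule.map_comp]
    rfl

theorem subAct_smul (H : Subgroup (W ≃ₗ[ZMod p] W)) (h : ↥H) (U : Submodule (ZMod p) W) :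
    (subAct H).smul h U = U.map ((h : W ≃ₗ[ZMod p] W).toLinearMap) := rfl

theorem scal_injective (hW : Nontrivial W) : Function.Injective (scal p W) := by
  intro c c' h
  obtain ⟨w, hw⟩ := exists_ne (0 : W)
  have h1 : scal p W c w = scal p W c' w := by rw [h]
  rw [scal_apply, scal_apply] at h1
  have h2 : ((c : ZMod p) - (c' : ZMod p)) • w = 0 := by rw [sub_smul, h1, sub_self]
  rcases smul_eq_zero.mp h2 with h3 | h3
  · exact Units.ext (sub_eq_zero.mp h3)
  · exact absurd h3 hw

theorem map_scal (c : (ZMod p)ˣ) (U : Submodule (ZMod p) W) :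
    U.map ((scal p W c : W ≃ₗ[ZMod p] W).toLinearMap) = U := by
  ext x
  rw [Submodule.mem_map]
  constructor
  · rintro ⟨y, hy, rfl⟩
    change scal p W c y ∈ U
    rw [scal_apply]
    exact U.smul_mem _ hy
  · intro hx
    refine ⟨((c⁻¹ : (ZMod p)ˣ) : ZMod p) • x, U.smul_mem _ hx, ?_⟩
    change scal p W c _ = x
    rw [scal_apply, smul_smul, ← Units.val_mul, mul_inv_cancel, Units.val_one, one_smul]

/-- **SAF-[COUNT2]** -/
theorem card_two_subspaces_dvd (H : Subgroup (W ≃ₗ[ZMod p] W)) [Finite H]
    (n : ℕ) (hn : 2 ≤ n) (hW : Nat.card W = p ^ n)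
    (hscal : ∀ c : (ZMod p)ˣ, scal p W c ∈ H)
    (htr2 : ∀ U₁ U₂ : Submodule (ZMod p) W, Nat.card U₁ = p ^ 2 → Nat.card U₂ = p ^ 2 →
      ∃ h ∈ H, U₂ = U₁.map (h : W ≃ₗ[ZMod p] W).toLinearMap) :
    (p ^ n - 1) * (p ^ (n - 1) - 1) ∣ Nat.card H * (p ^ 2 - 1) := by
  classical
  have hpr : p.Prime := Fact.out
  have hp2 : 2 ≤ p := hpr.two_le
  let _ : Fintype W := Fintype.ofFinite W
  let _ : Fintype (Submodule (ZMod p) W) := Fintype.ofFinite _
  set S2 : Finset (Submodule (ZMod p) W) :=
    Finset.univ.filter (fun U : Submodule (ZMod p) W => Module.finrank (ZMod p) U = 2) with hS2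
  have hcount : S2.card * ((p ^ 2 - 1) * (p ^ 2 - p)) = (Nat.card W - 1) * (Nat.card W - p) :=
    card_planes_mul (p := p) (W := W)
  rw [hW] at hcount
  have hpn2 : p ^ 2 ≤ p ^ n := Nat.pow_le_pow_right (by omega) hn
  have hpp : p < p ^ 2 := by nlinarith
  -- `S2` is nonempty
  have hS2pos : 0 < S2.card := by
    rcases Nat.eq_zero_or_pos S2.card with h | h
    · exfalso
      rw [h, zero_mul] at hcount
      have h1 : 0 < p ^ n - 1 := by omega
      have h2 : 0 < p ^ n - p := by omega
      have := Nat.mul_pos h1 h2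
      omega
    · exact h
  obtain ⟨U₀, hU₀⟩ := Finset.card_pos.mp hS2pos
  have hU₀2 : Module.finrank (ZMod p) U₀ = 2 := (Finset.mem_filter.mp hU₀).2
  let _ := subAct H
  -- the orbit of `U₀`
  have horb : MulAction.orbit ↥H U₀ = (S2 : Set (Submodule (ZMod p) W)) := by
    ext U
    rw [Finset.mem_coe, hS2, Finset.mem_filter]
    constructor
    · rintro ⟨h, rfl⟩
      refine ⟨Finset.mem_univ _, ?_⟩
      change Module.finrank (ZMod p) (U₀.map ((h : W ≃ₗ[ZMod p] W).toLinearMap)) = 2
      rw [LinearEquiv.finrank_map_eq, hU₀2]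
    · rintro ⟨-, hU⟩
      obtain ⟨h, hh, hUh⟩ := htr2 U₀ U ((card_sub_eq_sq_iff U₀).mpr hU₀2)
        ((card_sub_eq_sq_iff U).mpr hU)
      exact ⟨⟨h, hh⟩, hUh.symm⟩
  have hidx : (MulAction.stabilizer ↥H U₀).index = S2.card := by
    rw [MulAction.index_stabilizer, horb, Set.ncard_coe_finset]
  -- the scalars lie in the stabilizer
  have hWnt : Nontrivial W := by
    have h1 : 1 < Nat.card W := by rw [hW]; omega
    rw [Nat.card_eq_fintype_card] at h1
    exact Fintype.one_lt_card_iff_nontrivial.mp h1
  have hle : (scal p W).range ≤ H := by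
    rintro h ⟨c, rfl⟩
    exact hscal c
  let Z : Subgroup ↥H := ((scal p W).range).subgroupOf H
  have hZcard : Nat.card Z = p - 1 := by
    have h1 : Nat.card Z = Nat.card (scal p W).range :=
      Nat.card_congr (Subgroup.subgroupOfEquivOfLe hle).toEquiv
    have h2 : Nat.card (scal p W).range = Nat.card (ZMod p)ˣ :=
      Nat.card_congr (MonoidHom.ofInjective (scal_injective hWnt)).toEquiv.symm
    rw [h1, h2, Nat.card_eq_fintype_card, ZMod.card_units]
  have hZle : Z ≤ MulAction.stabilizer ↥H U₀ := by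
    intro z hz
    rw [MulAction.mem_stabilizer_iff]
    obtain ⟨c, hc⟩ := Subgroup.mem_subgroupOf.mp hz
    change U₀.map ((z : W ≃ₗ[ZMod p] W).toLinearMap) = U₀
    rw [← hc]
    exact map_scal c U₀
  have hdvd1 : (p - 1) ∣ Nat.card (MulAction.stabilizer ↥H U₀) := by
    rw [← hZcard]
    exact Subgroup.card_dvd_of_le hZle
  have hH : Nat.card (MulAction.stabilizer ↥H U₀) * S2.card = Nat.card H := by
    rw [← hidx]
    exact Subgroup.card_mul_index _
  -- arithmetic
  obtain ⟨t, ht⟩ := hdvd1
  have e1 : p ^ n - p = p * (p ^ (n - 1) - 1) := by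
    rw [Nat.mul_sub, mul_one, ← pow_succ']
    congr 2
    omega
  have e2 : p ^ 2 - p = p * (p - 1) := by
    rw [Nat.mul_sub, mul_one, pow_two]
  rw [e1, e2] at hcount
  have hmain : S2.card * ((p ^ 2 - 1) * (p - 1)) = (p ^ n - 1) * (p ^ (n - 1) - 1) := by
    apply Nat.eq_of_mul_eq_mul_left (show 0 < p by omega)
    calc p * (S2.card * ((p ^ 2 - 1) * (p - 1)))
        = S2.card * ((p ^ 2 - 1) * (p * (p - 1))) := by ring
      _ = (p ^ n - 1) * (p * (p ^ (n - 1) - 1)) := hcount
      _ = p * ((p ^ n - 1) * (p ^ (n - 1) - 1)) := by ring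
  refine ⟨t, ?_⟩
  rw [← hH, ht, ← hmain]
  ring

end Lin

end Cfsg.Agent.Lib.Helper23.SafCount2
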