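/-
helper23: module SAF-[TILDE] of helper2's sheet (S4025): the group `tilde ρ = ρ(A) · scalars`.
-/
import Mathlib
import Cfsg.Prelude.Def_Transfer
import Cfsg.Prelude.Def_CaseTheorems
import Cfsg.Prelude.Def_Perm
import Cfsg.Agent.Lib.Helper2.SafDefs

set_option autoImplicit false
set_option linter.unusedSectionVars false

namespace Cfsg.Agent.Lib.Helper23.SafTilde

open Cfsg Cfsg.Agent.Lib.Helper2.Saf

universe u

section Lin

variable {p : ℕ} [Fact p.Prime] {W : Type u} [AddCommGroup W] [Module (ZMod p) W] [Finite W]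
  {A : Type u} [Group A] [Finite A]

omit [Finite W] in
theorem scal_comm (c : (ZMod p)ˣ) (h : W ≃ₗ[ZMod p] W) : scal p W c * h = h * scal p W c := by
  ext w
  simp [LinearEquiv.mul_apply]

/-- `(a, c) ↦ ρ a * scal c` as a homomorphism -/
noncomputable def prodHom (ρ : A →* (W ≃ₗ[ZMod p] W)) : A × (ZMod p)ˣ →* (W ≃ₗ[ZMod p] W) where
  toFun x := ρ x.1 * scal p W x.2
  map_one' := by simp
  map_mul' x y := by
    have hc := scal_comm x.2 (ρ y.1)
    simp only [Prod.fst_mul, Prod.snd_mul, map_mul]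
    calc ρ x.1 * ρ y.1 * (scal p W x.2 * scal p W y.2)
        = ρ x.1 * (ρ y.1 * scal p W x.2) * scal p W y.2 := by simp only [mul_assoc]
      _ = ρ x.1 * (scal p W x.2 * ρ y.1) * scal p W y.2 := by rw [hc]
      _ = ρ x.1 * scal p W x.2 * (ρ y.1 * scal p W y.2) := by simp only [mul_assoc]

omit [Finite W] [Finite A] in
theorem prodHom_apply (ρ : A →* (W ≃ₗ[ZMod p] W)) (x : A × (ZMod p)ˣ) (w : W) :
    prodHom ρ x w = (x.2 : ZMod p) • ρ x.1 w := by
  simp [prodHom, LinearEquiv.mul_apply]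

omit [Finite W] [Finite A] in
theorem range_prodHom (ρ : A →* (W ≃ₗ[ZMod p] W)) : (prodHom ρ).range = tilde ρ := by
  apply le_antisymm
  · rintro h ⟨x, rfl⟩
    exact Subgroup.mul_mem _ (range_le_tilde ρ ⟨x.1, rfl⟩) (scal_mem_tilde ρ x.2)
  · apply sup_le
    · rintro h ⟨a, rfl⟩
      exact ⟨(a, 1), by simp [prodHom]⟩
    · rintro h ⟨c, rfl⟩
      exact ⟨(1, c), by simp [prodHom]⟩

/-- **SAF-[TILDE]**, first part -/
theorem mem_tilde_iff (ρ : A →* (W ≃ₗ[ZMod p] W)) (h : W ≃ₗ[ZMod p] W) :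
    h ∈ tilde ρ ↔ ∃ (a : A) (c : (ZMod p)ˣ), ∀ w : W, h w = (c : ZMod p) • ρ a w := by
  rw [← range_prodHom]
  constructor
  · rintro ⟨x, rfl⟩
    exact ⟨x.1, x.2, fun w => prodHom_apply ρ x w⟩
  · rintro ⟨a, c, hac⟩
    refine ⟨(a, c), ?_⟩
    ext w
    rw [prodHom_apply, hac]

omit [Finite W] in
theorem card_span_singleton {v : W} (hv : v ≠ 0) :
    Nat.card (Submodule.span (ZMod p) {v}) = p := by
  have e := LinearEquiv.toSpanNonzeroSingleton (ZMod p) W v hv
  rw [← Nat.card_congr e.toEquiv, Nat.card_zmod]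

/-- **SAF-[TILDE]**, second part -/
theorem tilde_facts (ρ : A →* (W ≃ₗ[ZMod p] W)) (hρ : Function.Injective ρ)
    (hsol : Group.IsSolvable A) (hp : ¬ p ∣ Nat.card A)
    (htr : ∀ U₁ U₂ : Submodule (ZMod p) W, Nat.card U₁ = Nat.card U₂ →
      ∃ a : A, U₂ = U₁.map (ρ a).toLinearMap) :
    Finite (tilde ρ) ∧ Group.IsSolvable (tilde ρ) ∧ ¬ p ∣ Nat.card (tilde ρ) ∧
      Nat.card A ∣ Nat.card (tilde ρ) ∧ (p = 2 → Nat.card (tilde ρ) = Nat.card A) ∧
      (∀ v w : W, v ≠ 0 → w ≠ 0 → ∃ h ∈ tilde ρ, h v = w) ∧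
      (∀ U₁ U₂ : Submodule (ZMod p) W, Nat.card U₁ = Nat.card U₂ →
        ∃ h ∈ tilde ρ, U₂ = U₁.map (h : W ≃ₗ[ZMod p] W).toLinearMap) := by
  have hpr : p.Prime := Fact.out
  have hfin : Finite (tilde ρ) := by
    rw [← range_prodHom]
    exact Finite.of_surjective (prodHom ρ).rangeRestrict (prodHom ρ).rangeRestrict_surjective
  have hcardU : Nat.card (ZMod p)ˣ = p - 1 := by
    rw [Nat.card_eq_fintype_card, ZMod.card_units]
  refine ⟨hfin, ?_, ?_, ?_, ?_, ?_, ?_⟩
  · rw [← range_prodHom]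
    exact Group.isSolvable_of_surjective (prodHom ρ).rangeRestrict_surjective
  · intro hdvd
    have h1 : Nat.card (tilde ρ) ∣ Nat.card (A × (ZMod p)ˣ) := by
      rw [← range_prodHom]
      exact Subgroup.card_range_dvd (prodHom ρ)
    rw [Nat.card_prod, hcardU] at h1
    have h2 := hdvd.trans h1
    rcases (Nat.Prime.dvd_mul hpr).mp h2 with h | h
    · exact hp h
    · have hp1 : 0 < p - 1 := by
        have := hpr.two_le
        omega
      have := Nat.le_of_dvd hp1 h
      omega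
  · have h1 : Nat.card ρ.range = Nat.card A := Nat.card_congr (MonoidHom.ofInjective hρ).toEquiv.symm
    rw [← h1]
    exact Subgroup.card_dvd_of_le (range_le_tilde ρ)
  · intro hp2
    have hsub : Subsingleton (ZMod p)ˣ := by
      have : Nat.card (ZMod p)ˣ = 1 := by rw [hcardU, hp2]
      exact (Nat.card_eq_one_iff_unique.mp this).1
    have hbot : (scal p W).range = ⊥ := by
      rw [eq_bot_iff]
      rintro h ⟨c, rfl⟩
      rw [Subsingleton.elim c 1, map_one]
      exact Subgroup.one_mem _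
    have : tilde ρ = ρ.range := by
      unfold tilde
      rw [hbot, sup_bot_eq]
    rw [this]
    exact Nat.card_congr (MonoidHom.ofInjective hρ).toEquiv.symm
  · intro v w hv hw
    obtain ⟨a, ha⟩ := htr (Submodule.span (ZMod p) {v}) (Submodule.span (ZMod p) {w})
      (by rw [card_span_singleton hv, card_span_singleton hw])
    have hw' : w ∈ Submodule.span (ZMod p) {ρ a v} := by
      have h1 : w ∈ Submodule.span (ZMod p) {w} := Submodule.mem_span_singleton_self w
      rw [ha, Submodule.map_span, Set.image_singleton] at h1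
      exact h1
    obtain ⟨c, hc⟩ := Submodule.mem_span_singleton.mp hw'
    have hc0 : c ≠ 0 := by
      rintro rfl
      rw [zero_smul] at hc
      exact hw hc.symm
    refine ⟨ρ a * scal p W (Units.mk0 c hc0), ?_, ?_⟩
    · exact Subgroup.mul_mem _ (range_le_tilde ρ ⟨a, rfl⟩) (scal_mem_tilde ρ _)
    · rw [LinearEquiv.mul_apply, scal_apply, map_smul, Units.val_mk0]
      exact hc
  · intro U₁ U₂ hU
    obtain ⟨a, ha⟩ := htr U₁ U₂ hU
    exact ⟨ρ a, range_le_tilde ρ ⟨a, rfl⟩, ha⟩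

end Lin

end Cfsg.Agent.Lib.Helper23.SafTilde
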