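/-
helper23: module REED-[D-DIH] of helper20's sheet (S2343): the sum of a class function over the
"dihedral" group `A⟨i⟩`, `i` an involution inverting the odd-order group `A`.
-/
import Mathlib
import Cfsg.Agent.Lib.Helper20.ReeD.Defs

set_option autoImplicit false

namespace Cfsg.Agent.Lib.Helper23.ReeD

open Cfsg.Agent.Lib.Helper20.ReeD

/-- the subgroup `A ∪ A i` for an involution `i` inverting `A` -/
def dihSub {G : Type*} [Group G] (A : Subgroup G) (i : G) (hi : i * i = 1)
    (hinv : ∀ a ∈ A, i * a * i⁻¹ = a⁻¹) : Subgroup G where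
  carrier := {g | g ∈ A ∨ g * i ∈ A}
  one_mem' := Or.inl A.one_mem
  mul_mem' := by
    have hii : i⁻¹ = i := inv_eq_of_mul_eq_one_right hi
    rintro g h (hg | hg) (hh | hh)
    · exact Or.inl (A.mul_mem hg hh)
    · right
      rw [mul_assoc]
      exact A.mul_mem hg hh
    · right
      have e : g * h * i = (g * i) * (i * h * i⁻¹) := by
        have : (g * i) * (i * h * i⁻¹) = g * (i * i) * h * i⁻¹ := by group
        rw [this, hi, mul_one, hii]
      rw [e, hinv h hh]
      exact A.mul_mem hg (A.inv_mem hh)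
    · left
      have e : g * h = (g * i) * (i * (h * i) * i⁻¹) := by
        have : (g * i) * (i * (h * i) * i⁻¹) = g * (i * i) * h := by group
        rw [this, hi, mul_one]
      rw [e, hinv _ hh]
      exact A.mul_mem hg (A.inv_mem hh)
  inv_mem' := by
    have hii : i⁻¹ = i := inv_eq_of_mul_eq_one_right hi
    rintro g (hg | hg)
    · exact Or.inl (A.inv_mem hg)
    · right
      have e : g⁻¹ * i = (i * (g * i) * i⁻¹)⁻¹ := by
        have : (i * (g * i) * i⁻¹)⁻¹ = g⁻¹ * i⁻¹ := by group
        rw [this, hii]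
      rw [e, hinv _ hg, inv_inv]
      exact hg

theorem mem_dihSub {G : Type*} [Group G] (A : Subgroup G) (i : G) (hi : i * i = 1)
    (hinv : ∀ a ∈ A, i * a * i⁻¹ = a⁻¹) (g : G) :
    g ∈ dihSub A i hi hinv ↔ g ∈ A ∨ g * i ∈ A := Iff.rfl

theorem sup_zpowers_eq_dihSub {G : Type*} [Group G] (A : Subgroup G) (i : G) (hi : i * i = 1)
    (hinv : ∀ a ∈ A, i * a * i⁻¹ = a⁻¹) :
    A ⊔ Subgroup.zpowers i = dihSub A i hi hinv := by
  apply le_antisymm
  · apply sup_le
    · intro a ha
      exact Or.inl ha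
    · rw [Subgroup.zpowers_le]
      right
      rw [hi]
      exact A.one_mem
  · rintro g (hg | hg)
    · exact (le_sup_left : A ≤ A ⊔ Subgroup.zpowers i) hg
    · have e : g = (g * i) * i⁻¹ := by group
      rw [e]
      exact Subgroup.mul_mem _ ((le_sup_left : A ≤ A ⊔ Subgroup.zpowers i) hg)
        (Subgroup.inv_mem _ ((le_sup_right : Subgroup.zpowers i ≤ A ⊔ Subgroup.zpowers i)
          (Subgroup.mem_zpowers i)))

/-- **REED-[D-DIH]** -/
theorem dihedral_sum {G : Type*} [Group G] [Finite G] (χ : G → ℂ) (hχ : ∀ g x, χ (g * x * g⁻¹) = χ x)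
    (A : Subgroup G) (hodd : Odd (Nat.card A)) (i : G) (hi : i * i = 1) (hi1 : i ≠ 1)
    (hinv : ∀ a ∈ A, i * a * i⁻¹ = a⁻¹) [Fintype A] [Fintype ↥(A ⊔ Subgroup.zpowers i)] :
    Fintype.card ↥(A ⊔ Subgroup.zpowers i) = 2 * Fintype.card A ∧
      ∑ d : ↥(A ⊔ Subgroup.zpowers i), χ d = ∑ a : A, χ a + (Fintype.card A : ℂ) * χ i := by
  classical
  have hii : i⁻¹ = i := inv_eq_of_mul_eq_one_right hi
  have hD := sup_zpowers_eq_dihSub A i hi hinv
  -- `i ∉ A`
  have hiA : i ∉ A := by
    intro hiA
    have ho : orderOf (⟨i, hiA⟩ : ↥A) = 2 := by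
      apply orderOf_eq_prime
      · apply Subtype.ext
        simp [pow_two, hi]
      · intro h
        exact hi1 (congrArg Subtype.val h)
    have hdvd : 2 ∣ Nat.card ↥A := ho ▸ orderOf_dvd_natCard _
    exact (Nat.not_even_iff_odd.mpr hodd) (even_iff_two_dvd.mpr hdvd)
  -- the bijection `A ⊕ A → A ⊔ ⟨i⟩`
  have hmem1 : ∀ a : ↥A, (a : G) ∈ A ⊔ Subgroup.zpowers i := fun a =>
    (le_sup_left : A ≤ A ⊔ Subgroup.zpowers i) a.2
  have hmem2 : ∀ a : ↥A, (a : G) * i ∈ A ⊔ Subgroup.zpowers i := fun a =>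
    Subgroup.mul_mem _ (hmem1 a)
      ((le_sup_right : Subgroup.zpowers i ≤ A ⊔ Subgroup.zpowers i) (Subgroup.mem_zpowers i))
  let e : ↥A ⊕ ↥A → ↥(A ⊔ Subgroup.zpowers i) := fun x =>
    match x with
    | Sum.inl a => ⟨a.1, hmem1 a⟩
    | Sum.inr a => ⟨a.1 * i, hmem2 a⟩
  have hbij : Function.Bijective e := by
    constructor
    · rintro (a | a) (b | b) hab
      · have := congrArg Subtype.val hab
        change (a : G) = b at this
        rw [Subtype.ext this]
      · exfalso
        have := congrArg Subtype.val hab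
        change (a : G) = (b : G) * i at this
        apply hiA
        have e2 : i = (b : G)⁻¹ * a := by rw [this]; group
        rw [e2]
        exact A.mul_mem (A.inv_mem b.2) a.2
      · exfalso
        have := congrArg Subtype.val hab
        change (a : G) * i = (b : G) at this
        apply hiA
        have e2 : i = (a : G)⁻¹ * b := by rw [← this]; group
        rw [e2]
        exact A.mul_mem (A.inv_mem a.2) b.2
      · have := congrArg Subtype.val hab
        change (a : G) * i = (b : G) * i at this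
        rw [Subtype.ext (mul_right_cancel this)]
    · rintro ⟨d, hd⟩
      have hd' : d ∈ dihSub A i hi hinv := hD ▸ hd
      rcases hd' with h | h
      · exact ⟨Sum.inl ⟨d, h⟩, rfl⟩
      · refine ⟨Sum.inr ⟨d * i, h⟩, ?_⟩
        apply Subtype.ext
        change d * i * i = d
        rw [mul_assoc, hi, mul_one]
  -- `χ (a i) = χ i`
  have hχai : ∀ a : ↥A, χ ((a : G) * i) = χ i := by
    intro a
    obtain ⟨t, ht⟩ := hodd
    set b : ↥A := a ^ (t + 1) with hb
    have hbb : b * b = a := by
      rw [hb, ← pow_add]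
      have : t + 1 + (t + 1) = Nat.card ↥A + 1 := by omega
      rw [this, pow_succ, pow_card_eq_one', one_mul]
    have hbbG : (b : G) * (b : G) = (a : G) := by
      have := congrArg Subtype.val hbb
      simpa using this
    have hconj : (b : G) * i * (b : G)⁻¹ = (a : G) * i := by
      have h1 : i * (b : G)⁻¹ * i⁻¹ = (b : G) := by
        have := hinv ((b : G)⁻¹) (A.inv_mem b.2)
        rw [inv_inv] at this
        exact this
      calc (b : G) * i * (b : G)⁻¹ = (b : G) * (i * (b : G)⁻¹ * i⁻¹) * i := by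
            rw [hii]
            calc (b : G) * i * (b : G)⁻¹ = (b : G) * i * (b : G)⁻¹ * (i * i) := by
                  rw [hi, mul_one]
              _ = (b : G) * (i * (b : G)⁻¹ * i) * i := by group
        _ = (b : G) * (b : G) * i := by rw [h1]
        _ = (a : G) * i := by rw [hbbG]
    rw [← hconj, hχ]
  constructor
  · rw [← Fintype.card_of_bijective hbij, Fintype.card_sum]
    ring
  · rw [← Fintype.sum_bijective e hbij (fun x => χ ((e x : ↥(A ⊔ Subgroup.zpowers i)) : G))
      (fun d => χ (d : G)) (fun x => rfl), Fintype.sum_sum_type]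
    change ∑ a : ↥A, χ (a : G) + ∑ a : ↥A, χ ((a : G) * i) = _
    congr 1
    rw [Finset.sum_congr rfl (fun a _ => hχai a), Finset.sum_const, Finset.card_univ, nsmul_eq_mul]

end Cfsg.Agent.Lib.Helper23.ReeD
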