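/-
helper23: module S2858-[D-B6b] of helper68's sheet `AmalDSHEET2.md` (S2858 case (D), batch 2):
`b = 6`: `Q_{p 1}` normalizes `Sq(E(p 0, p 2, p 4))`.
-/
import Mathlib
import Cfsg.Prelude.Def_Amalgam
import Cfsg.Agent.Lib.Helper12.AmalDefs
import Cfsg.Agent.Lib.Helper68.AmalDDefs
import Cfsg.Agent.Lib.Helper68.AmalDDefs2
import Cfsg.Agent.Lib.Helper68.AmalDOrb
import Cfsg.Agent.Lib.Helper7.AmalCBridge
import Cfsg.Agent.Lib.Helper34.AmalDLAB
import Cfsg.Agent.Lib.Helper54.AmalDSHP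
import Cfsg.Agent.Lib.Helper25.AmalDB6a
import Cfsg.Agent.Lib.Helper23.AmalDNLem

set_option autoImplicit false
set_option linter.unusedVariables false

namespace Cfsg.Agent.Lib.Helper23.AmalDN

open Cfsg Cfsg.Agent.Lib.Helper68.AmalD Cfsg.Agent.Lib.Helper7.AmalC
open Cfsg.Agent.Lib.Helper12.Amal hiding Flat
open Cfsg.Agent.Lib.Helper34.AmalDLAB Cfsg.Agent.Lib.Helper54.AmalDSHP Cfsg.Agent.Lib.Helper25.AmalD

universe u

variable {G : Type u} [Group G] {P₁ P₂ : Subgroup G}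

/-- `D_{g y} = g D_y g⁻¹`, elementwise -/
theorem mem_Dv_smul (hB : Base P₁ P₂) (g v : G) (y : CosetVertex P₁ P₂) :
    v ∈ Dv (g • y) ↔ g⁻¹ * v * g ∈ Dv y := by
  rw [mem_Dv, mem_Dv, hB.smul_Q, mem_map_conj]
  apply and_congr Iff.rfl
  constructor
  · intro h l hl
    have h1 := h (g • l) (hB.smul_adj g y l hl)
    rwa [hB.smul_Q, mem_map_conj] at h1
  · intro h l hl
    have h1 := h (g⁻¹ • l) (Base.smul_inv_adj hB g hl)
    have h2 : v ∈ Qv (g • (g⁻¹ • l)) := by
      rw [hB.smul_Q, mem_map_conj]; exact h1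
    rwa [smul_inv_smul] at h2

/-- `E(g x, g y, g z) = g E(x,y,z) g⁻¹`, elementwise -/
theorem mem_Ev_smul (hB : Base P₁ P₂) (g v : G) (x y z : CosetVertex P₁ P₂) :
    v ∈ Ev (g • x) (g • y) (g • z) ↔ g⁻¹ * v * g ∈ Ev x y z := by
  unfold Ev
  rw [Subgroup.mem_inf, Subgroup.mem_inf, Subgroup.mem_inf, Subgroup.mem_inf,
    mem_Dv_smul hB, mem_Dv_smul hB, mem_Dv_smul hB]

/-- conjugation and `SqOf` -/
theorem conj_mem_SqOf {X X' : Subgroup G} (g : G) (h : ∀ e ∈ X, g * e * g⁻¹ ∈ X') :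
    ∀ d ∈ SqOf X, g * d * g⁻¹ ∈ SqOf X' := by
  have hle : SqOf X ≤ (SqOf X').comap (MulAut.conj g).toMonoidHom := by
    unfold SqOf
    rw [Subgroup.closure_le]
    rintro _ ⟨e, he, rfl⟩
    show (MulAut.conj g).toMonoidHom (e * e) ∈ Subgroup.closure _
    apply Subgroup.subset_closure
    refine ⟨g * e * g⁻¹, h e he, ?_⟩
    simp only [MulEquiv.coe_toMonoidHom, MulAut.conj_apply]
    group
  intro d hd
  have := hle hd
  simpa [MulAut.conj_apply] using this

theorem crit_ne (hB : Base P₁ P₂) {b : ℕ} (K : CB P₁ P₂ b) {p : ℕ → CosetVertex P₁ P₂}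
    (hp : Crit P₁ P₂ b p) {i j : ℕ} (hij : i < j) (hj : j ≤ b) : p i ≠ p j := by
  intro h
  have h1 := crit_dist hB K hp hij.le hj
  rw [h, SimpleGraph.dist_self] at h1
  omega

/-- labels are preserved by elements fixing the vertex -/
theorem cv_conj_of_fix (hB : Base P₁ P₂) (S : FS P₁ P₂) {g : G} {x : CosetVertex P₁ P₂}
    (h : g • x = x) : g * cv x * g⁻¹ = cv x := by
  rw [← cv_smul hB S, h]

/-- two children of `m` (below the flat vertex `y`) with the same label coincide -/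
theorem child_eq_of_cv_eq (hB : Base P₁ P₂) (S : FS P₁ P₂) {y m x x' : CosetVertex P₁ P₂}
    (hf : Flat y) (hm : (cosetGraph P₁ P₂).Adj y m) (hx : (cosetGraph P₁ P₂).Adj m x)
    (hx' : (cosetGraph P₁ P₂).Adj m x') (n1 : x ≠ y) (n2 : x' ≠ y) (h : cv x = cv x') : x = x' := by
  by_contra hne
  have h1 := lab_sib hB S hf hm hx hx' n1 n2 hne
  rw [← h] at h1
  apply cv_ne_one S y
  have : cv x * 1 = cv x * cv y := by rw [mul_one]; exact h1
  exact (mul_left_cancel this).symm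

/-- [D-B6b] `b = 6`: `Q_{p 1}` normalizes `Sq(E(p 0, p 2, p 4))` -/
theorem b_six_norm (hB : Base P₁ P₂) (S : FS P₁ P₂) (K : CB P₁ P₂ 6) (S1 : FS1 P₁ P₂ 6)
    (N1 : N1Prop P₁ P₂ 6) (SH : ShiftProp P₁ P₂ 6)
    (SQ : ∀ p : ℕ → CosetVertex P₁ P₂, Crit P₁ P₂ 6 p → Flat (p 0) →
      SqOf (Ev (p 0) (p 2) (p 4)) = SqOf (Ev (p 2) (p 4) (p 6)))
    {p : ℕ → CosetVertex P₁ P₂} (hp : Crit P₁ P₂ 6 p) (hf : Flat (p 0)) :
    ∀ g ∈ Qv (p 1), ∀ d ∈ SqOf (Ev (p 0) (p 2) (p 4)),
      g * d * g⁻¹ ∈ SqOf (Ev (p 0) (p 2) (p 4)) := by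
  intro g hg
  have a01 : (cosetGraph P₁ P₂).Adj (p 0) (p 1) := hp.1 0 (by norm_num)
  have a12 : (cosetGraph P₁ P₂).Adj (p 1) (p 2) := hp.1 1 (by norm_num)
  have a23 : (cosetGraph P₁ P₂).Adj (p 2) (p 3) := hp.1 2 (by norm_num)
  have a34 : (cosetGraph P₁ P₂).Adj (p 3) (p 4) := hp.1 3 (by norm_num)
  have hf2 : Flat (p 2) := flat_two_steps hB a01 a12 hf
  have hg1 : g • p 1 = p 1 := (Q_fix_of_base hB _ _ a12 g hg).1
  have hg2 : g • p 2 = p 2 := (Q_fix_of_base hB _ _ a12 g hg).2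
  have hg0 : g • p 0 = p 0 := (Q_fix_of_base hB _ _ a01.symm g hg).2
  have n02 : p 0 ≠ p 2 := crit_ne hB K hp (by norm_num) (by norm_num)
  have n24 : p 2 ≠ p 4 := crit_ne hB K hp (by norm_num) (by norm_num)
  have n13 : p 1 ≠ p 3 := crit_ne hB K hp (by norm_num) (by norm_num)
  -- the letter `T` at `p 2`
  have hT : cv (p 1) * cv (p 0) = cv (p 3) * cv (p 4) * cv (p 2) := by
    rcases lab_dich hB S hf2 a12.symm a23 a01.symm a34 n02 n24.symm with h | h
    · exact absurd h.symm (N1 p hp hf).2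
    · exact h
  -- conjugate by `g`
  have hTg : cv (p 1) * cv (p 0) = cv (g • p 3) * cv (g • p 4) * cv (p 2) := by
    have e1 : g * (cv (p 1) * cv (p 0)) * g⁻¹ = cv (p 1) * cv (p 0) := by
      calc g * (cv (p 1) * cv (p 0)) * g⁻¹ = (g * cv (p 1) * g⁻¹) * (g * cv (p 0) * g⁻¹) := by
            group
        _ = cv (p 1) * cv (p 0) := by rw [cv_conj_of_fix hB S hg1, cv_conj_of_fix hB S hg0]
    rw [← e1, hT]
    calc g * (cv (p 3) * cv (p 4) * cv (p 2)) * g⁻¹
        = (g * cv (p 3) * g⁻¹) * (g * cv (p 4) * g⁻¹) * (g * cv (p 2) * g⁻¹) := by group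
      _ = cv (g • p 3) * cv (g • p 4) * cv (p 2) := by
        rw [← cv_smul hB S, ← cv_smul hB S, cv_conj_of_fix hB S hg2]
  -- it is enough to show `Sq E(p0,p2,g p4) = Sq E(p0,p2,p4)`
  suffices hsuff : SqOf (Ev (p 0) (p 2) (g • p 4)) = SqOf (Ev (p 0) (p 2) (p 4)) by
    intro d hd
    rw [← hsuff]
    refine conj_mem_SqOf g ?_ d hd
    intro e he
    have : g * e * g⁻¹ ∈ Ev (g • p 0) (g • p 2) (g • p 4) := by
      rw [mem_Ev_smul hB]
      have e2 : g⁻¹ * (g * e * g⁻¹) * g = e := by group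
      rw [e2]; exact he
    rwa [hg0, hg2] at this
  have adjm : (cosetGraph P₁ P₂).Adj (p 2) (g • p 3) := Base.adj_smul_of_fix hB hg2 a23
  have adjz : (cosetGraph P₁ P₂).Adj (g • p 3) (g • p 4) := hB.smul_adj g _ _ a34
  have nz2 : g • p 4 ≠ p 2 := by
    intro e
    exact n24 (MulAction.injective g (e.trans hg2.symm)).symm
  by_cases h3 : g • p 3 = p 3
  · -- then `g` fixes `p 4`
    rw [h3] at hTg adjz
    have hcv : cv (p 4) = cv (g • p 4) := by
      have := hT.symm.trans hTg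
      exact mul_left_cancel (mul_right_cancel this)
    have : p 4 = g • p 4 :=
      child_eq_of_cv_eq hB S hf2 a23 a34 adjz n24.symm nz2 hcv
    rw [← this]
  · -- `m := g • p 3` is the third neighbour of `p 2`
    have nm1 : g • p 3 ≠ p 1 := by
      intro e
      exact n13 (MulAction.injective g (e.trans hg1.symm)).symm
    -- the paths
    obtain ⟨l', hl', hl'1, -⟩ := cubic_of_base hB (p 0) (p 1) (p 1)
    obtain ⟨w, hw, hw0, hp'⟩ := SH p hp hf l' hl' hl'1
    have hfw : Flat w := flat_two_steps hB hl' hw hf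
    set p' := slideBack w (slideBack l' p) with hp'def
    have p'0 : p' 0 = w := by simp [hp'def, slideBack]
    have p'1 : p' 1 = l' := by simp [hp'def, slideBack]
    have p'2 : p' 2 = p 0 := by simp [hp'def, slideBack]
    have p'3 : p' 3 = p 1 := by simp [hp'def, slideBack]
    have p'4 : p' 4 = p 2 := by simp [hp'def, slideBack]
    have p'6 : p' 6 = p 4 := by simp [hp'def, slideBack]
    obtain ⟨k, hk, hk1, -⟩ := cubic_of_base hB w l' l'
    obtain ⟨v, hv, hvw, hp''⟩ := SH p' hp' (by rw [p'0]; exact hfw) k (by rw [p'0]; exact hk)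
      (by rw [p'1]; exact hk1)
    set p'' := slideBack v (slideBack k p') with hp''def
    have hr := crit_rev hB (by norm_num) K hp''
    set r := rev 6 p'' with hrdef
    have r0 : r 0 = p 2 := by simp [hrdef, rev, hp''def, slideBack, p'4]
    have r1 : r 1 = p 1 := by simp [hrdef, rev, hp''def, slideBack, p'3]
    have r2 : r 2 = p 0 := by simp [hrdef, rev, hp''def, slideBack, p'2]
    have r3 : r 3 = l' := by simp [hrdef, rev, hp''def, slideBack, p'1]
    have r4 : r 4 = w := by simp [hrdef, rev, hp''def, slideBack, p'0]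
    obtain ⟨s, hs, hs2, hq'⟩ := SH r hr (by rw [r0]; exact hf2) (g • p 3)
      (by rw [r0]; exact adjm) (by rw [r1]; exact nm1)
    set q' := slideBack s (slideBack (g • p 3) r) with hq'def
    have hq := crit_rev hB (by norm_num) K hq'
    set q := rev 6 q' with hqdef
    have q0 : q 0 = w := by simp [hqdef, rev, hq'def, slideBack, r4]
    have q2 : q 2 = p 0 := by simp [hqdef, rev, hq'def, slideBack, r2]
    have q3 : q 3 = p 1 := by simp [hqdef, rev, hq'def, slideBack, r1]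
    have q4 : q 4 = p 2 := by simp [hqdef, rev, hq'def, slideBack, r0]
    have q5 : q 5 = g • p 3 := by simp [hqdef, rev, hq'def, slideBack]
    have q6 : q 6 = s := by simp [hqdef, rev, hq'def, slideBack]
    have hfq : Flat (q 0) := by rw [q0]; exact hfw
    -- the letter `T` at `p 2` on `q`
    have hTq : cv (p 1) * cv (p 0) = cv (g • p 3) * cv s * cv (p 2) := by
      rcases lab_dich hB S hf2 a12.symm adjm a01.symm hs n02 hs2 with h | h
      · exfalso
        apply (N1 q hq hfq).1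
        show cv (q (6 - 3)) * cv (q (6 - 4)) = cv (q (6 - 1)) * cv (q 6)
        norm_num
        rw [q3, q2, q5, q6]
        exact h
      · exact h
    have hcv : cv (g • p 4) = cv s := by
      have := hTg.symm.trans hTq
      exact mul_left_cancel (mul_right_cancel this)
    have hsz : g • p 4 = s := child_eq_of_cv_eq hB S hf2 adjm adjz hs nz2 hs2 hcv
    have h1 := SQ p' hp' (by rw [p'0]; exact hfw)
    rw [p'0, p'2, p'4, p'6] at h1
    have h2 := SQ q hq hfq
    rw [q0, q2, q4, q6] at h2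
    rw [hsz, ← h2, h1]

end Cfsg.Agent.Lib.Helper23.AmalDN
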