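/-
helper23: module S2858-[D-B6c] of helper68's sheet `AmalDSHEET2.md` (S2858 case (D), batch 2):
`b = 6` is impossible.
-/
import Mathlib
import Cfsg.Prelude.Def_Amalgam
import Cfsg.Agent.Lib.Helper12.AmalDefs
import Cfsg.Agent.Lib.Helper68.AmalDDefs
import Cfsg.Agent.Lib.Helper68.AmalDDefs2
import Cfsg.Agent.Lib.Helper68.AmalDOrb
import Cfsg.Agent.Lib.Helper7.AmalCBridge
import Cfsg.Agent.Lib.Helper34.AmalDLAB
import Cfsg.Agent.Lib.Helper54.AmalDSHP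
import Cfsg.Agent.Lib.Helper25.AmalDB6a
import Cfsg.Agent.Lib.Helper23.AmalDNLem
import Cfsg.Agent.Lib.Helper23.AmalDB6b

set_option autoImplicit false
set_option linter.unusedVariables false

namespace Cfsg.Agent.Lib.Helper23.AmalDN

open Cfsg Cfsg.Agent.Lib.Helper68.AmalD Cfsg.Agent.Lib.Helper7.AmalC
open Cfsg.Agent.Lib.Helper12.Amal hiding Flat
open Cfsg.Agent.Lib.Helper34.AmalDLAB Cfsg.Agent.Lib.Helper54.AmalDSHP Cfsg.Agent.Lib.Helper25.AmalD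

universe u

variable {G : Type u} [Group G] {P₁ P₂ : Subgroup G}

theorem le_normalizer_of_conj_mem {Q N : Subgroup G}
    (h : ∀ g ∈ Q, ∀ d ∈ N, g * d * g⁻¹ ∈ N) : Q ≤ Subgroup.normalizer (N : Set G) := by
  intro g hg
  rw [Subgroup.mem_normalizer_iff]
  intro d
  constructor
  · exact h g hg d
  · intro hd
    have := h g⁻¹ (Q.inv_mem hg) _ hd
    have e : g⁻¹ * (g * d * g⁻¹) * g⁻¹⁻¹ = d := by group
    rwa [e] at this

theorem conj_mem_of_mem_normalizer {N : Subgroup G} {g : G}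
    (hg : g ∈ Subgroup.normalizer (N : Set G)) {d : G} (hd : d ∈ N) : g * d * g⁻¹ ∈ N :=
  (Subgroup.mem_normalizer_iff.1 hg d).1 hd

theorem SqOf_le (X : Subgroup G) : SqOf X ≤ X := by
  unfold SqOf
  rw [Subgroup.closure_le]
  rintro _ ⟨d, hd, rfl⟩
  exact X.mul_mem hd hd

/-- the letter `T` at `p 2` -/
theorem six_T (hB : Base P₁ P₂) (S : FS P₁ P₂) (K : CB P₁ P₂ 6) (N1 : N1Prop P₁ P₂ 6)
    {p : ℕ → CosetVertex P₁ P₂} (hp : Crit P₁ P₂ 6 p) (hf : Flat (p 0)) :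
    cv (p 1) * cv (p 0) = cv (p 3) * cv (p 4) * cv (p 2) := by
  have a01 : (cosetGraph P₁ P₂).Adj (p 0) (p 1) := hp.1 0 (by norm_num)
  have a12 : (cosetGraph P₁ P₂).Adj (p 1) (p 2) := hp.1 1 (by norm_num)
  have a23 : (cosetGraph P₁ P₂).Adj (p 2) (p 3) := hp.1 2 (by norm_num)
  have a34 : (cosetGraph P₁ P₂).Adj (p 3) (p 4) := hp.1 3 (by norm_num)
  have hf2 : Flat (p 2) := flat_two_steps hB a01 a12 hf
  have n02 : p 0 ≠ p 2 := crit_ne hB K hp (by norm_num) (by norm_num)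
  have n24 : p 2 ≠ p 4 := crit_ne hB K hp (by norm_num) (by norm_num)
  rcases lab_dich hB S hf2 a12.symm a23 a01.symm a34 n02 n24.symm with h | h
  · exact absurd h.symm (N1 p hp hf).2
  · exact h

/-- the element of `N_{p 2}` reversing the triple `(p 0, p 2, p 4)` up to siblings -/
theorem six_swap (hB : Base P₁ P₂) (S : FS P₁ P₂) (K : CB P₁ P₂ 6) (N1 : N1Prop P₁ P₂ 6)
    {p : ℕ → CosetVertex P₁ P₂} (hp : Crit P₁ P₂ 6 p) (hf : Flat (p 0)) :
    ∃ n ∈ Nv (p 2), n • p 2 = p 2 ∧ n • p 1 = p 3 ∧ n • p 3 = p 1 ∧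
      cv (n • p 0) = cv (p 4) * cv (p 2) ∧ cv (n • p 4) = cv (p 0) * cv (p 2) := by
  have a01 : (cosetGraph P₁ P₂).Adj (p 0) (p 1) := hp.1 0 (by norm_num)
  have a12 : (cosetGraph P₁ P₂).Adj (p 1) (p 2) := hp.1 1 (by norm_num)
  have a23 : (cosetGraph P₁ P₂).Adj (p 2) (p 3) := hp.1 2 (by norm_num)
  have a34 : (cosetGraph P₁ P₂).Adj (p 3) (p 4) := hp.1 3 (by norm_num)
  have hf2 : Flat (p 2) := flat_two_steps hB a01 a12 hf
  have n02 : p 0 ≠ p 2 := crit_ne hB K hp (by norm_num) (by norm_num)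
  have n24 : p 2 ≠ p 4 := crit_ne hB K hp (by norm_num) (by norm_num)
  have n13 : p 1 ≠ p 3 := crit_ne hB K hp (by norm_num) (by norm_num)
  have hT := six_T hB S K N1 hp hf
  obtain ⟨m, hm, hm1, hm3⟩ := cubic_of_base hB (p 2) (p 1) (p 3)
  obtain ⟨n, hnQ, hnn⟩ := exists_Q_not_Q hB hm
  obtain ⟨h1, h2, h3⟩ := swap_of_Q hB hm a12.symm a23 hm1 hm3 n13 hnQ hnn
  have hnN : n ∈ Nv (p 2) := Q_le_Nv hB hm hnQ
  have hn2 : n • p 2 = p 2 := mem_Gv.1 (Nv_le_G _ hnN)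
  refine ⟨n, hnN, hn2, h2, h3, ?_, ?_⟩
  · have hF1 := S.F_mem (p 2) (p 1) (p 0) hf2 a12.symm a01.symm n02
    have hc1 : (cv (p 1) * cv (p 0)) * n = n * (cv (p 1) * cv (p 0)) :=
      (Subgroup.mem_centralizer_iff.1 hnN.2) _ hF1
    have e1 : cv (p 1) * cv (p 0) = cv (p 3) * cv (n • p 0) := by
      calc cv (p 1) * cv (p 0) = (cv (p 1) * cv (p 0)) * n * n⁻¹ := by group
        _ = n * (cv (p 1) * cv (p 0)) * n⁻¹ := by rw [hc1]
        _ = (n * cv (p 1) * n⁻¹) * (n * cv (p 0) * n⁻¹) := by group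
        _ = cv (p 3) * cv (n • p 0) := by rw [← cv_smul hB S, ← cv_smul hB S, h2]
    have : cv (p 3) * cv (n • p 0) = cv (p 3) * (cv (p 4) * cv (p 2)) := by
      rw [← e1, hT, mul_assoc]
    exact mul_left_cancel this
  · have hF2 := S.F_mem (p 2) (p 3) (p 4) hf2 a23 a34 n24.symm
    have hc2 : (cv (p 3) * cv (p 4)) * n = n * (cv (p 3) * cv (p 4)) :=
      (Subgroup.mem_centralizer_iff.1 hnN.2) _ hF2
    have e2 : cv (p 3) * cv (p 4) = cv (p 1) * cv (n • p 4) := by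
      calc cv (p 3) * cv (p 4) = (cv (p 3) * cv (p 4)) * n * n⁻¹ := by group
        _ = n * (cv (p 3) * cv (p 4)) * n⁻¹ := by rw [hc2]
        _ = (n * cv (p 3) * n⁻¹) * (n * cv (p 4) * n⁻¹) := by group
        _ = cv (p 1) * cv (n • p 4) := by rw [← cv_smul hB S, ← cv_smul hB S, h3]
    have hsq2 : cv (p 2) * cv (p 2) = 1 := cv_sq hB S _
    have : cv (p 1) * cv (n • p 4) = cv (p 1) * (cv (p 0) * cv (p 2)) := by
      rw [← e2, ← mul_assoc, hT, mul_assoc, hsq2, mul_one]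
    exact mul_left_cancel this

/-- `Q_{p 3}` normalizes `Sq E(p 0, p 2, p 4)` -/
theorem six_norm3 (hB : Base P₁ P₂) (K : CB P₁ P₂ 6) (SH : ShiftProp P₁ P₂ 6)
    (NM : ∀ p : ℕ → CosetVertex P₁ P₂, Crit P₁ P₂ 6 p → Flat (p 0) →
      ∀ g ∈ Qv (p 1), ∀ d ∈ SqOf (Ev (p 0) (p 2) (p 4)),
        g * d * g⁻¹ ∈ SqOf (Ev (p 0) (p 2) (p 4)))
    {p : ℕ → CosetVertex P₁ P₂} (hp : Crit P₁ P₂ 6 p) (hf : Flat (p 0)) :
    ∀ g ∈ Qv (p 3), ∀ d ∈ SqOf (Ev (p 0) (p 2) (p 4)),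
      g * d * g⁻¹ ∈ SqOf (Ev (p 0) (p 2) (p 4)) := by
  have a01 : (cosetGraph P₁ P₂).Adj (p 0) (p 1) := hp.1 0 (by norm_num)
  have a12 : (cosetGraph P₁ P₂).Adj (p 1) (p 2) := hp.1 1 (by norm_num)
  have a23 : (cosetGraph P₁ P₂).Adj (p 2) (p 3) := hp.1 2 (by norm_num)
  have a34 : (cosetGraph P₁ P₂).Adj (p 3) (p 4) := hp.1 3 (by norm_num)
  have hf4 : Flat (p 4) := flat_two_steps hB a23 a34 (flat_two_steps hB a01 a12 hf)
  obtain ⟨l', hl', hl'1, -⟩ := cubic_of_base hB (p 0) (p 1) (p 1)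
  obtain ⟨w, hw, hw0, hp'⟩ := SH p hp hf l' hl' hl'1
  set p' := slideBack w (slideBack l' p) with hp'def
  have hr := crit_rev hB (by norm_num) K hp'
  set r := rev 6 p' with hrdef
  have r0 : r 0 = p 4 := by simp [hrdef, rev, hp'def, slideBack]
  have r1 : r 1 = p 3 := by simp [hrdef, rev, hp'def, slideBack]
  have r2 : r 2 = p 2 := by simp [hrdef, rev, hp'def, slideBack]
  have r4 : r 4 = p 0 := by simp [hrdef, rev, hp'def, slideBack]
  have := NM r hr (by rw [r0]; exact hf4)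
  rw [r0, r1, r2, r4, Ev_rev] at this
  exact this

/-- `G_{p 2}` normalizes `Sq E(p 0, p 2, p 4)` -/
theorem six_normG2 (hB : Base P₁ P₂) (S : FS P₁ P₂) (K : CB P₁ P₂ 6)
    (N1 : N1Prop P₁ P₂ 6) (SH : ShiftProp P₁ P₂ 6)
    (NM : ∀ p : ℕ → CosetVertex P₁ P₂, Crit P₁ P₂ 6 p → Flat (p 0) →
      ∀ g ∈ Qv (p 1), ∀ d ∈ SqOf (Ev (p 0) (p 2) (p 4)),
        g * d * g⁻¹ ∈ SqOf (Ev (p 0) (p 2) (p 4)))
    {p : ℕ → CosetVertex P₁ P₂} (hp : Crit P₁ P₂ 6 p) (hf : Flat (p 0)) :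
    Gv (p 2) ≤ Subgroup.normalizer ((SqOf (Ev (p 0) (p 2) (p 4)) : Subgroup G) : Set G) := by
  have a01 : (cosetGraph P₁ P₂).Adj (p 0) (p 1) := hp.1 0 (by norm_num)
  have a12 : (cosetGraph P₁ P₂).Adj (p 1) (p 2) := hp.1 1 (by norm_num)
  have a23 : (cosetGraph P₁ P₂).Adj (p 2) (p 3) := hp.1 2 (by norm_num)
  have a34 : (cosetGraph P₁ P₂).Adj (p 3) (p 4) := hp.1 3 (by norm_num)
  have hf2 : Flat (p 2) := flat_two_steps hB a01 a12 hf
  have n02 : p 0 ≠ p 2 := crit_ne hB K hp (by norm_num) (by norm_num)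
  have n24 : p 2 ≠ p 4 := crit_ne hB K hp (by norm_num) (by norm_num)
  have n13 : p 1 ≠ p 3 := crit_ne hB K hp (by norm_num) (by norm_num)
  have hT := six_T hB S K N1 hp hf
  have hN1 : Qv (p 1) ≤ Subgroup.normalizer ((SqOf (Ev (p 0) (p 2) (p 4)) : Subgroup G) : Set G) :=
    le_normalizer_of_conj_mem (NM p hp hf)
  have hN3 : Qv (p 3) ≤ Subgroup.normalizer ((SqOf (Ev (p 0) (p 2) (p 4)) : Subgroup G) : Set G) :=
    le_normalizer_of_conj_mem (six_norm3 hB K SH NM hp hf)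
  have hNN : Nv (p 2) ≤ Subgroup.normalizer ((SqOf (Ev (p 0) (p 2) (p 4)) : Subgroup G) : Set G) :=
    (Nv_le_sup hB S hf2 a12.symm a23 n13).trans (sup_le hN1 hN3)
  have hN2 : Qv (p 2) ≤ Subgroup.normalizer ((SqOf (Ev (p 0) (p 2) (p 4)) : Subgroup G) : Set G) := by
    apply le_normalizer_of_conj_mem
    intro u hu d hd
    have hu1 : u • p 1 = p 1 := (Q_fix_of_base hB _ _ a12.symm u hu).2
    have hu2 : u • p 2 = p 2 := (Q_fix_of_base hB _ _ a23 u hu).1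
    have hu3 : u • p 3 = p 3 := (Q_fix_of_base hB _ _ a23 u hu).2
    have hTu : cv (p 1) * cv (u • p 0) = cv (p 3) * cv (u • p 4) * cv (p 2) := by
      calc cv (p 1) * cv (u • p 0) = (u * cv (p 1) * u⁻¹) * (u * cv (p 0) * u⁻¹) := by
            rw [cv_conj_of_fix hB S hu1, cv_smul hB S]
        _ = u * (cv (p 1) * cv (p 0)) * u⁻¹ := by group
        _ = u * (cv (p 3) * cv (p 4) * cv (p 2)) * u⁻¹ := by rw [hT]
        _ = (u * cv (p 3) * u⁻¹) * (u * cv (p 4) * u⁻¹) * (u * cv (p 2) * u⁻¹) := by group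
        _ = cv (p 3) * cv (u • p 4) * cv (p 2) := by
            rw [cv_conj_of_fix hB S hu3, ← cv_smul hB S, cv_conj_of_fix hB S hu2]
    have adj0 : (cosetGraph P₁ P₂).Adj (p 1) (u • p 0) := Base.adj_smul_of_fix hB hu1 a01.symm
    have adj4 : (cosetGraph P₁ P₂).Adj (p 3) (u • p 4) := Base.adj_smul_of_fix hB hu3 a34
    have nu02 : u • p 0 ≠ p 2 := by
      intro e
      exact n02 (MulAction.injective u (e.trans hu2.symm))
    have nu42 : u • p 4 ≠ p 2 := by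
      intro e
      exact n24 (MulAction.injective u (e.trans hu2.symm)).symm
    have hconj : u * d * u⁻¹ ∈ SqOf (Ev (u • p 0) (p 2) (u • p 4)) := by
      refine conj_mem_SqOf u ?_ d hd
      intro e he
      have : u * e * u⁻¹ ∈ Ev (u • p 0) (u • p 2) (u • p 4) := by
        rw [mem_Ev_smul hB]
        have e2 : u⁻¹ * (u * e * u⁻¹) * u = e := by group
        rw [e2]; exact he
      rwa [hu2] at this
    by_cases h0 : u • p 0 = p 0
    · rw [h0] at hTu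
      have hcv : cv (p 4) = cv (u • p 4) := by
        have := hT.symm.trans hTu
        exact mul_left_cancel (mul_right_cancel this)
      have h4 : p 4 = u • p 4 := child_eq_of_cv_eq hB S hf2 a23 a34 adj4 n24.symm nu42 hcv
      rw [h0, ← h4] at hconj
      exact hconj
    · have h4 : u • p 4 ≠ p 4 := by
        intro h4
        rw [h4] at hTu
        have hcv : cv (p 0) = cv (u • p 0) := mul_left_cancel (hT.trans hTu.symm)
        exact h0 (child_eq_of_cv_eq hB S hf2 a12.symm a01.symm adj0 n02 nu02 hcv).symm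
      obtain ⟨n, hnN, hn2, hn1, hn3, hc0, hc4⟩ := six_swap hB S K N1 hp hf
      have adjn0 : (cosetGraph P₁ P₂).Adj (p 3) (n • p 0) := by
        have := hB.smul_adj n _ _ a01.symm
        rwa [hn1] at this
      have adjn4 : (cosetGraph P₁ P₂).Adj (p 1) (n • p 4) := by
        have := hB.smul_adj n _ _ a34
        rwa [hn3] at this
      have nn02 : n • p 0 ≠ p 2 := by
        intro e
        exact n02 (MulAction.injective n (e.trans hn2.symm))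
      have nn42 : n • p 4 ≠ p 2 := by
        intro e
        exact n24 (MulAction.injective n (e.trans hn2.symm)).symm
      have e04 : n • p 0 = u • p 4 := by
        apply child_eq_of_cv_eq hB S hf2 a23 adjn0 adj4 nn02 nu42
        rw [hc0]
        exact (lab_sib hB S hf2 a23 a34 adj4 n24.symm nu42 (Ne.symm h4)).symm
      have e40 : n • p 4 = u • p 0 := by
        apply child_eq_of_cv_eq hB S hf2 a12.symm adjn4 adj0 nn42 nu02
        rw [hc4]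
        exact (lab_sib hB S hf2 a12.symm a01.symm adj0 n02 nu02 (Ne.symm h0)).symm
      rw [← e40, ← e04] at hconj
      have hconj' : u * d * u⁻¹ ∈ SqOf (Ev (n • p 4) (n • p 2) (n • p 0)) := by
        rw [hn2]; exact hconj
      have h5 : n⁻¹ * (u * d * u⁻¹) * n⁻¹⁻¹ ∈ SqOf (Ev (p 4) (p 2) (p 0)) := by
        refine conj_mem_SqOf n⁻¹ ?_ _ hconj'
        intro e he
        have := (mem_Ev_smul hB n e _ _ _).1 he
        simpa using this
      rw [Ev_rev] at h5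
      have h6 := conj_mem_of_mem_normalizer (hNN hnN) h5
      have e : n * (n⁻¹ * (u * d * u⁻¹) * n⁻¹⁻¹) * n⁻¹ = u * d * u⁻¹ := by group
      rwa [e] at h6
  calc Gv (p 2) = (Gv (p 2) ⊓ Gv (p 1)) ⊔ (Gv (p 2) ⊓ Gv (p 3)) :=
        hB.gen_two (p 2) (p 1) (p 3) a12.symm a23 n13
    _ = (Qv (p 2) ⊔ Qv (p 1)) ⊔ (Qv (p 2) ⊔ Qv (p 3)) := by
        rw [hB.edge_eq _ _ a12.symm, hB.edge_eq _ _ a23]
    _ ≤ _ := sup_le (sup_le hN2 hN1) (sup_le hN2 hN3)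

/-- `Sq E(p 0, p 2, p 4) = 1` -/
theorem six_Sq_bot (hB : Base P₁ P₂) (S : FS P₁ P₂) (K : CB P₁ P₂ 6)
    (N1 : N1Prop P₁ P₂ 6) (SH : ShiftProp P₁ P₂ 6)
    (SQ : ∀ p : ℕ → CosetVertex P₁ P₂, Crit P₁ P₂ 6 p → Flat (p 0) →
      SqOf (Ev (p 0) (p 2) (p 4)) = SqOf (Ev (p 2) (p 4) (p 6)))
    (NM : ∀ p : ℕ → CosetVertex P₁ P₂, Crit P₁ P₂ 6 p → Flat (p 0) →
      ∀ g ∈ Qv (p 1), ∀ d ∈ SqOf (Ev (p 0) (p 2) (p 4)),
        g * d * g⁻¹ ∈ SqOf (Ev (p 0) (p 2) (p 4)))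
    {p : ℕ → CosetVertex P₁ P₂} (hp : Crit P₁ P₂ 6 p) (hf : Flat (p 0)) :
    SqOf (Ev (p 0) (p 2) (p 4)) = ⊥ := by
  have a01 : (cosetGraph P₁ P₂).Adj (p 0) (p 1) := hp.1 0 (by norm_num)
  have a12 : (cosetGraph P₁ P₂).Adj (p 1) (p 2) := hp.1 1 (by norm_num)
  have a23 : (cosetGraph P₁ P₂).Adj (p 2) (p 3) := hp.1 2 (by norm_num)
  have a34 : (cosetGraph P₁ P₂).Adj (p 3) (p 4) := hp.1 3 (by norm_num)
  have a45 : (cosetGraph P₁ P₂).Adj (p 4) (p 5) := hp.1 4 (by norm_num)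
  have a56 : (cosetGraph P₁ P₂).Adj (p 5) (p 6) := hp.1 5 (by norm_num)
  have n24 : p 2 ≠ p 4 := crit_ne hB K hp (by norm_num) (by norm_num)
  have hf6 : Flat (p 6) :=
    flat_two_steps hB a45 a56 (flat_two_steps hB a23 a34 (flat_two_steps hB a01 a12 hf))
  have hG2 := six_normG2 hB S K N1 SH NM hp hf
  have hr := crit_rev hB (by norm_num) K hp
  have e0 : rev 6 p 0 = p 6 := by simp [rev]
  have e2 : rev 6 p 2 = p 4 := by simp [rev]
  have e4 : rev 6 p 4 = p 2 := by simp [rev]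
  have hG4 := six_normG2 hB S K N1 SH NM hr (by rw [e0]; exact hf6)
  rw [e0, e2, e4, Ev_rev, ← SQ p hp hf] at hG4
  have hG3 : Gv (p 3) ≤
      Subgroup.normalizer ((SqOf (Ev (p 0) (p 2) (p 4)) : Subgroup G) : Set G) := by
    calc Gv (p 3) = (Gv (p 3) ⊓ Gv (p 2)) ⊔ (Gv (p 3) ⊓ Gv (p 4)) :=
          hB.gen_two (p 3) (p 2) (p 4) a23.symm a34 n24
      _ ≤ _ := sup_le (inf_le_right.trans hG2) (inf_le_right.trans hG4)
  apply hB.core (p 2) (p 3) a23 _ ?_ hG2 hG3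
  intro d hd
  have hdE := SqOf_le _ hd
  have hdD : d ∈ Dv (p 2) := hdE.1.2
  rw [mem_Dv] at hdD
  exact ⟨hB.Q_le_G _ hdD.1, hB.Q_le_G _ (hdD.2 _ a23)⟩

/-- [D-B6c] `b = 6` is impossible -/
theorem b_six_false (hB : Base P₁ P₂) (S : FS P₁ P₂) (K : CB P₁ P₂ 6) (S1 : FS1 P₁ P₂ 6)
    (N1 : N1Prop P₁ P₂ 6) (SH : ShiftProp P₁ P₂ 6)
    (SQ : ∀ p : ℕ → CosetVertex P₁ P₂, Crit P₁ P₂ 6 p → Flat (p 0) →
      SqOf (Ev (p 0) (p 2) (p 4)) = SqOf (Ev (p 2) (p 4) (p 6)))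
    (NM : ∀ p : ℕ → CosetVertex P₁ P₂, Crit P₁ P₂ 6 p → Flat (p 0) →
      ∀ g ∈ Qv (p 1), ∀ d ∈ SqOf (Ev (p 0) (p 2) (p 4)),
        g * d * g⁻¹ ∈ SqOf (Ev (p 0) (p 2) (p 4)))
    {p : ℕ → CosetVertex P₁ P₂} (hp : Crit P₁ P₂ 6 p) (hf : Flat (p 0)) : False := by
  have a01 : (cosetGraph P₁ P₂).Adj (p 0) (p 1) := hp.1 0 (by norm_num)
  have a12 : (cosetGraph P₁ P₂).Adj (p 1) (p 2) := hp.1 1 (by norm_num)
  have a23 : (cosetGraph P₁ P₂).Adj (p 2) (p 3) := hp.1 2 (by norm_num)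
  have a34 : (cosetGraph P₁ P₂).Adj (p 3) (p 4) := hp.1 3 (by norm_num)
  have hf2 : Flat (p 2) := flat_two_steps hB a01 a12 hf
  have hT := six_T hB S K N1 hp hf
  have hsq2 : cv (p 2) * cv (p 2) = 1 := cv_sq hB S _
  have hbot := six_Sq_bot hB S K N1 SH SQ NM hp hf
  -- `E` is elementary abelian
  have hsq : ∀ d ∈ Ev (p 0) (p 2) (p 4), d * d = 1 := by
    intro d hd
    have : d * d ∈ SqOf (Ev (p 0) (p 2) (p 4)) := Subgroup.subset_closure ⟨d, hd, rfl⟩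
    rw [hbot] at this
    exact Subgroup.mem_bot.1 this
  have hcomm : ∀ a ∈ Ev (p 0) (p 2) (p 4), ∀ b ∈ Ev (p 0) (p 2) (p 4), a * b = b * a := by
    intro a ha b hb
    have h1 := hsq a ha
    have h2 := hsq b hb
    have h3 := hsq (a * b) ((Ev (p 0) (p 2) (p 4)).mul_mem ha hb)
    have ha' : a⁻¹ = a := inv_eq_of_mul_eq_one_right h1
    have hb' : b⁻¹ = b := inv_eq_of_mul_eq_one_right h2
    calc a * b = a⁻¹ * b⁻¹ := by rw [ha', hb']
      _ = a⁻¹ * (a * b * (a * b)) * b⁻¹ := by rw [h3]; group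
      _ = b * a := by group
  obtain ⟨n, hnN, hn2, hn1, hn3, hc0, hc4⟩ := six_swap hB S K N1 hp hf
  have adjn0 : (cosetGraph P₁ P₂).Adj (p 3) (n • p 0) := by
    have := hB.smul_adj n _ _ a01.symm
    rwa [hn1] at this
  have adjn4 : (cosetGraph P₁ P₂).Adj (p 1) (n • p 4) := by
    have := hB.smul_adj n _ _ a34
    rwa [hn3] at this
  -- the conjugate `E#` is abelian
  have hcomm' : ∀ a ∈ Ev (n • p 0) (p 2) (n • p 4), ∀ b ∈ Ev (n • p 0) (p 2) (n • p 4),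
      a * b = b * a := by
    intro a ha b hb
    rw [← hn2] at ha hb
    have ha' := (mem_Ev_smul hB n a _ _ _).1 ha
    have hb' := (mem_Ev_smul hB n b _ _ _).1 hb
    have := hcomm _ ha' _ hb'
    calc a * b = n * ((n⁻¹ * a * n) * (n⁻¹ * b * n)) * n⁻¹ := by group
      _ = n * ((n⁻¹ * b * n) * (n⁻¹ * a * n)) * n⁻¹ := by rw [this]
      _ = b * a := by group
  -- distances
  have d01 : (cosetGraph P₁ P₂).dist (p 0) (p 1) ≤ 1 := by
    rw [crit_dist hB K hp (by norm_num : 0 ≤ 1) (by norm_num)]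
  have d02 : (cosetGraph P₁ P₂).dist (p 0) (p 2) ≤ 2 := by
    rw [crit_dist hB K hp (by norm_num : 0 ≤ 2) (by norm_num)]
  have d03 : (cosetGraph P₁ P₂).dist (p 0) (p 3) ≤ 3 := by
    rw [crit_dist hB K hp (by norm_num : 0 ≤ 3) (by norm_num)]
  have d61 : (cosetGraph P₁ P₂).dist (p 6) (p 1) ≤ 5 := by
    rw [SimpleGraph.dist_comm, crit_dist hB K hp (by norm_num : 1 ≤ 6) (by norm_num)]
  have d62 : (cosetGraph P₁ P₂).dist (p 6) (p 2) ≤ 4 := by
    rw [SimpleGraph.dist_comm, crit_dist hB K hp (by norm_num : 2 ≤ 6) (by norm_num)]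
  have d63 : (cosetGraph P₁ P₂).dist (p 6) (p 3) ≤ 3 := by
    rw [SimpleGraph.dist_comm, crit_dist hB K hp (by norm_num : 3 ≤ 6) (by norm_num)]
  have d00s := dist_le_succ_of_adj hB d01 adjn4
  have d04s := dist_le_succ_of_adj hB d03 adjn0
  have d64s := dist_le_succ_of_adj hB d63 adjn0
  have d60s := dist_le_succ_of_adj hB d61 adjn4
  have hZ0 : Zv (p 0) ≤ Ev (n • p 0) (p 2) (n • p 4) := by
    intro z hz
    exact ⟨⟨Zv_le_Dv hB K.minB d04s (by norm_num) hz, Zv_le_Dv hB K.minB d02 (by norm_num) hz⟩,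
      Zv_le_Dv hB K.minB d00s (by norm_num) hz⟩
  have flat0s : Flat (n • p 4) := flat_two_steps hB a12.symm adjn4 hf2
  -- `(p0#, p 6)` is not critical
  have hnc : Zv (n • p 4) ≤ Qv (p 6) := by
    by_contra hcon
    let pp : ℕ → CosetVertex P₁ P₂ := fun i => if i = 0 then n • p 4 else p i
    have pp0 : pp 0 = n • p 4 := by simp [pp]
    have ppi : ∀ i, 0 < i → pp i = p i := by
      intro i hi
      simp [pp, hi.ne']
    have hpp : Crit P₁ P₂ 6 pp := by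
      refine ⟨?_, ?_⟩
      · intro i hi
        rcases Nat.eq_zero_or_pos i with rfl | hpos
        · rw [pp0, ppi 1 (by norm_num)]
          exact adjn4.symm
        · rw [ppi i hpos, ppi (i + 1) (by omega)]
          exact hp.1 i hi
      · show ¬ Zv (pp 0) ≤ Qv (pp 6)
        rw [pp0, ppi 6 (by norm_num)]
        exact hcon
    apply (N1 pp hpp (by rw [pp0]; exact flat0s)).2
    show cv (pp 3) * cv (pp 4) = cv (pp 1) * cv (pp 0)
    rw [pp0, ppi 1 (by norm_num), ppi 3 (by norm_num), ppi 4 (by norm_num), hc4, ← mul_assoc, hT,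
      mul_assoc, hsq2, mul_one]
  have hZ6Q : Zv (p 6) ≤ Qv (n • p 4) := by
    by_contra hcon
    have h1 := K.minB _ _ hcon
    exact K.sym _ _ (by omega) hcon hnc
  have hZ6 : Zv (p 6) ≤ Ev (n • p 0) (p 2) (n • p 4) := by
    intro z hz
    refine ⟨⟨Zv_le_Dv hB K.minB d64s (by norm_num) hz, Zv_le_Dv hB K.minB d62 (by norm_num) hz⟩, ?_⟩
    show z ∈ Dv (n • p 4)
    rw [mem_Dv]
    have hz1 : z ∈ Qv (p 1) := K.minB.le (by omega) hz
    refine ⟨hZ6Q hz, fun l hl => ?_⟩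
    exact flat_Q_inf_le hB flat0s adjn4.symm hl ⟨hZ6Q hz, hz1⟩
  have hfinal : Zv (p 6) ≤ Qv (p 0) := by
    intro z hz
    apply hB.cent_Z (p 0)
    refine ⟨hB.Q_le_G_adj a01.symm (K.minB.le (by omega) hz), ?_⟩
    show z ∈ Subgroup.centralizer ((Zv (p 0) : Subgroup G) : Set G)
    rw [Subgroup.mem_centralizer_iff]
    intro h hh
    exact hcomm' h (hZ0 hh) z (hZ6 hz)
  have d06 : (cosetGraph P₁ P₂).dist (p 0) (p 6) = 6 := by
    rw [crit_dist hB K hp (by norm_num : 0 ≤ 6) (by norm_num)]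
  exact K.sym (p 0) (p 6) d06 hp.2 hfinal

end Cfsg.Agent.Lib.Helper23.AmalDN
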