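import Mathlib
import Cfsg.Prelude.Def_GeometricClasses
import Cfsg.Agent.Lib.Helper99.AschDefs
import Cfsg.Agent.Lib.Helper23.AschSpDefs
import Cfsg.Agent.Lib.Helper66.AschSpPerp
import Cfsg.Agent.Lib.Helper69.AschSpAdj
import Cfsg.Agent.Lib.Helper69.AschSpUniq
import Cfsg.Agent.Lib.Helper10.AschSpC1
import Cfsg.Agent.Lib.Helper80.AschSpPair
import Cfsg.Agent.Lib.Helper61.AschSpC2A
import Cfsg.Agent.Lib.Helper10.AschSpC2BOdd
import Cfsg.Agent.Lib.Helper73.AschSpC2BEven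
import Cfsg.Agent.Lib.Helper61.AschSpC2C
import Cfsg.Agent.Lib.Helper87.AschSpKStar
import Cfsg.Agent.Lib.Helper66.AschSpC3Sub
import Cfsg.Agent.Lib.Helper87.AschSpC3Alt
import Cfsg.Agent.Lib.Helper33.AschSpC3ABFinal
import Cfsg.Agent.Lib.Helper87.AschSpC3Even
import Cfsg.Agent.Lib.Helper37.AschSpTform
import Cfsg.Agent.Lib.Helper25.AschSpTsim
import Cfsg.Agent.Lib.Helper6.AschSpTdSim
import Cfsg.Agent.Lib.Helper25.AschSpC4Swap
import Cfsg.Agent.Lib.Helper25.AschSpC4Odd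
import Cfsg.Agent.Lib.Helper6.AschSpC4TwoIso
import Cfsg.Agent.Lib.Helper25.AschSpC4TwoAniso
import Cfsg.Agent.Lib.Helper6.AschSpC4EvenRed
import Cfsg.Agent.Lib.Helper25.AschSpC4EvenQ
import Cfsg.Agent.Lib.Helper69.AschSpR2
import Cfsg.Agent.Lib.Helper38.AschSpRtwoZ
import Cfsg.Agent.Lib.Helper45.AschSpR0
import Cfsg.Agent.Lib.Helper45.AschSpMinus
import Cfsg.Agent.Lib.Helper45.AschSpC6
import Cfsg.Agent.Lib.Helper84.AschSpC5Key
import Cfsg.Agent.Lib.Helper42.AschSpC5Form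
import Cfsg.Agent.Lib.Helper84.AschSpC5
import Cfsg.Agent.Lib.Helper42.AschSpC8Q
import Cfsg.Agent.Lib.Helper15.AschSpWreath
import Cfsg.Agent.Lib.Helper47.AschSpKForm
import Cfsg.Agent.Lib.Helper38.AschSpKSym
import Cfsg.Agent.Lib.Helper47.AschSpC7
import Cfsg.Agent.Lib.Helper66.AschSpGL23
import Cfsg.Agent.Lib.Helper65.AschSpGL23Slot
import Cfsg.Agent.Lib.Helper1.AschSpKQuad
import Cfsg.Agent.Lib.Helper33.AschSpTrKit
import Cfsg.Agent.Lib.Helper24.AschSpTR1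
import Cfsg.Agent.Lib.Helper73.AschSpTr28
import Cfsg.Agent.Lib.Helper14.AschSpTr345
import Cfsg.Agent.Lib.Helper73.AschSpTr6
import Cfsg.Agent.Lib.Helper73.AschSpTr7
import Cfsg.Agent.Lib.Helper25.AschSpTrResid
import Cfsg.Agent.Lib.Helper33.AschSpStd
import Cfsg.Agent.Lib.Helper1.AschSpResidZ

/-!
# Project ASCHSP: all modules of the sheet (one provider per module) and the wrappers for `_of`-form modules
-/

set_option autoImplicit false

namespace Cfsg.Agent.Lib.Helper23.AschSp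

open Cfsg Cfsg.Geo Cfsg.Agent.Lib.Helper99.Asch
open scoped MatrixGroups Matrix Kronecker

variable {n m : ℕ} {F : Type*} [Field F] [Fintype F] {f : (Fin n → F) → (Fin n → F) → F}

/-- ASCHSP-[RESID-Z], exact sheet statement (helper1's `_of` form instantiated) -/
theorem residual_or_sgeo (hf : IsSymplecticForm f) (hn : 3 ≤ n) (H P : Subgroup (GL (Fin n) F)) (hH : H ≤ isoGL f)
    (hNAI : NAIz H) (hP : PerfMin H P)
    (hsimple : ∀ M : Subgroup (GL (Fin n) F), M ≤ P → Nrm P M → M ≤ scalars (Fin n) F ∨ M = P) :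
    SGeo m f H ∨ InSymplecticResidualClass H :=
  residual_or_sgeo_of (fun H S hH hS hSf hnrm F₀ hF₀ hreal => sgeo_of_realisable hf H S hH hS hSf hnrm F₀ hF₀ hreal)
    (fun H P hH hP hPH hnrm Q hQ hfix => sgeo_of_fixes_quadratic hf (by omega) H P hH hP hPH hnrm Q hQ hfix)
    hf hn H P hH hNAI hP hsimple

end Cfsg.Agent.Lib.Helper23.AschSp
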