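import Mathlib
import Cfsg.Prelude.Def_GeometricClasses
import Cfsg.Agent.Lib.Helper99.AschDefs
import Cfsg.Agent.Lib.Helper23.AschSpDefs
import Cfsg.Agent.Lib.Helper23.AschSpAll

/-! # ASCHSP-[C2]: assembly of the class-2 analysis -/

set_option autoImplicit false

namespace Cfsg.Agent.Lib.Helper23.AschSp

open Cfsg Cfsg.Geo Cfsg.Agent.Lib.Helper99.Asch
open scoped MatrixGroups Matrix Kronecker

variable {n m : ℕ} {F : Type*} [Field F] [Fintype F] {f : (Fin n → F) → (Fin n → F) → F}

omit [Fintype F] in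
/-- an isometry preserves orthogonality of subspaces -/
theorem areOrthogonalFor_map_iff (g : GL (Fin n) F) (hg : g ∈ isoGL f) (W W' : Submodule F (Fin n → F)) :
    AreOrthogonalFor f (W.map (Matrix.toLin' (g : Matrix (Fin n) (Fin n) F)))
      (W'.map (Matrix.toLin' (g : Matrix (Fin n) (Fin n) F))) ↔ AreOrthogonalFor f W W' := by
  constructor
  · intro h u hu v hv
    have := h _ (Submodule.mem_map_of_mem hu) _ (Submodule.mem_map_of_mem hv)
    rw [Matrix.toLin'_apply, Matrix.toLin'_apply, mem_isoGL.1 hg] at this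
    exact this
  · intro h u hu v hv
    obtain ⟨u', hu', rfl⟩ := Submodule.mem_map.1 hu
    obtain ⟨v', hv', rfl⟩ := Submodule.mem_map.1 hv
    rw [Matrix.toLin'_apply, Matrix.toLin'_apply, mem_isoGL.1 hg]
    exact h u' hu' v' hv'

theorem sgeo_or_isotypic (hf : IsSymplecticForm f) (hnm : n = 2 * m) (H N : Subgroup (GL (Fin n) F))
    (hH : H ≤ isoGL f) (hN : N ≤ similarityGroup f)
    (hirr : ActsIrreducibly (matrixSet H)) (hnrm : Nrm H N) :
    SGeo m f H ∨ IsIsotypic (endAlg N) (Fin n → F) := by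
  rcases isotypic_or_paired_decomposition hf H N hH hN hirr hnrm with h |
    ⟨t, D, τ, ht, hne, hind, htop, hperm, htrans, hτ⟩
  · exact Or.inr h
  left
  have hinj : Function.Injective D := hind.injective hne
  -- equivariance of τ
  have hequiv : ∀ h ∈ H, ∀ σ : Equiv.Perm (Fin t),
      (∀ i, (D i).map (Matrix.toLin' (h : Matrix (Fin n) (Fin n) F)) = D (σ i)) →
      ∀ i, τ (σ i) = σ (τ i) := by
    intro h hh σ hσ i
    by_contra hcon
    have h1 : AreOrthogonalFor f (D (σ i)) (D (σ (τ i))) :=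
      (hτ (σ i) (σ (τ i))).2 (fun h' => hcon h'.symm)
    rw [← hσ i, ← hσ (τ i), areOrthogonalFor_map_iff h (hH hh)] at h1
    exact (hτ i (τ i)).1 h1 rfl
  by_cases hfix : ∀ i, τ i = i
  · -- pairwise orthogonal
    refine sgeo_of_orthogonal_decomposition hf H hH t ht D hne hind htop hperm htrans ?_
    intro i j hij
    exact (hτ i j).2 (by rw [hfix i]; exact fun h => hij h.symm)
  · obtain ⟨i₀, hi₀⟩ := not_forall.1 hfix
    have hnofix : ∀ i, τ i ≠ i := by
      intro i
      obtain ⟨h, hh, hmap⟩ := htrans i₀ i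
      obtain ⟨σ, hσ⟩ := hperm h hh
      have hσi : σ i₀ = i := hinj (by rw [← hσ i₀, hmap])
      rw [← hσi, hequiv h hh σ hσ i₀]
      exact fun h' => hi₀ (σ.injective h')
    have hsing : ∀ i, IsTotallySingularFor f (D i) := by
      intro i
      exact (hτ i i).2 (fun h => hnofix i h.symm)
    rcases Nat.lt_or_ge t 3 with ht3 | ht3
    · have ht2 : t = 2 := by omega
      subst ht2
      by_cases hodd : Odd (Fintype.card F)
      · exact sgeo_of_singular_pair_odd hf hnm hodd H hH D hne hind htop hperm hsing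
      · exact sgeo_of_singular_pair_even hf hodd H hH D hind htop hperm hsing
    · exact sgeo_of_paired_decomposition hf H hH t ht3 D τ hne hind htop hperm htrans hτ hnofix

end Cfsg.Agent.Lib.Helper23.AschSp
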