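import Mathlib
import Cfsg.Prelude.Def_GeometricClasses
import Cfsg.Agent.Lib.Helper99.AschDefs
import Cfsg.Agent.Lib.Helper23.AschSpDefs
import Cfsg.Agent.Lib.Helper23.AschSpAll

/-! # ASCHSP-[C3]: assembly of the class-3 analysis -/

set_option autoImplicit false

namespace Cfsg.Agent.Lib.Helper23.AschSp

open Cfsg Cfsg.Geo Cfsg.Agent.Lib.Helper99.Asch
open scoped MatrixGroups Matrix Kronecker

variable {n m : ℕ} {F : Type*} [Field F] [Fintype F] {f : (Fin n → F) → (Fin n → F) → F}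

theorem sgeo_of_normalized_field (hf : IsSymplecticForm f) (hnm : n = 2 * m) (hm : 2 ≤ m)
    (H : Subgroup (GL (Fin n) F)) (hH : H ≤ isoGL f) (hirr : ActsIrreducibly (matrixSet H))
    (K : Subalgebra F (Matrix (Fin n) (Fin n) F))
    (hcomm : ∀ x ∈ K, ∀ y ∈ K, x * y = y * x)
    (hinv : ∀ x ∈ K, x ≠ 0 → ∃ y ∈ K, x * y = 1)
    (hbig : ∃ x ∈ K, ∀ c : F, x ≠ c • (1 : Matrix (Fin n) (Fin n) F))
    (hnorm : ∀ h ∈ H, ∀ k ∈ K,
      (h : Matrix (Fin n) (Fin n) F) * k * ((h⁻¹ : GL (Fin n) F) : Matrix (Fin n) (Fin n) F) ∈ K)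
    (hadj : ∀ k ∈ K, adjMat f k ∈ K) : SGeo m f H := by
  obtain ⟨r, K', hr, hK', hnorm', hcase⟩ := exists_prime_subfield_adj hf H K hcomm hinv hbig hnorm hadj
  rcases hcase with hself | ⟨hr2, hadj', hns⟩
  · have halt := alternating_of_selfAdjoint_field hf hnm hm H hH hirr r hr K' hK' hnorm' hself
    exact sgeo_of_selfAdjoint_field hf H hH r hr K' hK' hnorm' hself halt
  · subst hr2
    by_cases hodd : Odd (Fintype.card F)
    · exact sgeo_of_adjointClosed_quadratic_odd hf hodd H hH K' hK' hnorm' hadj' hns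
    · exact sgeo_of_adjointClosed_quadratic_even hf hodd H hH K' hK' hnorm' hadj' hns

end Cfsg.Agent.Lib.Helper23.AschSp
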