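import Mathlib
import Cfsg.Prelude.Def_GeometricClasses
import Cfsg.Agent.Lib.Helper99.AschDefs
import Cfsg.Agent.Lib.Helper23.AschSpDefs
import Cfsg.Agent.Lib.Helper23.AschSpAll

/-! # ASCHSP-[C4]: assembly of the tensor analysis -/

set_option autoImplicit false

namespace Cfsg.Agent.Lib.Helper23.AschSp

open Cfsg Cfsg.Geo Cfsg.Agent.Lib.Helper99.Asch
open scoped MatrixGroups Matrix Kronecker

variable {n m : ℕ} {F : Type*} [Field F] [Fintype F] {f : (Fin n → F) → (Fin n → F) → F}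

/-- in a finite field of even order, `-1 = 1` -/
theorem neg_one_eq_one_of_not_odd (heven : ¬ Odd (Fintype.card F)) : (-1 : F) = 1 := by
  have h2 : ringChar F = 2 := by
    rw [FiniteField.even_card_iff_char_two]
    rcases Nat.even_or_odd (Fintype.card F) with h | h
    · exact Nat.even_iff.1 h
    · exact absurd h heven
  have : CharP F 2 := by
    have := ringChar.charP F
    rwa [h2] at this
  have : (2 : F) = 0 := by
    have := CharP.cast_eq_zero F 2
    exact_mod_cast this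
  linear_combination (-1 : F) * this

/-- the odd case with the alternating factor first -/
theorem sgeo_of_tensor_odd_alt_symm (hf : IsSymplecticForm f) (hnm : n = 2 * m)
    (hodd : Odd (Fintype.card F)) (H : Subgroup (GL (Fin n) F)) (hH : H ≤ isoGL f) {d e : ℕ} (hd : 2 ≤ d)
    (he : 2 ≤ e) (idx : Fin n ≃ Fin d × Fin e) (B : GL (Fin n) F) (J₁ : Matrix (Fin d) (Fin d) F)
    (C : Matrix (Fin e) (Fin e) F) (hD : TensorFormData f H d e idx B J₁ C) (hJ : IsAltMat J₁)
    (hC : Cᵀ = C) : SGeo m f H := by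
  rcases Nat.lt_or_ge e 3 with he3 | he3
  · have he2 : e = 2 := by omega
    subst he2
    by_cases hw : ∃ w : Fin 2 → F, w ≠ 0 ∧ w ⬝ᵥ (C *ᵥ w) = 0
    · exact sgeo_of_tensor_two_isotropic hf hnm hodd H hH (by omega) idx B J₁ C hD hC hw
    · refine sgeo_of_tensor_two_anisotropic hf hodd H hH (by omega) idx B J₁ C hD hC ?_
      intro w hw0 hw1
      exact hw ⟨w, hw0, hw1⟩
  · exact sgeo_of_tensor_odd hodd H hH idx B J₁ C hD hJ hC he3

theorem sgeo_of_tensorFormData (hf : IsSymplecticForm f) (hnm : n = 2 * m) (H : Subgroup (GL (Fin n) F))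
    (hH : H ≤ isoGL f) (hirr : ActsIrreducibly (matrixSet H)) {d e : ℕ} (hd : 2 ≤ d) (he : 2 ≤ e)
    (idx : Fin n ≃ Fin d × Fin e) (B : GL (Fin n) F) (J₁ : Matrix (Fin d) (Fin d) F)
    (C : Matrix (Fin e) (Fin e) F) (hD : TensorFormData f H d e idx B J₁ C)
    (hsym : (IsAltMat J₁ ∧ Cᵀ = C) ∨ (J₁ᵀ = J₁ ∧ IsAltMat C)) : SGeo m f H := by
  have hD' := tensorFormData_swap H idx B J₁ C hD
  by_cases hodd : Odd (Fintype.card F)
  · rcases hsym with ⟨hJ, hC⟩ | ⟨hJ, hC⟩
    · exact sgeo_of_tensor_odd_alt_symm hf hnm hodd H hH hd he idx B J₁ C hD hJ hC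
    · exact sgeo_of_tensor_odd_alt_symm hf hnm hodd H hH he hd _ B C J₁ hD' hC hJ
  · have h1 : (-1 : F) = 1 := neg_one_eq_one_of_not_odd hodd
    have hnegJ : ∀ {k : ℕ} (X : Matrix (Fin k) (Fin k) F), -X = X := by
      intro k X
      have : -X = (-1 : F) • X := by simp
      rw [this, h1, one_smul]
    have hJs : J₁ᵀ = J₁ := by
      rcases hsym with ⟨hJ, _⟩ | ⟨hJ, _⟩
      · rw [hJ.1, hnegJ]
      · exact hJ
    have hCs : Cᵀ = C := by
      rcases hsym with ⟨_, hC⟩ | ⟨_, hC⟩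
      · exact hC
      · rw [hC.1, hnegJ]
    by_cases hJd : ∃ i, J₁ i i ≠ 0
    · exact absurd hirr
        (not_irreducible_of_tensor_nonalt hodd H hH hd (by omega) idx B J₁ C hD hJs hJd)
    by_cases hCd : ∃ k, C k k ≠ 0
    · exact absurd hirr
        (not_irreducible_of_tensor_nonalt hodd H hH he (by omega) _ B C J₁ hD' hCs hCd)
    have hJalt : IsAltMat J₁ := ⟨by rw [hJs, hnegJ], fun i => by
      by_contra h; exact hJd ⟨i, h⟩⟩
    have hCalt : IsAltMat C := ⟨by rw [hCs, hnegJ], fun k => by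
      by_contra h; exact hCd ⟨k, h⟩⟩
    exact sgeo_of_tensor_even hf hodd H hH idx B J₁ C hD hJalt hCalt

end Cfsg.Agent.Lib.Helper23.AschSp
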