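import Mathlib
import Cfsg.Prelude.Def_GeometricClasses
import Cfsg.Agent.Lib.Helper99.AschDefs
import Cfsg.Agent.Lib.Helper23.AschSpDefs

/-! # ASCHSP: small utilities for the assemblies -/

set_option autoImplicit false

namespace Cfsg.Agent.Lib.Helper23.AschSp

open Cfsg Cfsg.Geo Cfsg.Agent.Lib.Helper99.Asch
open scoped MatrixGroups Matrix Kronecker

variable {ι : Type} [Fintype ι] [DecidableEq ι] {F : Type*} [Field F] {f : (ι → F) → (ι → F) → F}

theorem isoGL_le_similarityGroup (f : (ι → F) → (ι → F) → F) : isoGL f ≤ similarityGroup f := by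
  intro g hg
  refine ⟨1, fun u v => ?_⟩
  rw [mem_isoGL.1 hg, Units.val_one, one_mul]

theorem scalars_le_similarityGroup (hf : IsBilinearForm f) : scalars ι F ≤ similarityGroup f := by
  intro g hg
  obtain ⟨c, hc⟩ := (mem_scalars_iff g).1 hg
  refine ⟨c * c, fun u v => ?_⟩
  have h1 : ∀ w : ι → F, (g : Matrix ι ι F) *ᵥ w = (c : F) • w := by
    intro w
    rw [hc, Matrix.smul_mulVec, Matrix.one_mulVec]
  rw [h1, h1, hf.smul_left, hf.smul_right, Units.val_mul, mul_assoc]

theorem sup_scalars_le_similarityGroup (hf : IsBilinearForm f) {H : Subgroup (GL ι F)} (hH : H ≤ isoGL f) :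
    H ⊔ scalars ι F ≤ similarityGroup f :=
  sup_le (le_trans hH (isoGL_le_similarityGroup f)) (scalars_le_similarityGroup hf)

/-- `H` normalises `isoGL f` when `H ≤ isoGL f` -/
theorem nrm_isoGL {H : Subgroup (GL ι F)} (hH : H ≤ isoGL f) : Nrm H (isoGL f) := by
  intro h hh x hx
  exact (isoGL f).mul_mem ((isoGL f).mul_mem (hH hh) hx) ((isoGL f).inv_mem (hH hh))

end Cfsg.Agent.Lib.Helper23.AschSp
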