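import Mathlib
import Cfsg.Prelude.Def_GeometricClasses
import Cfsg.Agent.Lib.Helper99.AschDefs
import Cfsg.Agent.Lib.Helper99.AschUtil2
import Cfsg.Agent.Lib.Helper99.AschUtil3
import Cfsg.Agent.Lib.Helper66.AschSS
import Cfsg.Agent.Lib.Helper51.AschField
import Cfsg.Agent.Lib.Helper51.AschNF
import Cfsg.Agent.Lib.Helper47.AschKronNormFinal
import Cfsg.Agent.Lib.Helper23.AschSpDefs
import Cfsg.Agent.Lib.Helper23.AschSpUtil
import Cfsg.Agent.Lib.Helper23.AschSpAll
import Cfsg.Agent.Lib.Helper23.AschSpC2
import Cfsg.Agent.Lib.Helper23.AschSpC3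
import Cfsg.Agent.Lib.Helper23.AschSpC4

/-! # ASCHSP-[PART1]: an irreducible subgroup of the isometry group is in a class or satisfies NAIz -/

set_option autoImplicit false

namespace Cfsg.Agent.Lib.Helper23.AschSp

open Cfsg Cfsg.Geo Cfsg.Agent.Lib.Helper99.Asch Cfsg.Agent.Lib.Helper99.AschUtil
open scoped MatrixGroups Matrix Kronecker

variable {n m : ℕ} {F : Type*} [Field F] [Fintype F] {f : (Fin n → F) → (Fin n → F) → F}

theorem partI_sp (hf : IsSymplecticForm f) (hnm : n = 2 * m) (hm : 2 ≤ m) (H : Subgroup (GL (Fin n) F))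
    (hH : H ≤ isoGL f) (hirr : ActsIrreducibly (matrixSet H)) : SGeo m f H ∨ NAIz H := by
  by_cases hG : SGeo m f H
  · exact Or.inl hG
  right
  intro N hNle hnrm
  have hNsim : N ≤ similarityGroup f := le_trans hNle (sup_scalars_le_similarityGroup hf.bilinear hH)
  have hss := semisimple_of_normalized H N hirr hnrm
  rcases sgeo_or_isotypic hf hnm H N hH hNsim hirr hnrm with h | hiso
  · exact absurd h hG
  have hinv := commutantCenter_inv (by omega) N hss hiso
  by_cases hsc : ∀ x ∈ commutantCenter N, ∃ c : F, x = c • (1 : Matrix (Fin n) (Fin n) F)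
  · obtain ⟨d, e, idx, B, hNFo⟩ := tensorNF_of_isotypic (by omega) N hss hiso hsc
    have hcard : n = d * e := by
      have := Fintype.card_congr idx
      simpa using this
    have hkr : ∀ h ∈ H, ∃ (a : GL (Fin d) F) (b : GL (Fin e) F),
        ((B * h * B⁻¹ : GL (Fin n) F) : Matrix (Fin n) (Fin n) F) =
        Matrix.reindex idx.symm idx.symm
          ((a : Matrix (Fin d) (Fin d) F) ⊗ₖ (b : Matrix (Fin e) (Fin e) F)) :=
      fun h hh => kronecker_of_normalizes N d e idx B hNFo h (fun x hx => hnrm h hh x hx)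
    by_cases hd : 2 ≤ d
    · by_cases he : 2 ≤ e
      · obtain ⟨J₁, C, hJ, hC, hsym, hgram⟩ := gram_kronecker_of_tensorNF hf N hNsim d e idx B hNFo
        have hD : TensorFormData f H d e idx B J₁ C := ⟨hkr, hgram, hJ, hC⟩
        exact absurd (sgeo_of_tensorFormData hf hnm H hH hirr hd he idx B J₁ C hD hsym) hG
      · have he1 : e = 1 := by
          rcases Nat.lt_or_ge e 1 with h0 | h1
          · have : e = 0 := by omega
            subst this; omega
          · omega
        subst he1
        exact Or.inr (absIrred_of_tensorNF_one N d idx B hNFo)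
    · have hd1 : d = 1 := by
        rcases Nat.lt_or_ge d 1 with h0 | h1
        · have : d = 0 := by omega
          subst this; omega
        · omega
      subst hd1
      exact Or.inl (scalar_of_tensorNF_one N e idx B hNFo)
  · exfalso
    apply hG
    push Not at hsc
    obtain ⟨x, hx, hxs⟩ := hsc
    refine sgeo_of_normalized_field hf hnm hm H hH hirr (commutantCenter N) ?_ hinv ⟨x, hx, hxs⟩
      (normalizes_commutantCenter H N hnrm) (adj_mem_commutantCenter hf N hNsim)
    intro a ha b hb
    have hb' : b ∈ Subalgebra.centralizer F (commutant N : Set (Matrix (Fin n) (Fin n) F)) := hb.2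
    have ha' : a ∈ commutant N := ha.1
    exact (Subalgebra.mem_centralizer_iff F).mp hb' a ha'

end Cfsg.Agent.Lib.Helper23.AschSp
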