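import Mathlib
import Cfsg.Prelude.Def_GeometricClasses
import Cfsg.Agent.Lib.Helper99.AschDefs
import Cfsg.Agent.Lib.Helper93.AschExpr
import Cfsg.Agent.Lib.Helper93.AschTraces
import Cfsg.Agent.Lib.Helper83.AschDescent
import Cfsg.Agent.Lib.Helper23.AschSpDefs
import Cfsg.Agent.Lib.Helper23.AschSpUtil
import Cfsg.Agent.Lib.Helper23.AschSpAll

/-! # ASCHSP-[PARTA]: a minimal normalised subgroup with scalar commutators gives class 5 or class 6 -/

set_option autoImplicit false

namespace Cfsg.Agent.Lib.Helper23.AschSp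

open Cfsg Cfsg.Geo Cfsg.Agent.Lib.Helper99.Asch
open scoped MatrixGroups Matrix Kronecker

variable {n m : ℕ} {F : Type*} [Field F] [Fintype F] {f : (Fin n → F) → (Fin n → F) → F}

/-- if the prime subfield is everything, the field has prime order -/
theorem exists_prime_card_of_bot_eq_top (h : (⊥ : Subfield F) = ⊤) :
    ∃ p : ℕ, p.Prime ∧ Fintype.card F = p := by
  obtain ⟨p, hp⟩ := CharP.exists F
  have := hp
  have : Fact p.Prime := ⟨CharP.char_is_prime F p⟩
  refine ⟨p, CharP.char_is_prime F p, ?_⟩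
  have h1 := Subfield.card_bot F p
  rw [h] at h1
  have h2 : Nat.card (⊤ : Subfield F) = Nat.card F :=
    Nat.card_congr (Subfield.topEquiv (K := F)).toEquiv
  rw [Fintype.card_eq_nat_card, ← h2, h1]

theorem partIIA_sp (hf : IsSymplecticForm f) (hnm : n = 2 * m) (hm : 2 ≤ m) (H N : Subgroup (GL (Fin n) F))
    (hH : H ≤ isoGL f) (hNAI : NAIz H) (hN : IsMinNrm H N) (hab : CommScalar N) : SGeo m f H := by
  have hn4 : 4 ≤ n := by omega
  obtain ⟨r, hr, hexp⟩ := exists_prime_exponent (by omega) H N hN hab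
  have hNsim : N ≤ similarityGroup f :=
    le_trans hN.le_sup (sup_scalars_le_similarityGroup hf.bilinear hH)
  have hNabs : ActsAbsolutelyIrreducibly (matrixSet N) :=
    (hNAI N hN.le_sup hN.nrm).resolve_left hN.not_le
  have hr2 : r = 2 := prime_eq_two_of_commScalar hf (by omega) N hNsim hNabs hab r hr hexp
  subst hr2
  obtain ⟨R, hRN, hR⟩ := sympOut_two_z (by omega) H N hNAI hN hab hexp
  obtain ⟨R₀, hR₀f, hR₀⟩ := exists_sympOut_iso hf hn4 H N R hH hNAI hN hexp hRN hR
  by_cases hbot : (⊥ : Subfield F) = ⊤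
  · obtain ⟨p, hp, hcard⟩ := exists_prime_card_of_bot_eq_top hbot
    exact sgeo_of_sympOut_prime hf hnm H R₀ hH hR₀ hR₀f p hp hcard
  · have htr := trace_mem_of_sympOut H R₀ 2 2 hR₀ ⊥ (by
      intro c hc
      have h1 : (c - 1) * (c + 1) = 0 := by linear_combination hc
      rcases mul_eq_zero.1 h1 with h | h
      · have : c = 1 := by linear_combination h
        rw [this]; exact one_mem _
      · have : c = -1 := by linear_combination h
        rw [this]; exact neg_mem (one_mem _))
    have hreal := realisable_of_trace_mem R₀ hR₀.absIrred ⊥ htr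
    exact sgeo_of_realisable hf H R₀ hH hR₀.absIrred hR₀f hR₀.nrm ⊥ hbot hreal

end Cfsg.Agent.Lib.Helper23.AschSp
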