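import Mathlib
import Cfsg.Prelude.Def_GeometricClasses
import Cfsg.Agent.Lib.Helper99.AschDefs
import Cfsg.Agent.Lib.Helper99.AschUtil3
import Cfsg.Agent.Lib.Helper99.AschUtil4
import Cfsg.Agent.Lib.Helper99.AschPartB
import Cfsg.Agent.Lib.Helper13.AschPerf
import Cfsg.Agent.Lib.Helper42.AschComps
import Cfsg.Agent.Lib.Helper54.AschKFold
import Cfsg.Agent.Lib.Helper47.AschSlotNorm
import Cfsg.Agent.Lib.Helper51.AschNF
import Cfsg.Agent.Lib.Helper23.AschSpDefs
import Cfsg.Agent.Lib.Helper23.AschSpUtil
import Cfsg.Agent.Lib.Helper23.AschSpC4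
import Cfsg.Agent.Lib.Helper23.AschSpAll

/-! # ASCHSP-[PARTB]: a minimal normalised subgroup with a non-scalar commutator gives class 5, 7, 8 or the
residual class -/

set_option autoImplicit false

namespace Cfsg.Agent.Lib.Helper23.AschSp

open Cfsg Cfsg.Geo Cfsg.Agent.Lib.Helper99.Asch Cfsg.Agent.Lib.Helper99.AschUtil
open scoped MatrixGroups Matrix Kronecker

variable {n m : ℕ} {F : Type*} [Field F] [Fintype F] {f : (Fin n → F) → (Fin n → F) → F}

/-- in a finite field of odd order, `2 ≠ 0` -/
theorem two_ne_zero_of_odd (hodd : Odd (Fintype.card F)) : (2 : F) ≠ 0 := by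
  intro h2
  have hchar : ringChar F = 2 := by
    have : (ringChar F) ∣ 2 := by
      have h : ((2 : ℕ) : F) = 0 := by exact_mod_cast h2
      exact (ringChar.spec F 2).1 h
    have hp : (ringChar F).Prime := CharP.char_is_prime F (ringChar F)
    exact (Nat.prime_dvd_prime_iff_eq hp Nat.prime_two).1 this
  have := FiniteField.even_card_of_char_two hchar
  rcases hodd with ⟨k, hk⟩
  omega

/-- the wreath step: every element of `H` is, in the tensor coordinates, in the standard tensor-wreath group -/
theorem wreath_of_compSys' (H P : Subgroup (GL (Fin n) F)) {k : ℕ} (hk : 0 < k)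
    (Q : Fin k → Subgroup (GL (Fin n) F))
    (hQ : CompSys H P Q) (d : ℕ) (idx : Fin n ≃ (Fin k → Fin d)) (B : GL (Fin n) F)
    (hslot : ∀ i, ∀ x ∈ Q i, ∃ a : GL (Fin d) F,
        ((B * x * B⁻¹ : GL (Fin n) F) : Matrix (Fin n) (Fin n) F) =
          Matrix.reindex idx.symm idx.symm (slotMatrix i (a : Matrix (Fin d) (Fin d) F)))
    (hspan : ∀ i (a : Matrix (Fin d) (Fin d) F),
        ((B⁻¹ : GL (Fin n) F) : Matrix (Fin n) (Fin n) F) *
          Matrix.reindex idx.symm idx.symm (slotMatrix i a) * (B : Matrix (Fin n) (Fin n) F) ∈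
          Submodule.span F (matrixSet (Q i))) :
    ∀ h ∈ H, ∃ g ∈ tensorWreathStandard d k F, glReindex idx.symm g = B * h * B⁻¹ := by
  intro h hh
  obtain ⟨σ, hσ⟩ := hQ.perm h hh
  set g : GL (Fin k → Fin d) F := (glReindex idx.symm).symm (B * h * B⁻¹) with hgdef
  have hg : glReindex idx.symm g = B * h * B⁻¹ := by
    rw [hgdef]; exact MulEquiv.apply_symm_apply _ _
  exact ⟨g, mem_tensorWreathStandard_of_permutes_slots hk g σ
    (slot_conj Q idx B hslot hspan h σ hσ g hg), hg⟩

theorem partIIB_sp (hf : IsSymplecticForm f) (hnm : n = 2 * m) (hm : 2 ≤ m) (H N : Subgroup (GL (Fin n) F))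
    (hH : H ≤ isoGL f) (hNAI : NAIz H) (hN : IsMinNrm H N) (hnab : ¬ CommScalar N) :
    SGeo m f H ∨ InSymplecticResidualClass H := by
  obtain ⟨P, hP⟩ := exists_perfMin H N hN hnab
  obtain ⟨k, Q, hk, hQ⟩ := exists_compSys H P hP
  have hPle : P ≤ H ⊔ scalars (Fin n) F := le_trans hP.le le_sup_left
  have hPabs : ActsAbsolutelyIrreducibly (matrixSet P) := (hNAI P hPle hP.nrm).resolve_left hP.not_le
  by_cases hk1 : k = 1
  · subst hk1
    have hQP : Q 0 = P := by
      rw [← hQ.iSup_eq]
      exact (ciSup_unique (s := Q)).symm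
    apply residual_or_sgeo hf (by omega) H P hH hNAI hP
    intro M hM hnM
    have := hQ.simple 0 M (hQP ▸ hM) (hQP ▸ hnM)
    rwa [hQP] at this
  · left
    have hk2 : 2 ≤ k := by omega
    have hdim : ∀ i j, Module.finrank F (Submodule.span F (matrixSet (Q i))) =
        Module.finrank F (Submodule.span F (matrixSet (Q j))) := by
      intro i j
      obtain ⟨h, _, hh⟩ := hQ.trans i j
      exact finrank_span_eq_of_conj (Q i) (Q j) h hh
    have hNF : Cfsg.Agent.Lib.Helper99.AschR.NFStmt F :=
      fun n hn N hss hiso hsc => tensorNF_of_isotypic hn N hss hiso hsc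
    obtain ⟨d, idx, B, hslot, hspan⟩ :=
      Cfsg.Agent.Lib.Helper54.AschKFold.kfold_of (Cfsg.Agent.Lib.Helper99.AschR.binStmt_of_nf hNF) hk Q
        hQ.commute (by rw [hQ.iSup_eq]; exact hPabs) hdim
    have hnd : n = d ^ k := by
      have := Fintype.card_congr idx
      simpa using this
    have hd2 : 2 ≤ d := by
      by_contra hd
      have hd' : d ≤ 1 := by omega
      have : d ^ k ≤ 1 := by
        calc d ^ k ≤ 1 ^ k := Nat.pow_le_pow_left hd' k
          _ = 1 := one_pow k
      omega
    have hQf : ∀ i, Q i ≤ isoGL f := fun i => le_trans (hQ.le i) (le_trans hP.le hH)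
    obtain ⟨G, hD, hsymG, hinvG⟩ := slotFormData_of_slots hf hk Q hQf d idx B hslot hspan
    have hcong := slot_forms_congruent H P Q hQ d idx B G hD hinvG
    have hwr := wreath_of_compSys' H P hk Q hQ d idx B hslot hspan
    by_cases hodd : Odd (Fintype.card F)
    · have h2 : (2 : F) ≠ 0 := two_ne_zero_of_odd hodd
      -- the Gram matrix of `f` in tensor coordinates
      have hgram : ∀ a b : Fin k → Fin d,
          f (((B⁻¹ : GL (Fin n) F) : Matrix (Fin n) (Fin n) F) *ᵥ ((Pi.single a (1 : F)) ∘ idx))
            (((B⁻¹ : GL (Fin n) F) : Matrix (Fin n) (Fin n) F) *ᵥ ((Pi.single b (1 : F)) ∘ idx)) =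
            ∏ i, G i (a i) (b i) := by
        intro a b
        rw [hD.gram]
        rw [Finset.sum_eq_single a, Finset.sum_eq_single b]
        · simp
        · intro b' _ hb'
          simp [hb']
        · intro h; exact absurd (Finset.mem_univ b) h
        · intro a' _ ha'
          apply Finset.sum_eq_zero
          intro b' _
          simp [Pi.single_apply, ha']
        · intro h; exact absurd (Finset.mem_univ a) h
      have hskewΓ : ∀ a b : Fin k → Fin d, ∏ i, G i (b i) (a i) = - ∏ i, G i (a i) (b i) := by
        intro a b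
        rw [← hgram a b, ← hgram b a, hf.skew]
      -- nonzero entries
      have hGne : ∀ i, G i ≠ 0 := by
        intro i h0
        apply hD.det i
        rw [h0]
        have : Nonempty (Fin d) := ⟨⟨0, by omega⟩⟩
        exact Matrix.det_zero
      -- all types agree
      have htype : ∀ i j, (G j)ᵀ = G j → (G i)ᵀ = G i := by
        intro i j hj
        obtain ⟨u, c, hc, hu⟩ := hcong i j
        have h1 : ((u : Matrix (Fin d) (Fin d) F)ᵀ * G j * (u : Matrix (Fin d) (Fin d) F))ᵀ =
            (u : Matrix (Fin d) (Fin d) F)ᵀ * G j * (u : Matrix (Fin d) (Fin d) F) := by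
          rw [Matrix.transpose_mul, Matrix.transpose_mul, Matrix.transpose_transpose, hj, Matrix.mul_assoc]
        rw [hu, Matrix.transpose_smul] at h1
        have := smul_right_injective (Matrix (Fin d) (Fin d) F) hc h1
        exact this
      have hall : ∀ i, (G i)ᵀ = -(G i) := by
        by_contra hcon
        push Not at hcon
        obtain ⟨j, hj⟩ := hcon
        have hjs : (G j)ᵀ = G j := (hsymG j).resolve_right hj
        have hsym : ∀ i, (G i)ᵀ = G i := fun i => htype i j hjs
        -- then the Gram matrix is symmetric and skew, so zero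
        have hex : ∀ i, ∃ α β, G i α β ≠ 0 := by
          intro i
          by_contra h
          push Not at h
          exact hGne i (by ext α β; exact h α β)
        choose α β hαβ using hex
        have hprod : ∏ i, G i (α i) (β i) ≠ 0 := Finset.prod_ne_zero_iff.2 (fun i _ => hαβ i)
        have h3 := hskewΓ α β
        have h4 : ∏ i, G i (β i) (α i) = ∏ i, G i (α i) (β i) := by
          apply Finset.prod_congr rfl
          intro i _
          have := congrFun (congrFun (hsym i) (α i)) (β i)
          rw [Matrix.transpose_apply] at this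
          exact this
        rw [h4] at h3
        have : (2 : F) * ∏ i, G i (α i) (β i) = 0 := by linear_combination h3
        rcases mul_eq_zero.1 this with h | h
        · exact h2 h
        · exact hprod h
      have halt : ∀ i, IsAltMat (G i) := by
        intro i
        refine ⟨hall i, fun a => ?_⟩
        have := congrFun (congrFun (hall i) a) a
        rw [Matrix.transpose_apply, Matrix.neg_apply] at this
        have h5 : (2 : F) * G i a a = 0 := by linear_combination this
        rcases mul_eq_zero.1 h5 with h | h
        · exact absurd h h2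
        · exact h
      have hkodd : Odd k := by
        have hex : ∀ i, ∃ α β, G i α β ≠ 0 := by
          intro i
          by_contra h
          push Not at h
          exact hGne i (by ext α β; exact h α β)
        choose α β hαβ using hex
        have hprod : ∏ i, G i (α i) (β i) ≠ 0 := Finset.prod_ne_zero_iff.2 (fun i _ => hαβ i)
        have h3 := hskewΓ α β
        have h4 : ∏ i, G i (β i) (α i) = (-1 : F) ^ k * ∏ i, G i (α i) (β i) := by
          have : ∀ i, G i (β i) (α i) = (-1 : F) * G i (α i) (β i) := by
            intro i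
            have := congrFun (congrFun (hall i) (α i)) (β i)
            rw [Matrix.transpose_apply, Matrix.neg_apply] at this
            rw [this]; ring
          rw [Finset.prod_congr rfl (fun i _ => this i), Finset.prod_mul_distrib, Finset.prod_const,
            Finset.card_univ, Fintype.card_fin]
        rw [h4] at h3
        rcases Nat.even_or_odd k with hev | ho
        · exfalso
          rw [hev.neg_one_pow, one_mul] at h3
          have : (2 : F) * ∏ i, G i (α i) (β i) = 0 := by linear_combination h3
          rcases mul_eq_zero.1 this with h | h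
          · exact h2 h
          · exact hprod h
        · exact ho
      have hk3 : 3 ≤ k := by
        rcases hkodd with ⟨j, hj⟩
        omega
      have hex : ¬ (Fintype.card F = 3 ∧ d = 2) := by
        rintro ⟨hF3, hd2'⟩
        subst hd2'
        have h0 : Q ⟨0, hk⟩ = ⊥ :=
          eq_bot_of_perfect_slot_two hF3 (Q ⟨0, hk⟩) (hQ.perfect _) idx B ⟨0, hk⟩ (hslot _)
        exact hQ.not_le ⟨0, hk⟩ (by rw [h0]; exact bot_le)
      exact sgeo_of_slotFormData_odd hodd H hH Q d idx B G hD halt hk3 hkodd hex hwr
    · have h1 : (-1 : F) = 1 := neg_one_eq_one_of_not_odd hodd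
      have hsym : ∀ i, (G i)ᵀ = G i := by
        intro i
        rcases hsymG i with h | h
        · exact h
        · rw [h]
          have : -(G i) = (-1 : F) • G i := by simp
          rw [this, h1, one_smul]
      obtain ⟨Q', hQ', hfix⟩ :=
        fixesQuad_of_slotFormData_even hf hodd hk2 Q d hd2 idx B G hD hsym hinvG
      rw [hQ.iSup_eq] at hfix
      exact sgeo_of_fixes_quadratic hf (by omega) H P hH hPabs hP.le hP.nrm Q' hQ' hfix

end Cfsg.Agent.Lib.Helper23.AschSp
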