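import Mathlib
import Cfsg.Prelude.Def_GeometricClasses
import Cfsg.Agent.Lib.Helper99.AschDefs
import Cfsg.Agent.Lib.Helper23.AschSpDefs
import Cfsg.Agent.Lib.Helper23.AschSpUtil
import Cfsg.Agent.Lib.Helper23.AschSpSetup
import Cfsg.Agent.Lib.Helper23.AschSpPart1
import Cfsg.Agent.Lib.Helper23.AschSpPartA
import Cfsg.Agent.Lib.Helper23.AschSpPartB
import Cfsg.Agent.Lib.Helper23.AschSpAll

/-! # ASCHSP-[MAIN]: Aschbacher's theorem for the isometry group of an abstract symplectic form on `F^n` -/

set_option autoImplicit false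

namespace Cfsg.Agent.Lib.Helper23.AschSp

open Cfsg Cfsg.Geo Cfsg.Agent.Lib.Helper99.Asch
open scoped MatrixGroups Matrix Kronecker

variable {n m : ℕ} {F : Type*} [Field F] [Fintype F] {f : (Fin n → F) → (Fin n → F) → F}

omit [Fintype F] in
/-- an irreducible group in dimension at least 2 is not scalar -/
theorem not_le_scalars_of_irreducible (hn : 2 ≤ n) (H : Subgroup (GL (Fin n) F))
    (hirr : ActsIrreducibly (matrixSet H)) : ¬ H ≤ scalars (Fin n) F := by
  intro hle
  set e₀ : Fin n → F := Pi.single (⟨0, by omega⟩ : Fin n) 1 with he₀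
  set W : Submodule F (Fin n → F) := Submodule.span F {e₀} with hW
  have hinv : ∀ s ∈ matrixSet H, W.map (Matrix.toLin' s) ≤ W := by
    rintro s ⟨g, hg, rfl⟩
    obtain ⟨c, hc⟩ := (mem_scalars_iff g).1 (hle hg)
    rintro _ ⟨v, hv, rfl⟩
    rw [Matrix.toLin'_apply]
    show (g : Matrix (Fin n) (Fin n) F) *ᵥ v ∈ W
    rw [hc, Matrix.smul_mulVec, Matrix.one_mulVec]
    exact W.smul_mem _ hv
  have he₀ne : e₀ ≠ 0 := by
    intro h
    have := congrFun h (⟨0, by omega⟩ : Fin n)
    simp [he₀] at this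
  rcases hirr W hinv with h | h
  · have : e₀ ∈ W := Submodule.subset_span (Set.mem_singleton _)
    rw [h] at this
    exact he₀ne ((Submodule.mem_bot F).1 this)
  · have h1 : Module.finrank F W = 1 := finrank_span_singleton he₀ne
    rw [h, finrank_top, Module.finrank_fin_fun] at h1
    omega

theorem aschbacher_sp (hf : IsSymplecticForm f) (hnm : n = 2 * m) (hm : 2 ≤ m) (H : Subgroup (GL (Fin n) F))
    (hH : H ≤ isoGL f) : SGeo m f H ∨ InSymplecticResidualClass H := by
  by_cases hirr : ActsIrreducibly (matrixSet H)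
  · rcases partI_sp hf hnm hm H hH hirr with h | hNAI
    · exact Or.inl h
    · have hHns : ¬ H ≤ scalars (Fin n) F := not_le_scalars_of_irreducible (by omega) H hirr
      obtain ⟨N, hN⟩ := exists_isMinNrm_of_not_le H hHns
      by_cases hab : CommScalar N
      · exact Or.inl (partIIA_sp hf hnm hm H N hH hNAI hN hab)
      · exact partIIB_sp hf hnm hm H N hH hNAI hN hab
  · exact Or.inl (sgeo_of_not_irreducible hf hnm H hH hirr)

end Cfsg.Agent.Lib.Helper23.AschSp
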