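import Mathlib
import Cfsg.Prelude.Def_GeometricClasses
import Cfsg.Agent.Lib.Helper99.AschDefs
import Cfsg.Agent.Lib.Helper23.AschSpDefs
import Cfsg.Agent.Lib.Helper23.AschSpAll

/-! # ASCHSP-[TR]: transport of `SGeo` along a bijection of index types -/

set_option autoImplicit false

namespace Cfsg.Agent.Lib.Helper23.AschSp

open Cfsg Cfsg.Geo Cfsg.Agent.Lib.Helper99.Asch
open scoped MatrixGroups Matrix Kronecker

variable {F : Type*} [Field F] [Fintype F]
variable {ι κ : Type} [Fintype ι] [DecidableEq ι] [Fintype κ] [DecidableEq κ] (e : ι ≃ κ)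

theorem sgeo_reindex (m : ℕ) (f : (ι → F) → (ι → F) → F) (H : Subgroup (GL ι F)) (h : SGeo m f H) :
    SGeo m (formReindex e f) (H.map (glReindex e).toMonoidHom) := by
  obtain ⟨M, hM, hle⟩ := h
  have hle' : H.map (glReindex e).toMonoidHom ≤ M.map (glReindex e).toMonoidHom := Subgroup.map_mono hle
  rcases hM with (h | h | h | h | h | h | h) | h | h | h | h
  · exact SGeo.of_c1s (spC1s_reindex e f M h) hle'
  · exact SGeo.of_c1n (spC1n_reindex e m f M h) hle'
  · exact SGeo.of_c2n (spC2n_reindex e f M h) hle'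
  · exact SGeo.of_c2s (spC2s_reindex e m f M h) hle'
  · exact SGeo.of_c5 (spC5_reindex e f M h) hle'
  · exact SGeo.of_c6 (spC6_reindex e m f M h) hle'
  · exact SGeo.of_c8 (spC8_reindex e f M h) hle'
  · exact SGeo.of_c3s (spC3s_reindex e f M h) hle'
  · exact SGeo.of_c3u (spC3u_reindex e f M h) hle'
  · exact SGeo.of_c4 (spC4_reindex e f M h) hle'
  · exact SGeo.of_c7 (spC7_reindex e f M h) hle'

end Cfsg.Agent.Lib.Helper23.AschSp
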