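import Mathlib
import Cfsg.Prelude.Def_GeometricClasses
import Cfsg.Agent.Lib.Helper99.AschDefs
import Cfsg.Agent.Lib.Helper94.BHRSP.Defs
import Cfsg.Agent.Lib.Helper23.AschSpDefs
import Cfsg.Agent.Lib.Helper23.AschSpMain
import Cfsg.Agent.Lib.Helper23.AschSpTr
import Cfsg.Agent.Lib.Helper23.AschSpAll

/-! # ASCHSP: the symplectic Aschbacher theorem for the standard form on `F^(Fin m ⊕ Fin m)` -/

set_option autoImplicit false

namespace Cfsg.Agent.Lib.Helper23.AschSp

open Cfsg Cfsg.Geo Cfsg.Agent.Lib.Helper99.Asch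
open scoped MatrixGroups Matrix Kronecker

variable {F : Type*} [Field F] [Fintype F]

omit [Fintype F] in
theorem glReindex_symm_glReindex {ι κ : Type} [Fintype ι] [DecidableEq ι] [Fintype κ] [DecidableEq κ]
    (e : ι ≃ κ) (g : GL ι F) : glReindex e.symm (glReindex e g) = g := by
  apply Units.ext
  ext i j
  simp [glReindex, Matrix.reindex_apply, Matrix.submatrix_apply]

omit [Fintype F] in
theorem map_glReindex_symm_map {ι κ : Type} [Fintype ι] [DecidableEq ι] [Fintype κ] [DecidableEq κ]
    (e : ι ≃ κ) (H : Subgroup (GL ι F)) :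
    (H.map (glReindex e).toMonoidHom).map (glReindex e.symm).toMonoidHom = H := by
  ext g
  constructor
  · rintro ⟨_, ⟨x, hx, rfl⟩, rfl⟩
    have : (glReindex e.symm).toMonoidHom ((glReindex e).toMonoidHom x) = x := glReindex_symm_glReindex e x
    rw [this]
    exact hx
  · intro hg
    exact ⟨glReindex e g, ⟨g, hg, rfl⟩, glReindex_symm_glReindex e g⟩

omit [Fintype F] in
theorem formReindex_symm_formReindex {ι κ : Type} (e : ι ≃ κ) (f : (ι → F) → (ι → F) → F) :
    formReindex e.symm (formReindex e f) = f := by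
  funext u v
  simp only [formReindex]
  congr 1 <;> · funext i; simp

/-- the refined theorem: every subgroup of `Sp_2m(F)`, `m ≥ 2`, lies in a member of a class or is residual -/
theorem sgeo_or_residual_std (m : ℕ) (hm : 2 ≤ m) (H : Subgroup (GL (Fin m ⊕ Fin m) F)) (hH : H ≤ Cfsg.spGL m F) :
    SGeo m (sympForm m F) H ∨ InSymplecticResidualClass H := by
  set e : Fin m ⊕ Fin m ≃ Fin (2 * m) := finSumFinEquiv.trans (finCongr (two_mul m).symm) with he
  set f' : (Fin (2 * m) → F) → (Fin (2 * m) → F) → F := formReindex e (sympForm m F) with hf'def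
  set H' : Subgroup (GL (Fin (2 * m)) F) := H.map (glReindex e).toMonoidHom with hH'def
  have hf' : IsSymplecticForm f' := isSymplecticForm_formReindex e _ (isSymplecticForm_sympForm m)
  have hH' : H' ≤ isoGL f' := by
    rw [hf'def, ← map_isoGL e (sympForm m F)]
    exact Subgroup.map_mono hH
  rcases aschbacher_sp (m := m) hf' rfl hm H' hH' with h | h
  · left
    have h1 := sgeo_reindex e.symm m f' H' h
    rw [hf'def, formReindex_symm_formReindex, hH'def, map_glReindex_symm_map] at h1
    exact h1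
  · right
    have h1 := residual_reindex e.symm H' h
    rw [hH'def, map_glReindex_symm_map] at h1
    exact h1

theorem S5662_statement (m : ℕ) (hm : 2 ≤ m) (H : Subgroup (GL (Fin m ⊕ Fin m) F)) (hH : H ≤ Cfsg.spGL m F) :
    (∃ M : Subgroup (GL (Fin m ⊕ Fin m) F), InSymplecticClass m F M ∧ H ≤ M) ∨ InSymplecticResidualClass H := by
  rcases sgeo_or_residual_std m hm H hH with ⟨M, hM, hle⟩ | h
  · exact Or.inl ⟨M, inSymplecticClass_of m M hM, hle⟩
  · exact Or.inr h

/-- helper94's refined statement (project BHRSP) -/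
theorem aschR (m : ℕ) (hm : 2 ≤ m) : Cfsg.Agent.Lib.Helper94.BHRSP.AschR m F := by
  intro H hH _
  rcases sgeo_or_residual_std m hm H hH with ⟨M, hM, hle⟩ | h
  · exact Or.inl ⟨M, hM, hle⟩
  · exact Or.inr h

end Cfsg.Agent.Lib.Helper23.AschSp
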