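/-
helper23 shared library: the statement S1371 (the `M`-conjugates of `Ẑ = K K* ∖ (K ∪ K*)` are exactly
`A₀(M) ∖ A(M)`, and this set is a TI-subset of `G`), derived from S1354 (`C_M(k) = K K*`) and S1370
(`Ẑ` is TI with normalizer `K K*`), taken as hypotheses.
All declarations live in `Cfsg.Agent.Lib.Helper23`.
-/
import Mathlib
import Cfsg.Prelude.Def_OddOrderLocal
import Cfsg.Agent.Lib.Helper23.BGFourteenB
import Cfsg.Agent.Lib.Helper23.BGFourteenD
import Cfsg.Agent.Lib.Helper1.HallDom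

set_option autoImplicit false

namespace Cfsg.Agent.Lib.Helper23

open Cfsg
open scoped Pointwise

section BGFourteenE

variable {G : Type*} [Group G]

/-- The `M`-conjugates of a set. -/
def conjClassIn (M : Subgroup G) (T : Set G) : Set G := {a | ∃ m ∈ M, ∃ z ∈ T, a = m * z * m⁻¹}

/-- `|U M_σ| = |M_σ| |U|`, `K ∩ U M_σ = 1` and `[M : U M_σ] = |K|` in a standard factorisation. -/
theorem kappa_compl_facts [Finite G] {M K U : Subgroup G}
    (hHall : IsPiHallOf (sigma M) (sigmaCore M) M) (hKU : IsSigmaDecomposition M K U) :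
    Nat.card (U ⊔ sigmaCore M : Subgroup G) = Nat.card (sigmaCore M) * Nat.card U ∧
      (Nat.card K).Coprime (Nat.card (U ⊔ sigmaCore M : Subgroup G)) ∧
      K ⊓ (U ⊔ sigmaCore M) = ⊥ ∧
      Nat.card (U ⊔ sigmaCore M : Subgroup G) * Nat.card K = Nat.card M := by
  obtain ⟨hcUK, hcUσ⟩ := coprime_card_of_sigmaDecomposition hHall hKU
  have hUσ : sigmaCore M ⊓ U = ⊥ := by
    rw [eq_bot_iff, ← hKU.compl.2.2.1]
    exact le_inf inf_le_right (inf_le_left.trans le_sup_right)
  have hUN : U ≤ Subgroup.normalizer ((sigmaCore M : Subgroup G) : Set G) :=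
    hKU.compl.1.trans (le_normalizer_sigmaCore_h23 M)
  have e3 : Nat.card (U ⊔ sigmaCore M : Subgroup G) = Nat.card (sigmaCore M) * Nat.card U := by
    rw [sup_comm]
    exact Cfsg.Agent.Lib.Helper54.card_sup_of_le_normalizer hUN hUσ
  have hcop : (Nat.card K).Coprime (Nat.card (U ⊔ sigmaCore M : Subgroup G)) := by
    rw [e3]
    exact Nat.Coprime.mul_right (coprime_card_kappa_sigmaCore hHall hKU.hall.2.1) hcUK.symm
  refine ⟨e3, hcop, (Subgroup.disjoint_of_coprime_natCard hcop).eq_bot, ?_⟩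
  rw [e3, card_eq_of_sigmaDecomposition hHall hKU]
  ring

/-- `[M : U M_σ] = |K|`. -/
theorem relIndex_sup_sigmaCore_of_sigmaDecomposition [Finite G] {M K U : Subgroup G}
    (hHall : IsPiHallOf (sigma M) (sigmaCore M) M) (hKU : IsSigmaDecomposition M K U) :
    (U ⊔ sigmaCore M).relIndex M = Nat.card K := by
  obtain ⟨-, -, -, h4⟩ := kappa_compl_facts hHall hKU
  have hNM : U ⊔ sigmaCore M ≤ M := sup_le hKU.compl.1 (sigmaCore_le_self_h23 M)
  have h1 := Cfsg.Agent.Lib.Helper54.card_mul_relIndex hNM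
  rw [← h4] at h1
  exact Nat.eq_of_mul_eq_mul_left Nat.card_pos h1

/-- Elements of `M` of order dividing `|U M_σ|` lie in `U M_σ`. -/
theorem mem_sup_of_pow_card_eq_one [Finite G] {M K U : Subgroup G}
    (hHall : IsPiHallOf (sigma M) (sigmaCore M) M) (hKU : IsSigmaDecomposition M K U) {a : G}
    (ha : a ∈ M) (h : a ^ Nat.card (U ⊔ sigmaCore M : Subgroup G) = 1) :
    a ∈ U ⊔ sigmaCore M := by
  obtain ⟨-, hcop, -, -⟩ := kappa_compl_facts hHall hKU
  have hMN := le_normalizer_sup_sigmaCore_of_sigmaDecomposition hKU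
  have hnorm : ((U ⊔ sigmaCore M).subgroupOf M).Normal :=
    Subgroup.normal_subgroupOf_of_le_normalizer hMN
  have hidx : ((U ⊔ sigmaCore M).subgroupOf M).index = Nat.card K :=
    relIndex_sup_sigmaCore_of_sigmaDecomposition hHall hKU
  have hord : orderOf (⟨a, ha⟩ : M) ∣ Nat.card (U ⊔ sigmaCore M : Subgroup G) := by
    apply orderOf_dvd_of_pow_eq_one
    apply Subtype.ext
    simpa using h
  have hc : (Nat.card (Subgroup.zpowers (⟨a, ha⟩ : M))).Coprime
      ((U ⊔ sigmaCore M).subgroupOf M).index := by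
    rw [hidx, Nat.card_zpowers]
    exact (Nat.Coprime.coprime_dvd_right hord hcop).symm
  have hle := le_normal_of_coprime_card_index (Subgroup.zpowers (⟨a, ha⟩ : M))
    ((U ⊔ sigmaCore M).subgroupOf M) hc
  exact Subgroup.mem_subgroupOf.mp (hle (Subgroup.mem_zpowers _))

/-- An element of `M` of order dividing `|K|` is `M`-conjugate to an element of `K`. -/
theorem exists_conj_mem_of_pow_card_eq_one [Finite G] {M K U : Subgroup G}
    (hsolv : Group.IsSolvable M)
    (hHall : IsPiHallOf (sigma M) (sigmaCore M) M) (hKU : IsSigmaDecomposition M K U) {b : G}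
    (hb : b ∈ M) (h : b ^ Nat.card K = 1) : ∃ g ∈ M, g⁻¹ * b * g ∈ K := by
  obtain ⟨-, hcop, -, h4⟩ := kappa_compl_facts hHall hKU
  have hMN := le_normalizer_sup_sigmaCore_of_sigmaDecomposition hKU
  have hNM : U ⊔ sigmaCore M ≤ M := sup_le hKU.compl.1 (sigmaCore_le_self_h23 M)
  have hnorm : ((U ⊔ sigmaCore M).subgroupOf M).Normal :=
    Subgroup.normal_subgroupOf_of_le_normalizer hMN
  have cN : Nat.card ((U ⊔ sigmaCore M).subgroupOf M) =
      Nat.card (U ⊔ sigmaCore M : Subgroup G) :=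
    Nat.card_congr (Subgroup.subgroupOfEquivOfLe hNM).toEquiv
  have cK : Nat.card (K.subgroupOf M) = Nat.card K :=
    Nat.card_congr (Subgroup.subgroupOfEquivOfLe hKU.hall.1).toEquiv
  have hcompl : Subgroup.IsComplement' ((U ⊔ sigmaCore M).subgroupOf M) (K.subgroupOf M) :=
    Subgroup.isComplement'_of_coprime (by rw [cN, cK, h4]) (by rw [cN, cK]; exact hcop.symm)
  have hord : orderOf (⟨b, hb⟩ : M) ∣ Nat.card K := by
    apply orderOf_dvd_of_pow_eq_one
    apply Subtype.ext
    simpa using h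
  have hcB : (Nat.card ((U ⊔ sigmaCore M).subgroupOf M)).Coprime
      (Nat.card (Subgroup.zpowers (⟨b, hb⟩ : M))) := by
    rw [cN, Nat.card_zpowers]
    exact (Nat.Coprime.coprime_dvd_left hord hcop).symm
  have hsolN : Group.IsSolvable ((U ⊔ sigmaCore M).subgroupOf M) :=
    Group.isSolvable_of_isSolvable_injective (f := ((U ⊔ sigmaCore M).subgroupOf M).subtype)
      (Subgroup.subtype_injective _)
  obtain ⟨g, hg⟩ := Cfsg.Agent.Lib.Helper1.exists_le_conj_of_coprime
    ((U ⊔ sigmaCore M).subgroupOf M) (K.subgroupOf M) (Subgroup.zpowers (⟨b, hb⟩ : M))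
    hcompl hcB hsolN
  have h1 := hg (Subgroup.mem_zpowers _)
  rw [Cfsg.Agent.Lib.Helper54.mem_conj_smul_iff, Subgroup.mem_subgroupOf] at h1
  exact ⟨g, g.2, by simpa using h1⟩

/-- `x ^ |H| = 1` for `x ∈ H`. -/
theorem pow_card_eq_one_of_mem_h23 {H : Subgroup G} [Finite H] {x : G} (hx : x ∈ H) :
    x ^ Nat.card H = 1 := by
  have h := congrArg Subtype.val (pow_card_eq_one' (G := H) (x := ⟨x, hx⟩))
  rw [Subgroup.coe_pow, Subgroup.coe_one] at h
  exact h

/-- S1371 from S1354 and S1370 (hypotheses). -/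
theorem s1371_of [Finite G] (M K U : Subgroup G) (hsolv : Group.IsSolvable M)
    (hHall : IsPiHallOf (sigma M) (sigmaCore M) M) (hKU : IsSigmaDecomposition M K U)
    (hcentK : ∀ k ∈ K, k ≠ 1 → M ⊓ Subgroup.centralizer ({k} : Set G) =
      K ⊔ (sigmaCore M ⊓ Subgroup.centralizer (K : Set G)))
    (hTI : IsTISubset (zHat K (sigmaCore M ⊓ Subgroup.centralizer (K : Set G))))
    (hNZ : Subgroup.normalizer (zHat K (sigmaCore M ⊓ Subgroup.centralizer (K : Set G))) =
      K ⊔ (sigmaCore M ⊓ Subgroup.centralizer (K : Set G))) :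
    conjClassIn M (zHat K (sigmaCore M ⊓ Subgroup.centralizer (K : Set G))) =
        sigmaA0 M K \ sigmaA M U ∧
      IsTISubset (sigmaA0 M K \ sigmaA M U) := by
  set Ks : Subgroup G := sigmaCore M ⊓ Subgroup.centralizer (K : Set G) with hKs
  have hσM : sigmaCore M ≤ M := sigmaCore_le_self_h23 M
  have hKsσ : Ks ≤ sigmaCore M := inf_le_left
  have hZM : K ⊔ Ks ≤ M := sup_le hKU.hall.1 (hKsσ.trans hσM)
  have hcomm : ∀ a ∈ K, ∀ b ∈ Ks, a * b = b * a :=
    fun a ha b hb => (Subgroup.mem_centralizer_iff.mp hb.2) a ha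
  obtain ⟨-, hcop, hKN, h4⟩ := kappa_compl_facts hHall hKU
  have hcKσ : (Nat.card K).Coprime (Nat.card (sigmaCore M)) :=
    coprime_card_kappa_sigmaCore hHall hKU.hall.2.1
  have hMN := le_normalizer_sup_sigmaCore_of_sigmaDecomposition hKU
  have hconjN : ∀ m ∈ M, ∀ n ∈ U ⊔ sigmaCore M, m * n * m⁻¹ ∈ U ⊔ sigmaCore M :=
    fun m hm n hn => (Subgroup.mem_normalizer_iff.mp (hMN hm) n).mp hn
  have hone : (1 : G) ∉ zHat K Ks := fun h => (mem_zHat_iff.mp h).2.1 K.one_mem
  -- the set equality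
  have heq : conjClassIn M (zHat K Ks) = sigmaA0 M K \ sigmaA M U := by
    apply Set.Subset.antisymm
    · rintro a ⟨m, hm, z, hz, rfl⟩
      obtain ⟨x, hx, hx1, y, hy, hy1, rfl⟩ := exists_mul_of_mem_zHat hcomm hz
      have hzM : x * y ∈ M := hZM (mem_zHat_iff.mp hz).1
      have hxy : x * y = y * x := hcomm x hx y hy
      have hHat : m * (x * y) * m⁻¹ ∈ sigmaHat M := by
        refine ⟨M.mul_mem (M.mul_mem hm hzM) (M.inv_mem hm), m * y * m⁻¹,
          conj_mem_sigmaCore_of_mem hm (hKsσ hy), ?_, ?_⟩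
        · intro h
          apply hy1
          calc y = m⁻¹ * (m * y * m⁻¹) * m := by group
            _ = 1 := by rw [h]; group
        · have hxyy : x * y * y = y * (x * y) := by
            calc x * y * y = y * x * y := by rw [hxy]
              _ = y * (x * y) := mul_assoc _ _ _
          calc m * (x * y) * m⁻¹ * (m * y * m⁻¹) = m * (x * y * y) * m⁻¹ := by group
            _ = m * (y * (x * y)) * m⁻¹ := by rw [hxyy]
            _ = m * y * m⁻¹ * (m * (x * y) * m⁻¹) := by group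
      refine ⟨⟨hHat, ?_⟩, ?_⟩
      · rintro ⟨k, hk, -, m', hm', hkeq⟩
        apply hy1
        have hke : k ^ Nat.card K = 1 := pow_card_eq_one_of_mem_h23 hk
        have hxe : x ^ Nat.card K = 1 := pow_card_eq_one_of_mem_h23 hx
        have h1 : x * y = (m⁻¹ * m') * k * (m⁻¹ * m')⁻¹ := by
          calc x * y = m⁻¹ * (m * (x * y) * m⁻¹) * m := by group
            _ = m⁻¹ * (m' * k * m'⁻¹) * m := by rw [hkeq]
            _ = _ := by group
        have h2 : (x * y) ^ Nat.card K = 1 := by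
          rw [h1, conj_pow, hke]; group
        have hc : Commute x y := hxy
        rw [hc.mul_pow, hxe, one_mul] at h2
        have h3 : orderOf y ∣ Nat.card K := orderOf_dvd_of_pow_eq_one h2
        have h4' : orderOf y ∣ Nat.card (sigmaCore M) := by
          have : orderOf (⟨y, hKsσ hy⟩ : sigmaCore M) ∣ Nat.card (sigmaCore M) :=
            orderOf_dvd_natCard _
          rwa [← Subgroup.orderOf_coe] at this
        exact orderOf_eq_one_iff.mp (Nat.eq_one_of_dvd_coprimes hcKσ h3 h4')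
      · rintro ⟨-, hN⟩
        apply hx1
        have hN' : m * (x * y) * m⁻¹ ∈ U ⊔ sigmaCore M := hN
        have h1 : x * y ∈ U ⊔ sigmaCore M := by
          have := hconjN m⁻¹ (M.inv_mem hm) _ hN'
          have e : m⁻¹ * (m * (x * y) * m⁻¹) * m⁻¹⁻¹ = x * y := by group
          rwa [e] at this
        have h2 : x ∈ U ⊔ sigmaCore M := by
          have := Subgroup.mul_mem _ h1
            (Subgroup.inv_mem _ (Subgroup.mem_sup_right (hKsσ hy) : y ∈ U ⊔ sigmaCore M))
          simpa using this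
        have : x ∈ K ⊓ (U ⊔ sigmaCore M) := ⟨hx, h2⟩
        rw [hKN, Subgroup.mem_bot] at this
        exact this
    · rintro a ⟨⟨hHat, hnc⟩, hnA⟩
      have haM : a ∈ M := hHat.1
      have haN : a ∉ U ⊔ sigmaCore M := fun h => hnA ⟨hHat, h⟩
      have ha1 : a ≠ 1 := by
        rintro rfl
        exact haN (Subgroup.one_mem _)
      set d := Nat.card (U ⊔ sigmaCore M : Subgroup G) with hd
      set b := a ^ d with hb
      have hbM : b ∈ M := M.pow_mem haM d
      have hbe : b ^ Nat.card K = 1 := by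
        rw [hb, ← pow_mul, h4]
        exact pow_card_eq_one_of_mem_h23 haM
      have hb1 : b ≠ 1 := fun h => haN (mem_sup_of_pow_card_eq_one hHall hKU haM h)
      obtain ⟨g, hgM, hgb⟩ := exists_conj_mem_of_pow_card_eq_one hsolv hHall hKU hbM hbe
      have hk1 : g⁻¹ * b * g ≠ 1 := by
        intro h
        apply hb1
        calc b = g * (g⁻¹ * b * g) * g⁻¹ := by group
          _ = 1 := by rw [h]; group
      have hab : a * b = b * a := ((Commute.refl a).pow_right d).eq
      have ha'M : g⁻¹ * a * g ∈ M := M.mul_mem (M.mul_mem (M.inv_mem hgM) haM) hgM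
      have ha'c : g⁻¹ * a * g ∈ Subgroup.centralizer ({g⁻¹ * b * g} : Set G) := by
        rw [Subgroup.mem_centralizer_singleton_iff]
        calc g⁻¹ * a * g * (g⁻¹ * b * g) = g⁻¹ * (a * b) * g := by group
          _ = g⁻¹ * (b * a) * g := by rw [hab]
          _ = g⁻¹ * b * g * (g⁻¹ * a * g) := by group
      have ha'Z : g⁻¹ * a * g ∈ K ⊔ Ks := by
        rw [← hcentK _ hgb hk1]
        exact ⟨ha'M, ha'c⟩
      have hag : a = g * (g⁻¹ * a * g) * g⁻¹ := by group
      refine ⟨g, hgM, g⁻¹ * a * g, ?_, hag⟩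
      rw [mem_zHat_iff]
      refine ⟨ha'Z, ?_, ?_⟩
      · intro h
        apply hnc
        refine ⟨g⁻¹ * a * g, h, ?_, g, hgM, hag⟩
        intro h1
        apply ha1
        rw [hag, h1]; group
      · intro h
        apply haN
        rw [hag]
        exact hconjN g hgM _ (Subgroup.mem_sup_right (hKsσ h))
  refine ⟨heq, ?_⟩
  rw [← heq]
  have hMT : ∀ m₀ ∈ M, ∀ n ∈ conjClassIn M (zHat K Ks), m₀ * n * m₀⁻¹ ∈ conjClassIn M (zHat K Ks) := by
    rintro m₀ hm₀ _ ⟨m, hm, z, hz, rfl⟩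
    exact ⟨m₀ * m, M.mul_mem hm₀ hm, z, hz, by group⟩
  intro g hg t ht hgt
  exfalso
  apply hg
  suffices hgM : g ∈ M by
    rw [Subgroup.mem_set_normalizer_iff]
    intro n
    constructor
    · exact hMT g hgM n
    · intro h
      have := hMT g⁻¹ (M.inv_mem hgM) _ h
      have e : g⁻¹ * (g * n * g⁻¹) * g⁻¹⁻¹ = n := by group
      rwa [e] at this
  obtain ⟨m, hm, z, hz, rfl⟩ := ht
  obtain ⟨m', hm', z', hz', hzz'⟩ := hgt
  have hconj : (m'⁻¹ * g * m) * z * (m'⁻¹ * g * m)⁻¹ = z' := by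
    calc (m'⁻¹ * g * m) * z * (m'⁻¹ * g * m)⁻¹ = m'⁻¹ * (g * (m * z * m⁻¹) * g⁻¹) * m' := by group
      _ = m'⁻¹ * (m' * z' * m'⁻¹) * m' := by rw [hzz']
      _ = z' := by group
  have hh : m'⁻¹ * g * m ∈ Subgroup.normalizer (zHat K Ks) := by
    by_contra hcon
    have := hTI _ hcon z hz (by rw [hconj]; exact hz')
    rw [this] at hz
    exact hone hz
  rw [hNZ] at hh
  have hhM := hZM hh
  have : g = m' * (m'⁻¹ * g * m) * m⁻¹ := by group
  rw [this]
  exact M.mul_mem (M.mul_mem hm' hhM) (M.inv_mem hm)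

end BGFourteenE

end Cfsg.Agent.Lib.Helper23
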