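/-
helper23: module BP-[L1-DECOMP] of helper92's sheet (Broué–Puig project): every idempotent of a
ring with a positive additive rank function is a sum of pairwise orthogonal primitive idempotents.
-/
import Mathlib
import Cfsg.Agent.Lib.Helper92.BPDefs

set_option autoImplicit false

namespace Cfsg.Agent.Lib.Helper23.BP

open Polynomial Cfsg.Agent.Lib.Helper92.BP

/-- the complement `e - f` of a sub-idempotent -/
theorem idemLE_sub {Λ : Type*} [Ring Λ] {e f : Λ} (he : IsIdempotentElem e) (hf : IdemLE f e) :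
    IdemLE (e - f) e ∧ Orth f (e - f) := by
  obtain ⟨hff, hef, hfe⟩ := hf
  refine ⟨⟨?_, ?_, ?_⟩, ?_, ?_⟩
  · show (e - f) * (e - f) = e - f
    calc (e - f) * (e - f) = e * e - e * f - f * e + f * f := by noncomm_ring
      _ = e - f := by rw [he.eq, hef, hfe, hff.eq]; abel
  · calc e * (e - f) = e * e - e * f := by noncomm_ring
      _ = e - f := by rw [he.eq, hef]
  · calc (e - f) * e = e * e - f * e := by noncomm_ring
      _ = e - f := by rw [he.eq, hfe]
  · calc f * (e - f) = f * e - f * f := by noncomm_ring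
      _ = 0 := by rw [hfe, hff.eq, sub_self]
  · calc (e - f) * f = e * f - f * f := by noncomm_ring
      _ = 0 := by rw [hef, hff.eq, sub_self]

/-- transitivity of `IdemLE` -/
theorem idemLE_trans {Λ : Type*} [Ring Λ] {x f e : Λ} (hx : IdemLE x f) (hf : IdemLE f e) :
    IdemLE x e := by
  obtain ⟨hxx, hfx, hxf⟩ := hx
  obtain ⟨-, hef, hfe⟩ := hf
  refine ⟨hxx, ?_, ?_⟩
  · calc e * x = e * (f * x) := by rw [hfx]
      _ = (e * f) * x := by noncomm_ring
      _ = x := by rw [hef, hfx]
  · calc x * e = (x * f) * e := by rw [hxf]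
      _ = x * (f * e) := by noncomm_ring
      _ = x := by rw [hfe, hxf]

/-- sub-idempotents of orthogonal idempotents are orthogonal -/
theorem orth_of_idemLE {Λ : Type*} [Ring Λ] {x y f g : Λ} (hx : IdemLE x f) (hy : IdemLE y g)
    (hfg : Orth f g) : Orth x y := by
  obtain ⟨-, hfx, hxf⟩ := hx
  obtain ⟨-, hgy, hyg⟩ := hy
  obtain ⟨h1, h2⟩ := hfg
  constructor
  · calc x * y = (x * f) * (g * y) := by rw [hxf, hgy]
      _ = x * (f * g) * y := by noncomm_ring
      _ = 0 := by rw [h1]; noncomm_ring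
  · calc y * x = (y * g) * (f * x) := by rw [hyg, hfx]
      _ = y * (g * f) * x := by noncomm_ring
      _ = 0 := by rw [h2]; noncomm_ring

/-- the strengthened statement: all members of the list lie below `e` -/
theorem exists_prim_decomp_le {Λ : Type*} [Ring Λ] (rk : Λ → ℕ)
    (hpos : ∀ e : Λ, IsIdempotentElem e → e ≠ 0 → 0 < rk e)
    (hadd : ∀ e f : Λ, IsIdempotentElem e → IsIdempotentElem f → Orth e f →
      rk (e + f) = rk e + rk f) :
    ∀ (n : ℕ) (e : Λ), IsIdempotentElem e → rk e ≤ n →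
      ∃ l : List Λ, (∀ x ∈ l, IsPrimIdem x ∧ IdemLE x e) ∧ l.Pairwise Orth ∧ l.sum = e := by
  intro n
  induction n using Nat.strong_induction_on with
  | _ n ih =>
    intro e he hn
    by_cases he0 : e = 0
    · exact ⟨[], by simp, List.Pairwise.nil, by simp [he0]⟩
    by_cases hprim : IsPrimIdem e
    · refine ⟨[e], ?_, List.pairwise_singleton _ _, by simp⟩
      intro x hx
      rw [List.mem_singleton] at hx
      subst hx
      exact ⟨hprim, he, he.eq, he.eq⟩
    · -- a proper decomposition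
      have : ∃ f : Λ, IdemLE f e ∧ f ≠ 0 ∧ f ≠ e := by
        by_contra hcon
        push Not at hcon
        apply hprim
        refine ⟨he, he0, fun f hf => ?_⟩
        by_cases hf0 : f = 0
        · exact Or.inl hf0
        · exact Or.inr (hcon f hf hf0)
      obtain ⟨f, hfe, hf0, hfne⟩ := this
      obtain ⟨hge, horth⟩ := idemLE_sub he hfe
      have hg0 : e - f ≠ 0 := fun h => hfne (sub_eq_zero.mp h).symm
      have hsum : rk e = rk f + rk (e - f) := by
        have := hadd f (e - f) hfe.1 hge.1 horth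
        rwa [add_sub_cancel] at this
      have hfpos := hpos f hfe.1 hf0
      have hgpos := hpos (e - f) hge.1 hg0
      obtain ⟨l₁, hl₁, hp₁, hs₁⟩ := ih (rk f) (by omega) f hfe.1 le_rfl
      obtain ⟨l₂, hl₂, hp₂, hs₂⟩ := ih (rk (e - f)) (by omega) (e - f) hge.1 le_rfl
      refine ⟨l₁ ++ l₂, ?_, ?_, ?_⟩
      · intro x hx
        rcases List.mem_append.mp hx with hx | hx
        · exact ⟨(hl₁ x hx).1, idemLE_trans (hl₁ x hx).2 hfe⟩
        · exact ⟨(hl₂ x hx).1, idemLE_trans (hl₂ x hx).2 hge⟩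
      · rw [List.pairwise_append]
        exact ⟨hp₁, hp₂, fun x hx y hy => orth_of_idemLE (hl₁ x hx).2 (hl₂ y hy).2 horth⟩
      · rw [List.sum_append, hs₁, hs₂]; abel

/-- BP-[L1-DECOMP] : every idempotent is a sum of pairwise orthogonal primitive idempotents,
given a positive additive rank function -/
theorem exists_prim_decomp {Λ : Type*} [Ring Λ] (rk : Λ → ℕ)
    (hpos : ∀ e : Λ, IsIdempotentElem e → e ≠ 0 → 0 < rk e)
    (hadd : ∀ e f : Λ, IsIdempotentElem e → IsIdempotentElem f → Orth e f →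
      rk (e + f) = rk e + rk f)
    (e : Λ) (he : IsIdempotentElem e) :
    ∃ l : List Λ, (∀ x ∈ l, IsPrimIdem x) ∧ l.Pairwise Orth ∧ l.sum = e := by
  obtain ⟨l, hl, hp, hs⟩ := exists_prim_decomp_le rk hpos hadd (rk e) e he le_rfl
  exact ⟨l, fun x hx => (hl x hx).1, hp, hs⟩

end Cfsg.Agent.Lib.Helper23.BP
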