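/-
helper23: module BP-[L2-MACKEY] of helper92's sheet (Broué–Puig project): the Mackey formula for
relative traces in the `G`-algebra `R[G]`, and existence of double coset representatives.
Uses helper9's `BPTr2.lean` (transversal form of the relative trace).
-/
import Mathlib
import Cfsg.Agent.Lib.Helper92.BPGAlg
import Cfsg.Agent.Lib.Helper9.BPTr2

set_option autoImplicit false
set_option linter.unusedVariables false
set_option linter.style.haveILetI false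

namespace Cfsg.Agent.Lib.Helper23.BP

open Cfsg.Agent.Lib.Helper92.BP Cfsg.Agent.Lib.Helper9.BP

section
variable {R : Type*} [CommRing R] {G : Type*} [Group G]

/-- the `(Z, X)`-double coset relation on `Y` -/
def dcSetoid (X Z Y : Subgroup G) : Setoid Y where
  r q q' := ∃ z ∈ Z, ∃ x ∈ X, (q' : G) = z * (q : G) * x
  iseqv :=
    { refl := fun q => ⟨1, Z.one_mem, 1, X.one_mem, by group⟩
      symm := by
        rintro q q' ⟨z, hz, x, hx, h⟩
        refine ⟨z⁻¹, Z.inv_mem hz, x⁻¹, X.inv_mem hx, ?_⟩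
        rw [h]; group
      trans := by
        rintro q q' q'' ⟨z, hz, x, hx, h⟩ ⟨z', hz', x', hx', h'⟩
        refine ⟨z' * z, Z.mul_mem hz' hz, x * x', X.mul_mem hx hx', ?_⟩
        rw [h', h]; group }

/-- BP-[L2-MACKEY] : existence of double coset representatives -/
theorem exists_doubleCoset_reps [Finite G] (X Z Y : Subgroup G) (hX : X ≤ Y) (hZ : Z ≤ Y) :
    ∃ D : Finset G, (∀ y ∈ D, y ∈ Y) ∧
      ∀ q ∈ Y, ∃! y, y ∈ D ∧ ∃ z ∈ Z, ∃ x ∈ X, q = z * y * x := by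
  classical
  let s := dcSetoid X Z Y
  have hfin : (Set.range fun c : Quotient s => ((Quotient.out c : Y) : G)).Finite :=
    Set.toFinite _
  refine ⟨hfin.toFinset, ?_, ?_⟩
  · intro y hy
    rw [Set.Finite.mem_toFinset] at hy
    obtain ⟨c, rfl⟩ := hy
    exact (Quotient.out c : Y).2
  · intro q hq
    have hrel : s.r (Quotient.out (Quotient.mk s ⟨q, hq⟩)) ⟨q, hq⟩ :=
      Quotient.exact (Quotient.out_eq _)
    refine ⟨((Quotient.out (Quotient.mk s ⟨q, hq⟩) : Y) : G), ⟨?_, ?_⟩, ?_⟩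
    · rw [Set.Finite.mem_toFinset]
      exact ⟨_, rfl⟩
    · obtain ⟨z, hz, x, hx, h⟩ := hrel
      exact ⟨z, hz, x, hx, h⟩
    · rintro y' ⟨hy', z, hz, x, hx, h⟩
      rw [Set.Finite.mem_toFinset] at hy'
      obtain ⟨c, rfl⟩ := hy'
      have h1 : s.r (Quotient.out c) ⟨q, hq⟩ := ⟨z, hz, x, hx, h⟩
      have h2 : Quotient.mk s (Quotient.out c) = Quotient.mk s ⟨q, hq⟩ := Quotient.sound h1
      rw [Quotient.out_eq] at h2
      rw [h2]

/-- BP-[L2-MACKEY] : the Mackey formula -/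
theorem mackey [Finite G] {X Z Y : Subgroup G} (hX : X ≤ Y) (hZ : Z ≤ Y)
    {a : MonoidAlgebra R G} (ha : a ∈ fixedAlg R X) (D : Finset G) (hDY : ∀ y ∈ D, y ∈ Y)
    (hD : ∀ q ∈ Y, ∃! y, y ∈ D ∧ ∃ z ∈ Z, ∃ x ∈ X, q = z * y * x) :
    relTr R X Y a =
      ∑ y ∈ D, relTr R (Z ⊓ X.map (MulAut.conj y).toMonoidHom) Z (conj R y a) := by
  classical
  letI : ∀ y : G, Fintype (Z ⧸ (Z ⊓ X.map (MulAut.conj y).toMonoidHom).subgroupOf Z) :=
    fun y => Fintype.ofFinite _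
  -- the transversal `{t y}` indexed by a sigma type
  let ι := Σ y : D, Z ⧸ (Z ⊓ X.map (MulAut.conj (y : G)).toMonoidHom).subgroupOf Z
  let r : ι → G := fun i => ((Quotient.out i.2 : Z) : G) * (i.1 : G)
  have hrQ : ∀ i : ι, r i ∈ Y := fun i =>
    Y.mul_mem (hZ (Quotient.out i.2 : Z).2) (hDY _ i.1.2)
  have hmemX : ∀ (y s : G), s ∈ X.map (MulAut.conj y).toMonoidHom → y⁻¹ * s * y ∈ X := by
    rintro y _ ⟨x, hx, rfl⟩
    rw [MulEquiv.coe_toMonoidHom, MulAut.conj_apply]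
    have : y⁻¹ * (y * x * y⁻¹) * y = x := by group
    rw [this]; exact hx
  have hr : ∀ q ∈ Y, ∃! i : ι, (r i)⁻¹ * q ∈ X := by
    intro q hq
    obtain ⟨y, ⟨hyD, z, hz, x, hx, hqe⟩, hyuniq⟩ := hD q hq
    -- existence
    obtain ⟨s, hs⟩ := QuotientGroup.mk_out_eq_mul
      ((Z ⊓ X.map (MulAut.conj y).toMonoidHom).subgroupOf Z) (⟨z, hz⟩ : Z)
    have hsmem : ((s : Z) : G) ∈ Z ⊓ X.map (MulAut.conj y).toMonoidHom :=
      Subgroup.mem_subgroupOf.1 s.2
    refine ⟨⟨⟨y, hyD⟩, QuotientGroup.mk ⟨z, hz⟩⟩, ?_, ?_⟩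
    · show (((Quotient.out (QuotientGroup.mk (⟨z, hz⟩ : Z) :
          Z ⧸ (Z ⊓ X.map (MulAut.conj y).toMonoidHom).subgroupOf Z) : Z) : G) * y)⁻¹ * q ∈ X
      rw [hs, Subgroup.coe_mul, hqe]
      have h1 : (z * ((s : Z) : G) * y)⁻¹ * (z * y * x) = (y⁻¹ * ((s : Z) : G) * y)⁻¹ * x := by
        group
      rw [h1]
      exact X.mul_mem (X.inv_mem (hmemX y _ hsmem.2)) hx
    · rintro ⟨⟨y', hy'D⟩, c'⟩ hi'
      -- hi' : (out c' * y')⁻¹ * q ∈ X
      have hi'' : (((Quotient.out c' : Z) : G) * y')⁻¹ * q ∈ X := hi'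
      have hq' : q = ((Quotient.out c' : Z) : G) * y' * ((((Quotient.out c' : Z) : G) * y')⁻¹ * q) := by
        group
      have hyy : y' = y := hyuniq y' ⟨hy'D, _, (Quotient.out c' : Z).2, _, hi'', hq'⟩
      subst hyy
      have hc' : c' = QuotientGroup.mk ⟨z, hz⟩ := by
        rw [← QuotientGroup.out_eq' c']
        apply QuotientGroup.eq.2
        rw [Subgroup.mem_subgroupOf]
        refine ⟨Z.mul_mem (Z.inv_mem (Quotient.out c' : Z).2) hz, ?_⟩
        -- (out c')⁻¹ * z = y' * (x' * x⁻¹) * y'⁻¹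
        refine ⟨((((Quotient.out c' : Z) : G) * y')⁻¹ * q) * x⁻¹,
          X.mul_mem hi'' (X.inv_mem hx), ?_⟩
        rw [MulEquiv.coe_toMonoidHom, MulAut.conj_apply]
        conv_lhs => rw [hqe]
        show y' * ((((Quotient.out c' : Z) : G) * y')⁻¹ * (z * y' * x) * x⁻¹) * y'⁻¹ =
          ((Quotient.out c' : Z)⁻¹ * (⟨z, hz⟩ : Z) : Z)
        rw [Subgroup.coe_mul, Subgroup.coe_inv]
        group
      rw [hc']
  rw [relTr_eq_sum_of_reps' ha r hrQ hr]
  rw [Fintype.sum_sigma, ← Finset.sum_coe_sort D]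
  refine Finset.sum_congr rfl fun y _ => ?_
  rw [relTr_eq_sum]
  refine Finset.sum_congr rfl fun c _ => ?_
  rw [conj_conj']

end

end Cfsg.Agent.Lib.Helper23.BP
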