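/-
helper23: module BP-[L1-MVN] of helper92's sheet (Broué–Puig project): Murray–von Neumann
equivalence of idempotents.
-/
import Mathlib
import Cfsg.Agent.Lib.Helper92.BPDefs

set_option autoImplicit false

namespace Cfsg.Agent.Lib.Helper23.BP

open Polynomial Cfsg.Agent.Lib.Helper92.BP

/-- BP-[L1-MVN] : a "split" composite through another idempotent gives an equivalent
sub-idempotent -/
theorem exists_mvn_of_cornerUnit {Λ : Type*} [Ring Λ] {e f : Λ} (he : IsIdempotentElem e)
    (hf : IsIdempotentElem f) (a b : Λ) (ha : e * a = a ∧ a * f = a) (hb : f * b = b ∧ b * e = b)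
    (hab : CornerUnit e (a * b)) : ∃ f' : Λ, IdemLE f' f ∧ MvN e f' := by
  obtain ⟨-, w, ⟨hew, hwe⟩, habw, hwab⟩ := hab
  have h1 : w * a * b = e := by rw [mul_assoc]; exact hwab
  refine ⟨b * (w * a), ⟨?_, ?_, ?_⟩, w * a, b, ?_, rfl⟩
  · -- idempotent
    show b * (w * a) * (b * (w * a)) = b * (w * a)
    calc b * (w * a) * (b * (w * a)) = b * (w * a * b) * (w * a) := by noncomm_ring
      _ = b * e * (w * a) := by rw [h1]
      _ = b * (w * a) := by rw [hb.2]
  · calc f * (b * (w * a)) = (f * b) * (w * a) := by noncomm_ring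
      _ = b * (w * a) := by rw [hb.1]
  · calc b * (w * a) * f = b * (w * (a * f)) := by noncomm_ring
      _ = b * (w * a) := by rw [ha.2]
  · exact h1

/-- BP-[L1-MVN] : equivalence preserves primitivity -/
theorem isPrimIdem_of_mvn {Λ : Type*} [Ring Λ] {e f : Λ} (he : IsPrimIdem e)
    (hf : IsIdempotentElem f) (h : MvN e f) : IsPrimIdem f := by
  obtain ⟨a, b, hab, hba⟩ := h
  obtain ⟨hee, he0, hmin⟩ := he
  refine ⟨hf, ?_, ?_⟩
  · intro hf0
    apply he0
    have : e = a * (b * a) * b := by
      calc e = e * e := hee.eq.symm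
        _ = a * (b * a) * b := by rw [← hab]; noncomm_ring
    rw [this, hba, hf0]
    noncomm_ring
  · rintro g ⟨hgg, hfg, hgf⟩
    have hg' : IdemLE (a * g * b) e := by
      refine ⟨?_, ?_, ?_⟩
      · show a * g * b * (a * g * b) = a * g * b
        calc a * g * b * (a * g * b) = a * (g * (b * a) * g) * b := by noncomm_ring
          _ = a * g * b := by rw [hba, hgf, hgg.eq]
      · calc e * (a * g * b) = a * ((b * a) * g) * b := by rw [← hab]; noncomm_ring
          _ = a * g * b := by rw [hba, hfg]
      · calc a * g * b * e = a * (g * (b * a)) * b := by rw [← hab]; noncomm_ring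
          _ = a * g * b := by rw [hba, hgf]
    have hrec : g = b * (a * g * b) * a := by
      calc g = f * g * f := by rw [hfg, hgf]
        _ = b * (a * g * b) * a := by rw [← hba]; noncomm_ring
    rcases hmin _ hg' with h0 | h1
    · left
      rw [hrec, h0]
      noncomm_ring
    · right
      rw [hrec, h1, ← hab]
      calc b * (a * b) * a = (b * a) * (b * a) := by noncomm_ring
        _ = f := by rw [hba, hf.eq]

end Cfsg.Agent.Lib.Helper23.BP
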