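/-
helper23: module S0889-[SP-IND] of helper80's sheet (Berger's theorem S0889, Wolf's bound, scalar case):
the symplectic-type induction.  The two inputs [SP-STEP] and [AR] are explicit hypotheses
(`SpStepStmt`, `ArStmt`), to be discharged with the landed modules.
-/
import Mathlib

set_option autoImplicit false

namespace Cfsg.Agent.Lib.Helper23.BergerSpInd

universe u

open scoped commutatorElement

/-- the statement of module [SP-STEP] -/
def SpStepStmt (p : ℕ) : Prop :=
  ∀ {E : Type u} [Group E] [Finite E] {P : Type u} [Group P]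
    [Finite P] (φ : P →* MulAut E), IsCyclic (Subgroup.center E) →
    (Nat.card (Subgroup.center E)).Coprime p →
    (∀ a b : E, ⁅a, b⁆ ∈ Subgroup.center E) →
    (∀ a : E, ∃ s : ℕ, Squarefree s ∧ a ^ s ∈ Subgroup.center E) →
    IsPGroup p P → Function.Injective φ →
    (∀ x : P, ∀ z ∈ Subgroup.center E, φ x z = z) → Subgroup.center E ≠ ⊤ →
    ∃ (r : ℕ) (E' : Subgroup E) (P' : Subgroup P), r.Prime ∧ r ∣ Nat.card (Subgroup.center E) ∧
      Subgroup.center E ≤ E' ∧ E'.index = r ^ 2 ∧
      (∀ y ∈ E', (∀ g ∈ E', y * g = g * y) → y ∈ Subgroup.center E) ∧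
      (∀ x ∈ P', ∀ g ∈ E', φ x g ∈ E') ∧
      (∀ x ∈ P', (∀ g ∈ E', φ x g = g) → x = 1) ∧
      Nat.card P ≤
        p ^ ((r ^ ((Subgroup.center E).index.factorization r) - 1).factorization p) *
          Nat.card P'

/-- the statement of module [AR] -/
def ArStmt (p q : ℕ) : Prop :=
  ∀ r : ℕ, r.Prime → p ≠ r → r ∣ q - 1 → ∀ t : ℕ,
    p ^ ((r ^ (2 * (t + 1)) - 1).factorization p) ≤ q ^ (r ^ t * (r - 1))

section Restrict

variable {E : Type u} [Group E]

/-- restriction of an automorphism to an invariant subgroup -/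
def restrictAut (E' : Subgroup E) (a : MulAut E) (h : ∀ g ∈ E', a g ∈ E')
    (h' : ∀ g ∈ E', a⁻¹ g ∈ E') : MulAut E' where
  toFun g := ⟨a g, h g g.2⟩
  invFun g := ⟨a⁻¹ g, h' g g.2⟩
  left_inv g := by
    apply Subtype.ext
    simp
  right_inv g := by
    apply Subtype.ext
    simp
  map_mul' g g' := by
    apply Subtype.ext
    simp

@[simp] theorem restrictAut_apply (E' : Subgroup E) (a : MulAut E) (h : ∀ g ∈ E', a g ∈ E')
    (h' : ∀ g ∈ E', a⁻¹ g ∈ E') (g : E') : ((restrictAut E' a h h' g : E') : E) = a g := rfl

variable {P : Type u} [Group P]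

/-- the restricted action of a subgroup `P'` on an invariant subgroup `E'` -/
def restrictHom (φ : P →* MulAut E) (E' : Subgroup E) (P' : Subgroup P)
    (h : ∀ x ∈ P', ∀ g ∈ E', φ x g ∈ E') : P' →* MulAut E' :=
  MonoidHom.mk' (fun x => restrictAut E' (φ x) (h x x.2) (by
    intro g hg
    rw [← map_inv]
    exact h (x : P)⁻¹ (P'.inv_mem x.2) g hg)) (by
    intro x y
    apply MulEquiv.ext
    intro g
    apply Subtype.ext
    simp [MulAut.mul_apply])

@[simp] theorem restrictHom_apply (φ : P →* MulAut E) (E' : Subgroup E) (P' : Subgroup P)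
    (h : ∀ x ∈ P', ∀ g ∈ E', φ x g ∈ E') (x : P') (g : E') :
    ((restrictHom φ E' P' h x g : E') : E) = φ x g := rfl

end Restrict

theorem center_subgroup_eq {E : Type u} [Group E] (E' : Subgroup E)
    (hc : ∀ y ∈ E', (∀ g ∈ E', y * g = g * y) → y ∈ Subgroup.center E) :
    Subgroup.center E' = (Subgroup.center E).subgroupOf E' := by
  ext y
  rw [Subgroup.mem_center_iff, Subgroup.mem_subgroupOf]
  constructor
  · intro h
    apply hc y y.2
    intro g hg
    have := h ⟨g, hg⟩
    have h2 := congrArg Subtype.val this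
    simpa using h2.symm
  · intro h g
    apply Subtype.ext
    have := (Subgroup.mem_center_iff.mp h) (g : E)
    simpa using this


theorem coprime_pred_pow (p f : ℕ) (hp : p.Prime) (hf : 0 < f) : (p ^ f - 1).Coprime p := by
  have h1 : 1 ≤ p ^ f := Nat.one_le_pow _ _ hp.pos
  rw [Nat.coprime_comm, Nat.Prime.coprime_iff_not_dvd hp]
  intro hd
  have h2 : p ∣ p ^ f := dvd_pow_self p hf.ne'
  have h3 : p ∣ p ^ f - (p ^ f - 1) := Nat.dvd_sub h2 hd
  have h4 : p ^ f - (p ^ f - 1) = 1 := by omega
  rw [h4] at h3
  exact hp.one_lt.ne' (Nat.dvd_one.mp h3)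

/-- **S0889-[SP-IND]**, with [SP-STEP] and [AR] as hypotheses. -/
theorem sp_bound_of (p : ℕ) [Fact p.Prime] (q f : ℕ) (hf : 0 < f) (hq : q = p ^ f)
    (hstep : SpStepStmt.{u} p) (har : ArStmt p q) :
    ∀ (n : ℕ) {E : Type u} [Group E] [Finite E] {P : Type u} [Group P] [Finite P]
      (φ : P →* MulAut E), Nat.card E = n → IsCyclic (Subgroup.center E) →
      Nat.card (Subgroup.center E) ∣ q - 1 →
      (∀ a b : E, ⁅a, b⁆ ∈ Subgroup.center E) →
      (∀ a : E, ∃ s : ℕ, Squarefree s ∧ a ^ s ∈ Subgroup.center E) →
      IsPGroup p P → Function.Injective φ →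
      (∀ x : P, ∀ z ∈ Subgroup.center E, φ x z = z) →
      ∃ e : ℕ, e * e = (Subgroup.center E).index ∧ Nat.card P ≤ q ^ (e - 1) := by
  have hp : p.Prime := Fact.out
  have hq1 : 1 ≤ q := by rw [hq]; exact Nat.one_le_pow _ _ hp.pos
  intro n
  induction n using Nat.strong_induction_on with
  | _ n IH =>
    intro E _ _ P _ _ φ hn hcyc hdvd hcl hsq hP hφ hfix
    by_cases htop : Subgroup.center E = ⊤
    · refine ⟨1, by rw [htop, Subgroup.index_top], ?_⟩
      have hsub : Subsingleton P := by
        refine ⟨fun x y => hφ ?_⟩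
        apply MulEquiv.ext
        intro g
        rw [hfix x g (by rw [htop]; exact Subgroup.mem_top g),
          hfix y g (by rw [htop]; exact Subgroup.mem_top g)]
      rw [Nat.card_unique]
      simp
    · have hcop : (Nat.card (Subgroup.center E)).Coprime p := by
        have := coprime_pred_pow p f hp hf
        rw [← hq] at this
        exact Nat.Coprime.coprime_dvd_left hdvd this
      obtain ⟨r, E', P', hr, hrZ, hZE', hidx, hcent, hinv, hfaith, hcard⟩ :=
        hstep φ hcyc hcop hcl hsq hP hφ hfix htop
      have hrp : p ≠ r := by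
        intro h
        subst h
        have := Nat.Coprime.coprime_dvd_left hrZ hcop
        rw [Nat.coprime_self] at this
        exact hp.one_lt.ne' this
      have hrq : r ∣ q - 1 := hrZ.trans hdvd
      -- the restricted action
      set φ' := restrictHom φ E' P' hinv with hφ'
      have hcenter := center_subgroup_eq E' hcent
      have hequiv : ↥(Subgroup.center ↥E') ≃* ↥(Subgroup.center E) := by
        rw [hcenter]
        exact Subgroup.subgroupOfEquivOfLe hZE'
      have hcyc' : IsCyclic (Subgroup.center ↥E') :=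
        isCyclic_of_surjective hequiv.symm.toMonoidHom hequiv.symm.surjective
      have hcardZ : Nat.card (Subgroup.center ↥E') = Nat.card (Subgroup.center E) :=
        Nat.card_congr hequiv.toEquiv
      have hlt : Nat.card E' < n := by
        have h1 := Subgroup.card_mul_index E'
        rw [hidx, hn] at h1
        have h2 : 2 ≤ r := hr.two_le
        have h3 : 0 < Nat.card E' := Nat.card_pos
        have h4 : 4 ≤ r ^ 2 := by nlinarith
        nlinarith
      have hmemc : ∀ y : ↥E', (y : E) ∈ Subgroup.center E → y ∈ Subgroup.center ↥E' := by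
        intro y hy
        rw [hcenter, Subgroup.mem_subgroupOf]
        exact hy
      have hmemc' : ∀ y : ↥E', y ∈ Subgroup.center ↥E' → (y : E) ∈ Subgroup.center E := by
        intro y hy
        rw [hcenter, Subgroup.mem_subgroupOf] at hy
        exact hy
      obtain ⟨e', he', hP'⟩ := IH (Nat.card E') hlt φ' rfl hcyc' (by rw [hcardZ]; exact hdvd)
        (by
          intro a b
          apply hmemc
          have : ((⁅a, b⁆ : ↥E') : E) = ⁅(a : E), (b : E)⁆ := by
            simp [commutatorElement_def]
          rw [this]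
          exact hcl _ _)
        (by
          intro a
          obtain ⟨s, hs, has⟩ := hsq (a : E)
          refine ⟨s, hs, hmemc _ ?_⟩
          simpa using has)
        (hP.to_subgroup P')
        (by
          rw [injective_iff_map_eq_one]
          intro x hx
          have := hfaith x x.2 (by
            intro g hg
            have h1 := congrArg (fun a : MulAut ↥E' => ((a ⟨g, hg⟩ : ↥E') : E)) hx
            simpa [hφ'] using h1)
          exact Subtype.ext this)
        (by
          intro x z hz
          apply Subtype.ext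
          rw [hφ', restrictHom_apply]
          exact hfix x z (hmemc' z hz))
      -- index bookkeeping
      have hrel : (Subgroup.center ↥E').index = (Subgroup.center E).relIndex E' := by
        rw [hcenter]
        rfl
      have hindex : (Subgroup.center E).index = e' * e' * r ^ 2 := by
        rw [← Subgroup.relIndex_mul_index hZE', hidx, ← hrel, he']
      have hidx0 : (Subgroup.center E).index ≠ 0 := Subgroup.index_ne_zero_of_finite
      have he'0 : e' ≠ 0 := by
        rintro rfl
        rw [hindex] at hidx0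
        simp at hidx0
      have he'1 : 1 ≤ e' := Nat.one_le_iff_ne_zero.mpr he'0
      refine ⟨r * e', by rw [hindex]; ring, ?_⟩
      set t := e'.factorization r with ht
      have hfac : (Subgroup.center E).index.factorization r = 2 * (t + 1) := by
        rw [hindex, Nat.factorization_mul (mul_ne_zero he'0 he'0) (pow_ne_zero _ hr.ne_zero),
          Nat.factorization_mul he'0 he'0, Nat.factorization_pow]
        simp only [Finsupp.coe_add, Pi.add_apply, Finsupp.coe_smul, Pi.smul_apply, smul_eq_mul]
        rw [hr.factorization_self]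
        ring
      rw [hfac] at hcard
      have hrt : r ^ t ≤ e' := Nat.le_of_dvd (Nat.pos_of_ne_zero he'0) (Nat.ordProj_dvd e' r)
      have h1 := har r hr hrp hrq t
      have h2 : q ^ (r ^ t * (r - 1)) ≤ q ^ (e' * (r - 1)) :=
        Nat.pow_le_pow_right hq1 (Nat.mul_le_mul_right _ hrt)
      have h3 : e' * (r - 1) + (e' - 1) = r * e' - 1 := by
        have hr1 : 1 ≤ r := hr.one_lt.le
        obtain ⟨r', rfl⟩ := Nat.exists_eq_add_of_le hr1
        obtain ⟨e'', rfl⟩ := Nat.exists_eq_add_of_le he'1
        simp only [Nat.add_sub_cancel_left]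
        have : (1 + r') * (1 + e'') = (1 + e'') * r' + e'' + 1 := by ring
        rw [this]
        simp
      calc Nat.card P ≤ p ^ ((r ^ (2 * (t + 1)) - 1).factorization p) * Nat.card P' := hcard
        _ ≤ q ^ (e' * (r - 1)) * q ^ (e' - 1) := Nat.mul_le_mul (h1.trans h2) hP'
        _ = q ^ (r * e' - 1) := by rw [← pow_add, h3]

end Cfsg.Agent.Lib.Helper23.BergerSpInd
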