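/-
helper23: second half of module S0889-[SP-STEP] of helper80's sheet (Berger's theorem S0889):
from a hyperbolic pair `u₁, w₁` fixed by `P'` to the subgroup `E' = C_E(u₁) ∩ C_E(w₁)` of index `r²`.
Mathlib only.
-/
import Mathlib

set_option autoImplicit false

namespace Cfsg.Agent.Lib.Helper23.BergerSpPair

universe u

open scoped commutatorElement

section Comm

variable {E : Type u} [Group E]

theorem comm_mul_right (hcl : ∀ a b : E, ⁅a, b⁆ ∈ Subgroup.center E) (a b c : E) :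
    ⁅a, b * c⁆ = ⁅a, b⁆ * ⁅a, c⁆ := by
  have h := Subgroup.mem_center_iff.mp (hcl a c) b
  -- `b * ⁅a,c⁆ = ⁅a,c⁆ * b`
  simp only [commutatorElement_def] at h ⊢
  calc a * (b * c) * a⁻¹ * (b * c)⁻¹
      = a * b * a⁻¹ * ((a * c * a⁻¹ * c⁻¹) * b⁻¹) := by group
    _ = a * b * a⁻¹ * (b⁻¹ * (b * (a * c * a⁻¹ * c⁻¹)) * b⁻¹) := by group
    _ = a * b * a⁻¹ * (b⁻¹ * ((a * c * a⁻¹ * c⁻¹) * b) * b⁻¹) := by rw [h]
    _ = a * b * a⁻¹ * b⁻¹ * (a * c * a⁻¹ * c⁻¹) := by group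

/-- `g ↦ ⁅a, g⁆` as a homomorphism into the center -/
def commHom (hcl : ∀ a b : E, ⁅a, b⁆ ∈ Subgroup.center E) (a : E) : E →* ↥(Subgroup.center E) where
  toFun g := ⟨⁅a, g⁆, hcl a g⟩
  map_one' := by
    apply Subtype.ext
    simp
  map_mul' b c := by
    apply Subtype.ext
    simp [comm_mul_right hcl]

@[simp] theorem commHom_apply (hcl : ∀ a b : E, ⁅a, b⁆ ∈ Subgroup.center E) (a g : E) :
    ((commHom hcl a g : ↥(Subgroup.center E)) : E) = ⁅a, g⁆ := rfl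

theorem commHom_eq_one_iff (hcl : ∀ a b : E, ⁅a, b⁆ ∈ Subgroup.center E) (a g : E) :
    commHom hcl a g = 1 ↔ a * g = g * a := by
  rw [Subtype.ext_iff, commHom_apply, Subgroup.coe_one, commutatorElement_eq_one_iff_mul_comm]

theorem comm_self (a : E) : ⁅a, a⁆ = 1 := by
  rw [commutatorElement_eq_one_iff_mul_comm]

theorem comm_swap_inv (a b : E) : ⁅b, a⁆ = ⁅a, b⁆⁻¹ := (commutatorElement_inv a b).symm

end Comm


/-- From a hyperbolic pair `u₁, w₁` (with `⁅u₁, w₁⁆` of prime order `r` and all commutators with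
`u₁`, `w₁` in `⟨⁅u₁, w₁⁆⟩`) fixed by `P'`: the subgroup `E' = C_E(u₁) ∩ C_E(w₁)`. -/
theorem pair_step {E : Type u} [Group E] [Finite E] {P : Type u} [Group P] (φ : P →* MulAut E)
    (hcl : ∀ a b : E, ⁅a, b⁆ ∈ Subgroup.center E) (hφ : Function.Injective φ)
    (r : ℕ) (u₁ w₁ : E) (hord : orderOf ⁅u₁, w₁⁆ = r)
    (hu : ∀ g : E, ⁅u₁, g⁆ ∈ Subgroup.zpowers ⁅u₁, w₁⁆)
    (hw : ∀ g : E, ⁅w₁, g⁆ ∈ Subgroup.zpowers ⁅u₁, w₁⁆)
    (P' : Subgroup P) (hPu : ∀ x ∈ P', φ x u₁ = u₁) (hPw : ∀ x ∈ P', φ x w₁ = w₁) :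
    ∃ E' : Subgroup E, Subgroup.center E ≤ E' ∧ E'.index = r ^ 2 ∧
      (∀ y ∈ E', (∀ g ∈ E', y * g = g * y) → y ∈ Subgroup.center E) ∧
      (∀ x ∈ P', ∀ g ∈ E', φ x g ∈ E') ∧
      (∀ x ∈ P', (∀ g ∈ E', φ x g = g) → x = 1) := by
  classical
  set z₀ : ↥(Subgroup.center E) := commHom hcl u₁ w₁ with hz₀
  have hz₀ord : orderOf z₀ = r := by
    rw [← hord, ← Subgroup.orderOf_coe z₀]
    rfl
  set S : Subgroup ↥(Subgroup.center E) := Subgroup.zpowers z₀ with hS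
  have hScard : Nat.card S = r := by rw [hS, Nat.card_zpowers, hz₀ord]
  set F : E →* ↥(Subgroup.center E) × ↥(Subgroup.center E) :=
    (commHom hcl u₁).prod (commHom hcl w₁) with hF
  have hmem : ∀ g : E, g ∈ F.ker ↔ u₁ * g = g * u₁ ∧ w₁ * g = g * w₁ := by
    intro g
    rw [MonoidHom.mem_ker, hF, MonoidHom.prod_apply, Prod.mk_eq_one, commHom_eq_one_iff,
      commHom_eq_one_iff]
  have hfuu : commHom hcl u₁ u₁ = 1 := (commHom_eq_one_iff hcl u₁ u₁).mpr rfl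
  have hfww : commHom hcl w₁ w₁ = 1 := (commHom_eq_one_iff hcl w₁ w₁).mpr rfl
  have hfwu : commHom hcl w₁ u₁ = z₀⁻¹ := by
    apply Subtype.ext
    rw [commHom_apply, Subgroup.coe_inv, hz₀, commHom_apply, comm_swap_inv]
  have hFval : ∀ i j : ℤ, F (w₁ ^ i * u₁ ^ (-j)) = (z₀ ^ i, z₀ ^ j) := by
    intro i j
    rw [hF, MonoidHom.prod_apply, map_mul, map_mul, map_zpow, map_zpow, map_zpow, map_zpow,
      hfuu, hfww, hfwu, ← hz₀]
    simp
  have hFS : ∀ g : E, ∃ i j : ℤ, F g = (z₀ ^ i, z₀ ^ j) := by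
    intro g
    obtain ⟨i, hi⟩ := Subgroup.mem_zpowers_iff.mp (hu g)
    obtain ⟨j, hj⟩ := Subgroup.mem_zpowers_iff.mp (hw g)
    refine ⟨i, j, ?_⟩
    rw [hF, MonoidHom.prod_apply]
    refine Prod.ext (Subtype.ext ?_) (Subtype.ext ?_)
    · simpa [hz₀] using hi.symm
    · simpa [hz₀] using hj.symm
  have hrange : F.range = S.prod S := by
    ext ⟨a, b⟩
    rw [MonoidHom.mem_range, Subgroup.mem_prod]
    constructor
    · rintro ⟨g, hg⟩
      obtain ⟨i, j, hij⟩ := hFS g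
      rw [hij] at hg
      have ha : a = z₀ ^ i := (congrArg Prod.fst hg).symm
      have hb : b = z₀ ^ j := (congrArg Prod.snd hg).symm
      exact ⟨by rw [ha]; exact Subgroup.zpow_mem_zpowers z₀ i,
        by rw [hb]; exact Subgroup.zpow_mem_zpowers z₀ j⟩
    · rintro ⟨ha, hb⟩
      obtain ⟨i, hi⟩ := Subgroup.mem_zpowers_iff.mp ha
      obtain ⟨j, hj⟩ := Subgroup.mem_zpowers_iff.mp hb
      exact ⟨w₁ ^ i * u₁ ^ (-j), by rw [hFval, hi, hj]⟩
  -- decomposition `E = E' ⟨w₁, u₁⟩`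
  have hdec : ∀ g : E, ∃ e ∈ F.ker, ∃ i k : ℤ, g = e * (w₁ ^ i * u₁ ^ k) := by
    intro g
    obtain ⟨i, j, hij⟩ := hFS g
    refine ⟨g * (w₁ ^ i * u₁ ^ (-j))⁻¹, ?_, i, -j, by group⟩
    rw [MonoidHom.mem_ker, map_mul, map_inv, hFval, hij, mul_inv_cancel]
  refine ⟨F.ker, ?_, ?_, ?_, ?_, ?_⟩
  · intro z hz
    rw [hmem]
    exact ⟨(Subgroup.mem_center_iff.mp hz u₁), (Subgroup.mem_center_iff.mp hz w₁)⟩
  · rw [Subgroup.index_ker, hrange, Nat.card_congr (Subgroup.prodEquiv S S).toEquiv, Nat.card_prod,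
      hScard, sq]
  · intro y hy hyE
    rw [Subgroup.mem_center_iff]
    intro g
    obtain ⟨e, he, i, k, rfl⟩ := hdec g
    have h1 := (hmem y).mp hy
    have hyu : Commute y u₁ := h1.1.symm
    have hyw : Commute y w₁ := h1.2.symm
    have hye : Commute y e := hyE e he
    exact (hye.mul_right ((hyw.zpow_right i).mul_right (hyu.zpow_right k))).symm
  · intro x hx g hg
    rw [hmem] at hg ⊢
    constructor
    · calc u₁ * φ x g = φ x u₁ * φ x g := by rw [hPu x hx]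
        _ = φ x (u₁ * g) := (map_mul _ _ _).symm
        _ = φ x (g * u₁) := by rw [hg.1]
        _ = φ x g * u₁ := by rw [map_mul, hPu x hx]
    · calc w₁ * φ x g = φ x w₁ * φ x g := by rw [hPw x hx]
        _ = φ x (w₁ * g) := (map_mul _ _ _).symm
        _ = φ x (g * w₁) := by rw [hg.2]
        _ = φ x g * w₁ := by rw [map_mul, hPw x hx]
  · intro x hx htriv
    apply hφ
    rw [map_one]
    apply MulEquiv.ext
    intro g
    obtain ⟨e, he, i, k, rfl⟩ := hdec g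
    rw [map_mul, map_mul, map_zpow, map_zpow, hPu x hx, hPw x hx, htriv e he]
    rfl

end Cfsg.Agent.Lib.Helper23.BergerSpPair
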