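/-
helper23: module S0889-[WREATH] of helper80's sheet (Berger's theorem S0889, Wolf's bound):
the imprimitive case of the induction.  Input [BLOCK-IRR] is an explicit hypothesis.
-/
import Mathlib
import Cfsg.Agent.Lib.Helper80.Berger.WolfDefs

set_option autoImplicit false

namespace Cfsg.Agent.Lib.Helper23.BergerWreath

open Cfsg.Agent.Lib.Helper80.Wolf

universe u v

section Res

variable {K : Type v} [Field K] {V : Type v} [AddCommGroup V] [Module K V] {X : Type u} [Group X]

/-- the action of the stabilizer of a block on the block -/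
noncomputable def resHom (ρ : X →* (V ≃ₗ[K] V)) (W : Submodule K V) :
    ↥(stab ρ W) →* (↥W ≃ₗ[K] ↥W) :=
  MonoidHom.mk' (fun x => LinearEquiv.ofSubmodules (ρ (x : X)) W W x.2) (by
    intro x y
    apply LinearEquiv.ext
    intro w
    apply Subtype.ext
    simp only [Subgroup.coe_mul, map_mul, LinearEquiv.mul_apply]
    rfl)

@[simp] theorem resHom_apply (ρ : X →* (V ≃ₗ[K] V)) (W : Submodule K V) (x : ↥(stab ρ W))
    (w : ↥W) : ((resHom ρ W x w : ↥W) : V) = ρ (x : X) (w : V) := rfl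

/-- the faithful action of the quotient `Y_W` of the block stabilizer on the block -/
noncomputable def blockHom (ρ : X →* (V ≃ₗ[K] V)) (W : Submodule K V) :
    (↥(stab ρ W) ⧸ (resHom ρ W).ker) →* (↥W ≃ₗ[K] ↥W) :=
  QuotientGroup.kerLift (resHom ρ W)

theorem blockHom_injective (ρ : X →* (V ≃ₗ[K] V)) (W : Submodule K V) :
    Function.Injective (blockHom ρ W) :=
  QuotientGroup.kerLift_injective _

theorem blockHom_irr (ρ : X →* (V ≃ₗ[K] V)) (W : Submodule K V)
    (hW : IrrSub ρ (stab ρ W) W) : Irr (blockHom ρ W) := by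
  refine ⟨?_, ?_, ?_⟩
  · intro h
    apply hW.1
    rw [Submodule.eq_bot_iff]
    intro w hw
    have h1 : (⟨w, hw⟩ : ↥W) ∈ (⊤ : Submodule K ↥W) := Submodule.mem_top
    rw [h] at h1
    have := (Submodule.mem_bot K).mp h1
    exact congrArg Subtype.val this
  · intro x _ w _
    exact Submodule.mem_top
  · intro U _ hU
    have hinv : Inv ρ (stab ρ W) (U.map W.subtype) := by
      rintro x hx _ ⟨u, hu, rfl⟩
      have h1 := hU (QuotientGroup.mk ⟨x, hx⟩) (Subgroup.mem_top _) u hu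
      refine ⟨_, h1, ?_⟩
      simp [blockHom]
    have hle : U.map W.subtype ≤ W := by
      rintro _ ⟨u, _, rfl⟩
      exact u.2
    rcases hW.2.2 _ hle hinv with h1 | h1
    · left
      rw [Submodule.eq_bot_iff]
      intro u hu
      have h2 : (W.subtype u) ∈ U.map W.subtype := ⟨u, hu, rfl⟩
      rw [h1] at h2
      have := (Submodule.mem_bot K).mp h2
      exact Subtype.ext this
    · right
      rw [eq_top_iff]
      intro w _
      have h2 : (w : V) ∈ U.map W.subtype := by rw [h1]; exact w.2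
      obtain ⟨u, hu, hu2⟩ := h2
      have : u = w := Subtype.ext hu2
      rwa [← this]

end Res


section Act

variable {K : Type v} [Field K] {V : Type v} [AddCommGroup V] [Module K V] {X : Type u} [Group X]

/-- the permutation action on the blocks -/
@[reducible] def blockAction (ρ : X →* (V ≃ₗ[K] V)) (𝒲 : Set (Submodule K V))
    (h𝒲 : IsImprimSys ρ 𝒲) : MulAction X ↥𝒲 where
  smul x W := ⟨(W : Submodule K V).map (ρ x).toLinearMap, h𝒲.map_mem x W W.2⟩
  one_smul W := by
    apply Subtype.ext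
    show (W : Submodule K V).map (ρ 1).toLinearMap = W
    rw [map_one]
    exact Submodule.map_id _
  mul_smul x y W := by
    apply Subtype.ext
    show (W : Submodule K V).map (ρ (x * y)).toLinearMap =
      ((W : Submodule K V).map (ρ y).toLinearMap).map (ρ x).toLinearMap
    rw [map_mul, ← Submodule.map_comp]
    rfl

theorem ne_top_of_mem (ρ : X →* (V ≃ₗ[K] V)) (𝒲 : Set (Submodule K V))
    (h𝒲 : IsImprimSys ρ 𝒲) (h2 : ∃ W ∈ 𝒲, ∃ W' ∈ 𝒲, W ≠ W') (W : Submodule K V) (hW : W ∈ 𝒲) :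
    W ≠ ⊤ := by
  obtain ⟨W', hW', hne⟩ : ∃ W' ∈ 𝒲, W' ≠ W := by
    obtain ⟨W₁, h₁, W₂, h₂, h12⟩ := h2
    by_cases h : W₁ = W
    · exact ⟨W₂, h₂, fun h' => h12 (h.trans h'.symm)⟩
    · exact ⟨W₁, h₁, h⟩
  intro htop
  have hdis := h𝒲.indep hW'
  have hle : W ≤ sSup (𝒲 \ {W'}) := le_sSup ⟨hW, fun h => hne h.symm⟩
  rw [htop, top_le_iff] at hle
  rw [hle, disjoint_top] at hdis
  exact h𝒲.ne_bot W' hW' hdis

theorem eq_one_of_fix_blocks (ρ : X →* (V ≃ₗ[K] V)) (hρ : Function.Injective ρ)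
    (𝒲 : Set (Submodule K V)) (htop : sSup 𝒲 = ⊤) (b : X)
    (h : ∀ W ∈ 𝒲, ∀ w ∈ W, ρ b w = w) : b = 1 := by
  apply hρ
  rw [map_one]
  apply LinearEquiv.ext
  intro v
  have h1 : sSup 𝒲 ≤ LinearMap.eqLocus (ρ b).toLinearMap LinearMap.id := by
    apply sSup_le
    intro W hW w hw
    rw [LinearMap.mem_eqLocus]
    exact h W hW w hw
  rw [htop] at h1
  have := h1 (Submodule.mem_top : v ∈ ⊤)
  rw [LinearMap.mem_eqLocus] at this
  exact this

end Act


theorem block_bound (p : ℕ) [Fact p.Prime] (d : ℕ) (IH : ∀ d' < d, Bound.{u, v} p d')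
    {K V : Type v} {X : Type u} [Field K] [Finite K] [CharP K p] [AddCommGroup V] [Module K V]
    [Finite V] [Group X] [Finite X] [Group.IsSolvable X] (ρ : X →* (V ≃ₗ[K] V))
    (hd : Module.finrank K V = d) (W : Submodule K V) (hWtop : W ≠ ⊤)
    (hW : IrrSub ρ (stab ρ W) W) :
    p ^ (Nat.card (↥(stab ρ W) ⧸ (resHom ρ W).ker)).factorization p * Nat.card K ≤
      Nat.card ↥W := by
  have hlt : Module.finrank K ↥W < d := by
    rw [← hd]
    exact Submodule.finrank_lt hWtop
  exact IH _ hlt (blockHom ρ W) (blockHom_injective ρ W) (blockHom_irr ρ W hW) rfl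

theorem factorial_factorization_le (p : ℕ) [Fact p.Prime] (t : ℕ) (ht : t ≠ 0) :
    (t.factorial).factorization p ≤ t - 1 := by
  rw [Nat.factorization_def _ (Fact.out : p.Prime)]
  have := padicValNat_factorial_lt_of_ne_zero p ht
  omega

/-- **S0889-[WREATH]**, with [BLOCK-IRR] as a hypothesis. -/
theorem bound_of_imprim_of (p : ℕ) [Fact p.Prime] (d : ℕ) (IH : ∀ d' < d, Bound.{u, v} p d')
    {K V : Type v} {X : Type u} [Field K] [Finite K] [CharP K p] [AddCommGroup V] [Module K V]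
    [Finite V] [Group X] [Finite X] [Group.IsSolvable X] (ρ : X →* (V ≃ₗ[K] V))
    (hρ : Function.Injective ρ) (hd : Module.finrank K V = d)
    (𝒲 : Set (Submodule K V)) (h𝒲 : IsImprimSys ρ 𝒲) (h2 : ∃ W ∈ 𝒲, ∃ W' ∈ 𝒲, W ≠ W')
    (hblock : ∀ W ∈ 𝒲, IrrSub ρ (stab ρ W) W) :
    p ^ (Nat.card X).factorization p * Nat.card K ≤ Nat.card V := by
  classical
  have hp : p.Prime := Fact.out
  have : Fintype ↥𝒲 := Fintype.ofFinite _
  let _ := blockAction ρ 𝒲 h𝒲
  set q := Nat.card K with hq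
  set t := Fintype.card ↥𝒲 with ht
  have hqpos : 0 < q := Nat.card_pos
  -- `p ≤ q`
  have hpq : p ≤ q := by
    apply Nat.le_of_dvd hqpos
    have h1 : addOrderOf (1 : K) = p := CharP.eq K (CharP.addOrderOf_one K) inferInstance
    rw [← h1]
    exact addOrderOf_dvd_natCard 1
  -- `t ≥ 1`
  have ht1 : t ≠ 0 := by
    obtain ⟨W, hW, -⟩ := h2
    have : Nonempty ↥𝒲 := ⟨⟨W, hW⟩⟩
    exact Fintype.card_ne_zero
  -- the kernel of the action on the blocks
  set B : Subgroup X := (MulAction.toPermHom X ↥𝒲).ker with hB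
  have hBstab : ∀ W : ↥𝒲, B ≤ stab ρ (W : Submodule K V) := by
    intro W b hb
    rw [hB, MonoidHom.mem_ker] at hb
    have h1 : (MulAction.toPermHom X ↥𝒲 b) W = W := by rw [hb]; rfl
    have h2 : b • W = W := h1
    exact congrArg Subtype.val h2
  -- the embedding of `B` into the product of the `Y_W`
  let Y : ↥𝒲 → Type u := fun W =>
    ↥(stab ρ (W : Submodule K V)) ⧸ (resHom ρ (W : Submodule K V)).ker
  let Φ : ↥B →* ((W : ↥𝒲) → Y W) :=
    MonoidHom.pi fun W => (QuotientGroup.mk' _).comp (Subgroup.inclusion (hBstab W))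
  have hΦ : Function.Injective Φ := by
    rw [injective_iff_map_eq_one]
    intro b hb
    apply Subtype.ext
    apply eq_one_of_fix_blocks ρ hρ 𝒲 h𝒲.top
    intro W hW w hw
    have h1 := congrFun hb ⟨W, hW⟩
    have h2 : (Subgroup.inclusion (hBstab ⟨W, hW⟩) b) ∈ (resHom ρ W).ker := by
      have h3 : (QuotientGroup.mk' (resHom ρ W).ker) (Subgroup.inclusion (hBstab ⟨W, hW⟩) b)
          = 1 := h1
      rwa [QuotientGroup.mk'_apply, QuotientGroup.eq_one_iff] at h3
    rw [MonoidHom.mem_ker] at h2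
    have h4 := congrArg (fun e : ↥W ≃ₗ[K] ↥W => ((e ⟨w, hw⟩ : ↥W) : V)) h2
    simpa using h4
  -- `|B|` divides the product of the `|Y_W|`
  have hBdvd : Nat.card ↥B ∣ ∏ W : ↥𝒲, Nat.card (Y W) := by
    have h1 := Subgroup.card_dvd_of_injective Φ hΦ
    rwa [Nat.card_pi] at h1
  have hYpos : ∀ W : ↥𝒲, Nat.card (Y W) ≠ 0 := fun W => Nat.card_pos.ne'
  have hprod0 : (∏ W : ↥𝒲, Nat.card (Y W)) ≠ 0 := Finset.prod_ne_zero_iff.mpr fun W _ => hYpos W
  have hBfac : (Nat.card ↥B).factorization p ≤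
      ∑ W : ↥𝒲, (Nat.card (Y W)).factorization p := by
    have h1 := (Nat.factorization_le_iff_dvd Nat.card_pos.ne' hprod0).mpr hBdvd p
    rwa [Nat.factorization_prod (fun W _ => hYpos W), Finsupp.finsetSum_apply] at h1
  -- the blocks
  have hblk : ∀ W : ↥𝒲, p ^ (Nat.card (Y W)).factorization p * q ≤
      Nat.card ↥(W : Submodule K V) := fun W =>
    block_bound p d IH ρ hd W (ne_top_of_mem ρ 𝒲 h𝒲 h2 W W.2) (hblock W W.2)
  -- `|V|` is the product of the `|W|`
  have hVcard : Nat.card V = ∏ W : ↥𝒲, Nat.card ↥(W : Submodule K V) := by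
    have hind : iSupIndep (fun W : ↥𝒲 => (W : Submodule K V)) := (sSupIndep_iff 𝒲).mp h𝒲.indep
    have hsup : (⨆ W : ↥𝒲, (W : Submodule K V)) = ⊤ := by
      rw [← sSup_eq_iSup']
      exact h𝒲.top
    have hint := DirectSum.isInternal_submodule_of_iSupIndep_of_iSup_eq_top hind hsup
    let e := LinearEquiv.ofBijective
      (DirectSum.coeLinearMap fun W : ↥𝒲 => (W : Submodule K V)) hint
    rw [← Nat.card_congr e.toEquiv, ← Nat.card_pi]
    exact Nat.card_congr DFinsupp.equivFunOnFintype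
  -- `|X| = |B| * |X/B|` and `|X/B|` divides `t!`
  have hXcard : Nat.card X = Nat.card ↥B * B.index := (Subgroup.card_mul_index B).symm
  have hidx : B.index ∣ t.factorial := by
    rw [hB, Subgroup.index_ker]
    have h1 := Subgroup.card_subgroup_dvd_card (MulAction.toPermHom X ↥𝒲).range
    rw [Nat.card_perm] at h1
    rw [ht, ← Nat.card_eq_fintype_card]
    exact h1
  have hidx0 : B.index ≠ 0 := Subgroup.index_ne_zero_of_finite
  have hidxfac : B.index.factorization p ≤ t - 1 := by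
    have h1 := (Nat.factorization_le_iff_dvd hidx0 (Nat.factorial_ne_zero t)).mpr hidx p
    exact h1.trans (factorial_factorization_le p t ht1)
  have hXfac : (Nat.card X).factorization p ≤
      (∑ W : ↥𝒲, (Nat.card (Y W)).factorization p) + (t - 1) := by
    rw [hXcard, Nat.factorization_mul Nat.card_pos.ne' hidx0]
    simp only [Finsupp.coe_add, Pi.add_apply]
    omega
  -- assembly
  have h1 : ∏ W : ↥𝒲, (p ^ (Nat.card (Y W)).factorization p * q) ≤ Nat.card V := by
    rw [hVcard]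
    exact Finset.prod_le_prod' fun W _ => hblk W
  rw [Finset.prod_mul_distrib, Finset.prod_pow_eq_pow_sum, Finset.prod_const, Finset.card_univ,
    ← ht] at h1
  have ht' : t = (t - 1) + 1 := by omega
  calc p ^ (Nat.card X).factorization p * q
      ≤ p ^ ((∑ W : ↥𝒲, (Nat.card (Y W)).factorization p) + (t - 1)) * q :=
        Nat.mul_le_mul_right _ (Nat.pow_le_pow_right hp.pos hXfac)
    _ = p ^ (∑ W : ↥𝒲, (Nat.card (Y W)).factorization p) * (p ^ (t - 1) * q) := by
        rw [pow_add, mul_assoc]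
    _ ≤ p ^ (∑ W : ↥𝒲, (Nat.card (Y W)).factorization p) * (q ^ (t - 1) * q) :=
        Nat.mul_le_mul_left _ (Nat.mul_le_mul_right _ (Nat.pow_le_pow_left hpq _))
    _ = p ^ (∑ W : ↥𝒲, (Nat.card (Y W)).factorization p) * q ^ t := by
        rw [← pow_succ, ← ht']
    _ ≤ Nat.card V := h1

end Cfsg.Agent.Lib.Helper23.BergerWreath
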