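/-
helper23 shared library: the component trichotomy for involution centralizers (the literal
statement of S1322, `Cfsg.Agent.Lib.Helper23.CompTrichotomy`) from the Odd Order Theorem taken as a
hypothesis (`FTHyp`), the landed `L_{2'}`-balance S1301 and helper22's `MaxComp` lemmas.
All declarations live in `Cfsg.Agent.Lib.Helper23`.
-/
import Mathlib
import Cfsg.Prelude.Def_Local
import Cfsg.Agent.S1301
import Cfsg.Agent.S1304
import Cfsg.Agent.Lib.Helper9.BG36Tools
import Cfsg.Agent.Lib.Helper22.MaxComp
import Cfsg.Agent.Lib.Helper23.StdTrichotomy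
import Cfsg.Agent.Lib.Helper23.ExtLayer
import Cfsg.Agent.Lib.Helper23.BGSigmaTI

set_option autoImplicit false

namespace Cfsg.Agent.Lib.Helper23

open Cfsg
open scoped commutatorElement

universe u

/-- The Odd Order Theorem, as a hypothesis at universe `u`. -/
def FTHyp.{v} : Prop :=
  ∀ (H : Type v) [Group H] [Finite H], Odd (Nat.card H) → Group.IsSolvable H

section CT

variable {G : Type u} [Group G]

/-- transport of subnormality: `A ≤ B ≤ C`, `A` subnormal in `C` gives `A` subnormal in `B`. -/
theorem isSubnormal_subgroupOf_of_le {A B C : Subgroup G} (hBC : B ≤ C)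
    (h : (A.subgroupOf C).IsSubnormal) : (A.subgroupOf B).IsSubnormal := by
  have h1 : ((A.subgroupOf C).subgroupOf (B.subgroupOf C)).IsSubnormal := h.subgroupOf
  let e : ↥(B.subgroupOf C) ≃* ↥B := Subgroup.subgroupOfEquivOfLe hBC
  have h2 := h1.map (f := e.toMonoidHom) e.surjective
  convert h2 using 1
  ext x
  rw [Subgroup.mem_map]
  constructor
  · intro hx
    refine ⟨e.symm x, ?_, by simp⟩
    rw [Subgroup.mem_subgroupOf, Subgroup.mem_subgroupOf]
    exact hx
  · rintro ⟨y, hy, rfl⟩
    rw [Subgroup.mem_subgroupOf, Subgroup.mem_subgroupOf] at hy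
    exact hy

/-- a component of `C` contained in `B ≤ C` is a component of `B` -/
theorem isComponent_subgroupOf_of_le {A B C : Subgroup G} (hAB : A ≤ B) (hBC : B ≤ C)
    (h : IsComponent (A.subgroupOf C)) : IsComponent (A.subgroupOf B) := by
  refine ⟨isSubnormal_subgroupOf_of_le hBC h.1, ?_⟩
  have e1 : ↥(A.subgroupOf C) ≃* ↥A := Subgroup.subgroupOfEquivOfLe (hAB.trans hBC)
  have e2 : ↥(A.subgroupOf B) ≃* ↥A := Subgroup.subgroupOfEquivOfLe hAB
  exact Cfsg.Agent.Lib.Helper29.isQuasisimple_of_mulEquiv (e1.trans e2.symm) h.2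

/-- `B` subnormal in `C` and `A ⊴ B` gives `A` subnormal in `C` (all inside `G`). -/
theorem isSubnormal_subgroupOf_step {A B C : Subgroup G} (hAB : A ≤ B)
    (hB : (B.subgroupOf C).IsSubnormal) (hn' : B ≤ Subgroup.normalizer (A : Set G)) :
    (A.subgroupOf C).IsSubnormal := by
  refine Subgroup.IsSubnormal.step (A.subgroupOf C) (B.subgroupOf C)
    (fun x hx => hAB hx) hB ?_
  constructor
  intro n hn g
  rw [Subgroup.mem_subgroupOf, Subgroup.mem_subgroupOf] at hn ⊢
  have hg : ((g : ↥C) : G) ∈ B := g.2
  simp only [Subgroup.coe_mul, Subgroup.coe_inv]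
  exact (Subgroup.mem_normalizer_iff.mp (hn' hg) _).mp hn

end CT

section Main

variable {G : Type u} [Group G] [Finite G]

/-- Under the Odd Order Theorem, a component `L` of `C = C_G(t)` lies in `L_{2'}(C)`. -/
theorem component_le_pLayer_two_of_FT (hFT : FTHyp.{u}) {C : Type u} [Group C] [Finite C]
    {L : Subgroup C} (hL : IsComponent L) : L ≤ pLayer 2 C := by
  have : Fact (Nat.Prime 2) := ⟨Nat.prime_two⟩
  have hPn : (pLayer 2 C).Normal := pLayer_normal 2 C
  rcases Cfsg.Agent.Lib.Helper22.component_le_or_commutator_eq_bot hL hPn.isSubnormal with h | h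
  · exact h
  exfalso
  -- the image of `L` in `C / O(C)`
  set π := QuotientGroup.mk' (pPrimeCore 2 C) with hπ
  have hπs : Function.Surjective π := QuotientGroup.mk'_surjective _
  rcases Cfsg.Agent.Lib.Helper22.component_map_of_surjective hL hπs with h0 | h1
  · -- `L ≤ O(C)` has odd order, hence is solvable
    have hle : L ≤ pPrimeCore 2 C := by
      have := (Subgroup.map_eq_bot_iff (f := π) L).mp h0
      rwa [hπ, QuotientGroup.ker_mk'] at this
    have hcop : (Nat.card ↥L).Coprime 2 :=
      Nat.Coprime.coprime_dvd_left (Subgroup.card_dvd_of_le hle)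
        (Cfsg.Agent.Lib.Helper22.pPrimeCore_card_coprime 2)
    have hodd : Odd (Nat.card ↥L) := Nat.Coprime.odd_of_right hcop
    exact Cfsg.Agent.Lib.Helper22.component_not_isSolvable hL (hFT ↥L hodd)
  · -- `π(L)` is a component of `C / O(C)` centralizing the layer: impossible
    have h2 : L.map π ≤ layer (C ⧸ pPrimeCore 2 C) :=
      Cfsg.Agent.Lib.Helper22.component_le_layer h1
    rw [← Cfsg.Agent.Lib.Helper22.pLayer_map_eq_layer] at h2
    have h3 : ⁅L.map π, (pLayer 2 C).map π⁆ = ⊥ := by
      rw [← Subgroup.map_commutator, h, Subgroup.map_bot]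
    have h4 : ⁅L.map π, L.map π⁆ = ⊥ := by
      rw [eq_bot_iff, ← h3]
      exact Subgroup.commutator_mono le_rfl h2
    rw [Cfsg.Agent.Lib.Helper22.component_commutator_self h1] at h4
    exact Cfsg.Agent.Lib.Helper22.component_ne_bot h1 h4

end Main

section Tri

open Cfsg.Agent.Lib.Helper22 Cfsg.Agent.Lib.Helper22.MaxComp

variable {G : Type u} [Group G] [Finite G]

/-- Step 1: under the Odd Order Theorem and `L_{2'}(G) = E(G)`, a component of `C_G(t)` lies in
`E(G)`. -/
theorem component_centralizer_le_layer_of_FT (hFT : FTHyp.{u})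
    (hL2 : pLayer 2 G = layer G) (t : G) (ht : orderOf t = 2) (L : Subgroup G)
    (hLt : L ≤ Subgroup.centralizer ({t} : Set G))
    (hL : IsComponent (L.subgroupOf (Subgroup.centralizer ({t} : Set G)))) : L ≤ layer G := by
  have h1 := component_le_pLayer_two_of_FT hFT hL
  have hT : IsPGroup 2 ↥(Subgroup.zpowers t) := by
    have : Fact (Nat.Prime 2) := ⟨Nat.prime_two⟩
    apply IsPGroup.of_card (n := 1)
    rw [Nat.card_zpowers, ht, pow_one]
  have h2 := Cfsg.Agent.S1301.result (Subgroup.zpowers t) hT
  rw [centralizer_zpowers_eq] at h2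
  rw [← hL2]
  refine le_trans ?_ h2
  intro x hx
  exact ⟨⟨x, hLt hx⟩, h1 (show (⟨x, hLt hx⟩ : ↥(Subgroup.centralizer ({t} : Set G))) ∈
    L.subgroupOf _ from hx), rfl⟩

/-- **The component trichotomy for involution centralizers (S1322)**, from the Odd Order
Theorem. -/
theorem compTrichotomy_of_FT (hFT : FTHyp.{u}) : CompTrichotomy.{u} := by
  intro G _ _ hL2 t ht L hLt hL
  have hLE : L ≤ layer G := component_centralizer_le_layer_of_FT hFT hL2 t ht L hLt hL
  have htt : t * t = 1 := by
    have := pow_orderOf_eq_one t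
    rwa [ht, pow_two] at this
  have htinv : t⁻¹ = t := inv_eq_of_mul_eq_one_right htt
  have hmemC : ∀ x : G, x ∈ Subgroup.centralizer ({t} : Set G) ↔ t * x = x * t := by
    intro x
    rw [Subgroup.mem_centralizer_iff]
    constructor
    · intro h; exact h t rfl
    · intro h y hy; rw [Set.mem_singleton_iff.mp hy]; exact h
  have hLa : ∀ k ∈ L, t * k = k * t := fun k hk => (hmemC k).mp (hLt hk)
  have hLperf : ⁅L, L⁆ = L := by
    have h1 := component_commutator_self hL
    have h2 := congrArg (Subgroup.map (Subgroup.centralizer ({t} : Set G)).subtype) h1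
    rwa [Subgroup.map_commutator, Subgroup.map_subgroupOf_eq_of_le hLt] at h2
  have hLne : L ≠ ⊥ := by
    intro h
    apply component_ne_bot hL
    rw [h]; exact Subgroup.bot_subgroupOf _
  obtain ⟨D, hD, hLD⟩ := exists_component_not_commute hLE hLperf hLne
  by_cases hnorm : cj t D = D
  · -- Case A: `t` normalizes `D`
    have hDC : (D.subgroupOf (Subgroup.centralizer ({t} : Set G))).IsSubnormal := hD.1.subgroupOf
    rcases component_le_or_commutator_eq_bot hL hDC with h | h
    · have hLD' : L ≤ D := le_of_subgroupOf_le hLt h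
      by_cases hEq : L = D
      · exact ⟨D, hD, Or.inl hEq⟩
      refine ⟨D, hD, Or.inr (Or.inl ⟨lt_of_le_of_ne hLD' hEq, ?_⟩)⟩
      by_contra hne
      have htN : Subgroup.zpowers t ≤ Subgroup.normalizer (D : Set G) :=
        Subgroup.zpowers_le.mpr (mem_normalizer_of_cj_eq hnorm)
      have hle : ⁅D, Subgroup.zpowers t⁆ ≤ D :=
        Cfsg.Agent.Lib.Helper9.commutator_le_left_of_le_normalizer htN
      have hn : D ≤ Subgroup.normalizer ((⁅D, Subgroup.zpowers t⁆ : Subgroup G) : Set G) :=
        Cfsg.Agent.Lib.Helper9.le_normalizer_commutator_left D _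
      have hN' : ((⁅D, Subgroup.zpowers t⁆).subgroupOf D).Normal :=
        (Subgroup.normal_subgroupOf_iff_le_normalizer hle).mpr hn
      rcases quasisimple_normal_le_center_or_eq_top hD.2
        ((⁅D, Subgroup.zpowers t⁆).subgroupOf D) with hc | htop
      · -- `t` acts trivially on `D / Z(D)`, hence on `D`
        let α : ↥D ≃* ↥D :=
          ((MulAut.conj t).subgroupMap D).trans (MulEquiv.subgroupCongr hnorm)
        have hα : ∀ x : ↥D, ((α x : ↥D) : G) = t * x * t⁻¹ := fun x => rfl
        have hα1 : ∀ x : ↥D, α x = x := by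
          apply Cfsg.Agent.S1304.result (quasisimple_commutator_eq_top hD.2) α
          intro x
          apply hc
          rw [Subgroup.mem_subgroupOf]
          have e : ((α x * x⁻¹ : ↥D) : G) = (⁅(x : G), t⁆)⁻¹ := by
            rw [Subgroup.coe_mul, hα, Subgroup.coe_inv, commutatorElement_def]
            group
          rw [e]
          exact Subgroup.inv_mem _ (Subgroup.commutator_mem_commutator x.2
            (Subgroup.mem_zpowers t))
        have hDC' : D ≤ Subgroup.centralizer ({t} : Set G) := by
          intro x hx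
          rw [hmemC]
          have h1 := congrArg Subtype.val (hα1 ⟨x, hx⟩)
          rw [hα] at h1
          calc t * x = t * x * t⁻¹ * t := by group
            _ = x * t := by rw [h1]
        have hDc : IsComponent (D.subgroupOf (Subgroup.centralizer ({t} : Set G))) :=
          component_subgroupOf hD hDC'
        have hne' : L.subgroupOf (Subgroup.centralizer ({t} : Set G)) ≠
            D.subgroupOf (Subgroup.centralizer ({t} : Set G)) := by
          intro h'
          apply hEq
          exact le_antisymm hLD' (le_of_subgroupOf_le hDC' h'.ge)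
        have h1 := Cfsg.Agent.Lib.Helper21.component_commutator_eq_bot_of_ne hL hDc hne'
        exact hLD (commutator_eq_bot_of_subgroupOf hLt hDC' h1)
      · apply hne
        apply le_antisymm _ hle
        intro d hd
        have : (⟨d, hd⟩ : ↥D) ∈ (⊤ : Subgroup ↥D) := Subgroup.mem_top _
        rw [← htop, Subgroup.mem_subgroupOf] at this
        exact this
    · -- `L` centralizes `C_D(t)`: then `L` centralizes `D`
      exfalso
      apply hLD
      apply commutator_eq_bot_of_centralizes_fixed hD hnorm hLE hLa hLperf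
      intro k hk m hm htm
      have hmC : m ∈ Subgroup.centralizer ({t} : Set G) := (hmemC m).mpr htm
      have h1 := commute_of_commutator_eq_bot h
        (show (⟨k, hLt hk⟩ : ↥(Subgroup.centralizer ({t} : Set G))) ∈ L.subgroupOf _ from hk)
        (show (⟨m, hmC⟩ : ↥(Subgroup.centralizer ({t} : Set G))) ∈ D.subgroupOf _ from hm)
      exact congrArg Subtype.val h1.eq
  · -- Case B: `D ≠ D^t`
    have hD' : IsComponent (cj t D) := component_conj hD t
    have hcomm : ⁅D, cj t D⁆ = ⊥ :=
      Cfsg.Agent.Lib.Helper21.component_commutator_eq_bot_of_ne hD hD' (Ne.symm hnorm)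
    have hEn : (layer G).Normal := Cfsg.Agent.Lib.Helper29.layer_normal G
    have hME : D ⊔ cj t D ≤ layer G :=
      sup_le (component_le_layer hD) (component_le_layer hD')
    have hED : layer G ≤ Subgroup.normalizer (D : Set G) :=
      Cfsg.Agent.Lib.Helper21.layer_le_normalizer_component hD
    have hED' : layer G ≤ Subgroup.normalizer ((cj t D : Subgroup G) : Set G) :=
      Cfsg.Agent.Lib.Helper21.layer_le_normalizer_component hD'
    have hEM : layer G ≤ Subgroup.normalizer ((D ⊔ cj t D : Subgroup G) : Set G) :=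
      (le_inf hED hED').trans (normalizer_inf_le_normalizer_sup D (cj t D))
    have hMsub : (D ⊔ cj t D).IsSubnormal :=
      Subgroup.IsSubnormal.step _ (layer G) hME hEn.isSubnormal
        ((Subgroup.normal_subgroupOf_iff_le_normalizer hME).mpr hEM)
    have hMC : ((D ⊔ cj t D).subgroupOf (Subgroup.centralizer ({t} : Set G))).IsSubnormal :=
      hMsub.subgroupOf
    -- the diagonal elements lie in `(D ⊔ D^t) ⊓ C(t)`
    have hdiag : ∀ x ∈ D, x * (t * x * t⁻¹) ∈
        (D ⊔ cj t D) ⊓ Subgroup.centralizer ({t} : Set G) := by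
      intro x hx
      refine Subgroup.mem_inf.mpr ⟨Subgroup.mul_mem _ (Subgroup.mem_sup_left hx)
        (Subgroup.mem_sup_right (conj_mem_cj hx)), ?_⟩
      rw [hmemC]
      have hc : Commute x (t * x * t⁻¹) := commute_of_commutator_eq_bot hcomm hx (conj_mem_cj hx)
      have e1 : t * (x * (t * x * t⁻¹)) = (t * x * t⁻¹) * (t * t * x * t⁻¹ * t⁻¹) * t := by group
      rw [e1, htt, one_mul, htinv]
      have e2 : t * x * t * (x * t * t) * t = (t * x * t) * x * (t * t) * t := by group
      rw [e2, htt, mul_one]
      rw [htinv] at hc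
      rw [hc.eq]
    rcases component_le_or_commutator_eq_bot hL hMC with h | h
    · -- `L ≤ D D^t`
      have hLM : L ≤ D ⊔ cj t D := le_of_subgroupOf_le hLt h
      refine ⟨D, hD, Or.inr (Or.inr ⟨hnorm, ?_⟩)⟩
      have hLY : L ≤ (D ⊔ cj t D) ⊓ Subgroup.centralizer ({t} : Set G) := le_inf hLM hLt
      have hYC : (D ⊔ cj t D) ⊓ Subgroup.centralizer ({t} : Set G) ≤
          Subgroup.centralizer ({t} : Set G) := inf_le_right
      have hLYc : IsComponent (L.subgroupOf ((D ⊔ cj t D) ⊓ Subgroup.centralizer ({t} : Set G))) :=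
        isComponent_subgroupOf_of_le hLY hYC hL
      have hLR : L ≤ (diag t D hcomm).range := le_range_diag htt hcomm hLM hLa hLperf
      have hRY : (diag t D hcomm).range ≤
          (D ⊔ cj t D) ⊓ Subgroup.centralizer ({t} : Set G) := by
        rintro _ ⟨x, rfl⟩
        rw [diag_apply]
        exact hdiag x x.2
      -- `R` is quasisimple
      have hker : (diag t D hcomm).ker ≠ ⊤ := by
        intro hk
        apply hLne
        rw [eq_bot_iff]
        intro x hx
        obtain ⟨d, rfl⟩ := hLR hx
        have : d ∈ (diag t D hcomm).ker := by rw [hk]; exact Subgroup.mem_top _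
        rw [Subgroup.mem_bot]
        exact this
      have hRq : IsQuasisimple ↥(diag t D hcomm).range :=
        Cfsg.Agent.Lib.Helper29.isQuasisimple_of_mulEquiv
          (QuotientGroup.quotientKerEquivRange (diag t D hcomm))
          (quasisimple_quotient hD.2 _ hker)
      -- `Y` normalizes `R`
      have hYn : (D ⊔ cj t D) ⊓ Subgroup.centralizer ({t} : Set G) ≤
          Subgroup.normalizer (((diag t D hcomm).range : Subgroup G) : Set G) := by
        apply Cfsg.Agent.Lib.Helper9.mem_normalizer_of_conj_mem
        rintro y hy _ ⟨x, rfl⟩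
        rw [diag_apply]
        have hyD : y ∈ Subgroup.normalizer (D : Set G) := hED (hME (Subgroup.mem_inf.mp hy).1)
        have hyt : t * y = y * t := (hmemC y).mp (Subgroup.mem_inf.mp hy).2
        have hx' : y * x * y⁻¹ ∈ D := (Subgroup.mem_normalizer_iff.mp hyD x).mp x.2
        refine ⟨⟨y * x * y⁻¹, hx'⟩, ?_⟩
        rw [diag_apply]
        have h2 : y⁻¹ * t⁻¹ = t⁻¹ * y⁻¹ := by
          rw [← mul_inv_rev, ← mul_inv_rev, hyt]
        have e1 : t * (y * x * y⁻¹) * t⁻¹ = y * (t * x * t⁻¹) * y⁻¹ := by
          calc t * (y * x * y⁻¹) * t⁻¹ = (t * y) * x * (y⁻¹ * t⁻¹) := by group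
            _ = (y * t) * x * (t⁻¹ * y⁻¹) := by rw [hyt, h2]
            _ = _ := by group
        rw [e1]
        group
      have hYsub : (((D ⊔ cj t D) ⊓ Subgroup.centralizer ({t} : Set G)).subgroupOf
          (Subgroup.centralizer ({t} : Set G))).IsSubnormal := by
        have e : ((D ⊔ cj t D) ⊓ Subgroup.centralizer ({t} : Set G)).subgroupOf
            (Subgroup.centralizer ({t} : Set G)) =
            (D ⊔ cj t D).subgroupOf (Subgroup.centralizer ({t} : Set G)) := by
          ext x
          rw [Subgroup.mem_subgroupOf, Subgroup.mem_subgroupOf, Subgroup.mem_inf]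
          exact ⟨fun h => h.1, fun h => ⟨h, x.2⟩⟩
        rw [e]; exact hMC
      have hRsub := isSubnormal_subgroupOf_step hRY hYsub hYn
      have hRC : (diag t D hcomm).range ≤ Subgroup.centralizer ({t} : Set G) := hRY.trans hYC
      have hRc : IsComponent ((diag t D hcomm).range.subgroupOf
          (Subgroup.centralizer ({t} : Set G))) :=
        ⟨hRsub, Cfsg.Agent.Lib.Helper29.isQuasisimple_of_mulEquiv
          (Subgroup.subgroupOfEquivOfLe hRC).symm hRq⟩
      have hLeqR : L = (diag t D hcomm).range := by
        by_contra hne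
        have hne' : L.subgroupOf (Subgroup.centralizer ({t} : Set G)) ≠
            (diag t D hcomm).range.subgroupOf (Subgroup.centralizer ({t} : Set G)) := by
          intro h'
          exact hne (le_antisymm hLR (le_of_subgroupOf_le hRC h'.ge))
        have h1 := Cfsg.Agent.Lib.Helper21.component_commutator_eq_bot_of_ne hL hRc hne'
        have h2 : ⁅L, (diag t D hcomm).range⁆ = ⊥ := commutator_eq_bot_of_subgroupOf hLt hRC h1
        have h3 : ⁅L, L⁆ = ⊥ := by
          rw [eq_bot_iff, ← h2]
          exact Subgroup.commutator_mono le_rfl hLR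
        rw [hLperf] at h3
        exact hLne h3
      -- every component of `Y` is `L`
      have key : ∀ J : Subgroup ↥((D ⊔ cj t D) ⊓ Subgroup.centralizer ({t} : Set G)),
          IsComponent J →
          J = L.subgroupOf ((D ⊔ cj t D) ⊓ Subgroup.centralizer ({t} : Set G)) := by
        intro J hJ
        by_contra hne
        have h1 := Cfsg.Agent.Lib.Helper21.component_commutator_eq_bot_of_ne hJ hLYc hne
        have hJperf := component_commutator_self hJ
        have hJ₀perf : ⁅J.map ((D ⊔ cj t D) ⊓ Subgroup.centralizer ({t} : Set G)).subtype,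
            J.map ((D ⊔ cj t D) ⊓ Subgroup.centralizer ({t} : Set G)).subtype⁆ =
            J.map ((D ⊔ cj t D) ⊓ Subgroup.centralizer ({t} : Set G)).subtype := by
          rw [← Subgroup.map_commutator, hJperf]
        have hJ₀Y : J.map ((D ⊔ cj t D) ⊓ Subgroup.centralizer ({t} : Set G)).subtype ≤
            (D ⊔ cj t D) ⊓ Subgroup.centralizer ({t} : Set G) := Subgroup.map_subtype_le J
        have hJ₀a : ∀ k ∈ J.map ((D ⊔ cj t D) ⊓ Subgroup.centralizer ({t} : Set G)).subtype,
            t * k = k * t := fun k hk => (hmemC k).mp (hJ₀Y hk).2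
        have hJR := le_range_diag htt hcomm (hJ₀Y.trans inf_le_left) hJ₀a hJ₀perf
        rw [← hLeqR] at hJR
        have hJL : J ≤ L.subgroupOf ((D ⊔ cj t D) ⊓ Subgroup.centralizer ({t} : Set G)) := by
          intro x hx
          rw [Subgroup.mem_subgroupOf]
          exact hJR ⟨x, hx, rfl⟩
        have h3 : ⁅J, J⁆ = ⊥ := by
          rw [eq_bot_iff, ← h1]
          exact Subgroup.commutator_mono le_rfl hJL
        rw [hJperf] at h3
        exact component_ne_bot hJ h3
      have hlayer : layer ↥((D ⊔ cj t D) ⊓ Subgroup.centralizer ({t} : Set G)) =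
          L.subgroupOf ((D ⊔ cj t D) ⊓ Subgroup.centralizer ({t} : Set G)) :=
        le_antisymm (sSup_le fun J hJ => (key J hJ).le) (le_sSup hLYc)
      rw [hlayer, Subgroup.map_subgroupOf_eq_of_le hLY]
    · -- `L` centralizes the diagonal: then `L` centralizes `D`
      exfalso
      apply hLD
      apply commutator_eq_bot_of_centralizes_diag (component_commutator_self hD) hcomm
        (hLE.trans hED) (hLE.trans hED')
      intro k hk x hx
      have hy := hdiag x hx
      have h1 := commute_of_commutator_eq_bot h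
        (show (⟨k, hLt hk⟩ : ↥(Subgroup.centralizer ({t} : Set G))) ∈ L.subgroupOf _ from hk)
        (show (⟨x * (t * x * t⁻¹), (Subgroup.mem_inf.mp hy).2⟩ :
          ↥(Subgroup.centralizer ({t} : Set G))) ∈ (D ⊔ cj t D).subgroupOf _ from
            (Subgroup.mem_inf.mp hy).1)
      exact congrArg Subtype.val h1.eq

end Tri

end Cfsg.Agent.Lib.Helper23
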