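/-
helper23: project DSQW (helper84, statement S5248), module [MC-OUT]:
in a group `MC x y n η δ` (dihedral / generalized quaternion / quasi-dihedral) every element
outside `⟨x⟩` is conjugate to `y` or to `x * y`, and `y`, `x * y` are not conjugate.
All declarations live in `Cfsg.Agent.Lib.Helper23.DSQWOut`.
-/
import Mathlib
import Cfsg.Agent.Lib.Helper84.DSQW.MCBasic

set_option autoImplicit false

namespace Cfsg.Agent.Lib.Helper23.DSQWOut

open Cfsg Cfsg.FusionSystem Cfsg.Agent.Lib.Helper84.DSQW Cfsg.Agent.Lib.Helper20.QD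

variable {X : Type*} [Group X] {x y : X} {n η δ : ℕ}

/-- the multiplier `2 - η h` of the conjugation action of `⟨x⟩` on the outside elements is twice something -/
theorem two_sub_eta_hf_even (h : MC x y n η δ) :
    (2 - (η : ZMod (2 ^ n)) * hf n) = 2 * (1 - (η : ZMod (2 ^ n)) * qt n) := by
  have h1 := two_mul_qt h.hn
  linear_combination ((η : ZMod (2 ^ n))) * h1

/-- solving `(2 - η h) k = - 2 j`. -/
theorem exists_solve (h : MC x y n η δ) (j : ZMod (2 ^ n)) :
    ∃ k : ZMod (2 ^ n), (2 - (η : ZMod (2 ^ n)) * hf n) * k = - (2 * j) := by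
  rcases MC.eta_cases h with h0 | h1
  · subst h0
    exact ⟨-j, by push_cast; ring⟩
  · have h3 : 3 ≤ n := (h.hsd h1).2
    subst h1
    refine ⟨-(j * (1 + qt n)), ?_⟩
    have := two_sub_hf_mul h3
    push_cast
    linear_combination (-j) * this

theorem MC.isConj_out (h : MC x y n η δ) (w : X) (hw : w ∉ Subgroup.zpowers x) :
    IsConj w y ∨ IsConj w (x * y) := by
  obtain ⟨i, rfl⟩ := (MC.not_mem_iff h w).1 hw
  rcases even_or_odd i with ⟨j, rfl⟩ | ⟨j, rfl⟩
  · left
    obtain ⟨k, hk⟩ := exists_solve h j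
    rw [isConj_iff]
    refine ⟨pw x n k, ?_⟩
    rw [MC.conj_pw_pwy h, hk, add_neg_cancel, MC.pw_zero h, one_mul]
  · right
    obtain ⟨k, hk⟩ := exists_solve h j
    rw [isConj_iff]
    refine ⟨pw x n k, ?_⟩
    rw [MC.conj_pw_pwy h, hk]
    have : 2 * j + 1 + -(2 * j) = 1 := by ring
    rw [this, MC.pw_one h]

theorem MC.not_isConj_y_xy (h : MC x y n η δ) : ¬ IsConj y (x * y) := by
  rw [isConj_iff]
  rintro ⟨c, hc⟩
  have hy : y = pw x n 0 * y := by rw [MC.pw_zero h, one_mul]
  have hxy : x * y = pw x n 1 * y := by rw [MC.pw_one h]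
  have key : ∀ k : ZMod (2 ^ n), (2 - (η : ZMod (2 ^ n)) * hf n) * k ≠ 1 := by
    intro k hk
    rw [two_sub_eta_hf_even h, mul_assoc] at hk
    have := not_even_and_odd (MC.one_le_n h) ((1 - (η : ZMod (2 ^ n)) * qt n) * k) 0
    apply this
    rw [hk]; ring
  rcases MC.normal_form h c with ⟨k, rfl⟩ | ⟨k, rfl⟩
  · have hc' : pw x n k * (pw x n 0 * y) * (pw x n k)⁻¹ = pw x n 1 * y := by
      rw [← hy, ← hxy]; exact hc
    rw [MC.conj_pw_pwy h] at hc'
    have h1 := MC.pw_injective h (mul_right_cancel hc')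
    rw [zero_add] at h1
    exact key k h1
  · have hc' : (pw x n k * y) * (pw x n 0 * y) * (pw x n k * y)⁻¹ = pw x n 1 * y := by
      rw [← hy, ← hxy]; exact hc
    rw [MC.conj_pwy_pwy h] at hc'
    have h1 := MC.pw_injective h (mul_right_cancel hc')
    rw [mul_zero, zero_add] at h1
    exact key k h1

end Cfsg.Agent.Lib.Helper23.DSQWOut
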