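/-
helper23: project DSQW (helper84, statement S5248), module [TR-ESS]:
essential subgroups are transported along a correspondence `Corr e F F'` of fusion systems.
All declarations live in `Cfsg.Agent.Lib.Helper23.DSQWTrEss`.
-/
import Mathlib
import Cfsg.Agent.Lib.Helper84.DSQW.Defs
import Cfsg.Agent.Lib.Helper84.FTr.Derived
import Cfsg.Agent.Lib.Helper87.FusionCore
import Cfsg.Agent.Lib.Helper48.SPE

set_option autoImplicit false

universe u

namespace Cfsg.Agent.Lib.Helper23.DSQWTrEss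

open Cfsg Cfsg.FusionSystem Cfsg.Agent.Lib.Helper84 Cfsg.Agent.Lib.Helper84.DSQW
  Cfsg.Agent.Lib.Helper84.FTr Cfsg.Agent.Lib.Helper87

/-! ### Strong `p`-embedding is invariant under isomorphisms -/

theorem spe_map_equiv {X X' : Type*} [Group X] [Group X'] [Finite X] {p : ℕ} [Fact p.Prime]
    (f : X ≃* X') {E : Subgroup X} (hE : IsStronglyPEmbedded p E) :
    IsStronglyPEmbedded p (E.map f.toMonoidHom) := by
  haveI : Finite X' := Finite.of_equiv X f.toEquiv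
  apply Cfsg.Agent.Lib.Helper48.spe_of_elemSE
  · intro g' _ x' hx' hxp hgx'
    obtain ⟨x, hxE, rfl⟩ := hx'
    obtain ⟨z, hzE, hz⟩ := hgx'
    have hx : orderOf x = p := by
      rw [← hxp]
      exact (MulEquiv.orderOf_eq f x).symm
    have hgz : f.symm g' * x * (f.symm g')⁻¹ = z := by
      apply f.injective
      rw [map_mul, map_mul, map_inv, MulEquiv.apply_symm_apply]
      exact hz.symm
    have hg : f.symm g' ∈ E :=
      Cfsg.Agent.Lib.Helper48.spe_elem' hE (f.symm g') x hx hxE (hgz ▸ hzE)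
    exact ⟨f.symm g', hg, MulEquiv.apply_symm_apply f g'⟩
  · have h1 : Nat.card (E.map f.toMonoidHom) = Nat.card E :=
      Subgroup.card_map_of_injective f.injective
    rw [h1]
    exact Cfsg.Agent.Lib.Helper48.spe_dvd_card hE
  · intro htop
    apply hE.2.1
    rw [eq_top_iff]
    intro x _
    have hx : f x ∈ E.map f.toMonoidHom := by rw [htop]; exact Subgroup.mem_top _
    obtain ⟨y, hy, hyx⟩ := hx
    have : y = x := f.injective hyx
    exact this ▸ hy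

variable {Ω : Type*} [Group Ω] {Ω' : Type*} [Group Ω'] {S : Subgroup Ω} {S' : Subgroup Ω'}

/-! ### Conjugation and normalizers under `e` -/

theorem apply_conj (e : S ≃* S') {s t : Ω} (hs : s ∈ S) (ht : t ∈ S) :
    (e ⟨s, hs⟩ : Ω') * (e ⟨t, ht⟩ : Ω') * (e ⟨s, hs⟩ : Ω')⁻¹ =
      (e ⟨s * t * s⁻¹, S.mul_mem (S.mul_mem hs ht) (S.inv_mem hs)⟩ : Ω') := by
  have h1 : (⟨s * t * s⁻¹, S.mul_mem (S.mul_mem hs ht) (S.inv_mem hs)⟩ : S) =
      ⟨s, hs⟩ * ⟨t, ht⟩ * (⟨s, hs⟩ : S)⁻¹ := rfl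
  rw [h1, map_mul, map_mul, map_inv]
  rfl

theorem apply_inv (e : S ≃* S') {s : Ω} (hs : s ∈ S) :
    (e ⟨s⁻¹, S.inv_mem hs⟩ : Ω') = (e ⟨s, hs⟩ : Ω')⁻¹ := by
  have h1 : (⟨s⁻¹, S.inv_mem hs⟩ : S) = (⟨s, hs⟩ : S)⁻¹ := rfl
  rw [h1, map_inv]
  rfl

theorem mem_normalizer_im_iff (e : S ≃* S') {T : Subgroup Ω} (hT : T ≤ S) {x : Ω} (hx : x ∈ S) :
    (e ⟨x, hx⟩ : Ω') ∈ Subgroup.normalizer ((im e T : Subgroup Ω') : Set Ω') ↔
      x ∈ Subgroup.normalizer (T : Set Ω) := by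
  constructor
  · intro h
    rw [Subgroup.mem_normalizer_iff]
    intro t
    constructor
    · intro ht
      have h1 := (Subgroup.mem_normalizer_iff.1 h (e ⟨t, hT ht⟩ : Ω')).1 (apply_mem_im e (hT ht) ht)
      rw [apply_conj e hx (hT ht)] at h1
      exact mem_of_apply_mem_im e _ h1
    · intro hq
      have htS : t ∈ S := by
        have h2 : t = x⁻¹ * (x * t * x⁻¹) * x := by group
        rw [h2]
        exact S.mul_mem (S.mul_mem (S.inv_mem hx) (hT hq)) hx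
      have h1 : (e ⟨x, hx⟩ : Ω') * (e ⟨t, htS⟩ : Ω') * (e ⟨x, hx⟩ : Ω')⁻¹ ∈ im e T := by
        rw [apply_conj e hx htS]
        exact apply_mem_im e _ hq
      have h3 := (Subgroup.mem_normalizer_iff.1 h (e ⟨t, htS⟩ : Ω')).2 h1
      exact mem_of_apply_mem_im e htS h3
  · intro h
    rw [Subgroup.mem_normalizer_iff]
    intro y
    constructor
    · intro hy
      obtain ⟨t, htS, ht, rfl⟩ := (mem_im_iff e T y).1 hy
      rw [apply_conj e hx htS]
      exact apply_mem_im e _ ((Subgroup.mem_normalizer_iff.1 h t).1 ht)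
    · intro hy
      obtain ⟨q, hqS, hq, hqe⟩ := (mem_im_iff e T _).1 hy
      have hxinv : x⁻¹ ∈ Subgroup.normalizer (T : Set Ω) := Subgroup.inv_mem _ h
      have h2 : x⁻¹ * q * x⁻¹⁻¹ ∈ T := (Subgroup.mem_normalizer_iff.1 hxinv q).1 hq
      have h3 : y = (e ⟨x⁻¹, S.inv_mem hx⟩ : Ω') * (e ⟨q, hqS⟩ : Ω') *
          (e ⟨x⁻¹, S.inv_mem hx⟩ : Ω')⁻¹ := by
        rw [hqe, apply_inv e hx]
        group
      rw [h3, apply_conj e (S.inv_mem hx) hqS]
      exact apply_mem_im e _ h2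

theorem normalizerIn_im (e : S ≃* S') {T : Subgroup Ω} (hT : T ≤ S) :
    normalizerIn S' (im e T) = im e (normalizerIn S T) := by
  ext y
  unfold normalizerIn
  constructor
  · intro hy
    obtain ⟨hyS, hyN⟩ := Subgroup.mem_inf.1 hy
    have hy' : y ∈ im e S := by rw [im_self]; exact hyS
    obtain ⟨x, hx, -, rfl⟩ := (mem_im_iff e S y).1 hy'
    exact (mem_im_iff e _ _).2
      ⟨x, hx, Subgroup.mem_inf.2 ⟨hx, (mem_normalizer_im_iff e hT hx).1 hyN⟩, rfl⟩
  · intro hy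
    obtain ⟨x, hx, hxN, rfl⟩ := (mem_im_iff e _ y).1 hy
    obtain ⟨-, hxN'⟩ := Subgroup.mem_inf.1 hxN
    exact Subgroup.mem_inf.2 ⟨(e ⟨x, hx⟩).2, (mem_normalizer_im_iff e hT hx).2 hxN'⟩

theorem centralizerIn_im' (e : S ≃* S') {T : Subgroup Ω} (hT : T ≤ S) :
    centralizerIn S' (im e T) = im e (centralizerIn S T) := by
  have := Cfsg.Agent.Lib.Helper50.FTr.centralizerIn_im e (U := S) hT
  rwa [im_self] at this

/-! ### Conjugates in the system -/

theorem isConj_im_exists {e : S ≃* S'} {F : FusionSystem S} {F' : FusionSystem S'} (h : Corr e F F')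
    {P : Subgroup Ω} (hPS : P ≤ S) {Q' : Subgroup Ω'} (hQ' : F'.IsConj (im e P) Q') :
    ∃ Q, F.IsConj P Q ∧ Q' = im e Q := by
  obtain ⟨φ', hφ', rfl⟩ := hQ'
  obtain ⟨P₀, φ, hφ, hP₀, hi⟩ := h.exists_of_mem hφ'
  have hP₀S : P₀ ≤ S := (F.le_of_mem hφ).1
  have hPP₀ : P₀ = P := im_injective e hP₀S hPS hP₀
  subst hPP₀
  refine ⟨φ.range, ⟨φ, hφ, rfl⟩, ?_⟩
  obtain ⟨hP, hφS, hP', h1⟩ := hi
  ext y
  constructor
  · rintro ⟨⟨y0, hy0⟩, rfl⟩
    obtain ⟨x, hx, hxP, rfl⟩ := (mem_im_iff e P₀ y0).1 hy0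
    have e1 : φ' ⟨(e ⟨x, hx⟩ : Ω'), hy0⟩ = (e ⟨φ ⟨x, hxP⟩, hφS ⟨x, hxP⟩⟩ : Ω') := h1 ⟨x, hxP⟩
    rw [e1]
    exact apply_mem_im e _ ⟨⟨x, hxP⟩, rfl⟩
  · intro hy
    obtain ⟨z, hzS, ⟨x, rfl⟩, rfl⟩ := (mem_im_iff e _ y).1 hy
    exact ⟨⟨(e ⟨x, hP x.2⟩ : Ω'), apply_mem_im e (hP x.2) x.2⟩, h1 x⟩

/-! ### Automorphism groups -/

theorem autCongr_conj (e : S ≃* S') {P : Subgroup Ω} (hP : P ≤ S) (x : P) :
    autCongr e hP (MulAut.conj x) = MulAut.conj (imEquiv e hP x) := by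
  ext y
  obtain ⟨x', rfl⟩ := (imEquiv e hP).surjective y
  rw [autCongr_apply]
  simp only [MulAut.conj_apply, map_mul, map_inv]

theorem autCongr_mem_inn_iff (e : S ≃* S') {P : Subgroup Ω} (hP : P ≤ S) (α : MulAut P) :
    autCongr e hP α ∈ Inn (im e P) ↔ α ∈ Inn P := by
  constructor
  · rintro ⟨y, hy⟩
    obtain ⟨x, rfl⟩ := (imEquiv e hP).surjective y
    refine ⟨x, ?_⟩
    apply (autCongr e hP).injective
    rw [autCongr_conj]
    exact hy
  · rintro ⟨x, rfl⟩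
    exact ⟨imEquiv e hP x, (autCongr_conj e hP x).symm⟩

/-- The isomorphism `Aut_F(P) ≃ Aut_F'(e P)`. -/
noncomputable def autGroupEquiv {e : S ≃* S'} {F : FusionSystem S} {F' : FusionSystem S'}
    (h : Corr e F F') {P : Subgroup Ω} (hP : P ≤ S) : F.autGroup P ≃* F'.autGroup (im e P) :=
  ((autCongr e hP).subgroupMap (F.autGroup P)).trans
    (MulEquiv.subgroupCongr (by
      ext α'
      constructor
      · rintro ⟨α, hα, rfl⟩
        exact (h.autCongr_mem_autGroup_iff hP α).2 hα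
      · intro hα'
        obtain ⟨α, hα, rfl⟩ := h.exists_autCongr_eq hP hα'
        exact ⟨α, hα, rfl⟩))

theorem autGroupEquiv_coe {e : S ≃* S'} {F : FusionSystem S} {F' : FusionSystem S'}
    (h : Corr e F F') {P : Subgroup Ω} (hP : P ≤ S) (a : F.autGroup P) :
    ((autGroupEquiv h hP a : F'.autGroup (im e P)) : MulAut (im e P)) = autCongr e hP (a : MulAut P) :=
  rfl

theorem map_inn_subgroupOf {e : S ≃* S'} {F : FusionSystem S} {F' : FusionSystem S'}
    (h : Corr e F F') {P : Subgroup Ω} (hP : P ≤ S) :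
    ((Inn P).subgroupOf (F.autGroup P)).map (autGroupEquiv h hP).toMonoidHom =
      (Inn (im e P)).subgroupOf (F'.autGroup (im e P)) := by
  ext a'
  constructor
  · rintro ⟨a, ha, rfl⟩
    have ha2 : (a : MulAut P) ∈ Inn P := Subgroup.mem_subgroupOf.1 ha
    refine Subgroup.mem_subgroupOf.2 ?_
    show ((autGroupEquiv h hP a : F'.autGroup (im e P)) : MulAut (im e P)) ∈ _
    rw [autGroupEquiv_coe]
    exact (autCongr_mem_inn_iff e hP _).2 ha2
  · intro ha'
    obtain ⟨a, rfl⟩ := (autGroupEquiv h hP).surjective a'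
    rw [Subgroup.mem_subgroupOf, autGroupEquiv_coe] at ha'
    refine ⟨a, ?_, rfl⟩
    exact Subgroup.mem_subgroupOf.2 ((autCongr_mem_inn_iff e hP _).1 ha')

/-! ### The module statement -/

theorem corr_isEssential [Finite S] {p : ℕ} [Fact p.Prime] (hS : IsPGroup p S) {e : S ≃* S'}
    {F : FusionSystem S} {F' : FusionSystem S'} (h : Corr e F F') {P : Subgroup Ω}
    (hP : F.IsEssential p P) : F'.IsEssential p (im e P) := by
  obtain ⟨hcen, hfn, hN, E, hE⟩ := hP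
  have hPS : P ≤ S := hcen.1
  refine ⟨⟨im_le e P, ?_⟩, ⟨im_le e P, ?_⟩, ?_⟩
  · intro Q' hQ'
    obtain ⟨Q, hQ, rfl⟩ := isConj_im_exists h hPS hQ'
    have hQS : Q ≤ S := IsConj_le_right hQ
    rw [centralizerIn_im' e hQS]
    exact im_mono e (hcen.2 Q hQ)
  · intro Q' hQ'
    obtain ⟨Q, hQ, rfl⟩ := isConj_im_exists h hPS hQ'
    have hQS : Q ≤ S := IsConj_le_right hQ
    have hle : ∀ R : Subgroup Ω, normalizerIn S R ≤ S := fun R => by
      unfold normalizerIn; exact inf_le_left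
    rw [normalizerIn_im e hQS, normalizerIn_im e hPS, card_im e (hle Q), card_im e (hle P)]
    exact hfn.2 Q hQ
  · have : Finite P := Finite.of_injective (Subgroup.inclusion hPS) (Subgroup.inclusion_injective hPS)
    have he := map_inn_subgroupOf h hPS
    have hN' : ((Inn (im e P)).subgroupOf (F'.autGroup (im e P))).Normal := by
      rw [← he]
      exact hN.map _ (autGroupEquiv h hPS).surjective
    refine ⟨hN', ?_⟩
    let f : (F.autGroup P ⧸ (Inn P).subgroupOf (F.autGroup P)) ≃*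
        (F'.autGroup (im e P) ⧸ (Inn (im e P)).subgroupOf (F'.autGroup (im e P))) :=
      QuotientGroup.congr _ _ (autGroupEquiv h hPS) he
    exact ⟨E.map f.toMonoidHom, spe_map_equiv f hE⟩

end Cfsg.Agent.Lib.Helper23.DSQWTrEss
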