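/-
helper23 shared library: elementary abelian 2-groups acting on groups of odd order.
* `exists_eigen_mod`: eigenvectors modulo an invariant subgroup.
* `centralizes_of_centralizes_selfCentralizing`: an involution centralizing a self-centralizing
  normal subgroup of an odd order group centralizes the group.
All declarations live in `Cfsg.Agent.Lib.Helper23`.
-/
import Mathlib

set_option autoImplicit false

namespace Cfsg.Agent.Lib.Helper23

variable {G : Type*} [Group G]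

/-- A subgroup all of whose elements conjugate `H` into itself normalizes `H`. -/
theorem le_normalizer_of_forall_conj_mem {A H : Subgroup G}
    (h : ∀ b ∈ A, ∀ y ∈ H, b * y * b⁻¹ ∈ H) : A ≤ Subgroup.normalizer (H : Set G) := by
  intro b hb
  rw [Subgroup.mem_normalizer_iff]
  intro y
  constructor
  · exact h b hb y
  · intro hy
    have := h b⁻¹ (A.inv_mem hb) _ hy
    simpa [mul_assoc] using this

theorem conj_mem_of_le_normalizer' {A H : Subgroup G}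
    (h : A ≤ Subgroup.normalizer (H : Set G)) {b y : G} (hb : b ∈ A) (hy : y ∈ H) :
    b * y * b⁻¹ ∈ H :=
  (Subgroup.mem_normalizer_iff.mp (h hb) y).mp hy

/-- **Eigenvectors modulo an invariant subgroup.** Let `A` be a commutative subgroup of exponent
two, `M < K` two `A`-invariant subgroups with `K/M` abelian.  Then some `x ∈ K ∖ M` is mapped
by every element of `A` to `x` or `x⁻¹` modulo `M`. -/
theorem exists_eigen_mod [Finite G] {A M K : Subgroup G}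
    (hAc : ∀ a ∈ A, ∀ b ∈ A, a * b = b * a) (hA2 : ∀ a ∈ A, a * a = 1)
    (hMK : M ≤ K) (hne : ¬ K ≤ M)
    (hAM : ∀ b ∈ A, ∀ y ∈ M, b * y * b⁻¹ ∈ M) (hAK : ∀ b ∈ A, ∀ y ∈ K, b * y * b⁻¹ ∈ K)
    (hcomm : ∀ x ∈ K, ∀ y ∈ K, x * y * x⁻¹ * y⁻¹ ∈ M) :
    ∃ x ∈ K, x ∉ M ∧ ∀ b ∈ A, (b * x * b⁻¹ * x⁻¹ ∈ M ∨ b * x * b⁻¹ * x ∈ M) := by
  classical
  have hnorm : ∀ x ∈ K, ∀ m ∈ M, x * m * x⁻¹ ∈ M := by
    intro x hx m hm
    have h1 := M.mul_mem (hcomm x hx m (hMK hm)) hm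
    simpa [mul_assoc] using h1
  -- a minimal invariant subgroup strictly above `M`
  obtain ⟨N, hN, hNmin⟩ := exists_minimal_of_wellFoundedLT
    (fun N : Subgroup G => M ≤ N ∧ N ≤ K ∧ ¬ N ≤ M ∧ ∀ b ∈ A, ∀ y ∈ N, b * y * b⁻¹ ∈ N)
    ⟨K, hMK, le_rfl, hne, hAK⟩
  obtain ⟨hMN, hNK, hNM, hAN⟩ := hN
  have key : ∀ b ∈ A, (∀ y ∈ N, b * y * b⁻¹ * y⁻¹ ∈ M) ∨ (∀ y ∈ N, b * y * b⁻¹ * y ∈ M) := by
    intro b hb
    -- the subgroup of elements of `N` centralized by `b` modulo `M`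
    let Nb : Subgroup G :=
      { carrier := {y | y ∈ N ∧ b * y * b⁻¹ * y⁻¹ ∈ M}
        one_mem' := ⟨N.one_mem, by simp⟩
        mul_mem' := by
          rintro y z ⟨hy, hy'⟩ ⟨hz, hz'⟩
          refine ⟨N.mul_mem hy hz, ?_⟩
          have h1 : b * (y * z) * b⁻¹ * (y * z)⁻¹ =
              (b * y * b⁻¹ * y⁻¹) * (y * (b * z * b⁻¹ * z⁻¹) * y⁻¹) := by group
          rw [h1]
          exact M.mul_mem hy' (hnorm y (hNK hy) _ hz')
        inv_mem' := by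
          rintro y ⟨hy, hy'⟩
          refine ⟨N.inv_mem hy, ?_⟩
          have h1 : b * y⁻¹ * b⁻¹ * y⁻¹⁻¹ = (y⁻¹ * (b * y * b⁻¹ * y⁻¹) * y⁻¹⁻¹)⁻¹ := by group
          rw [h1]
          exact M.inv_mem (hnorm y⁻¹ (K.inv_mem (hNK hy)) _ hy') }
    have hNbN : Nb ≤ N := fun y hy => hy.1
    have hMNb : M ≤ Nb := fun m hm => ⟨hMN hm, M.mul_mem (hAM b hb m hm) (M.inv_mem hm)⟩
    have hANb : ∀ c ∈ A, ∀ y ∈ Nb, c * y * c⁻¹ ∈ Nb := by
      rintro c hc y ⟨hy, hy'⟩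
      refine ⟨hAN c hc y hy, ?_⟩
      have hbc : b * c = c * b := hAc b hb c hc
      have hbc' : b⁻¹ * c⁻¹ = c⁻¹ * b⁻¹ := by
        rw [← mul_inv_rev, ← mul_inv_rev, hbc]
      have h1 : b * (c * y * c⁻¹) * b⁻¹ * (c * y * c⁻¹)⁻¹ = c * (b * y * b⁻¹ * y⁻¹) * c⁻¹ := by
        have e1 : b * (c * y * c⁻¹) * b⁻¹ = c * (b * y * b⁻¹) * c⁻¹ := by
          calc b * (c * y * c⁻¹) * b⁻¹ = (b * c) * y * (c⁻¹ * b⁻¹) := by group
            _ = (c * b) * y * (b⁻¹ * c⁻¹) := by rw [hbc, hbc']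
            _ = c * (b * y * b⁻¹) * c⁻¹ := by group
        rw [e1]; group
      rw [h1]
      exact hAM c hc _ hy'
    by_cases hNbM : Nb ≤ M
    · right
      intro y hy
      have hw : y * (b * y * b⁻¹) ∈ Nb := by
        refine ⟨N.mul_mem hy (hAN b hb y hy), ?_⟩
        have h1 : b * (y * (b * y * b⁻¹)) * b⁻¹ * (y * (b * y * b⁻¹))⁻¹ =
            (b * y * b⁻¹) * ((b * b) * y * (b * b)⁻¹) * (b * y * b⁻¹)⁻¹ * y⁻¹ := by group
        rw [h1, hA2 b hb]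
        have h2 := hcomm (b * y * b⁻¹) (hAK b hb y (hNK hy)) y (hNK hy)
        simpa using h2
      have h3 := hnorm y⁻¹ (K.inv_mem (hNK hy)) _ (hNbM hw)
      have h4 : y⁻¹ * (y * (b * y * b⁻¹)) * y⁻¹⁻¹ = b * y * b⁻¹ * y := by group
      rwa [h4] at h3
    · left
      have hle : N ≤ Nb := hNmin ⟨hMNb, hNbN.trans hNK, hNbM, hANb⟩ hNbN
      intro y hy
      exact (hle hy).2
  obtain ⟨x, hxN, hxM⟩ := SetLike.not_le_iff_exists.mp hNM
  refine ⟨x, hNK hxN, hxM, ?_⟩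
  intro b hb
  rcases key b hb with h | h
  · exact Or.inl (h x hxN)
  · exact Or.inr (h x hxN)

/-- In a group of odd order the only element with `y * y = 1` is the identity. -/
theorem eq_one_of_mul_self_eq_one_of_odd {X : Subgroup G} (hodd : Odd (Nat.card X)) {y : G}
    (hy : y ∈ X) (hyy : y * y = 1) : y = 1 := by
  have h2 : orderOf y ∣ 2 := orderOf_dvd_of_pow_eq_one (by rw [pow_two]; exact hyy)
  have h3 : orderOf y ∣ Nat.card X := by
    have := orderOf_dvd_natCard (⟨y, hy⟩ : X)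
    rwa [Subgroup.orderOf_mk] at this
  have h4 : orderOf y ∣ Nat.gcd 2 (Nat.card X) := Nat.dvd_gcd h2 h3
  rw [Nat.coprime_two_left.mpr hodd] at h4
  exact orderOf_eq_one_iff.mp (Nat.dvd_one.mp h4)

/-- An involution `a` normalizing the odd order subgroup `X` and centralizing a subgroup `N`
normal in `X` with `C_X(N) ≤ N` centralizes `X`. -/
theorem centralizes_of_centralizes_selfCentralizing {X N : Subgroup G} {a : G}
    (hodd : Odd (Nat.card X)) (hXN : ∀ l ∈ X, ∀ m ∈ N, l * m * l⁻¹ ∈ N)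
    (hself : ∀ y ∈ X, (∀ m ∈ N, y * m = m * y) → y ∈ N)
    (ha2 : a * a = 1) (haX : ∀ l ∈ X, a * l * a⁻¹ ∈ X) (haN : ∀ m ∈ N, a * m * a⁻¹ = m) :
    ∀ l ∈ X, a * l * a⁻¹ = l := by
  intro l hl
  have hyX : l⁻¹ * (a * l * a⁻¹) ∈ X := X.mul_mem (X.inv_mem hl) (haX l hl)
  have hyc : ∀ m ∈ N, l⁻¹ * (a * l * a⁻¹) * m = m * (l⁻¹ * (a * l * a⁻¹)) := by
    intro m hm
    have e1 : a⁻¹ * m * a = m := by
      have h := haN m hm
      calc a⁻¹ * m * a = a⁻¹ * (a * m * a⁻¹) * a := by rw [h]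
        _ = m := by group
    have e2 : a * (l * m * l⁻¹) * a⁻¹ = l * m * l⁻¹ := haN _ (hXN l hl m hm)
    have e3 : a * l * a⁻¹ * m = l * m * l⁻¹ * (a * l * a⁻¹) := by
      calc a * l * a⁻¹ * m = a * l * (a⁻¹ * m * a) * a⁻¹ := by group
        _ = a * l * m * a⁻¹ := by rw [e1]
        _ = (a * (l * m * l⁻¹) * a⁻¹) * (a * l * a⁻¹) := by group
        _ = l * m * l⁻¹ * (a * l * a⁻¹) := by rw [e2]
    calc l⁻¹ * (a * l * a⁻¹) * m = l⁻¹ * (a * l * a⁻¹ * m) := by group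
      _ = l⁻¹ * (l * m * l⁻¹ * (a * l * a⁻¹)) := by rw [e3]
      _ = m * (l⁻¹ * (a * l * a⁻¹)) := by group
  have hyN : l⁻¹ * (a * l * a⁻¹) ∈ N := hself _ hyX hyc
  have hay := haN _ hyN
  have hyy : (l⁻¹ * (a * l * a⁻¹)) * (l⁻¹ * (a * l * a⁻¹)) = 1 := by
    have e4 : l = (a * l * a⁻¹) * (a * (l⁻¹ * (a * l * a⁻¹)) * a⁻¹) := by
      have : (a * l * a⁻¹) * (a * (l⁻¹ * (a * l * a⁻¹)) * a⁻¹) = (a * a) * l * (a * a)⁻¹ := by
        group
      rw [this, ha2]; simp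
    rw [hay] at e4
    calc (l⁻¹ * (a * l * a⁻¹)) * (l⁻¹ * (a * l * a⁻¹))
        = l⁻¹ * ((a * l * a⁻¹) * (l⁻¹ * (a * l * a⁻¹))) := by group
      _ = l⁻¹ * l := by rw [← e4]
      _ = 1 := by group
  have h1 := eq_one_of_mul_self_eq_one_of_odd hodd hyX hyy
  calc a * l * a⁻¹ = l * (l⁻¹ * (a * l * a⁻¹)) := by group
    _ = l := by rw [h1, mul_one]

/-- In a nilpotent group, a normal subgroup `C` not contained in `M` has an element outside `M`
all of whose commutators lie in `M`, provided `C ⊓ Z_i ≤ M` propagates (upper central series). -/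
theorem exists_mem_not_mem_forall_comm_mem {H : Type*} [Group H] [Group.IsNilpotent H]
    {M C : Subgroup H} [C.Normal] (hne : ¬ C ≤ M) :
    ∃ x ∈ C, x ∉ M ∧ ∀ f : H, x * f * x⁻¹ * f⁻¹ ∈ M := by
  classical
  obtain ⟨n, hn⟩ := Group.IsNilpotent.nilpotent (G := H)
  have hP : ∃ i, ¬ (C ⊓ Subgroup.upperCentralSeries H i ≤ M) := ⟨n, by rw [hn, inf_top_eq]; exact hne⟩
  have hfind := Nat.find_spec hP
  have hmin := fun j => Nat.find_min hP (m := j)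
  rcases hi : Nat.find hP with _ | j
  · exfalso
    rw [hi] at hfind
    apply hfind
    rw [Subgroup.upperCentralSeries_zero, inf_bot_eq]
    exact bot_le
  · rw [hi] at hfind
    have hj : C ⊓ Subgroup.upperCentralSeries H j ≤ M := by
      by_contra hcon
      exact hmin j (by omega) hcon
    obtain ⟨x, hx, hxM⟩ := SetLike.not_le_iff_exists.mp hfind
    refine ⟨x, hx.1, hxM, fun f => hj ⟨?_, ?_⟩⟩
    · have h1 : x * f * x⁻¹ * f⁻¹ = x * (f * x⁻¹ * f⁻¹) := by group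
      rw [h1]
      exact C.mul_mem hx.1 (Subgroup.Normal.conj_mem inferInstance _ (C.inv_mem hx.1) f)
    · exact (Subgroup.mem_upperCentralSeries_succ_iff.mp hx.2) f

/-- Subgroup version of `exists_mem_not_mem_forall_comm_mem`. -/
theorem exists_mem_not_mem_forall_comm_mem' {F M C : Subgroup G} (hnil : Group.IsNilpotent F)
    (hCF : C ≤ F) (hFC : ∀ f ∈ F, ∀ y ∈ C, f * y * f⁻¹ ∈ C) (hne : ¬ C ≤ M) :
    ∃ x ∈ C, x ∉ M ∧ ∀ f ∈ F, x * f * x⁻¹ * f⁻¹ ∈ M := by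
  have : (C.subgroupOf F).Normal := by
    constructor
    intro y hy f
    rw [Subgroup.mem_subgroupOf] at hy ⊢
    exact hFC f f.2 y hy
  have hne' : ¬ C.subgroupOf F ≤ M.subgroupOf F := by
    obtain ⟨x, hx, hxM⟩ := SetLike.not_le_iff_exists.mp hne
    intro hle
    exact hxM (Subgroup.mem_subgroupOf.mp (hle (show (⟨x, hCF hx⟩ : F) ∈ C.subgroupOf F from
      Subgroup.mem_subgroupOf.mpr hx)))
  obtain ⟨x, hx, hxM, hxf⟩ := exists_mem_not_mem_forall_comm_mem hne'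
  refine ⟨x, Subgroup.mem_subgroupOf.mp hx, fun h => hxM (Subgroup.mem_subgroupOf.mpr h), ?_⟩
  intro f hf
  have := hxf ⟨f, hf⟩
  rw [Subgroup.mem_subgroupOf] at this
  simpa using this

/-- The join of an abelian subgroup `M` with the cyclic group generated by an element centralizing
`M` is abelian. -/
theorem sup_zpowers_comm {M : Subgroup G} {x : G} (hM : ∀ u ∈ M, ∀ v ∈ M, u * v = v * u)
    (hx : ∀ m ∈ M, x * m = m * x) :
    ∀ u ∈ M ⊔ Subgroup.zpowers x, ∀ v ∈ M ⊔ Subgroup.zpowers x, u * v = v * u := by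
  have hMM : M ≤ Subgroup.centralizer (M : Set G) := by
    intro u hu
    rw [Subgroup.mem_centralizer_iff]
    intro v hv
    exact hM v hv u hu
  have hZM : Subgroup.zpowers x ≤ Subgroup.centralizer (M : Set G) := by
    rw [Subgroup.zpowers_le, Subgroup.mem_centralizer_iff]
    intro m hm
    exact (hx m hm).symm
  have hZZ : Subgroup.zpowers x ≤ Subgroup.centralizer (Subgroup.zpowers x : Set G) := by
    rw [Subgroup.zpowers_le, Subgroup.mem_centralizer_iff]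
    intro h hh
    obtain ⟨k, rfl⟩ := Subgroup.mem_zpowers_iff.mp hh
    exact ((Commute.refl x).zpow_left k).eq
  have hMZ : M ≤ Subgroup.centralizer (Subgroup.zpowers x : Set G) :=
    Subgroup.le_centralizer_iff.mp hZM
  have h1 : M ⊔ Subgroup.zpowers x ≤ Subgroup.centralizer (M : Set G) := sup_le hMM hZM
  have h2 : M ⊔ Subgroup.zpowers x ≤ Subgroup.centralizer (Subgroup.zpowers x : Set G) :=
    sup_le hMZ hZZ
  have h3 : M ⊔ Subgroup.zpowers x ≤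
      Subgroup.centralizer ((M ⊔ Subgroup.zpowers x : Subgroup G) : Set G) :=
    sup_le (Subgroup.le_centralizer_iff.mp h1) (Subgroup.le_centralizer_iff.mp h2)
  intro u hu v hv
  exact ((Subgroup.mem_centralizer_iff.mp (h3 hv)) u hu)

/-- If conjugation by `f` maps `M` into `M₁` and `x` into `M₁`, it maps `M ⊔ ⟨x⟩` into `M₁`. -/
theorem conj_mem_of_sup_zpowers {M M₁ : Subgroup G} {x f : G}
    (hM : ∀ m ∈ M, f * m * f⁻¹ ∈ M₁) (hx : f * x * f⁻¹ ∈ M₁) :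
    ∀ u ∈ M ⊔ Subgroup.zpowers x, f * u * f⁻¹ ∈ M₁ := by
  have h : M ⊔ Subgroup.zpowers x ≤ M₁.comap (MulAut.conj f).toMonoidHom := by
    refine sup_le (fun m hm => ?_) ?_
    · rw [Subgroup.mem_comap]
      exact hM m hm
    · rw [Subgroup.zpowers_le, Subgroup.mem_comap]
      exact hx
  intro u hu
  exact h hu

/-- A nilpotent group `F` acted on by a commutative group `A` of exponent two has an
`A`-invariant abelian normal subgroup `M` with `C_F(M) ≤ M`. -/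
theorem exists_abelian_normal_selfCentralizing [Finite G] {A F : Subgroup G}
    (hAc : ∀ a ∈ A, ∀ b ∈ A, a * b = b * a) (hA2 : ∀ a ∈ A, a * a = 1)
    (hnil : Group.IsNilpotent F) (hAF : ∀ b ∈ A, ∀ y ∈ F, b * y * b⁻¹ ∈ F) :
    ∃ M : Subgroup G, M ≤ F ∧ (∀ x ∈ M, ∀ y ∈ M, x * y = y * x) ∧
      (∀ f ∈ F, ∀ y ∈ M, f * y * f⁻¹ ∈ M) ∧ (∀ b ∈ A, ∀ y ∈ M, b * y * b⁻¹ ∈ M) ∧
      (∀ y ∈ F, (∀ m ∈ M, y * m = m * y) → y ∈ M) := by
  classical
  obtain ⟨M, hM, hMmax⟩ := exists_maximal_of_wellFoundedGT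
    (fun M : Subgroup G => M ≤ F ∧ (∀ x ∈ M, ∀ y ∈ M, x * y = y * x) ∧
      (∀ f ∈ F, ∀ y ∈ M, f * y * f⁻¹ ∈ M) ∧ (∀ b ∈ A, ∀ y ∈ M, b * y * b⁻¹ ∈ M))
    ⟨⊥, bot_le, by
      intro x hx y hy
      rw [Subgroup.mem_bot] at hx hy
      rw [hx, hy], by
      intro f _ y hy
      rw [Subgroup.mem_bot] at hy ⊢
      rw [hy]; group, by
      intro f _ y hy
      rw [Subgroup.mem_bot] at hy ⊢
      rw [hy]; group⟩
  obtain ⟨hMF, hMab, hFM, hAM⟩ := hM
  refine ⟨M, hMF, hMab, hFM, hAM, ?_⟩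
  by_contra hcon
  push Not at hcon
  obtain ⟨y₀, hy₀F, hy₀c, hy₀M⟩ := hcon
  -- `C = C_F(M)`
  set C : Subgroup G := F ⊓ Subgroup.centralizer (M : Set G) with hC
  have hmemC : ∀ y, y ∈ C ↔ y ∈ F ∧ ∀ m ∈ M, y * m = m * y := by
    intro y
    rw [hC, Subgroup.mem_inf, Subgroup.mem_centralizer_iff]
    constructor
    · rintro ⟨h1, h2⟩
      exact ⟨h1, fun m hm => (h2 m hm).symm⟩
    · rintro ⟨h1, h2⟩
      exact ⟨h1, fun m hm => (h2 m hm).symm⟩
  have hCF : C ≤ F := inf_le_left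
  have hCM : ¬ C ≤ M := fun h => hy₀M (h ((hmemC y₀).mpr ⟨hy₀F, hy₀c⟩))
  have hMC : M ≤ C := fun m hm => (hmemC m).mpr ⟨hMF hm, fun m' hm' => hMab m hm m' hm'⟩
  -- conjugation by an element normalizing `F` and `M` preserves `C`
  have hconjC : ∀ g : G, (∀ y ∈ F, g * y * g⁻¹ ∈ F) → (∀ m ∈ M, g⁻¹ * m * g ∈ M) →
      ∀ y ∈ C, g * y * g⁻¹ ∈ C := by
    intro g hgF hgM y hy
    obtain ⟨hyF, hyc⟩ := (hmemC y).mp hy
    refine (hmemC _).mpr ⟨hgF y hyF, ?_⟩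
    intro m hm
    have h1 := hyc _ (hgM m hm)
    calc g * y * g⁻¹ * m = g * (y * (g⁻¹ * m * g)) * g⁻¹ := by group
      _ = g * ((g⁻¹ * m * g) * y) * g⁻¹ := by rw [h1]
      _ = m * (g * y * g⁻¹) := by group
  have hFC : ∀ f ∈ F, ∀ y ∈ C, f * y * f⁻¹ ∈ C := by
    intro f hf
    refine hconjC f (fun y hy => F.mul_mem (F.mul_mem hf hy) (F.inv_mem hf)) ?_
    intro m hm
    have := hFM f⁻¹ (F.inv_mem hf) m hm
    simpa using this
  have hAC : ∀ b ∈ A, ∀ y ∈ C, b * y * b⁻¹ ∈ C := by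
    intro b hb
    refine hconjC b (hAF b hb) ?_
    intro m hm
    have := hAM b⁻¹ (A.inv_mem hb) m hm
    simpa using this
  obtain ⟨x₀, hx₀C, hx₀M, hx₀F⟩ := exists_mem_not_mem_forall_comm_mem' hnil hCF hFC hCM
  -- `K`: the elements of `C` central modulo `M`
  let K : Subgroup G :=
    { carrier := {x | x ∈ C ∧ ∀ f ∈ F, x * f * x⁻¹ * f⁻¹ ∈ M}
      one_mem' := ⟨C.one_mem, fun f _ => by simp⟩
      mul_mem' := by
        rintro x y ⟨hx, hx'⟩ ⟨hy, hy'⟩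
        refine ⟨C.mul_mem hx hy, fun f hf => ?_⟩
        have h1 : x * y * f * (x * y)⁻¹ * f⁻¹ =
            (x * (y * f * y⁻¹ * f⁻¹) * x⁻¹) * (x * f * x⁻¹ * f⁻¹) := by group
        rw [h1]
        exact M.mul_mem (hFM x (hCF hx) _ (hy' f hf)) (hx' f hf)
      inv_mem' := by
        rintro x ⟨hx, hx'⟩
        refine ⟨C.inv_mem hx, fun f hf => ?_⟩
        have h1 : x⁻¹ * f * x⁻¹⁻¹ * f⁻¹ = x⁻¹ * (x * f * x⁻¹ * f⁻¹)⁻¹ * x⁻¹⁻¹ := by group
        rw [h1]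
        exact hFM x⁻¹ (F.inv_mem (hCF hx)) _ (M.inv_mem (hx' f hf)) }
  have hKC : K ≤ C := fun x hx => hx.1
  have hMK : M ≤ K := by
    intro m hm
    refine ⟨hMC hm, fun f hf => ?_⟩
    have h1 : m * f * m⁻¹ * f⁻¹ = m * (f * m⁻¹ * f⁻¹) := by group
    rw [h1]
    exact M.mul_mem hm (hFM f hf _ (M.inv_mem hm))
  have hKM : ¬ K ≤ M := fun h => hx₀M (h ⟨hx₀C, hx₀F⟩)
  have hAK : ∀ b ∈ A, ∀ y ∈ K, b * y * b⁻¹ ∈ K := by
    rintro b hb y ⟨hy, hy'⟩
    refine ⟨hAC b hb y hy, fun f hf => ?_⟩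
    have hf' : b⁻¹ * f * b ∈ F := by
      have := hAF b⁻¹ (A.inv_mem hb) f hf
      simpa using this
    have h1 : b * y * b⁻¹ * f * (b * y * b⁻¹)⁻¹ * f⁻¹ =
        b * (y * (b⁻¹ * f * b) * y⁻¹ * (b⁻¹ * f * b)⁻¹) * b⁻¹ := by group
    rw [h1]
    exact hAM b hb _ (hy' _ hf')
  have hcomm : ∀ x ∈ K, ∀ y ∈ K, x * y * x⁻¹ * y⁻¹ ∈ M :=
    fun x hx y hy => hx.2 y (hCF (hKC hy))
  obtain ⟨x, hxK, hxM, hxA⟩ := exists_eigen_mod hAc hA2 hMK hKM hAM hAK hcomm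
  have hxF : x ∈ F := hCF (hKC hxK)
  have hxc : ∀ m ∈ M, x * m = m * x := ((hmemC x).mp (hKC hxK)).2
  -- the bigger subgroup
  have hle : M ≤ M ⊔ Subgroup.zpowers x := le_sup_left
  have hxM₁ : x ∈ M ⊔ Subgroup.zpowers x :=
    (le_sup_right : Subgroup.zpowers x ≤ _) (Subgroup.mem_zpowers x)
  have hbig : M ⊔ Subgroup.zpowers x ≤ M := by
    apply hMmax _ hle
    refine ⟨sup_le hMF (by rw [Subgroup.zpowers_le]; exact hxF), sup_zpowers_comm hMab hxc, ?_, ?_⟩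
    · intro f hf
      refine conj_mem_of_sup_zpowers (fun m hm => hle (hFM f hf m hm)) ?_
      have h1 : f * x * f⁻¹ = (x * f * x⁻¹ * f⁻¹)⁻¹ * x := by group
      rw [h1]
      exact Subgroup.mul_mem _ (hle (M.inv_mem (hxK.2 f hf))) hxM₁
    · intro b hb
      refine conj_mem_of_sup_zpowers (fun m hm => hle (hAM b hb m hm)) ?_
      rcases hxA b hb with h | h
      · have h1 : b * x * b⁻¹ = (b * x * b⁻¹ * x⁻¹) * x := by group
        rw [h1]
        exact Subgroup.mul_mem _ (hle h) hxM₁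
      · have h1 : b * x * b⁻¹ = (b * x * b⁻¹ * x) * x⁻¹ := by group
        rw [h1]
        exact Subgroup.mul_mem _ (hle h) (Subgroup.inv_mem _ hxM₁)
  exact hxM (hbig hxM₁)

end Cfsg.Agent.Lib.Helper23
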