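/-
helper23 shared library: an elementary abelian 2-group acting on a solvable group of odd order
acts with the same kernel on some invariant abelian subgroup.
All declarations live in `Cfsg.Agent.Lib.Helper23`.
-/
import Mathlib
import Cfsg.Prelude.Def_Solvable
import Cfsg.Agent.Lib.Helper1.Fitting
import Cfsg.Agent.Lib.Helper21.GenFitting
import Cfsg.Agent.Lib.Helper29.Iso
import Cfsg.Agent.Lib.Helper23.FaithfulAbelian

set_option autoImplicit false

namespace Cfsg.Agent.Lib.Helper23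

open Cfsg

/-- Let `L` be solvable of odd order and `A` a commutative group of exponent two normalizing `L`.
Then `L` has an `A`-invariant abelian subgroup `M` such that every element of `A` centralizing
`M` centralizes `L`. -/
theorem exists_abelian_faithful {G : Type*} [Group G] [Finite G] {A L : Subgroup G}
    (hLs : Group.IsSolvable ↥L) (hLodd : Odd (Nat.card ↥L))
    (hAc : ∀ a ∈ A, ∀ b ∈ A, a * b = b * a) (hA2 : ∀ a ∈ A, a * a = 1)
    (hAL : A ≤ Subgroup.normalizer (L : Set G)) :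
    ∃ M : Subgroup G, M ≤ L ∧ (∀ x ∈ M, ∀ y ∈ M, x * y = y * x) ∧
      (∀ b ∈ A, ∀ y ∈ M, b * y * b⁻¹ ∈ M) ∧
      ∀ a ∈ A, (∀ m ∈ M, a * m * a⁻¹ = m) → ∀ l ∈ L, a * l * a⁻¹ = l := by
  classical
  have := hLs
  set F : Subgroup ↥L := fittingSubgroup ↥L with hF
  have hFchar : F.Characteristic := Cfsg.Agent.Lib.Helper29.fittingSubgroup_characteristic ↥L
  have hFn : F.Normal := inferInstance
  set F' : Subgroup G := F.map L.subtype with hF'
  have hF'L : F' ≤ L := Subgroup.map_subtype_le _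
  have hnil : Group.IsNilpotent ↥F' := by
    have : Group.IsNilpotent ↥F := Cfsg.Agent.Lib.Helper1.fittingSubgroup_isNilpotent
    exact Group.nilpotent_of_mulEquiv (Subgroup.equivMapOfInjective F L.subtype L.subtype_injective)
  have hLF' : ∀ l ∈ L, ∀ y ∈ F', l * y * l⁻¹ ∈ F' := by
    rintro l hl _ ⟨y, hy, rfl⟩
    exact ⟨⟨l, hl⟩ * y * ⟨l, hl⟩⁻¹, hFn.conj_mem y hy ⟨l, hl⟩, rfl⟩
  have hAF' : ∀ b ∈ A, ∀ y ∈ F', b * y * b⁻¹ ∈ F' := by
    rintro b hb _ ⟨y, hy, rfl⟩
    have h1 : L.normalizerMonoidHom ⟨b, hAL hb⟩ y ∈ F :=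
      (Subgroup.characteristic_iff_le_comap.mp hFchar (L.normalizerMonoidHom ⟨b, hAL hb⟩)) hy
    exact ⟨_, h1, rfl⟩
  have hself : ∀ y ∈ L, (∀ m ∈ F', y * m = m * y) → y ∈ F' := by
    intro y hy hyc
    have hC : Subgroup.centralizer (F : Set ↥L) ≤ F :=
      Cfsg.Agent.Lib.Helper21.solvable_le_fitting_aux _ _ rfl le_rfl Subgroup.le_normalizer
        inferInstance
    have hyC : (⟨y, hy⟩ : ↥L) ∈ Subgroup.centralizer (F : Set ↥L) := by
      rw [Subgroup.mem_centralizer_iff]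
      intro m hm
      apply Subtype.ext
      exact (hyc m ⟨m, hm, rfl⟩).symm
    exact ⟨⟨y, hy⟩, hC hyC, rfl⟩
  obtain ⟨M, hMF, hMab, hFM, hAM, hMself⟩ :=
    exists_abelian_normal_selfCentralizing hAc hA2 hnil hAF'
  refine ⟨M, hMF.trans hF'L, hMab, hAM, ?_⟩
  intro a ha haM
  have hF'odd : Odd (Nat.card ↥F') := Odd.of_dvd_nat hLodd (Subgroup.card_dvd_of_le hF'L)
  have haF' : ∀ l ∈ F', a * l * a⁻¹ = l :=
    centralizes_of_centralizes_selfCentralizing hF'odd hFM hMself (hA2 a ha) (hAF' a ha) haM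
  exact centralizes_of_centralizes_selfCentralizing hLodd hLF' hself (hA2 a ha)
    (fun l hl => conj_mem_of_le_normalizer' hAL ha hl) haF'

end Cfsg.Agent.Lib.Helper23
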