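import Mathlib

/-!
# Partitions invariant under an involution (helper23)

An involution `τ` of a finite set `T` of size `a * t` preserves some partition of `T` into `t`
blocks of size `a`.
-/

set_option autoImplicit false

namespace Cfsg.Agent.Lib.Helper23

section Partition

variable {ι : Type*} [LinearOrder ι] (τ : ι → ι) (hτ : ∀ i, τ (τ i) = i)

theorem invPart_arith (a u s : ℕ) (ha : 0 < a) (h' : u + 2 * s = a ∨ 2 * a ≤ u + 2 * s) :
    (∃ d c, d ≤ u ∧ c ≤ s ∧ d + 2 * c = a) ∨ (u = 0 ∧ a ≤ s) := by
  rcases h' with h | h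
  · left; exact ⟨u, s, le_rfl, le_rfl, h⟩
  · by_cases h1 : a ≤ u
    · left; exact ⟨a, 0, h1, Nat.zero_le _, by omega⟩
    · push Not at h1
      rcases Nat.even_or_odd (a - u) with he | ho
      · obtain ⟨k, hk⟩ := he
        left; exact ⟨u, k, le_rfl, by omega, by omega⟩
      · obtain ⟨k, hk⟩ := ho
        by_cases hu : u = 0
        · right; exact ⟨hu, by omega⟩
        · left; exact ⟨u - 1, k + 1, by omega, by omega, by omega⟩

include hτ in
theorem invPart_injective : Function.Injective τ := by
  intro i j h
  have := congrArg τ h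
  rwa [hτ, hτ] at this

include hτ in
theorem invPart_card (T : Finset ι) (hT : ∀ i ∈ T, τ i ∈ T) :
    T.card = (T.filter (fun i => τ i = i)).card + 2 * (T.filter (fun i => i < τ i)).card := by
  have h1 := Finset.card_filter_add_card_filter_not (s := T) (fun i => τ i = i)
  have h2 := Finset.card_filter_add_card_filter_not
    (s := T.filter (fun i => ¬ τ i = i)) (fun i => i < τ i)
  have e1 : (T.filter (fun i => ¬ τ i = i)).filter (fun i => i < τ i) =
      T.filter (fun i => i < τ i) := by
    ext i
    simp only [Finset.mem_filter]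
    constructor
    · rintro ⟨⟨h, -⟩, h'⟩; exact ⟨h, h'⟩
    · rintro ⟨h, h'⟩; exact ⟨⟨h, fun h'' => by rw [h''] at h'; exact lt_irrefl _ h'⟩, h'⟩
  have e2 : (T.filter (fun i => ¬ τ i = i)).filter (fun i => ¬ i < τ i) =
      (T.filter (fun i => i < τ i)).image τ := by
    ext i
    simp only [Finset.mem_filter, Finset.mem_image]
    constructor
    · rintro ⟨⟨h, hne⟩, h'⟩
      refine ⟨τ i, ⟨hT i h, ?_⟩, hτ i⟩
      rw [hτ]
      rcases lt_trichotomy i (τ i) with h3 | h3 | h3
      · exact absurd h3 h'
      · exact absurd h3.symm hne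
      · exact h3
    · rintro ⟨j, ⟨hj, hlt⟩, rfl⟩
      rw [hτ]
      exact ⟨⟨hT j hj, fun h => hlt.ne h⟩, not_lt.mpr hlt.le⟩
  rw [e1, e2, Finset.card_image_of_injective _ (invPart_injective τ hτ)] at h2
  omega

include hτ in
theorem invPart_block (T : Finset ι) (A B : Finset ι)
    (hA : A ⊆ T.filter (fun i => τ i = i)) (hB : B ⊆ T.filter (fun i => i < τ i))
    (hT : ∀ i ∈ T, τ i ∈ T) :
    (A ∪ (B ∪ B.image τ)) ⊆ T ∧ (A ∪ (B ∪ B.image τ)).image τ = A ∪ (B ∪ B.image τ) ∧
      (A ∪ (B ∪ B.image τ)).card = A.card + 2 * B.card := by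
  have hA' : ∀ i ∈ A, i ∈ T ∧ τ i = i := by
    intro i hi
    have := hA hi
    rw [Finset.mem_filter] at this
    exact this
  have hB' : ∀ i ∈ B, i ∈ T ∧ i < τ i := by
    intro i hi
    have := hB hi
    rw [Finset.mem_filter] at this
    exact this
  refine ⟨?_, ?_, ?_⟩
  · intro i hi
    rcases Finset.mem_union.mp hi with h | h
    · exact (hA' i h).1
    · rcases Finset.mem_union.mp h with h | h
      · exact (hB' i h).1
      · obtain ⟨j, hj, rfl⟩ := Finset.mem_image.mp h
        exact hT j (hB' j hj).1
  · rw [Finset.image_union, Finset.image_union, Finset.image_image]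
    have e1 : A.image τ = A := by
      ext i
      simp only [Finset.mem_image]
      constructor
      · rintro ⟨j, hj, rfl⟩; rw [(hA' j hj).2]; exact hj
      · intro hi; exact ⟨i, hi, (hA' i hi).2⟩
    have e2 : B.image (τ ∘ τ) = B := by
      have : τ ∘ τ = id := funext hτ
      rw [this, Finset.image_id]
    rw [e1, e2, Finset.union_comm (B.image τ) B]
  · have d1 : Disjoint B (B.image τ) := by
      rw [Finset.disjoint_left]
      intro i hi hi'
      obtain ⟨j, hj, rfl⟩ := Finset.mem_image.mp hi'
      have h1 := (hB' _ hi).2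
      rw [hτ] at h1
      exact lt_asymm h1 (hB' j hj).2
    have d2 : Disjoint A (B ∪ B.image τ) := by
      rw [Finset.disjoint_left]
      intro i hi hi'
      have hfix := (hA' i hi).2
      rcases Finset.mem_union.mp hi' with h | h
      · have := (hB' i h).2
        rw [hfix] at this
        exact lt_irrefl _ this
      · obtain ⟨j, hj, rfl⟩ := Finset.mem_image.mp h
        rw [hτ] at hfix
        have := (hB' j hj).2
        rw [← hfix] at this
        exact lt_irrefl _ this
    rw [Finset.card_union_of_disjoint d2, Finset.card_union_of_disjoint d1,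
      Finset.card_image_of_injective _ (invPart_injective τ hτ)]
    omega

/-- a good partition of `T`. -/
def IsInvPartition (a : ℕ) (T : Finset ι) (P : Finset (Finset ι)) : Prop :=
  (∀ S ∈ P, S.card = a) ∧ (∀ S ∈ P, ∀ S' ∈ P, S ≠ S' → Disjoint S S') ∧
    (∀ i, i ∈ T ↔ ∃ S ∈ P, i ∈ S) ∧ ∀ S ∈ P, S.image τ ∈ P

theorem invPart_peel (a : ℕ) (T S : Finset ι) (P : Finset (Finset ι)) (hST : S ⊆ T)
    (hS : S.image τ = S) (hcard : S.card = a) (hP : IsInvPartition τ a (T \ S) P) :
    IsInvPartition τ a T (insert S P) := by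
  obtain ⟨h1, h2, h3, h4⟩ := hP
  have hsub : ∀ S' ∈ P, S' ⊆ T \ S := fun S' hS' i hi => (h3 i).mpr ⟨S', hS', hi⟩
  have hdis : ∀ S' ∈ P, Disjoint S S' := by
    intro S' hS'
    rw [Finset.disjoint_left]
    intro i hi hi'
    exact (Finset.mem_sdiff.mp (hsub S' hS' hi')).2 hi
  refine ⟨?_, ?_, ?_, ?_⟩
  · intro S' hS'
    rcases Finset.mem_insert.mp hS' with rfl | h
    · exact hcard
    · exact h1 S' h
  · intro S₁ hS₁ S₂ hS₂ hne
    rcases Finset.mem_insert.mp hS₁ with rfl | h
    · rcases Finset.mem_insert.mp hS₂ with rfl | h'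
      · exact absurd rfl hne
      · exact hdis S₂ h'
    · rcases Finset.mem_insert.mp hS₂ with rfl | h'
      · exact (hdis S₁ h).symm
      · exact h2 S₁ h S₂ h' hne
  · intro i
    constructor
    · intro hi
      by_cases hiS : i ∈ S
      · exact ⟨S, Finset.mem_insert_self _ _, hiS⟩
      · obtain ⟨S', hS', hi'⟩ := (h3 i).mp (Finset.mem_sdiff.mpr ⟨hi, hiS⟩)
        exact ⟨S', Finset.mem_insert_of_mem hS', hi'⟩
    · rintro ⟨S', hS', hi⟩
      rcases Finset.mem_insert.mp hS' with rfl | h
      · exact hST hi
      · exact (Finset.mem_sdiff.mp (hsub S' h hi)).1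
  · intro S' hS'
    rcases Finset.mem_insert.mp hS' with rfl | h
    · rw [hS]; exact Finset.mem_insert_self _ _
    · exact Finset.mem_insert_of_mem (h4 S' h)

include hτ in
theorem invPart_peel2 (a : ℕ) (T S : Finset ι) (P : Finset (Finset ι)) (hST : S ⊆ T)
    (hT : ∀ i ∈ T, τ i ∈ T) (hS : Disjoint S (S.image τ)) (hcard : S.card = a)
    (hP : IsInvPartition τ a (T \ (S ∪ S.image τ)) P) :
    IsInvPartition τ a T (insert S (insert (S.image τ) P)) := by
  obtain ⟨h1, h2, h3, h4⟩ := hP
  have hS2T : S.image τ ⊆ T := by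
    intro i hi
    obtain ⟨j, hj, rfl⟩ := Finset.mem_image.mp hi
    exact hT j (hST hj)
  have hsub : ∀ S' ∈ P, S' ⊆ T \ (S ∪ S.image τ) := fun S' hS' i hi => (h3 i).mpr ⟨S', hS', hi⟩
  have hdis : ∀ S' ∈ P, Disjoint S S' := by
    intro S' hS'
    rw [Finset.disjoint_left]
    intro i hi hi'
    exact (Finset.mem_sdiff.mp (hsub S' hS' hi')).2 (Finset.mem_union_left _ hi)
  have hdis2 : ∀ S' ∈ P, Disjoint (S.image τ) S' := by
    intro S' hS'
    rw [Finset.disjoint_left]
    intro i hi hi'
    exact (Finset.mem_sdiff.mp (hsub S' hS' hi')).2 (Finset.mem_union_right _ hi)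
  have himim : (S.image τ).image τ = S := by
    rw [Finset.image_image]
    have : τ ∘ τ = id := funext hτ
    rw [this, Finset.image_id]
  refine ⟨?_, ?_, ?_, ?_⟩
  · intro S' hS'
    rcases Finset.mem_insert.mp hS' with rfl | h
    · exact hcard
    · rcases Finset.mem_insert.mp h with rfl | h
      · rw [Finset.card_image_of_injective _ (invPart_injective τ hτ)]; exact hcard
      · exact h1 S' h
  · intro S₁ hS₁ S₂ hS₂ hne
    rcases Finset.mem_insert.mp hS₁ with rfl | h
    · rcases Finset.mem_insert.mp hS₂ with rfl | h'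
      · exact absurd rfl hne
      · rcases Finset.mem_insert.mp h' with rfl | h'
        · exact hS
        · exact hdis S₂ h'
    · rcases Finset.mem_insert.mp h with rfl | hh
      · rcases Finset.mem_insert.mp hS₂ with rfl | h'
        · exact hS.symm
        · rcases Finset.mem_insert.mp h' with rfl | h'
          · exact absurd rfl hne
          · exact hdis2 S₂ h'
      · rcases Finset.mem_insert.mp hS₂ with rfl | h'
        · exact (hdis S₁ hh).symm
        · rcases Finset.mem_insert.mp h' with rfl | h'
          · exact (hdis2 S₁ hh).symm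
          · exact h2 S₁ hh S₂ h' hne
  · intro i
    constructor
    · intro hi
      by_cases hiS : i ∈ S
      · exact ⟨S, Finset.mem_insert_self _ _, hiS⟩
      · by_cases hiS2 : i ∈ S.image τ
        · exact ⟨S.image τ, Finset.mem_insert_of_mem (Finset.mem_insert_self _ _), hiS2⟩
        · obtain ⟨S', hS', hi'⟩ := (h3 i).mp (Finset.mem_sdiff.mpr ⟨hi, by
            rw [Finset.mem_union]; push Not; exact ⟨hiS, hiS2⟩⟩)
          exact ⟨S', Finset.mem_insert_of_mem (Finset.mem_insert_of_mem hS'), hi'⟩
    · rintro ⟨S', hS', hi⟩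
      rcases Finset.mem_insert.mp hS' with rfl | h
      · exact hST hi
      · rcases Finset.mem_insert.mp h with rfl | h
        · exact hS2T hi
        · exact (Finset.mem_sdiff.mp (hsub S' h hi)).1
  · intro S' hS'
    rcases Finset.mem_insert.mp hS' with rfl | h
    · exact Finset.mem_insert_of_mem (Finset.mem_insert_self _ _)
    · rcases Finset.mem_insert.mp h with rfl | h
      · rw [himim]; exact Finset.mem_insert_self _ _
      · exact Finset.mem_insert_of_mem (Finset.mem_insert_of_mem (h4 S' h))

include hτ in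
theorem exists_invPartition (a : ℕ) (ha : 0 < a) : ∀ (t : ℕ) (T : Finset ι),
    (∀ i ∈ T, τ i ∈ T) → T.card = a * t → ∃ P : Finset (Finset ι), IsInvPartition τ a T P := by
  intro t
  induction t using Nat.strong_induction_on with
  | _ t ih =>
    intro T hT hcard
    rcases Nat.eq_zero_or_pos t with ht0 | htpos
    · subst ht0
      rw [Nat.mul_zero, Finset.card_eq_zero] at hcard
      subst hcard
      refine ⟨∅, ?_, ?_, ?_, ?_⟩
      · intro S hS; exact absurd hS (Finset.notMem_empty _)
      · intro S hS; exact absurd hS (Finset.notMem_empty _)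
      · intro i; simp
      · intro S hS; exact absurd hS (Finset.notMem_empty _)
    · set Fx := T.filter (fun i => τ i = i) with hFx
      set R := T.filter (fun i => i < τ i) with hR
      have hc := invPart_card τ hτ T hT
      rw [← hFx, ← hR] at hc
      have h' : Fx.card + 2 * R.card = a ∨ 2 * a ≤ Fx.card + 2 * R.card := by
        rcases Nat.lt_or_ge t 2 with h | h
        · have : t = 1 := by omega
          subst this
          left; omega
        · right
          calc 2 * a = a * 2 := Nat.mul_comm _ _
            _ ≤ a * t := Nat.mul_le_mul_left _ h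
            _ = Fx.card + 2 * R.card := by omega
      rcases invPart_arith a Fx.card R.card ha h' with ⟨d, c, hd, hcR, hdc⟩ | ⟨hu, has⟩
      · obtain ⟨A, hAsub, hAcard⟩ := Finset.exists_subset_card_eq hd
        obtain ⟨B, hBsub, hBcard⟩ := Finset.exists_subset_card_eq hcR
        obtain ⟨hST, hSinv, hScard⟩ := invPart_block τ hτ T A B hAsub hBsub hT
        set S := A ∪ (B ∪ B.image τ) with hS
        have hScard' : S.card = a := by rw [hScard, hAcard, hBcard]; exact hdc
        have hT' : ∀ i ∈ T \ S, τ i ∈ T \ S := by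
          intro i hi
          obtain ⟨hi1, hi2⟩ := Finset.mem_sdiff.mp hi
          refine Finset.mem_sdiff.mpr ⟨hT i hi1, fun h => hi2 ?_⟩
          have : τ (τ i) ∈ S.image τ := Finset.mem_image_of_mem τ h
          rwa [hτ, hSinv] at this
        have hcard' : (T \ S).card = a * (t - 1) := by
          rw [Finset.card_sdiff_of_subset hST, hcard, hScard', Nat.mul_sub, Nat.mul_one]
        obtain ⟨P, hP⟩ := ih (t - 1) (by omega) (T \ S) hT' hcard'
        exact ⟨insert S P, invPart_peel τ a T S P hST hSinv hScard' hP⟩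
      · obtain ⟨S, hSsub, hScard⟩ := Finset.exists_subset_card_eq has
        have hST : S ⊆ T := fun i hi => (Finset.mem_filter.mp (hSsub hi)).1
        have hSlt : ∀ i ∈ S, i < τ i := fun i hi => (Finset.mem_filter.mp (hSsub hi)).2
        have hdis : Disjoint S (S.image τ) := by
          rw [Finset.disjoint_left]
          intro i hi hi'
          obtain ⟨j, hj, rfl⟩ := Finset.mem_image.mp hi'
          have h1 := hSlt _ hi
          rw [hτ] at h1
          exact lt_asymm h1 (hSlt j hj)
        have hS2T : S.image τ ⊆ T := by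
          intro i hi
          obtain ⟨j, hj, rfl⟩ := Finset.mem_image.mp hi
          exact hT j (hST hj)
        have hUT : S ∪ S.image τ ⊆ T := Finset.union_subset hST hS2T
        have hUcard : (S ∪ S.image τ).card = 2 * a := by
          rw [Finset.card_union_of_disjoint hdis,
            Finset.card_image_of_injective _ (invPart_injective τ hτ), hScard]
          omega
        have ht2 : 2 ≤ t := by
          by_contra hlt
          have : t = 1 := by omega
          subst this
          have := Finset.card_le_card hUT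
          rw [hUcard, hcard] at this
          omega
        have hUinv : ∀ i, i ∈ S ∪ S.image τ → τ i ∈ S ∪ S.image τ := by
          intro i hi
          rcases Finset.mem_union.mp hi with h | h
          · exact Finset.mem_union_right _ (Finset.mem_image_of_mem τ h)
          · obtain ⟨j, hj, rfl⟩ := Finset.mem_image.mp h
            rw [hτ]; exact Finset.mem_union_left _ hj
        have hT' : ∀ i ∈ T \ (S ∪ S.image τ), τ i ∈ T \ (S ∪ S.image τ) := by
          intro i hi
          obtain ⟨hi1, hi2⟩ := Finset.mem_sdiff.mp hi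
          refine Finset.mem_sdiff.mpr ⟨hT i hi1, fun h => hi2 ?_⟩
          have := hUinv _ h
          rwa [hτ] at this
        have hcard' : (T \ (S ∪ S.image τ)).card = a * (t - 2) := by
          rw [Finset.card_sdiff_of_subset hUT, hcard, hUcard, Nat.mul_sub, Nat.mul_comm a 2]
        obtain ⟨P, hP⟩ := ih (t - 2) (by omega) _ hT' hcard'
        exact ⟨_, invPart_peel2 τ hτ a T S P hST hT hdis hScard hP⟩

theorem invPartition_card (a : ℕ) (ha : 0 < a) (t : ℕ) (T : Finset ι) (hcard : T.card = a * t)
    (P : Finset (Finset ι)) (hP : IsInvPartition τ a T P) : P.card = t := by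
  obtain ⟨h1, h2, h3, -⟩ := hP
  have hT : T = P.biUnion id := by
    ext i
    rw [h3 i, Finset.mem_biUnion]
    rfl
  have := Finset.card_biUnion (s := P) (t := id) h2
  rw [← hT, hcard] at this
  have hsum : ∑ u ∈ P, (id u).card = ∑ _u ∈ P, a := Finset.sum_congr rfl (fun S hS => h1 S hS)
  rw [hsum, Finset.sum_const, smul_eq_mul] at this
  have h4 : a * t = a * P.card := by rw [this, Nat.mul_comm]
  exact (Nat.eq_of_mul_eq_mul_left ha h4).symm

end Partition

end Cfsg.Agent.Lib.Helper23
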