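import Mathlib

/-!
# Endomorphisms with scalar square are monomial in a suitable basis (helper23)

If `f ∘ f = z • id` on a finite-dimensional vector space, there is a basis `b` on which `f` acts
monomially through an involution `τ` of the index set: `f (b i) = c i • b (τ i)`.
-/

set_option autoImplicit false

namespace Cfsg.Agent.Lib.Helper23

open Module Submodule

universe u v

section Structure

variable {F : Type u} [Field F]

theorem exists_monomial_basis_aux (z : F) : ∀ (n : ℕ) (V : Type v) [AddCommGroup V] [Module F V]
    [FiniteDimensional F V] (f : V →ₗ[F] V), finrank F V = n → (∀ w, f (f w) = z • w) →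
    ∃ (ι : Type) (_ : Fintype ι) (b : Basis ι F V) (τ : ι → ι) (c : ι → F),
      (∀ i, τ (τ i) = i) ∧ ∀ i, f (b i) = c i • b (τ i) := by
  intro n
  induction n using Nat.strong_induction_on with
  | _ n ih =>
    intro V _ _ _ f hn hf
    by_cases hall : ∀ w : V, ∃ μ : F, f w = μ • w
    · -- every vector is an eigenvector
      refine ⟨Fin (finrank F V), inferInstance, Module.finBasis F V, id,
        fun i => Classical.choose (hall (Module.finBasis F V i)), fun _ => rfl, fun i => ?_⟩
      exact Classical.choose_spec (hall (Module.finBasis F V i))
    · push Not at hall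
      obtain ⟨v, hv⟩ := hall
      have hv0 : v ≠ 0 := by
        intro h
        apply hv 0
        rw [h, map_zero, smul_zero]
      have hfv : f v ∉ span F ({v} : Set V) := by
        intro h
        obtain ⟨a, ha⟩ := mem_span_singleton.mp h
        exact hv a ha.symm
      obtain ⟨φ, hφ1, hφ2⟩ := exists_dual_map_eq_bot_of_notMem hfv inferInstance
      have hφv : φ v = 0 := by
        have : φ v ∈ (span F ({v} : Set V)).map φ := ⟨v, mem_span_singleton_self v, rfl⟩
        rw [hφ2] at this
        exact (Submodule.mem_bot F).mp this
      set W : Submodule F V := LinearMap.ker φ ⊓ LinearMap.ker (φ ∘ₗ f) with hWdef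
      have hmemW : ∀ w, w ∈ W ↔ φ w = 0 ∧ φ (f w) = 0 := by
        intro w
        rw [hWdef, Submodule.mem_inf, LinearMap.mem_ker, LinearMap.mem_ker, LinearMap.comp_apply]
      have hW : ∀ w ∈ W, f w ∈ W := by
        intro w hw
        rw [hmemW] at hw ⊢
        refine ⟨hw.2, ?_⟩
        rw [hf, map_smul, hw.1, smul_zero]
      have hfvW : f v ∉ W := by
        intro h
        exact hφ1 ((hmemW _).mp h).1
      have hlt : finrank F W < n := by
        rw [← hn]
        apply Submodule.finrank_lt
        intro h
        apply hfvW
        rw [h]
        exact Submodule.mem_top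
      obtain ⟨ι', hι', b', τ', c', hτ', hc'⟩ := ih (finrank F W) hlt W (f.restrict hW) rfl
        (by
          intro w
          apply Subtype.ext
          simp only [LinearMap.coe_restrict_apply, Submodule.coe_smul]
          exact hf w)
      -- the combined family
      let g : Fin 2 ⊕ ι' → V := Sum.elim ![v, f v] (fun i => (b' i : V))
      have hli1 : LinearIndependent F ![v, f v] := by
        rw [LinearIndependent.pair_iff' hv0]
        intro a ha
        exact hv a ha.symm
      have hli2 : LinearIndependent F (fun i => (b' i : V)) :=
        b'.linearIndependent.map' W.subtype (Submodule.ker_subtype W)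
      have hspan2 : span F (Set.range (fun i => (b' i : V))) = W := by
        have : (fun i => (b' i : V)) = W.subtype ∘ b' := rfl
        rw [this, Set.range_comp, ← Submodule.map_span, b'.span_eq, Submodule.map_top,
          Submodule.range_subtype]
      have hspan1 : ∀ w ∈ span F (Set.range ![v, f v]), ∃ α β : F, w = α • v + β • f v := by
        intro w hw
        have : Set.range ![v, f v] = {v, f v} := by
          ext y
          simp only [Set.mem_range, Set.mem_insert_iff, Set.mem_singleton_iff]
          constructor
          · rintro ⟨i, rfl⟩
            fin_cases i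
            · left; rfl
            · right; rfl
          · rintro (rfl | rfl)
            · exact ⟨0, rfl⟩
            · exact ⟨1, rfl⟩
        rw [this, mem_span_pair] at hw
        obtain ⟨α, β, h⟩ := hw
        exact ⟨α, β, h.symm⟩
      have hdisj : Disjoint (span F (Set.range ![v, f v]))
          (span F (Set.range (fun i => (b' i : V)))) := by
        rw [hspan2, Submodule.disjoint_def]
        intro w hw1 hw2
        obtain ⟨α, β, rfl⟩ := hspan1 w hw1
        rw [hmemW] at hw2
        obtain ⟨h1, h2⟩ := hw2
        rw [map_add, map_smul, map_smul, hφv, smul_zero, zero_add, smul_eq_mul] at h1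
        have hβ : β = 0 := by
          rcases mul_eq_zero.mp h1 with h | h
          · exact h
          · exact absurd h hφ1
        rw [hβ, zero_smul, add_zero, map_smul, map_smul, smul_eq_mul] at h2
        have hα : α = 0 := by
          rcases mul_eq_zero.mp h2 with h | h
          · exact h
          · exact absurd h hφ1
        rw [hα, hβ, zero_smul, zero_smul, add_zero]
      have hli : LinearIndependent F g := LinearIndependent.sum_type hli1 hli2 hdisj
      have hsp : ⊤ ≤ span F (Set.range g) := by
        intro w _
        have hg : Set.range g = Set.range ![v, f v] ∪ Set.range (fun i => (b' i : V)) :=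
          Set.Sum.elim_range _ _
        rw [hg, span_union, hspan2]
        set d := φ (f v) with hd
        set α := φ (f w) / d with hα
        set β := φ w / d with hβ
        have hw' : w - α • v - β • f v ∈ W := by
          rw [hmemW]
          constructor
          · rw [map_sub, map_sub, map_smul, map_smul, hφv, smul_zero, sub_zero, smul_eq_mul, hβ,
              ← hd, div_mul_cancel₀ _ hφ1, sub_self]
          · rw [map_sub, map_sub, map_smul, map_smul, hf, map_sub, map_sub, map_smul, map_smul,
              map_smul, hφv, smul_zero, smul_zero, sub_zero, smul_eq_mul, hα, ← hd,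
              div_mul_cancel₀ _ hφ1, sub_self]
        have : w = (α • v + β • f v) + (w - α • v - β • f v) := by abel
        rw [this]
        apply Submodule.add_mem_sup _ hw'
        apply Submodule.add_mem
        · exact Submodule.smul_mem _ _ (subset_span ⟨0, rfl⟩)
        · exact Submodule.smul_mem _ _ (subset_span ⟨1, rfl⟩)
      refine ⟨Fin 2 ⊕ ι', inferInstance, Basis.mk hli hsp,
        Sum.elim (fun i => Sum.inl (if i = 0 then 1 else 0)) (fun i => Sum.inr (τ' i)),
        Sum.elim ![1, z] c', ?_, ?_⟩
      · rintro (i | i)
        · fin_cases i <;> simp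
        · simp [hτ']
      · rintro (i | i)
        · fin_cases i
          · simp [Basis.mk_apply, g]
          · simp [Basis.mk_apply, g, hf]
        · simp only [Basis.mk_apply, Sum.elim_inr, g]
          have := congrArg Subtype.val (hc' i)
          simpa using this

/-- If `f ∘ f = z • id` with `z ≠ 0`, then `f` is monomial on a basis indexed by `Fin n`, through
an involution `τ`, with nonzero coefficients. -/
theorem exists_monomial_basis (z : F) (hz : z ≠ 0) (V : Type v) [AddCommGroup V] [Module F V]
    [FiniteDimensional F V] (f : V →ₗ[F] V) (hf : ∀ w, f (f w) = z • w) :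
    ∃ (b : Basis (Fin (finrank F V)) F V) (τ : Fin (finrank F V) → Fin (finrank F V))
      (c : Fin (finrank F V) → F),
      (∀ i, τ (τ i) = i) ∧ (∀ i, c i ≠ 0) ∧ ∀ i, f (b i) = c i • b (τ i) := by
  obtain ⟨ι, hι, b, τ, c, hτ, hc⟩ := exists_monomial_basis_aux z (finrank F V) V f rfl hf
  have hcard : Fintype.card ι = finrank F V := (Module.finrank_eq_card_basis b).symm
  let e : ι ≃ Fin (finrank F V) := Fintype.equivFinOfCardEq hcard
  refine ⟨b.reindex e, fun i => e (τ (e.symm i)), fun i => c (e.symm i), ?_, ?_, ?_⟩
  · intro i
    simp [hτ]
  · intro i h0
    have h1 := hc (e.symm i)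
    have h0' : c (e.symm i) = 0 := h0
    rw [h0', zero_smul] at h1
    have h2 : f (f (b (e.symm i))) = 0 := by rw [h1, map_zero]
    rw [hf] at h2
    rcases smul_eq_zero.mp h2 with h | h
    · exact hz h
    · exact b.ne_zero _ h
  · intro i
    simp [Basis.reindex_apply, hc]

end Structure

end Cfsg.Agent.Lib.Helper23
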