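/-
helper23: BACKUP of module PF13-[DICH] (sheet: Lib/Helper16/PF13_MODULES.md, WAVE 4) for helper16:
the Galois / axis dichotomy for one side of the pair, at the level of `G`.
-/
import Mathlib
import Cfsg.Agent.Lib.Helper16.PF13Defs
import Cfsg.Agent.Lib.Helper62.PFNineN7
import Cfsg.Agent.Lib.Helper47.PFNineN5
import Cfsg.Agent.Lib.Helper77.PF13Ctx

set_option autoImplicit false

namespace Cfsg.Agent.Lib.Helper23.PF13

open Cfsg Cfsg.Agent.Lib.Helper24.PFCyc Cfsg.Agent.Lib.Helper4.PF Cfsg.Agent.Lib.Helper16.PF13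
open scoped Pointwise

universe u

variable {G : Type u} [Group G]

/-- `S` normalizes `S_F`. -/
theorem le_normalizer_fittingHallOf (S : Subgroup G) :
    S ≤ Subgroup.normalizer ((fittingHallOf S : Subgroup G) : Set G) := by
  have key : ∀ s ∈ S, ∀ x ∈ fittingHallOf S, s * x * s⁻¹ ∈ fittingHallOf S := by
    intro s hs x hx
    unfold fittingHallOf at hx ⊢
    obtain ⟨x', hx', rfl⟩ := hx
    have hn : (fittingHall ↥S).Normal := inferInstance
    exact ⟨⟨s, hs⟩ * x' * ⟨s, hs⟩⁻¹, hn.conj_mem x' hx' ⟨s, hs⟩, rfl⟩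
  intro s hs
  rw [Subgroup.mem_normalizer_iff]
  intro x
  constructor
  · exact key s hs x
  · intro hx
    have := key s⁻¹ (S.inv_mem hs) _ hx
    have e : s⁻¹ * (s * x * s⁻¹) * s⁻¹⁻¹ = x := by group
    rwa [e] at this

/-- an abelian group normalizes each of its subgroups -/
theorem le_normalizer_of_comm' {P Q : Subgroup G}
    (hc : ∀ a ∈ P, ∀ b ∈ P, a * b = b * a) (hQ : Q ≤ P) :
    P ≤ Subgroup.normalizer (Q : Set G) := by
  intro a ha
  rw [Subgroup.mem_normalizer_iff]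
  intro b
  constructor
  · intro hb
    have h1 : a * b * a⁻¹ = b := by rw [hc a ha b (hQ hb)]; group
    rwa [h1]
  · intro hb
    have hb' : b ∈ P := by
      have h2 : b = a⁻¹ * (a * b * a⁻¹) * a := by group
      rw [h2]
      exact P.mul_mem (P.mul_mem (P.inv_mem ha) (hQ hb)) ha
    have h1 : a * b * a⁻¹ = b := by rw [hc a ha b hb']; group
    rwa [h1] at hb

variable [Fintype G] {S W₁ U W₂ : Subgroup G} [Fintype S]
  {mu : WChar W₁ W₂ → (↥S → ℂ)} {dl : WChar W₁ W₂ → ℂ} {η : WChar W₁ W₂ → (G → ℂ)}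

/-- **PF13-[DICH]**: the Galois / axis dichotomy for one side of the pair (Peterfalvi (9.6)/(9.7)
with `H₀ = 1`), at the level of `G`. -/
theorem side_dichotomy (h : PSide S W₁ U W₂ mu dl η) :
    ((∃ g ∈ U, ∀ x ∈ U, ∃ k : ℕ, ∀ y ∈ fittingHallOf S, x * y * x⁻¹ = g ^ k * y * (g ^ k)⁻¹) ∧
      (∀ x ∈ U, ∀ y ∈ fittingHallOf S, y ≠ 1 → x * y = y * x →
        x ∈ Subgroup.centralizer ((fittingHallOf S : Subgroup G) : Set G)) ∧
      (U ⊓ Subgroup.centralizer ((fittingHallOf S : Subgroup G) : Set G)).relIndex U ∣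
        (Nat.card W₂ ^ Nat.card W₁ - 1) / (Nat.card W₂ - 1)) ∨
    ∃ P₁ : Subgroup G, P₁ ≤ fittingHallOf S ∧ U ≤ Subgroup.normalizer (P₁ : Set G) ∧
      Nat.card P₁ = Nat.card W₂ ∧
      (⨆ w : ↥W₁, MulAut.conj (w : G) • P₁) = fittingHallOf S := by
  classical
  have : Fact (Nat.card W₂).Prime := ⟨h.hp⟩
  have hKS : ⁅S, S⁆ ≤ S := h.hP.W₁_compl.1
  have hW₁S : W₁ ≤ S := h.hP.W₁_compl.2.1
  have hUK : U ≤ ⁅S, S⁆ := h.hP.U_compl.2.1
  have hPK : fittingHallOf S ≤ ⁅S, S⁆ := h.hP.U_compl.1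
  have hUS : U ≤ S := hUK.trans hKS
  have hPS : fittingHallOf S ≤ S := hPK.trans hKS
  have hP : Cfsg.IsElementaryAbelian (Nat.card W₂) (fittingHallOf S) :=
    ⟨⟨⟨fun a b => Subtype.ext (h.hPcomm a a.2 b b.2)⟩⟩, fun a ha => h.hPexp a ha⟩
  have hSP := le_normalizer_fittingHallOf S
  have hUP : U ≤ Subgroup.normalizer ((fittingHallOf S : Subgroup G) : Set G) := hUS.trans hSP
  have hWP : W₁ ≤ Subgroup.normalizer ((fittingHallOf S : Subgroup G) : Set G) := hW₁S.trans hSP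
  have hWU : W₁ ≤ Subgroup.normalizer (U : Set G) := h.hP.U_normal
  by_cases hred : ∃ Q : Subgroup G, Q ≤ fittingHallOf S ∧ U ≤ Subgroup.normalizer (Q : Set G) ∧
      Q ≠ ⊥ ∧ Q ≠ fittingHallOf S
  · right
    have hchief : ∀ Q : Subgroup G, Q ≤ fittingHallOf S →
        U ⊔ W₁ ≤ Subgroup.normalizer (Q : Set G) → Q = ⊥ ∨ Q = fittingHallOf S := by
      intro Q hQP hQN
      have hQS : Q ≤ S := hQP.trans hPS
      have hPN : fittingHallOf S ≤ Subgroup.normalizer (Q : Set G) :=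
        le_normalizer_of_comm' h.hPcomm hQP
      have hSN : S ≤ Subgroup.normalizer (Q : Set G) := by
        intro s hs
        obtain ⟨k, hk, w, hw, rfl⟩ := h.hP.W₁_compl.2.2.2 s hs
        obtain ⟨x, hx, z, hz, rfl⟩ := h.hP.U_compl.2.2.2 k hk
        exact Subgroup.mul_mem _ (Subgroup.mul_mem _ (hPN hx) (hQN (Subgroup.mem_sup_left hz)))
          (hQN (Subgroup.mem_sup_right hw))
      have hnorm : (Q.subgroupOf S).Normal := by
        refine ⟨fun n hn s => ?_⟩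
        rw [Subgroup.mem_subgroupOf] at hn ⊢
        have := (Subgroup.mem_normalizer_iff.mp (hSN s.2) (n : G)).mp hn
        simpa using this
      rcases (Cfsg.Agent.Lib.Helper77.PF13.ctx_bot_of h).2 (Q.subgroupOf S) hnorm bot_le
        (by
          intro x hx
          rw [Subgroup.mem_subgroupOf] at hx ⊢
          exact hQP hx) with h1 | h1
      · left
        rw [Subgroup.subgroupOf_eq_bot] at h1
        exact (disjoint_of_le_iff_left_eq_bot hQS).mp h1
      · right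
        have h2 := Subgroup.subgroupOf_inj.mp h1
        rwa [inf_eq_left.mpr hQS, inf_eq_left.mpr hPS] at h2
    obtain ⟨P₁, hP₁, hmin, hc, hsup⟩ :=
      Cfsg.Agent.Lib.Helper47.PF9N5.exists_isMinInv_card_eq (Nat.card W₂) (Nat.card W₁) h.hq
        (fittingHallOf S) U W₁ hP h.hPcard hWP hWU hchief hred
    exact ⟨P₁, hP₁, hmin.2.1, hc, hsup⟩
  · left
    have hirr : ∀ Q : Subgroup G, Q ≤ fittingHallOf S → U ≤ Subgroup.normalizer (Q : Set G) →
        Q = ⊥ ∨ Q = fittingHallOf S := by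
      intro Q h1 h2
      by_contra h3
      push Not at h3
      exact hred ⟨Q, h1, h2, h3.1, h3.2⟩
    have hW₂P : W₂ ≤ fittingHallOf S := h.hP.W₂_le.trans inf_le_left
    have hfpf : ∀ x ∈ W₁, x ≠ 1 → ∀ u ∈ U, x * u = u * x → u = 1 := by
      intro x hx hx1 u hu hxu
      have h1 : u ∈ ⁅S, S⁆ ⊓ Subgroup.centralizer ({x} : Set G) := by
        refine Subgroup.mem_inf.mpr ⟨hUK hu, ?_⟩
        rw [Subgroup.mem_centralizer_iff]
        intro y hy
        rw [Set.mem_singleton_iff] at hy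
        subst hy
        exact hxu
      rw [h.hP.W₂_centralizer x hx hx1] at h1
      have h2 : u ∈ fittingHallOf S ⊓ U := ⟨hW₂P h1, hu⟩
      rw [h.hP.U_compl.2.2.1] at h2
      exact Subgroup.mem_bot.mp h2
    obtain ⟨w₀, hw₀, hw₀1⟩ : ∃ w₀ ∈ W₂, w₀ ≠ 1 :=
      (Subgroup.ne_bot_iff_exists_ne_one.mp h.hP.selfNormalizing.2.1).elim
        (fun w hw => ⟨w.1, w.2, fun e => hw (Subtype.ext e)⟩)
    have hw₀W : ∀ w ∈ W₁, w * w₀ = w₀ * w := fun w hw =>
      h.hP.selfNormalizing.2.2.2.1 w hw w₀ hw₀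
    have hfacts := Cfsg.Agent.Lib.Helper62.PF9.galois_case_facts (Nat.card W₂) (Nat.card W₁) h.hq
      (fittingHallOf S) U W₁ hP h.hPcard rfl hUP hWP hWU hfpf h.hP.U_nilpotent hirr
      w₀ (hW₂P hw₀) hw₀1 hw₀W
    exact ⟨hfacts.1, hfacts.2.1, hfacts.2.2.2⟩

end Cfsg.Agent.Lib.Helper23.PF13
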