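-- helper23: PF sec.14 (helper10's sheet `Lib/Helper10/PF14_MODULES.md`), module PF14-[BETA-G]:
-- the Dade image `X_ψ = τ_S(β_ψ)` of `β_ψ = Ind_{P W₁}^S 1 - μ_ψ`.
import Mathlib
import Cfsg.Agent.Lib.Helper10.PF14Defs
import Cfsg.Agent.Lib.Helper23.PF13Tau1Mu
import Cfsg.Agent.Lib.Helper24.PFCycDadeInd
import Cfsg.Agent.Lib.Helper24.PFCycTau
import Cfsg.Agent.Lib.Helper9.PFCycMuConst
import Cfsg.Agent.Lib.Helper25.PFCycEta
import Cfsg.Agent.Lib.Helper47.PF13Orth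
import Cfsg.Agent.S1500
import Cfsg.Agent.S1501
import Cfsg.Agent.S1506

set_option autoImplicit false
set_option linter.unusedVariables false
set_option linter.unusedSectionVars false

namespace Cfsg.Agent.Lib.Helper23.PF14

open Cfsg Cfsg.Agent.Lib.Helper24.PFCyc Cfsg.Agent.Lib.Helper4.PF Cfsg.Agent.Lib.Helper16.PF13
  Cfsg.Agent.Lib.Helper10.PF14
open Cfsg.Agent.Lib.Helper26
open scoped ComplexConjugate

universe u

/-- generalized characters are class functions -/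
theorem gen_cf {L : Type u} [Group L] [Fintype L] {a : L → ℂ}
    (ha : IsGeneralizedCharacter L a) : IsClassFunction L a := by
  obtain ⟨χ1, ψ1, h1, h2, rfl⟩ := ha
  exact Cfsg.Agent.Lib.Helper78.isClassFunction_sub
    (Cfsg.Agent.Lib.Helper78.IsCharacter.isClassFunction h1)
    (Cfsg.Agent.Lib.Helper78.IsCharacter.isClassFunction h2)

variable {G : Type u} [Group G] [Fintype G] {S W₁ U W₂ : Subgroup G} [Fintype S]
  {mu : WChar W₁ W₂ → (↥S → ℂ)} {dl : WChar W₁ W₂ → ℂ} {η : WChar W₁ W₂ → (G → ℂ)}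

/-- the Dade image of a class function at an element of `W ∖ (W₁ ∪ W₂)` -/
theorem tauM_apply_W' (hP : IsTypePWith S W₁ U W₂)
    (hD : DadeHypothesis (litA0 S) S (supportR S))
    (α : ↥S → ℂ) (hα : IsClassFunction ↥S α)
    (w : ↥(W₁ ⊔ W₂)) (hw₁ : (w : G) ∉ W₁) (hw₂ : (w : G) ∉ W₂) (hwS : (w : G) ∈ S) :
    tauM S α (w : G) = α ⟨(w : G), hwS⟩ := by
  have hlit := litA0_facts hP (w : G) w.2 hw₁ hw₂ 1 (Subgroup.one_mem S)
  rw [one_mul, inv_one, mul_one] at hlit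
  have hrel : Cfsg.Agent.Lib.Helper3.Dade.Rel (litA0 S) S (supportR S) (w : G) ⟨(w : G), hwS⟩ :=
    ⟨hlit.1, 1, 1, Subgroup.one_mem _, by simp⟩
  have := Cfsg.Agent.Lib.Helper3.Dade.dade_eq hD hα hrel
  unfold tauM
  rw [this]

open Classical in
/-- **MODULE PF14-[BETA-G]** -/
theorem xbeta_facts (h : PSide S W₁ U W₂ mu dl η)
    (hmusub : ∀ ψ ψ' : WChar W₁ W₂, TrivOn W₁ ψ → TrivOn W₁ ψ' → ψ ≠ 1 → ψ' ≠ 1 → ψ ≠ ψ' →
      tauM S (mu ψ - mu ψ') = dl ψ • (η ψ - η ψ'))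
    (ψ : WChar W₁ W₂) (hψ : TrivOn W₁ ψ) (hψ1 : ψ ≠ 1) (hdl : dl ψ = 1)
    (hβ : IsGeneralizedCharacter ↥S (betaS S mu ψ))
    (hβs : ∀ s : ↥S, (s : G) ∉ litA0 S → betaS S mu ψ s = 0)
    (hβ1 : classInner (betaS S mu ψ) (fun _ => (1 : ℂ)) = 1)
    (hβc : conjFun (betaS S mu ψ) = betaS S mu ψ⁻¹)
    (hβW : ∀ (s : ↥S) (hs : (s : G) ∈ W₁ ⊔ W₂), (s : G) ∉ W₁ → (s : G) ∉ W₂ →
      betaS S mu ψ s = 1 - ((ψ ⟨(s : G), hs⟩ : ℂˣ) : ℂ)) :
    IsGeneralizedCharacter G (XbetaS S mu ψ) ∧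
    classInner (XbetaS S mu ψ) (XbetaS S mu ψ) = classInner (betaS S mu ψ) (betaS S mu ψ) ∧
    classInner (XbetaS S mu ψ) (fun _ => (1 : ℂ)) = 1 ∧
    (∀ g : G, (∀ x : G, x * g * x⁻¹ ∉ litA0 S) → XbetaS S mu ψ g = 0) ∧
    (∀ g : G, ((XbetaS S mu ψ + η ψ) g).im = 0) ∧
    (∀ φ ψ' : WChar W₁ W₂, TrivOn W₂ φ → TrivOn W₁ ψ' → φ ≠ 1 → ψ' ≠ 1 →
      classInner (XbetaS S mu ψ) (η (φ * ψ')) = classInner (XbetaS S mu ψ) (η φ) +
        classInner (XbetaS S mu ψ) (η ψ') + (if ψ' = ψ then 1 else 0)) := by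
  have hW : IsSelfNormalizingCyclic W₁ W₂ := h.hP.selfNormalizing
  have hoddS : Odd (Nat.card S) := Odd.of_dvd_nat h.hodd (Subgroup.card_subgroup_dvd_card S)
  have hoddW : Odd (Nat.card ↥(W₁ ⊔ W₂)) :=
    Odd.of_dvd_nat h.hodd (Subgroup.card_subgroup_dvd_card _)
  have hWS : W₁ ⊔ W₂ ≤ S :=
    sup_le h.hP.W₁_compl.2.1
      (((h.hP.W₂_le.trans inf_le_left).trans h.hP.U_compl.1).trans h.hP.W₁_compl.1)
  have hX : XbetaS S mu ψ = tauM S (betaS S mu ψ) := rfl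
  have hβcf : IsClassFunction ↥S (betaS S mu ψ) := gen_cf hβ
  have hXind : tauM S (betaS S mu ψ) = indFun S (betaS S mu ψ) :=
    dade_eq_indFun_of_support h.hD _ hβcf hβs
      (fun x hx => h.hR x (by
        by_contra hn
        exact hx (hβs x hn)))
  have hXcf : IsClassFunction G (tauM S (betaS S mu ψ)) :=
    Cfsg.Agent.Lib.Helper3.Dade.dade_isClassFunction h.hD hβcf
  have hX1 : classInner (tauM S (betaS S mu ψ)) (fun _ => (1 : ℂ)) = 1 := by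
    rw [hXind, Cfsg.Agent.Lib.Helper78.classInner_indFun S _ (fun _ _ => rfl)]
    exact hβ1
  rw [hX]
  refine ⟨?_, ?_, hX1, ?_, ?_, ?_⟩
  · exact Cfsg.Agent.S1501.result (litA0 S) S (supportR S) h.hD _ hβ hβs
  · exact (Cfsg.Agent.S1500.result (litA0 S) S (supportR S) h.hD _ hβcf hβs).1 _ hβcf hβs
  · intro g hg
    apply tauM_zero_off_supp S _ (litA0 S) hβs g
    rintro ⟨a, ha, u, hu, y, hy⟩
    rw [h.hR a ha, Subgroup.mem_bot] at hu
    rw [hu, mul_one] at hy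
    exact hg y (hy ▸ ha)
  · -- (5) `X_ψ + η_ψ` is real valued
    have hψi : TrivOn W₁ ψ⁻¹ := hψ.inv
    have hψi1 : ψ⁻¹ ≠ 1 := Cfsg.Agent.Lib.Helper47.PF13.wchar_inv_ne_one hψ1
    have hψne : ψ⁻¹ ≠ ψ := fun h0 =>
      hψ1 (Cfsg.Agent.Lib.Helper23.PFCycTau1Mu.eq_one_of_inv_eq hoddW h0)
    have hdli : dl ψ⁻¹ = 1 := by
      rw [(Cfsg.Agent.Lib.Helper9.PFCyc.mu_const h.hP hoddS h.md h.hp ψ⁻¹ ψ hψi hψ hψi1 hψ1).1, hdl]
    have hconj : conjFun (tauM S (betaS S mu ψ)) = tauM S (betaS S mu ψ⁻¹) := by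
      rw [← tauM_conj, hβc]
    have hsub : tauM S (betaS S mu ψ) - tauM S (betaS S mu ψ⁻¹) = η ψ⁻¹ - η ψ := by
      rw [← tauM_sub, betaS_sub_betaS, hmusub ψ⁻¹ ψ hψi hψ hψi1 hψ1 hψne, hdli, one_smul]
    have hηi : η ψ⁻¹ = fun g => conj (η ψ g) :=
      Cfsg.Agent.Lib.Helper25.PFCyc.eta_inv hW hoddW η h.hη ψ
    intro g
    have h1 := congrFun hsub g
    have h2 := congrFun hconj g
    rw [hηi] at h1
    simp only [Pi.sub_apply] at h1
    have h2' : conj (tauM S (betaS S mu ψ) g) = tauM S (betaS S mu ψ⁻¹) g := h2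
    have h3 : conj ((tauM S (betaS S mu ψ) + η ψ) g) = (tauM S (betaS S mu ψ) + η ψ) g := by
      simp only [Pi.add_apply, map_add]
      rw [h2']
      linear_combination -h1
    exact Complex.conj_eq_iff_im.mp h3
  · -- (6) the rectangle rule with defect
    intro φ ψ' hφ hψ' hφ1 hψ'1
    have hθcf : IsClassFunction G (tauM S (betaS S mu ψ) - η 1 + η ψ) := by
      intro g x
      simp only [Pi.add_apply, Pi.sub_apply]
      rw [hXcf g x, Cfsg.Agent.Lib.Helper47.PF13.eta_isClassFunction h.hη 1 g x,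
        Cfsg.Agent.Lib.Helper47.PF13.eta_isClassFunction h.hη ψ g x]
    have hθV : ∀ w : ↥(W₁ ⊔ W₂), (w : G) ∉ W₁ → (w : G) ∉ W₂ →
        (tauM S (betaS S mu ψ) - η 1 + η ψ) w = 0 := by
      intro w hw1 hw2
      simp only [Pi.add_apply, Pi.sub_apply]
      rw [tauM_apply_W' h.hP h.hD _ hβcf w hw1 hw2 (hWS w.2),
        hβW ⟨(w : G), hWS w.2⟩ w.2 hw1 hw2, h.hη.eq_on 1 w hw1 hw2, h.hη.eq_on ψ w hw1 hw2]
      simp
    have key := Cfsg.Agent.S1506.key W₁ W₂ η h.hη _ hθcf hθV φ ψ' hφ hψ'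
    have hθη : ∀ ω : WChar W₁ W₂, classInner (tauM S (betaS S mu ψ) - η 1 + η ψ) (η ω) =
        classInner (tauM S (betaS S mu ψ)) (η ω) - classInner (η 1) (η ω) +
          classInner (η ψ) (η ω) := by
      intro ω
      rw [classInner_add_left, classInner_sub_left]
    rw [hθη, hθη, hθη, hθη] at key
    simp only [h.hη.orthonormal] at key
    have n1 : (1 : WChar W₁ W₂) ≠ φ * ψ' := by
      intro hc
      have h1 : (1 : WChar W₁ W₂) * 1 = φ * ψ' := (mul_one (1 : WChar W₁ W₂)).trans hc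
      exact hφ1 ((Cfsg.Agent.Lib.Helper23.PFCycTau1Mu.mul_eq_mul_iff (trivOn_one W₂) hφ
        (trivOn_one W₁) hψ').1 h1).1.symm
    have n2 : ψ ≠ φ * ψ' := by
      intro hc
      have h1 : (1 : WChar W₁ W₂) * ψ = φ * ψ' := (one_mul ψ).trans hc
      exact hφ1 ((Cfsg.Agent.Lib.Helper23.PFCycTau1Mu.mul_eq_mul_iff (trivOn_one W₂) hφ
        hψ hψ').1 h1).1.symm
    have n3 : ψ ≠ φ := by
      intro hc
      have h1 : (1 : WChar W₁ W₂) * ψ = φ * 1 := ((one_mul ψ).trans hc).trans (mul_one φ).symm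
      exact hφ1 ((Cfsg.Agent.Lib.Helper23.PFCycTau1Mu.mul_eq_mul_iff (trivOn_one W₂) hφ
        hψ (trivOn_one W₁)).1 h1).1.symm
    have hX1' : classInner (tauM S (betaS S mu ψ)) (η 1) = 1 := by
      rw [h.hη.map_one]
      exact hX1
    rw [if_neg n1, if_neg n2, if_neg (Ne.symm hφ1), if_neg n3, if_neg (Ne.symm hψ'1),
      if_true, if_neg hψ1, hX1'] at key
    by_cases e : ψ' = ψ
    · rw [if_pos e]
      rw [if_pos e.symm] at key
      linear_combination key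
    · rw [if_neg e]
      rw [if_neg (fun hc => e hc.symm)] at key
      linear_combination key

end Cfsg.Agent.Lib.Helper23.PF14
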