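import Mathlib
import Cfsg.Prelude.Def_OddOrderLocal
import Cfsg.Agent.Lib.Helper58.PFNineDefs

/-!
# Peterfalvi (9.11.4): `H U₁ ⊆ {1} ∪ A(M)` (helper23)

`U₁ = C_U(H₁/H₀) = coreC U H₁ H₀` for an axis `H₁/H₀`.  Every element of `H U₁` centralizes a
non-identity element of `H₁`: this is a pigeonhole argument (the map `h ↦ h⁻¹ h^y` sends `H₁` into
the strictly smaller `H₀`), no coprimality is needed.

* `exists_fixed_of_trivial_on_section` : the pigeonhole lemma, in any group.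
* `axis_support`   : the statement in the `Ctx` / `IsAxis` setting of `Lib/Helper58/PFNineDefs`.
* `mem_typeA_of_commute` : the plug into the frozen `typeA M` for `M` with type-P data, not of Type I.
-/

set_option autoImplicit false

namespace Cfsg.Agent.Lib.Helper23.PFNineAxis

open Cfsg Cfsg.Agent.Lib.Helper58.PF9

universe u

/-- Pigeonhole: if `y` sends every `h ∈ H₁` into `h H₀` (under conjugation) and `H₁` has more
elements than `H₀`, then `y` centralizes a non-identity element of `H₁`. -/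
theorem exists_fixed_of_trivial_on_section {L : Type u} [Group L] (H₀ H₁ : Subgroup L) [Finite H₀] [Finite H₁]
    (hlt : Nat.card H₀ < Nat.card H₁) (y : L)
    (hy : ∀ h ∈ H₁, h⁻¹ * (y * h * y⁻¹) ∈ H₀) : ∃ x ∈ H₁, x ≠ 1 ∧ y * x = x * y := by
  classical
  let _i₀ : Fintype H₀ := Fintype.ofFinite _
  let _i₁ : Fintype H₁ := Fintype.ofFinite _
  let f : H₁ → H₀ := fun h => ⟨(h : L)⁻¹ * (y * h * y⁻¹), hy h h.2⟩
  obtain ⟨a, b, hab, hfab⟩ := Fintype.exists_ne_map_eq_of_card_lt f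
    (by rw [← Nat.card_eq_fintype_card, ← Nat.card_eq_fintype_card]; exact hlt)
  have hfab' : (a : L)⁻¹ * (y * a * y⁻¹) = (b : L)⁻¹ * (y * b * y⁻¹) := congrArg Subtype.val hfab
  refine ⟨(b : L) * (a : L)⁻¹, H₁.mul_mem b.2 (H₁.inv_mem a.2), ?_, ?_⟩
  · intro h
    apply hab
    have : (b : L) = a := by
      have := congrArg (· * (a : L)) h
      simpa using this
    exact (Subtype.ext this).symm
  · -- y (b a⁻¹) y⁻¹ = b a⁻¹
    have h1 : y * ((b : L) * (a : L)⁻¹) * y⁻¹ = (b : L) * (a : L)⁻¹ := by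
      have e1 : y * (b : L) * y⁻¹ = (b : L) * ((a : L)⁻¹ * (y * a * y⁻¹)) := by
        rw [hfab']; group
      calc y * ((b : L) * (a : L)⁻¹) * y⁻¹ = (y * b * y⁻¹) * (y * a * y⁻¹)⁻¹ := by group
        _ = (b : L) * ((a : L)⁻¹ * (y * a * y⁻¹)) * (y * a * y⁻¹)⁻¹ := by rw [e1]
        _ = (b : L) * (a : L)⁻¹ := by group
    calc y * ((b : L) * (a : L)⁻¹) = (y * ((b : L) * (a : L)⁻¹) * y⁻¹) * y := by group
      _ = (b : L) * (a : L)⁻¹ * y := by rw [h1]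

variable {L : Type u} [Group L] [Fintype L] {K H U W₁ W₂ H₀ : Subgroup L} {p q : ℕ}

/-- Peterfalvi (9.11.4), group step: with `U₁ = C_U(H₁/H₀)` for an axis `H₁/H₀`, every element
of `H U₁` centralizes a non-identity element of `H₁ ≤ H`. -/
theorem axis_support (c : Ctx K H U W₁ W₂ H₀ p q) {H₁ : Subgroup L}
    (hA : IsAxis H U W₁ H₀ H₁ p) (y : L) (hy : y ∈ H ⊔ coreC U H₁ H₀) :
    ∃ x ∈ H₁, x ≠ 1 ∧ y * x = x * y := by
  have hHn : H.Normal := c.H_normal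
  have hH₀n : H₀.Normal := c.H₀_normal
  -- |H₀| < |H₁|
  have hlt : Nat.card H₀ < Nat.card H₁ := by
    have h1 : Nat.card H₁ = Nat.card H₀ * p := by
      have := Subgroup.relIndex_mul_relIndex (H := ⊥) (K := H₀) (L := H₁) bot_le hA.H₀_le
      rw [Subgroup.relIndex_bot_left, Subgroup.relIndex_bot_left, hA.relIndex] at this
      exact this.symm
    have hp2 : 2 ≤ p := c.p_prime.two_le
    have hpos : 0 < Nat.card H₀ := Nat.card_pos
    rw [h1]
    nlinarith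
  apply exists_fixed_of_trivial_on_section H₀ H₁ hlt y
  -- decompose y = h * u
  have hy : y ∈ ((H ⊔ coreC U H₁ H₀ : Subgroup L) : Set L) := hy
  rw [Subgroup.normal_mul] at hy
  obtain ⟨h, hh, u, hu, rfl⟩ := Set.mem_mul.mp hy
  have hh : h ∈ H := hh
  obtain ⟨huU, _, _, hu4⟩ := mem_coreC.mp hu
  intro h₁ hh₁
  have hh₁H : h₁ ∈ H := hA.le_H hh₁
  -- u h₁ u⁻¹ h₁⁻¹ ∈ H₀
  have e1 : u * h₁ * u⁻¹ * h₁⁻¹ ∈ H₀ := hu4 h₁ hh₁
  -- [h, k] ∈ H₀ for k ∈ H
  have hcomm : ∀ k ∈ H, h * k * h⁻¹ * k⁻¹ ∈ H₀ := by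
    intro k hk
    apply c.comm_le
    have := Subgroup.commutator_mem_commutator hh hk
    rwa [commutatorElement_def] at this
  have hk : u * h₁ * u⁻¹ ∈ H := hHn.conj_mem h₁ hh₁H u
  have e2 : h * (u * h₁ * u⁻¹) * h⁻¹ * (u * h₁ * u⁻¹)⁻¹ ∈ H₀ := hcomm _ hk
  -- h₁⁻¹ * (h u h₁ u⁻¹ h⁻¹) = h₁⁻¹ * (e2 * e1) * h₁
  have e3 : h₁⁻¹ * (h * u * h₁ * (h * u)⁻¹) =
      h₁⁻¹ * ((h * (u * h₁ * u⁻¹) * h⁻¹ * (u * h₁ * u⁻¹)⁻¹) * (u * h₁ * u⁻¹ * h₁⁻¹)) * h₁⁻¹⁻¹ := by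
    group
  rw [e3]
  exact hH₀n.conj_mem _ (H₀.mul_mem e2 e1) _

/-- Same, in the form of the book's `A(M)` inside `L`: every element of `H U₁` lies in `K` and
centralizes a non-identity element of `H`. -/
theorem axis_support_mem (c : Ctx K H U W₁ W₂ H₀ p q) {H₁ : Subgroup L}
    (hA : IsAxis H U W₁ H₀ H₁ p) (y : L) (hy : y ∈ H ⊔ coreC U H₁ H₀) :
    y ∈ K ∧ ∃ x ∈ H, x ≠ 1 ∧ y * x = x * y := by
  refine ⟨?_, ?_⟩
  · have h1 : H ⊔ coreC U H₁ H₀ ≤ H ⊔ U := sup_le_sup_left (coreC_le U H₁ H₀) H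
    rw [c.HU_sup] at h1
    exact h1 hy
  · obtain ⟨x, hx, hx1, hxy⟩ := axis_support c hA y hy
    exact ⟨x, hA.le_H hx, hx1, hxy⟩

/-- The plug into the frozen `typeA M`: for `M` with type-P data and not of Type I, a non-identity
element of `M'` commuting with a non-identity element of `M_F` lies in `A(M)`. -/
theorem mem_typeA_of_commute {G : Type u} [Group G] {M W₁ U W₂ : Subgroup G}
    (hP : IsTypePWith M W₁ U W₂) (hI : ¬ IsOfTypeI M) {a x : G} (ha : a ∈ ⁅M, M⁆) (ha1 : a ≠ 1)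
    (hx : x ∈ fittingHallOf M) (hx1 : x ≠ 1) (hax : a * x = x * a) : a ∈ typeA M := by
  unfold typeA
  rw [if_neg hI]
  refine ⟨ha, ha1, x, ?_, hx1, hax⟩
  unfold typeCore
  split_ifs
  · exact hP.U_compl.1 hx
  · exact hx

end Cfsg.Agent.Lib.Helper23.PFNineAxis
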