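import Mathlib

/-!
# Isometries with square `±1` of an alternating space stabilize a polar pair (helper23)

`B` alternating bilinear on `V` (char ≠ 2), `g` an isometry with `g ∘ g = z • id`, `z ≠ 0`.
Every `g`-invariant nondegenerate subspace `M` is `U ⊕ W` with `U, W` totally isotropic and
`g` fixing both or swapping them, provided a two-dimensional step is available.
-/

set_option autoImplicit false

namespace Cfsg.Agent.Lib.Helper23

open Module Submodule

section Polar

variable {F : Type*} [Field F] {V : Type*} [AddCommGroup V] [Module F V] [FiniteDimensional F V]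
  (B : LinearMap.BilinForm F V)

/-- `B` is nondegenerate on the subspace `M`. -/
def NondegOn (M : Submodule F V) : Prop := ∀ m ∈ M, (∀ m' ∈ M, B m m' = 0) → m = 0

variable {B}

theorem alt_skew (hB : ∀ v, B v v = 0) (u v : V) : B u v = -B v u := by
  have h := hB (u + v)
  simp only [map_add, LinearMap.add_apply, hB u, hB v] at h
  linear_combination h

theorem polar_induction (hB : ∀ v, B v v = 0) (g : V →ₗ[F] V)
    (hg : ∀ u v, B (g u) (g v) = B u v) (z : F) (hz0 : z ≠ 0) (hz : ∀ v, g (g v) = z • v)
    (swap : Bool)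
    (hstep : ∀ M : Submodule F V, (∀ m ∈ M, g m ∈ M) → NondegOn B M → M ≠ ⊥ →
      ∃ u ∈ M, ∃ w ∈ M, B u w ≠ 0 ∧ ∃ c₁ c₂ : F, c₁ ≠ 0 ∧ c₂ ≠ 0 ∧
        (swap = false → g u = c₁ • u ∧ g w = c₂ • w) ∧
        (swap = true → g u = c₁ • w ∧ g w = c₂ • u)) :
    ∀ (n : ℕ) (M : Submodule F V), finrank F M = n → (∀ m ∈ M, g m ∈ M) → NondegOn B M →
      ∃ U W : Submodule F V, U ≤ M ∧ W ≤ M ∧ (∀ a ∈ U, ∀ b ∈ U, B a b = 0) ∧
        (∀ a ∈ W, ∀ b ∈ W, B a b = 0) ∧ U ⊓ W = ⊥ ∧ U ⊔ W = M ∧
        (swap = false → U.map g = U ∧ W.map g = W) ∧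
        (swap = true → U.map g = W ∧ W.map g = U) := by
  intro n
  induction n using Nat.strong_induction_on with
  | _ n ih =>
    intro M hn hM hnd
    by_cases hM0 : M = ⊥
    · subst hM0
      refine ⟨⊥, ⊥, le_rfl, le_rfl, ?_, ?_, by simp, by simp, ?_, ?_⟩
      · intro a ha b _
        rw [(Submodule.mem_bot F).mp ha, map_zero, LinearMap.zero_apply]
      · intro a ha b _
        rw [(Submodule.mem_bot F).mp ha, map_zero, LinearMap.zero_apply]
      · intro _; simp
      · intro _; simp
    · obtain ⟨u, hu, w, hw, huw, c₁, c₂, hc₁, hc₂, hfix, hswap⟩ := hstep M hM hnd hM0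
      have hwu : B w u ≠ 0 := by
        rw [alt_skew hB w u]
        exact neg_ne_zero.mpr huw
      -- `g u`, `g w` lie in the span of `u, w`
      have hperp : ∀ m : V, B m u = 0 → B m w = 0 → B m (g u) = 0 ∧ B m (g w) = 0 := by
        intro m h1 h2
        cases swap
        · obtain ⟨e1, e2⟩ := hfix rfl
          rw [e1, e2]
          simp only [map_smul, h1, h2, smul_zero, and_self]
        · obtain ⟨e1, e2⟩ := hswap rfl
          rw [e1, e2]
          simp only [map_smul, h1, h2, smul_zero, and_self]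
      set M' : Submodule F V := M ⊓ (LinearMap.ker (B.flip u) ⊓ LinearMap.ker (B.flip w))
        with hM'def
      have hmemM' : ∀ m, m ∈ M' ↔ m ∈ M ∧ B m u = 0 ∧ B m w = 0 := by
        intro m
        rw [hM'def, Submodule.mem_inf, Submodule.mem_inf, LinearMap.mem_ker, LinearMap.mem_ker,
          LinearMap.BilinForm.flip_apply, LinearMap.BilinForm.flip_apply]
      have hM'M : M' ≤ M := inf_le_left
      -- invariance
      have hback : ∀ m y : V, B (g m) y = z⁻¹ * B m (g y) := by
        intro m y
        have : y = z⁻¹ • g (g y) := by rw [hz, smul_smul, inv_mul_cancel₀ hz0, one_smul]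
        conv_lhs => rw [this]
        rw [map_smul, smul_eq_mul, hg]
      have hM'inv : ∀ m ∈ M', g m ∈ M' := by
        intro m hm
        rw [hmemM'] at hm ⊢
        obtain ⟨h0, h1, h2⟩ := hm
        obtain ⟨h3, h4⟩ := hperp m h1 h2
        refine ⟨hM m h0, ?_, ?_⟩
        · rw [hback, h3, mul_zero]
        · rw [hback, h4, mul_zero]
      -- decomposition of elements of `M`
      have hdec : ∀ x ∈ M, ∃ x' ∈ M', ∃ α β : F, x = x' + α • u + β • w := by
        intro x hx
        set α := B x w / B u w with hα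
        set β := B x u / B w u with hβ
        refine ⟨x - α • u - β • w, ?_, α, β, by abel⟩
        rw [hmemM']
        refine ⟨?_, ?_, ?_⟩
        · exact Submodule.sub_mem _ (Submodule.sub_mem _ hx (Submodule.smul_mem _ _ hu))
            (Submodule.smul_mem _ _ hw)
        · have hβ' : β * B w u = B x u := div_mul_cancel₀ _ hwu
          simp only [map_sub, map_smul, LinearMap.sub_apply, LinearMap.smul_apply, smul_eq_mul,
            hB u]
          linear_combination -hβ'
        · have hα' : α * B u w = B x w := div_mul_cancel₀ _ huw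
          simp only [map_sub, map_smul, LinearMap.sub_apply, LinearMap.smul_apply, smul_eq_mul,
            hB w]
          linear_combination -hα'
      -- nondegeneracy of `M'`
      have hM'nd : NondegOn B M' := by
        intro m hm hm0
        apply hnd m (hM'M hm)
        intro x hx
        obtain ⟨x', hx', α, β, rfl⟩ := hdec x hx
        obtain ⟨-, h1, h2⟩ := (hmemM' m).mp hm
        simp only [map_add, map_smul, smul_eq_mul, hm0 x' hx', h1, h2, mul_zero, add_zero]
      -- dimension drops
      have hlt : finrank F M' < n := by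
        rw [← hn]
        apply Submodule.finrank_lt_finrank_of_lt
        refine lt_of_le_of_ne hM'M ?_
        intro h
        have : u ∈ M' := by rw [h]; exact hu
        exact huw ((hmemM' u).mp this).2.2
      obtain ⟨U', W', hU'M, hW'M, hU'iso, hW'iso, hUW'inf, hUW'sup, hfix', hswap'⟩ :=
        ih (finrank F M') hlt M' rfl hM'inv hM'nd
      have hU'perp : ∀ a ∈ U', B a u = 0 ∧ B a w = 0 := fun a ha =>
        ((hmemM' a).mp (hU'M ha)).2
      have hW'perp : ∀ a ∈ W', B a u = 0 ∧ B a w = 0 := fun a ha =>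
        ((hmemM' a).mp (hW'M ha)).2
      -- totally isotropic after adding a vector
      have hiso : ∀ (X : Submodule F V) (y : V), (∀ a ∈ X, ∀ b ∈ X, B a b = 0) →
          (∀ a ∈ X, B a y = 0) → ∀ a ∈ X ⊔ span F {y}, ∀ b ∈ X ⊔ span F {y}, B a b = 0 := by
        intro X y hX hXy a ha b hb
        obtain ⟨a', ha', a'', ha'', rfl⟩ := Submodule.mem_sup.mp ha
        obtain ⟨b', hb', b'', hb'', rfl⟩ := Submodule.mem_sup.mp hb
        obtain ⟨α, rfl⟩ := Submodule.mem_span_singleton.mp ha''
        obtain ⟨β, rfl⟩ := Submodule.mem_span_singleton.mp hb''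
        have h1 : B y b' = 0 := by rw [alt_skew hB, hXy b' hb', neg_zero]
        simp only [map_add, map_smul, LinearMap.add_apply, LinearMap.smul_apply, smul_eq_mul,
          hX a' ha' b' hb', hXy a' ha', h1, hB y]
        ring
      refine ⟨U' ⊔ span F {u}, W' ⊔ span F {w}, ?_, ?_, ?_, ?_, ?_, ?_, ?_, ?_⟩
      · exact sup_le (hU'M.trans hM'M) ((span_singleton_le_iff_mem u M).mpr hu)
      · exact sup_le (hW'M.trans hM'M) ((span_singleton_le_iff_mem w M).mpr hw)
      · exact hiso U' u hU'iso (fun a ha => (hU'perp a ha).1)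
      · exact hiso W' w hW'iso (fun a ha => (hW'perp a ha).2)
      · rw [eq_bot_iff]
        intro x hx
        obtain ⟨hx1, hx2⟩ := Submodule.mem_inf.mp hx
        obtain ⟨a', ha', a'', ha'', e1⟩ := Submodule.mem_sup.mp hx1
        obtain ⟨b', hb', b'', hb'', e2⟩ := Submodule.mem_sup.mp hx2
        obtain ⟨α, rfl⟩ := Submodule.mem_span_singleton.mp ha''
        obtain ⟨β, rfl⟩ := Submodule.mem_span_singleton.mp hb''
        -- pair with `w` and `u`
        have hα : α = 0 := by
          have h1 : B x w = α * B u w := by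
            rw [← e1]
            simp only [map_add, map_smul, LinearMap.add_apply, LinearMap.smul_apply, smul_eq_mul,
              (hU'perp a' ha').2, zero_add]
          have h2 : B x w = 0 := by
            rw [← e2]
            simp only [map_add, map_smul, LinearMap.add_apply, LinearMap.smul_apply, smul_eq_mul,
              (hW'perp b' hb').2, hB w, mul_zero, add_zero]
          rw [h2] at h1
          rcases mul_eq_zero.mp h1.symm with h | h
          · exact h
          · exact absurd h huw
        have hβ : β = 0 := by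
          have h1 : B x u = β * B w u := by
            rw [← e2]
            simp only [map_add, map_smul, LinearMap.add_apply, LinearMap.smul_apply, smul_eq_mul,
              (hW'perp b' hb').1, zero_add]
          have h2 : B x u = 0 := by
            rw [← e1]
            simp only [map_add, map_smul, LinearMap.add_apply, LinearMap.smul_apply, smul_eq_mul,
              (hU'perp a' ha').1, hB u, mul_zero, add_zero]
          rw [h2] at h1
          rcases mul_eq_zero.mp h1.symm with h | h
          · exact h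
          · exact absurd h hwu
        rw [hα, zero_smul, add_zero] at e1
        rw [hβ, zero_smul, add_zero] at e2
        have : x ∈ U' ⊓ W' := Submodule.mem_inf.mpr ⟨e1 ▸ ha', e2 ▸ hb'⟩
        rw [hUW'inf] at this
        exact this
      · apply le_antisymm
        · apply sup_le
          · exact sup_le (hU'M.trans hM'M) ((span_singleton_le_iff_mem u M).mpr hu)
          · exact sup_le (hW'M.trans hM'M) ((span_singleton_le_iff_mem w M).mpr hw)
        · intro x hx
          obtain ⟨x', hx', α, β, rfl⟩ := hdec x hx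
          rw [← hUW'sup] at hx'
          obtain ⟨a', ha', b', hb', rfl⟩ := Submodule.mem_sup.mp hx'
          have : a' + b' + α • u + β • w = (a' + α • u) + (b' + β • w) := by abel
          rw [this]
          apply Submodule.add_mem_sup
          · exact Submodule.add_mem_sup ha' (Submodule.smul_mem _ _ (Submodule.mem_span_singleton_self u))
          · exact Submodule.add_mem_sup hb' (Submodule.smul_mem _ _ (Submodule.mem_span_singleton_self w))
      · intro hs
        obtain ⟨e1, e2⟩ := hfix hs
        obtain ⟨f1, f2⟩ := hfix' hs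
        constructor
        · rw [Submodule.map_sup, f1, Submodule.map_span, Set.image_singleton, e1,
            Submodule.span_singleton_smul_eq (IsUnit.mk0 c₁ hc₁)]
        · rw [Submodule.map_sup, f2, Submodule.map_span, Set.image_singleton, e2,
            Submodule.span_singleton_smul_eq (IsUnit.mk0 c₂ hc₂)]
      · intro hs
        obtain ⟨e1, e2⟩ := hswap hs
        obtain ⟨f1, f2⟩ := hswap' hs
        constructor
        · rw [Submodule.map_sup, f1, Submodule.map_span, Set.image_singleton, e1,
            Submodule.span_singleton_smul_eq (IsUnit.mk0 c₁ hc₁)]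
        · rw [Submodule.map_sup, f2, Submodule.map_span, Set.image_singleton, e2,
            Submodule.span_singleton_smul_eq (IsUnit.mk0 c₂ hc₂)]

theorem exists_ne_zero_pairing {M : Submodule F V} (hnd : NondegOn B M) {m : V} (hm : m ∈ M)
    (hm0 : m ≠ 0) : ∃ m' ∈ M, B m m' ≠ 0 := by
  by_contra h
  push Not at h
  exact hm0 (hnd m hm h)

/-- the two-dimensional step when `g ∘ g = 1`. -/
theorem polar_step_one (hB : ∀ v, B v v = 0) (h2 : (2 : F) ≠ 0) (g : V →ₗ[F] V)
    (hg : ∀ u v, B (g u) (g v) = B u v) (hz : ∀ v, g (g v) = v)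
    (M : Submodule F V) (hM : ∀ m ∈ M, g m ∈ M) (hnd : NondegOn B M) (hM0 : M ≠ ⊥) :
    ∃ u ∈ M, ∃ w ∈ M, B u w ≠ 0 ∧ ∃ c₁ c₂ : F, c₁ ≠ 0 ∧ c₂ ≠ 0 ∧
      (false = false → g u = c₁ • u ∧ g w = c₂ • w) ∧
      (false = true → g u = c₁ • w ∧ g w = c₂ • u) := by
  obtain ⟨m, hm, hm0⟩ := Submodule.exists_mem_ne_zero_of_ne_bot hM0
  -- an eigenvector
  obtain ⟨v, hv, hv0, ε, hε, hgv⟩ : ∃ v ∈ M, v ≠ 0 ∧ ∃ ε : F, ε * ε = 1 ∧ g v = ε • v := by
    by_cases h : m + g m = 0
    · refine ⟨m, hm, hm0, -1, by ring, ?_⟩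
      rw [neg_one_smul]
      exact (eq_neg_of_add_eq_zero_right h)
    · refine ⟨m + g m, Submodule.add_mem _ hm (hM m hm), h, 1, by ring, ?_⟩
      rw [map_add, hz, one_smul, add_comm]
  have hε0 : ε ≠ 0 := by
    intro h
    rw [h, zero_mul] at hε
    exact zero_ne_one hε
  obtain ⟨w', hw', hvw'⟩ := exists_ne_zero_pairing hnd hv hv0
  have hgw : g (w' + ε • g w') = ε • (w' + ε • g w') := by
    rw [map_add, map_smul, hz, smul_add, smul_smul, hε, one_smul, add_comm]
  have hBv : B v (g w') = ε * B v w' := by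
    have := hg v (g w')
    rw [hz, hgv, map_smul, LinearMap.smul_apply, smul_eq_mul] at this
    exact this.symm
  refine ⟨v, hv, w' + ε • g w', Submodule.add_mem _ hw' (Submodule.smul_mem _ _ (hM w' hw')), ?_,
    ε, ε, hε0, hε0, fun _ => ⟨hgv, hgw⟩, fun h => absurd h (by simp)⟩
  simp only [map_add, map_smul, smul_eq_mul, hBv]
  have : B v w' + ε * (ε * B v w') = 2 * B v w' := by
    rw [← mul_assoc, hε]; ring
  rw [this]
  exact mul_ne_zero h2 hvw'

/-- the two-dimensional step when `g ∘ g = -1`. -/
theorem polar_step_neg_one (hB : ∀ v, B v v = 0) (h2 : (2 : F) ≠ 0) (g : V →ₗ[F] V)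
    (hg : ∀ u v, B (g u) (g v) = B u v) (hz : ∀ v, g (g v) = (-1 : F) • v)
    (M : Submodule F V) (hM : ∀ m ∈ M, g m ∈ M) (hnd : NondegOn B M) (hM0 : M ≠ ⊥) :
    ∃ u ∈ M, ∃ w ∈ M, B u w ≠ 0 ∧ ∃ c₁ c₂ : F, c₁ ≠ 0 ∧ c₂ ≠ 0 ∧
      (true = false → g u = c₁ • u ∧ g w = c₂ • w) ∧
      (true = true → g u = c₁ • w ∧ g w = c₂ • u) := by
  obtain ⟨v, hv, hvg⟩ : ∃ v ∈ M, B v (g v) ≠ 0 := by
    by_contra h
    push Not at h
    obtain ⟨m, hm, hm0⟩ := Submodule.exists_mem_ne_zero_of_ne_bot hM0
    obtain ⟨m', hm', hmm'⟩ := exists_ne_zero_pairing hnd hm hm0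
    apply hmm'
    -- `m' = g y` with `y = -(g m')`
    have hy : m' = g (-(g m')) := by
      rw [map_neg, hz, neg_one_smul, neg_neg]
    have hyM : -(g m') ∈ M := Submodule.neg_mem _ (hM m' hm')
    set y := -(g m') with hydef
    rw [hy]
    have h1 := h (m + y) (Submodule.add_mem _ hm hyM)
    simp only [map_add, LinearMap.add_apply, h m hm, h y hyM] at h1
    have h3 : B y (g m) = B m (g y) := by
      have := hg y (g m)
      rw [hz, map_smul, smul_eq_mul] at this
      rw [← this, alt_skew hB (g y) m]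
      ring
    rw [h3] at h1
    have h4 : 2 * B m (g y) = 0 := by linear_combination h1
    rcases mul_eq_zero.mp h4 with h5 | h5
    · exact absurd h5 h2
    · exact h5
  refine ⟨v, hv, g v, hM v hv, hvg, 1, -1, one_ne_zero, by simp, fun h => absurd h (by simp),
    fun _ => ⟨by rw [one_smul], hz v⟩⟩

/-- **Main abstract statement**: an isometry `g` of a nondegenerate alternating space in odd
characteristic with `g ∘ g = z • id`, `z = ±1`, fixes or swaps the members of some pair of
complementary totally isotropic subspaces. -/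
theorem exists_polar_pair (hB : ∀ v, B v v = 0) (h2 : (2 : F) ≠ 0) (g : V →ₗ[F] V)
    (hg : ∀ u v, B (g u) (g v) = B u v) (z : F) (hz1 : z = 1 ∨ z = -1)
    (hz : ∀ v, g (g v) = z • v) (hnd : NondegOn B ⊤) :
    ∃ U W : Submodule F V, (∀ a ∈ U, ∀ b ∈ U, B a b = 0) ∧ (∀ a ∈ W, ∀ b ∈ W, B a b = 0) ∧
      IsCompl U W ∧ ((U.map g = U ∧ W.map g = W) ∨ (U.map g = W ∧ W.map g = U)) := by
  rcases hz1 with rfl | rfl
  · have hz' : ∀ v, g (g v) = v := fun v => by rw [hz, one_smul]
    obtain ⟨U, W, -, -, hU, hW, hinf, hsup, hfix, -⟩ :=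
      polar_induction hB g hg 1 one_ne_zero hz false
        (fun M hM hndM hM0 => polar_step_one hB h2 g hg hz' M hM hndM hM0)
        _ ⊤ rfl (fun _ _ => Submodule.mem_top) hnd
    exact ⟨U, W, hU, hW, ⟨disjoint_iff.mpr hinf, codisjoint_iff.mpr hsup⟩, Or.inl (hfix rfl)⟩
  · obtain ⟨U, W, -, -, hU, hW, hinf, hsup, -, hswap⟩ :=
      polar_induction hB g hg (-1) (by simp) hz true
        (fun M hM hndM hM0 => polar_step_neg_one hB h2 g hg hz M hM hndM hM0)
        _ ⊤ rfl (fun _ _ => Submodule.mem_top) hnd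
    exact ⟨U, W, hU, hW, ⟨disjoint_iff.mpr hinf, codisjoint_iff.mpr hsup⟩, Or.inr (hswap rfl)⟩

end Polar

end Cfsg.Agent.Lib.Helper23
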