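import Mathlib
import Cfsg.Agent.Lib.Helper23.PolarPair
import Cfsg.Agent.Lib.Helper23.InvolutionPartition

/-!
# Orthogonal decompositions into hyperbolic planes permuted by an isometry (helper23)

`B` alternating bilinear on `V` (any characteristic), `g` an isometry with `g ∘ g = z • id`,
`z ≠ 0`.  Every `g`-invariant nondegenerate subspace is an orthogonal sum of hyperbolic planes
which `g` permutes through an involution of the index set (`planeDecomp_of_invariant`).
Grouping the planes gives, for `finrank V = 2 * a' * t`, an orthogonal decomposition of `V` into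
`t` subspaces of dimension `2 * a'` permuted by `g` (`exists_symplectic_decomposition`).
-/

set_option autoImplicit false

namespace Cfsg.Agent.Lib.Helper23

open Module Submodule

section Plane

variable {F : Type*} [Field F] {V : Type*} [AddCommGroup V] [Module F V] [FiniteDimensional F V]
  (B : LinearMap.BilinForm F V) (g : V →ₗ[F] V)

/-- `M` is spanned by pairwise orthogonal hyperbolic pairs `(e i, f i)` whose planes are permuted
by `g` through an involution `τ`. -/
def PlaneDecomp (M : Submodule F V) : Prop :=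
  ∃ (ι : Type) (_ : Fintype ι) (e f : ι → V) (τ : ι → ι),
    (∀ i, τ (τ i) = i) ∧ (∀ i, e i ∈ M) ∧ (∀ i, f i ∈ M) ∧ (∀ i, B (e i) (f i) ≠ 0) ∧
    (∀ i j, i ≠ j → B (e i) (e j) = 0 ∧ B (e i) (f j) = 0 ∧ B (f i) (e j) = 0 ∧
      B (f i) (f j) = 0) ∧
    M ≤ span F (Set.range e ∪ Set.range f) ∧
    (∀ i, g (e i) ∈ span F {e (τ i), f (τ i)} ∧ g (f i) ∈ span F {e (τ i), f (τ i)})

/-- the part of `M` orthogonal to `u` and `w`. -/
def perpPair (M : Submodule F V) (u w : V) : Submodule F V :=
  M ⊓ (LinearMap.ker (B.flip u) ⊓ LinearMap.ker (B.flip w))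

variable {B g}

omit [FiniteDimensional F V] in
theorem mem_perpPair {M : Submodule F V} {u w m : V} :
    m ∈ perpPair B M u w ↔ m ∈ M ∧ B m u = 0 ∧ B m w = 0 := by
  rw [perpPair, Submodule.mem_inf, Submodule.mem_inf, LinearMap.mem_ker, LinearMap.mem_ker,
    LinearMap.BilinForm.flip_apply, LinearMap.BilinForm.flip_apply]

omit [FiniteDimensional F V] in
theorem planeDecomp_bot : PlaneDecomp B g ⊥ :=
  ⟨Empty, inferInstance, Empty.elim, Empty.elim, id, fun i => i.elim, fun i => i.elim,
    fun i => i.elim, fun i => i.elim, fun i => i.elim, bot_le, fun i => i.elim⟩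

omit [FiniteDimensional F V] in
theorem planeDecomp_single (e f : V) (hef : B e f ≠ 0) (hge : g e ∈ span F {e, f})
    (hgf : g f ∈ span F {e, f}) : PlaneDecomp B g (span F {e, f}) := by
  refine ⟨Unit, inferInstance, fun _ => e, fun _ => f, id, fun _ => rfl, ?_, ?_, fun _ => hef,
    ?_, ?_, fun _ => ⟨hge, hgf⟩⟩
  · intro _; exact subset_span (Set.mem_insert _ _)
  · intro _; exact subset_span (Set.mem_insert_of_mem _ (Set.mem_singleton _))
  · intro i j hij; exact absurd (Subsingleton.elim i j) hij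
  · apply span_mono
    rintro x (rfl | rfl)
    · left; exact ⟨(), rfl⟩
    · right; exact ⟨(), rfl⟩

theorem planeDecomp_pair (hB : ∀ v, B v v = 0) (hg : ∀ u v, B (g u) (g v) = B u v) (z : F)
    (hz : ∀ v, g (g v) = z • v) (v w : V) (hvw : B v w ≠ 0) (h1 : B v (g v) = 0)
    (h2 : B v (g w) = 0) (h3 : B w (g v) = 0) (h4 : B w (g w) = 0) :
    PlaneDecomp B g (span F {v, w} ⊔ span F {g v, g w}) := by
  refine ⟨Bool, inferInstance, fun b => cond b (g v) v, fun b => cond b (g w) w, not,
    Bool.not_not, ?_, ?_, ?_, ?_, ?_, ?_⟩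
  · rintro (_ | _)
    · exact mem_sup_left (subset_span (Set.mem_insert _ _))
    · exact mem_sup_right (subset_span (Set.mem_insert _ _))
  · rintro (_ | _)
    · exact mem_sup_left (subset_span (Set.mem_insert_of_mem _ (Set.mem_singleton _)))
    · exact mem_sup_right (subset_span (Set.mem_insert_of_mem _ (Set.mem_singleton _)))
  · rintro (_ | _)
    · exact hvw
    · show B (g v) (g w) ≠ 0
      rw [hg]; exact hvw
  · rintro (_ | _) (_ | _) hij
    · exact absurd rfl hij
    · exact ⟨h1, h2, h3, h4⟩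
    · show B (g v) v = 0 ∧ B (g v) w = 0 ∧ B (g w) v = 0 ∧ B (g w) w = 0
      refine ⟨?_, ?_, ?_, ?_⟩
      · rw [alt_skew hB, h1, neg_zero]
      · rw [alt_skew hB, h3, neg_zero]
      · rw [alt_skew hB, h2, neg_zero]
      · rw [alt_skew hB, h4, neg_zero]
    · exact absurd rfl hij
  · apply sup_le
    · rw [span_le]
      rintro x (rfl | rfl)
      · exact subset_span (Or.inl ⟨false, rfl⟩)
      · exact subset_span (Or.inr ⟨false, rfl⟩)
    · rw [span_le]
      rintro x (rfl | rfl)
      · exact subset_span (Or.inl ⟨true, rfl⟩)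
      · exact subset_span (Or.inr ⟨true, rfl⟩)
  · rintro (_ | _)
    · exact ⟨subset_span (Set.mem_insert _ _),
        subset_span (Set.mem_insert_of_mem _ (Set.mem_singleton _))⟩
    · show g (g v) ∈ span F {v, w} ∧ g (g w) ∈ span F {v, w}
      rw [hz, hz]
      exact ⟨smul_mem _ _ (subset_span (Set.mem_insert _ _)),
        smul_mem _ _ (subset_span (Set.mem_insert_of_mem _ (Set.mem_singleton _)))⟩

theorem planeDecomp_sup (hB : ∀ v, B v v = 0) {H M' M : Submodule F V}
    (hH : PlaneDecomp B g H) (hM' : PlaneDecomp B g M') (hHM : H ≤ M) (hM'M : M' ≤ M)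
    (horth : ∀ m ∈ M', ∀ h ∈ H, B m h = 0) (hsup : M ≤ H ⊔ M') : PlaneDecomp B g M := by
  obtain ⟨ι₁, hι₁, e₁, f₁, τ₁, hτ₁, he₁, hf₁, hef₁, ho₁, hsp₁, hg₁⟩ := hH
  obtain ⟨ι₂, hι₂, e₂, f₂, τ₂, hτ₂, he₂, hf₂, hef₂, ho₂, hsp₂, hg₂⟩ := hM'
  have horth' : ∀ h ∈ H, ∀ m ∈ M', B h m = 0 := by
    intro h hh m hm
    rw [alt_skew hB, horth m hm h hh, neg_zero]
  refine ⟨ι₁ ⊕ ι₂, inferInstance, Sum.elim e₁ e₂, Sum.elim f₁ f₂, Sum.map τ₁ τ₂,
    ?_, ?_, ?_, ?_, ?_, ?_, ?_⟩
  · rintro (i | i)
    · simp only [Sum.map_inl, hτ₁]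
    · simp only [Sum.map_inr, hτ₂]
  · rintro (i | i)
    · exact hHM (he₁ i)
    · exact hM'M (he₂ i)
  · rintro (i | i)
    · exact hHM (hf₁ i)
    · exact hM'M (hf₂ i)
  · rintro (i | i)
    · exact hef₁ i
    · exact hef₂ i
  · rintro (i | i) (j | j) hij
    · exact ho₁ i j (fun h => hij (by rw [h]))
    · exact ⟨horth' _ (he₁ i) _ (he₂ j), horth' _ (he₁ i) _ (hf₂ j),
        horth' _ (hf₁ i) _ (he₂ j), horth' _ (hf₁ i) _ (hf₂ j)⟩
    · exact ⟨horth _ (he₂ i) _ (he₁ j), horth _ (he₂ i) _ (hf₁ j),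
        horth _ (hf₂ i) _ (he₁ j), horth _ (hf₂ i) _ (hf₁ j)⟩
    · exact ho₂ i j (fun h => hij (by rw [h]))
  · refine hsup.trans (sup_le (hsp₁.trans (span_mono ?_)) (hsp₂.trans (span_mono ?_)))
    · rintro x (⟨i, rfl⟩ | ⟨i, rfl⟩)
      · exact Or.inl ⟨Sum.inl i, rfl⟩
      · exact Or.inr ⟨Sum.inl i, rfl⟩
    · rintro x (⟨i, rfl⟩ | ⟨i, rfl⟩)
      · exact Or.inl ⟨Sum.inr i, rfl⟩
      · exact Or.inr ⟨Sum.inr i, rfl⟩
  · rintro (i | i)
    · exact hg₁ i
    · exact hg₂ i

theorem perpPair_spec (hB : ∀ v, B v v = 0) {M : Submodule F V} (hnd : NondegOn B M) {u w : V}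
    (hu : u ∈ M) (hw : w ∈ M) (huw : B u w ≠ 0) :
    NondegOn B (perpPair B M u w) ∧
      (∀ x ∈ M, ∃ x' ∈ perpPair B M u w, ∃ α β : F, x = x' + α • u + β • w) ∧
      finrank F (perpPair B M u w) < finrank F M := by
  have hwu : B w u ≠ 0 := by
    rw [alt_skew hB w u]
    exact neg_ne_zero.mpr huw
  have hdec : ∀ x ∈ M, ∃ x' ∈ perpPair B M u w, ∃ α β : F, x = x' + α • u + β • w := by
    intro x hx
    set α := B x w / B u w with hα
    set β := B x u / B w u with hβ
    refine ⟨x - α • u - β • w, ?_, α, β, by abel⟩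
    rw [mem_perpPair]
    refine ⟨?_, ?_, ?_⟩
    · exact Submodule.sub_mem _ (Submodule.sub_mem _ hx (Submodule.smul_mem _ _ hu))
        (Submodule.smul_mem _ _ hw)
    · have hβ' : β * B w u = B x u := div_mul_cancel₀ _ hwu
      simp only [map_sub, map_smul, LinearMap.sub_apply, LinearMap.smul_apply, smul_eq_mul,
        hB u]
      linear_combination -hβ'
    · have hα' : α * B u w = B x w := div_mul_cancel₀ _ huw
      simp only [map_sub, map_smul, LinearMap.sub_apply, LinearMap.smul_apply, smul_eq_mul,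
        hB w]
      linear_combination -hα'
  refine ⟨?_, hdec, ?_⟩
  · intro m hm hm0
    apply hnd m (mem_perpPair.mp hm).1
    intro x hx
    obtain ⟨x', hx', α, β, rfl⟩ := hdec x hx
    obtain ⟨-, h1, h2⟩ := mem_perpPair.mp hm
    simp only [map_add, map_smul, smul_eq_mul, hm0 x' hx', h1, h2, mul_zero, add_zero]
  · apply Submodule.finrank_lt_finrank_of_lt
    refine lt_of_le_of_ne inf_le_left ?_
    intro h
    have : u ∈ perpPair B M u w := by rw [h]; exact hu
    exact huw (mem_perpPair.mp this).2.2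

/-- the step of the induction: an invariant plane or a pair of swapped orthogonal planes. -/
theorem plane_step (hB : ∀ v, B v v = 0) (hg : ∀ u v, B (g u) (g v) = B u v) (z : F)
    (hz : ∀ v, g (g v) = z • v) (M : Submodule F V) (hM : ∀ m ∈ M, g m ∈ M)
    (hnd : NondegOn B M) (hM0 : M ≠ ⊥) :
    (∃ e ∈ M, ∃ f ∈ M, B e f ≠ 0 ∧ g e ∈ span F {e, f} ∧ g f ∈ span F {e, f}) ∨
    (∃ v ∈ M, ∃ w ∈ M, B v w ≠ 0 ∧ B v (g v) = 0 ∧ B v (g w) = 0 ∧ B w (g v) = 0 ∧
      B w (g w) = 0) := by
  by_cases hA : ∃ v ∈ M, B v (g v) ≠ 0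
  · obtain ⟨v, hv, hvg⟩ := hA
    left
    refine ⟨v, hv, g v, hM v hv, hvg,
      subset_span (Set.mem_insert_of_mem _ (Set.mem_singleton _)), ?_⟩
    rw [hz]
    exact smul_mem _ _ (subset_span (Set.mem_insert _ _))
  · push Not at hA
    by_cases hE : ∀ v ∈ M, g v ∈ span F {v}
    · obtain ⟨m, hm, hm0⟩ := Submodule.exists_mem_ne_zero_of_ne_bot hM0
      obtain ⟨m', hm', hmm'⟩ := exists_ne_zero_pairing hnd hm hm0
      left
      refine ⟨m, hm, m', hm', hmm', ?_, ?_⟩
      · exact span_mono (Set.singleton_subset_iff.mpr (Set.mem_insert _ _)) (hE m hm)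
      · exact span_mono (Set.singleton_subset_iff.mpr
          (Set.mem_insert_of_mem _ (Set.mem_singleton _))) (hE m' hm')
    · push Not at hE
      obtain ⟨v, hv, hgv⟩ := hE
      right
      have hgvM : g v ∈ M := hM v hv
      have hgv0 : g v ≠ 0 := by
        intro h
        apply hgv
        rw [h]
        exact Submodule.zero_mem _
      -- a vector `w` orthogonal to `g v` but not to `v`
      obtain ⟨w, hw, hvw, hgvw⟩ : ∃ w ∈ M, B v w ≠ 0 ∧ B (g v) w = 0 := by
        by_contra hno
        push Not at hno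
        have hno' : ∀ w ∈ M, B (g v) w = 0 → B v w = 0 := by
          intro w hw h0
          by_contra h1
          exact hno w hw h1 h0
        obtain ⟨w₀, hw₀, hgw₀⟩ := exists_ne_zero_pairing hnd hgvM hgv0
        set c := B v w₀ / B (g v) w₀ with hc
        have hc' : c * B (g v) w₀ = B v w₀ := div_mul_cancel₀ _ hgw₀
        have hall : ∀ w ∈ M, B (v - c • g v) w = 0 := by
          intro w hw
          set k := B (g v) w / B (g v) w₀ with hk
          have hk' : k * B (g v) w₀ = B (g v) w := div_mul_cancel₀ _ hgw₀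
          have hw' : w - k • w₀ ∈ M := Submodule.sub_mem _ hw (Submodule.smul_mem _ _ hw₀)
          have h0 : B (g v) (w - k • w₀) = 0 := by
            simp only [map_sub, map_smul, smul_eq_mul]
            linear_combination -hk'
          have h1 := hno' _ hw' h0
          simp only [map_sub, map_smul, smul_eq_mul] at h1
          simp only [map_sub, map_smul, LinearMap.sub_apply, LinearMap.smul_apply, smul_eq_mul]
          linear_combination h1 + k * hc' - c * hk'
        have hvc : v - c • g v = 0 :=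
          hnd _ (Submodule.sub_mem _ hv (Submodule.smul_mem _ _ hgvM)) hall
        have hvc' : v = c • g v := sub_eq_zero.mp hvc
        by_cases hc0 : c = 0
        · apply hgv
          rw [hvc', hc0, zero_smul, map_zero]
          exact Submodule.zero_mem _
        · apply hgv
          have : g v = c⁻¹ • v := by
            conv_rhs => rw [hvc']
            rw [smul_smul, inv_mul_cancel₀ hc0, one_smul]
          rw [this]
          exact smul_mem _ _ (mem_span_singleton_self v)
      refine ⟨v, hv, w, hw, hvw, hA v hv, ?_, ?_, hA w hw⟩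
      · have := hg v (g w)
        rw [hz, map_smul, smul_eq_mul, hgvw, mul_zero] at this
        exact this.symm
      · rw [alt_skew hB, hgvw, neg_zero]

/-- **Plane decomposition**: an invariant nondegenerate subspace is an orthogonal sum of
hyperbolic planes permuted by `g`. -/
theorem planeDecomp_of_invariant (hB : ∀ v, B v v = 0) (hg : ∀ u v, B (g u) (g v) = B u v)
    (z : F) (hz0 : z ≠ 0) (hz : ∀ v, g (g v) = z • v) :
    ∀ (n : ℕ) (M : Submodule F V), finrank F M = n → (∀ m ∈ M, g m ∈ M) → NondegOn B M →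
      PlaneDecomp B g M := by
  intro n
  induction n using Nat.strong_induction_on with
  | _ n ih =>
    intro M hn hM hnd
    by_cases hM0 : M = ⊥
    · subst hM0
      exact planeDecomp_bot
    · have hback : ∀ m y : V, B (g m) y = z⁻¹ * B m (g y) := by
        intro m y
        have : y = z⁻¹ • g (g y) := by rw [hz, smul_smul, inv_mul_cancel₀ hz0, one_smul]
        conv_lhs => rw [this]
        rw [map_smul, smul_eq_mul, hg]
      have hspan0 : ∀ (m a b : V), B m a = 0 → B m b = 0 → ∀ y ∈ span F {a, b}, B m y = 0 := by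
        intro m a b ha hb y hy
        obtain ⟨α, β, rfl⟩ := mem_span_pair.mp hy
        simp only [map_add, map_smul, smul_eq_mul, ha, hb, mul_zero, add_zero]
      rcases plane_step hB hg z hz M hM hnd hM0 with
        ⟨e, he, f, hf, hef, hge, hgf⟩ | ⟨v, hv, w, hw, hvw, h1, h2, h3, h4⟩
      · obtain ⟨hnd', hdec, hlt⟩ := perpPair_spec hB hnd he hf hef
        have hinv : ∀ m ∈ perpPair B M e f, g m ∈ perpPair B M e f := by
          intro m hm
          obtain ⟨hm0, hm1, hm2⟩ := mem_perpPair.mp hm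
          rw [mem_perpPair]
          refine ⟨hM m hm0, ?_, ?_⟩
          · rw [hback, hspan0 m e f hm1 hm2 _ hge, mul_zero]
          · rw [hback, hspan0 m e f hm1 hm2 _ hgf, mul_zero]
        have hPD' := ih _ (by rw [← hn]; exact hlt) (perpPair B M e f) rfl hinv hnd'
        refine planeDecomp_sup hB (planeDecomp_single e f hef hge hgf) hPD' ?_ inf_le_left ?_ ?_
        · rw [span_le]
          rintro x (rfl | rfl)
          · exact he
          · exact hf
        · intro m hm h hh
          obtain ⟨-, hm1, hm2⟩ := mem_perpPair.mp hm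
          exact hspan0 m e f hm1 hm2 h hh
        · intro x hx
          obtain ⟨x', hx', α, β, rfl⟩ := hdec x hx
          have : x' + α • e + β • f = (α • e + β • f) + x' := by abel
          rw [this]
          refine add_mem_sup ?_ hx'
          exact add_mem (smul_mem _ _ (subset_span (Set.mem_insert _ _)))
            (smul_mem _ _ (subset_span (Set.mem_insert_of_mem _ (Set.mem_singleton _))))
      · obtain ⟨hnd₁, hdec₁, hlt₁⟩ := perpPair_spec hB hnd hv hw hvw
        have hgv₁ : g v ∈ perpPair B M v w := by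
          rw [mem_perpPair]
          refine ⟨hM v hv, ?_, ?_⟩
          · rw [alt_skew hB, h1, neg_zero]
          · rw [alt_skew hB, h3, neg_zero]
        have hgw₁ : g w ∈ perpPair B M v w := by
          rw [mem_perpPair]
          refine ⟨hM w hw, ?_, ?_⟩
          · rw [alt_skew hB, h2, neg_zero]
          · rw [alt_skew hB, h4, neg_zero]
        have hgvw : B (g v) (g w) ≠ 0 := by rw [hg]; exact hvw
        obtain ⟨hnd₂, hdec₂, hlt₂⟩ := perpPair_spec hB hnd₁ hgv₁ hgw₁ hgvw
        set M₂ := perpPair B (perpPair B M v w) (g v) (g w) with hM₂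
        have hmem₂ : ∀ m, m ∈ M₂ ↔ m ∈ M ∧ B m v = 0 ∧ B m w = 0 ∧ B m (g v) = 0 ∧
            B m (g w) = 0 := by
          intro m
          rw [hM₂, mem_perpPair, mem_perpPair]
          tauto
        have hinv : ∀ m ∈ M₂, g m ∈ M₂ := by
          intro m hm
          obtain ⟨hm0, hm1, hm2, hm3, hm4⟩ := (hmem₂ m).mp hm
          rw [hmem₂]
          refine ⟨hM m hm0, ?_, ?_, ?_, ?_⟩
          · rw [hback, hm3, mul_zero]
          · rw [hback, hm4, mul_zero]
          · rw [hg, hm1]
          · rw [hg, hm2]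
        have hPD' := ih _ (by rw [← hn]; exact hlt₂.trans hlt₁) M₂ rfl hinv hnd₂
        refine planeDecomp_sup hB (planeDecomp_pair hB hg z hz v w hvw h1 h2 h3 h4) hPD' ?_
          (inf_le_left.trans inf_le_left) ?_ ?_
        · apply sup_le
          · rw [span_le]
            rintro x (rfl | rfl)
            · exact hv
            · exact hw
          · rw [span_le]
            rintro x (rfl | rfl)
            · exact hM _ hv
            · exact hM _ hw
        · intro m hm h hh
          obtain ⟨-, hm1, hm2, hm3, hm4⟩ := (hmem₂ m).mp hm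
          obtain ⟨a, ha, b, hb, rfl⟩ := Submodule.mem_sup.mp hh
          rw [map_add, hspan0 m v w hm1 hm2 a ha, hspan0 m (g v) (g w) hm3 hm4 b hb, add_zero]
        · intro x hx
          obtain ⟨x₁, hx₁, α, β, rfl⟩ := hdec₁ x hx
          obtain ⟨x₂, hx₂, γ, δ, rfl⟩ := hdec₂ x₁ hx₁
          have : x₂ + γ • g v + δ • g w + α • v + β • w =
              ((α • v + β • w) + (γ • g v + δ • g w)) + x₂ := by abel
          rw [this]
          refine add_mem_sup (add_mem_sup ?_ ?_) hx₂
          · exact add_mem (smul_mem _ _ (subset_span (Set.mem_insert _ _)))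
              (smul_mem _ _ (subset_span (Set.mem_insert_of_mem _ (Set.mem_singleton _))))
          · exact add_mem (smul_mem _ _ (subset_span (Set.mem_insert _ _)))
              (smul_mem _ _ (subset_span (Set.mem_insert_of_mem _ (Set.mem_singleton _))))

end Plane

section Decomp

variable {F : Type*} [Field F] {V : Type*} [AddCommGroup V] [Module F V] [FiniteDimensional F V]
  {B : LinearMap.BilinForm F V}

omit [FiniteDimensional F V] in
theorem linearIndependent_of_dual_pairing {κ : Type*} [Fintype κ] [DecidableEq κ] (b d : κ → V)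
    (h1 : ∀ i, B (b i) (d i) ≠ 0) (h2 : ∀ i j, i ≠ j → B (b i) (d j) = 0) :
    LinearIndependent F b := by
  rw [Fintype.linearIndependent_iff]
  intro c hc j
  have h := congrArg (fun x => B x (d j)) hc
  simp only [map_sum, map_smul, LinearMap.sum_apply, LinearMap.smul_apply, smul_eq_mul, map_zero,
    LinearMap.zero_apply] at h
  rw [Finset.sum_eq_single j] at h
  · rcases mul_eq_zero.mp h with h | h
    · exact h
    · exact absurd h (h1 j)
  · intro i _ hij
    rw [h2 i j hij, mul_zero]
  · intro hj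
    exact absurd (Finset.mem_univ j) hj

/-- **Main abstract statement**: an isometry `g` with `g ∘ g = z • id` of a nondegenerate
alternating space of dimension `2 * a' * t` permutes the members of some orthogonal decomposition
into `t` nondegenerate subspaces of dimension `2 * a'`. -/
theorem exists_symplectic_decomposition (hB : ∀ v, B v v = 0) (g : V →ₗ[F] V)
    (hg : ∀ u v, B (g u) (g v) = B u v) (z : F) (hz0 : z ≠ 0) (hz : ∀ v, g (g v) = z • v)
    (hnd : NondegOn B ⊤) (a' t : ℕ) (ha' : 0 < a') (hdim : finrank F V = 2 * a' * t) :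
    ∃ D : Fin t → Submodule F V, (∀ j, finrank F (D j) = 2 * a') ∧ iSupIndep D ∧ iSup D = ⊤ ∧
      (∀ j j', j ≠ j' → ∀ u ∈ D j, ∀ v ∈ D j', B u v = 0) ∧
      (∀ j, ∀ u ∈ D j, u ≠ 0 → ∃ v ∈ D j, B u v ≠ 0) ∧
      ∃ σ : Equiv.Perm (Fin t), ∀ j, (D j).map g = D (σ j) := by
  classical
  obtain ⟨ι, hι, e₀, f₀, τ₀, hτ₀, -, -, hef₀, ho₀, hsp₀, hg₀⟩ :=
    planeDecomp_of_invariant hB hg z hz0 hz _ ⊤ rfl (fun _ _ => Submodule.mem_top) hnd
  -- transfer to `Fin k`
  set k := Fintype.card ι with hk
  let ε : ι ≃ Fin k := Fintype.equivFinOfCardEq rfl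
  let e : Fin k → V := fun i => e₀ (ε.symm i)
  let f : Fin k → V := fun i => f₀ (ε.symm i)
  let τ : Fin k → Fin k := fun i => ε (τ₀ (ε.symm i))
  have hτ : ∀ i, τ (τ i) = i := by
    intro i
    simp [τ, hτ₀]
  have hef : ∀ i, B (e i) (f i) ≠ 0 := fun i => hef₀ _
  have ho : ∀ i j, i ≠ j → B (e i) (e j) = 0 ∧ B (e i) (f j) = 0 ∧ B (f i) (e j) = 0 ∧
      B (f i) (f j) = 0 := by
    intro i j hij
    exact ho₀ _ _ (fun h => hij (ε.symm.injective h))
  have hge : ∀ i, g (e i) ∈ span F {e (τ i), f (τ i)} ∧ g (f i) ∈ span F {e (τ i), f (τ i)} := by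
    intro i
    have := hg₀ (ε.symm i)
    simpa [e, f, τ] using this
  have hsp : ⊤ ≤ span F (Set.range (Sum.elim e f)) := by
    refine hsp₀.trans (span_mono ?_)
    rintro x (⟨i, rfl⟩ | ⟨i, rfl⟩)
    · exact ⟨Sum.inl (ε i), by simp [e]⟩
    · exact ⟨Sum.inr (ε i), by simp [f]⟩
  have hli : LinearIndependent F (Sum.elim e f) := by
    apply linearIndependent_of_dual_pairing (B := B) (Sum.elim e f) (Sum.elim f e)
    · rintro (i | i)
      · exact hef i
      · show B (f i) (e i) ≠ 0
        rw [alt_skew hB]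
        exact neg_ne_zero.mpr (hef i)
    · rintro (i | i) (j | j) hij
      · exact (ho i j (fun h => hij (by rw [h]))).2.1
      · show B (e i) (e j) = 0
        by_cases h : i = j
        · rw [h]; exact hB _
        · exact (ho i j h).1
      · show B (f i) (f j) = 0
        by_cases h : i = j
        · rw [h]; exact hB _
        · exact (ho i j h).2.2.2
      · exact (ho i j (fun h => hij (by rw [h]))).2.2.1
  let b : Basis (Fin k ⊕ Fin k) F V := Basis.mk hli hsp
  have hbl : ∀ i, b (Sum.inl i) = e i := fun i => by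
    rw [Basis.mk_apply]; rfl
  have hbr : ∀ i, b (Sum.inr i) = f i := fun i => by
    rw [Basis.mk_apply]; rfl
  have hkdim : k = a' * t := by
    have h1 : finrank F V = Fintype.card (Fin k ⊕ Fin k) := Module.finrank_eq_card_basis b
    rw [Fintype.card_sum, Fintype.card_fin, hdim] at h1
    have h2 : 2 * (a' * t) = 2 * k := by rw [two_mul k, ← h1]; ring
    exact (Nat.eq_of_mul_eq_mul_left (by norm_num : 0 < 2) h2).symm
  have hcardk : (Finset.univ : Finset (Fin k)).card = a' * t := by
    rw [Finset.card_univ, Fintype.card_fin]; exact hkdim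
  obtain ⟨P, hP⟩ := exists_invPartition τ hτ a' ha' t Finset.univ
    (fun i _ => Finset.mem_univ _) hcardk
  have hPc : P.card = t := invPartition_card τ a' ha' t Finset.univ hcardk P hP
  obtain ⟨h1, h2, h3, h4⟩ := hP
  let eP : ↥P ≃ Fin t := Fintype.equivFinOfCardEq (by rw [Fintype.card_coe]; exact hPc)
  let Q : Fin t → Finset (Fin k) := fun j => ((eP.symm j : ↥P) : Finset _)
  have hQmem : ∀ j, Q j ∈ P := fun j => (eP.symm j).2
  have hQe : ∀ (S : Finset (Fin k)) (hS : S ∈ P), Q (eP ⟨S, hS⟩) = S := by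
    intro S hS
    show ((eP.symm (eP ⟨S, hS⟩) : ↥P) : Finset _) = S
    rw [Equiv.symm_apply_apply]
  have hQdis : ∀ j j', j ≠ j' → Disjoint (Q j) (Q j') := by
    intro j j' hjj'
    apply h2 _ (hQmem j) _ (hQmem j')
    intro h
    apply hjj'
    have : (eP.symm j : ↥P) = eP.symm j' := Subtype.ext h
    exact eP.symm.injective this
  let R : Fin t → Finset (Fin k ⊕ Fin k) := fun j => (Q j).disjSum (Q j)
  have hRl : ∀ j i, Sum.inl i ∈ R j ↔ i ∈ Q j := fun j i => Finset.inl_mem_disjSum
  have hRr : ∀ j i, Sum.inr i ∈ R j ↔ i ∈ Q j := fun j i => Finset.inr_mem_disjSum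
  have hRdis : ∀ j j', j ≠ j' → Disjoint (R j) (R j') := by
    intro j j' hjj'
    rw [Finset.disjoint_left]
    rintro (i | i) hi hi'
    · exact Finset.disjoint_left.mp (hQdis j j' hjj') ((hRl j i).mp hi) ((hRl j' i).mp hi')
    · exact Finset.disjoint_left.mp (hQdis j j' hjj') ((hRr j i).mp hi) ((hRr j' i).mp hi')
  let D : Fin t → Submodule F V := fun j => span F (b '' (R j : Set (Fin k ⊕ Fin k)))
  have hDdef : ∀ j, D j = span F (b '' (R j : Set (Fin k ⊕ Fin k))) := fun j => rfl
  have heD : ∀ j i, i ∈ Q j → e i ∈ D j := by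
    intro j i hi
    rw [hDdef, ← hbl]
    exact subset_span ⟨Sum.inl i, Finset.mem_coe.mpr ((hRl j i).mpr hi), rfl⟩
  have hfD : ∀ j i, i ∈ Q j → f i ∈ D j := by
    intro j i hi
    rw [hDdef, ← hbr]
    exact subset_span ⟨Sum.inr i, Finset.mem_coe.mpr ((hRr j i).mpr hi), rfl⟩
  have hplane : ∀ j i, i ∈ Q j → span F {e i, f i} ≤ D j := by
    intro j i hi
    rw [span_le]
    rintro x (rfl | rfl)
    · exact heD j i hi
    · exact hfD j i hi
  -- orthogonality
  have horth : ∀ j j', j ≠ j' → ∀ u ∈ D j, ∀ v ∈ D j', B u v = 0 := by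
    intro j j' hjj' u hu v hv
    have hgen : ∀ p ∈ R j, ∀ q ∈ R j', B (b p) (b q) = 0 := by
      rintro (i | i) hp (i' | i') hq
      · have hne : i ≠ i' := fun h =>
          Finset.disjoint_left.mp (hQdis j j' hjj') ((hRl j i).mp hp) (h ▸ (hRl j' i').mp hq)
        rw [hbl, hbl]; exact (ho i i' hne).1
      · have hne : i ≠ i' := fun h =>
          Finset.disjoint_left.mp (hQdis j j' hjj') ((hRl j i).mp hp) (h ▸ (hRr j' i').mp hq)
        rw [hbl, hbr]; exact (ho i i' hne).2.1
      · have hne : i ≠ i' := fun h =>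
          Finset.disjoint_left.mp (hQdis j j' hjj') ((hRr j i).mp hp) (h ▸ (hRl j' i').mp hq)
        rw [hbr, hbl]; exact (ho i i' hne).2.2.1
      · have hne : i ≠ i' := fun h =>
          Finset.disjoint_left.mp (hQdis j j' hjj') ((hRr j i).mp hp) (h ▸ (hRr j' i').mp hq)
        rw [hbr, hbr]; exact (ho i i' hne).2.2.2
    have hstep1 : ∀ p ∈ R j, ∀ v ∈ D j', B (b p) v = 0 := by
      intro p hp v hv
      have hle : D j' ≤ LinearMap.ker (B (b p)) := by
        rw [hDdef, span_le]
        rintro _ ⟨q, hq, rfl⟩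
        rw [SetLike.mem_coe, LinearMap.mem_ker]
        exact hgen p hp q (Finset.mem_coe.mp hq)
      exact LinearMap.mem_ker.mp (hle hv)
    have hle : D j ≤ LinearMap.ker (B.flip v) := by
      rw [hDdef, span_le]
      rintro _ ⟨p, hp, rfl⟩
      rw [SetLike.mem_coe, LinearMap.mem_ker, LinearMap.BilinForm.flip_apply]
      exact hstep1 p (Finset.mem_coe.mp hp) v hv
    have := hle hu
    rwa [LinearMap.mem_ker, LinearMap.BilinForm.flip_apply] at this
  have htop : (⨆ j, D j) = ⊤ := by
    show (⨆ j, span F (b '' (R j : Set (Fin k ⊕ Fin k)))) = ⊤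
    rw [← Submodule.span_iUnion, ← Set.image_iUnion]
    have hU : (⋃ j, (R j : Set (Fin k ⊕ Fin k))) = Set.univ := by
      rw [Set.eq_univ_iff_forall]
      rintro (i | i)
      · obtain ⟨S, hS, hi⟩ := (h3 i).mp (Finset.mem_univ i)
        rw [Set.mem_iUnion]
        refine ⟨eP ⟨S, hS⟩, Finset.mem_coe.mpr ((hRl _ i).mpr ?_)⟩
        rw [hQe S hS]
        exact hi
      · obtain ⟨S, hS, hi⟩ := (h3 i).mp (Finset.mem_univ i)
        rw [Set.mem_iUnion]
        refine ⟨eP ⟨S, hS⟩, Finset.mem_coe.mpr ((hRr _ i).mpr ?_)⟩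
        rw [hQe S hS]
        exact hi
    rw [hU, Set.image_univ, b.span_eq]
  refine ⟨D, ?_, ?_, htop, horth, ?_, ?_⟩
  · intro j
    have hr : b '' (R j : Set (Fin k ⊕ Fin k)) =
        Set.range (b ∘ (Subtype.val : ↥(R j) → Fin k ⊕ Fin k)) := by
      ext y
      simp only [Set.mem_image, Finset.mem_coe, Set.mem_range, Function.comp_apply,
        Subtype.exists, exists_prop]
    show finrank F (span F (b '' (R j : Set (Fin k ⊕ Fin k)))) = 2 * a'
    rw [hr, finrank_span_eq_card (b.linearIndependent.comp _ Subtype.val_injective),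
      Fintype.card_coe, Finset.card_disjSum, h1 _ (hQmem j), two_mul]
  · intro j
    show Disjoint (span F (b '' (R j : Set (Fin k ⊕ Fin k))))
      (⨆ (j') (_ : j' ≠ j), span F (b '' (R j' : Set (Fin k ⊕ Fin k))))
    rw [← Submodule.span_iUnion₂, ← Set.image_iUnion₂]
    apply b.linearIndependent.disjoint_span_image
    rw [Set.disjoint_iUnion₂_right]
    intro j' hj'
    rw [Finset.disjoint_coe]
    exact hRdis j j' (Ne.symm hj')
  · -- nondegeneracy of the summands
    intro j u hu hu0
    by_contra hno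
    push Not at hno
    apply hu0
    apply hnd u Submodule.mem_top
    intro v _
    have hle : (⨆ j, D j) ≤ LinearMap.ker (B u) := by
      apply iSup_le
      intro j' v hv
      rw [LinearMap.mem_ker]
      by_cases hjj' : j = j'
      · subst hjj'
        exact hno v hv
      · exact horth j j' hjj' u hu v hv
    have hv : v ∈ (⨆ j, D j) := by rw [htop]; exact Submodule.mem_top
    exact LinearMap.mem_ker.mp (hle hv)
  · -- the permutation
    let σ' : ↥P → ↥P := fun S => ⟨(S : Finset _).image τ, h4 _ S.2⟩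
    have hinv : Function.Involutive σ' := by
      intro S
      apply Subtype.ext
      show ((S : Finset _).image τ).image τ = S
      rw [Finset.image_image]
      have : τ ∘ τ = id := funext hτ
      rw [this, Finset.image_id]
    let σ : Equiv.Perm (Fin t) := (eP.symm.trans (hinv.toPerm σ')).trans eP
    have hQσ : ∀ j, Q (σ j) = (Q j).image τ := by
      intro j
      show ((eP.symm (eP (σ' (eP.symm j))) : ↥P) : Finset (Fin k)) = _
      rw [Equiv.symm_apply_apply]
    have hτQ : ∀ j i, i ∈ Q j → τ i ∈ Q (σ j) := by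
      intro j i hi
      rw [hQσ j]
      exact Finset.mem_image_of_mem τ hi
    refine ⟨σ, fun j => ?_⟩
    apply le_antisymm
    · rw [hDdef j, Submodule.map_span, span_le]
      rintro _ ⟨_, ⟨p, hp, rfl⟩, rfl⟩
      rcases p with i | i
      · have hi : i ∈ Q j := (hRl j i).mp (Finset.mem_coe.mp hp)
        rw [hbl]
        exact hplane (σ j) (τ i) (hτQ j i hi) (hge i).1
      · have hi : i ∈ Q j := (hRr j i).mp (Finset.mem_coe.mp hp)
        rw [hbr]
        exact hplane (σ j) (τ i) (hτQ j i hi) (hge i).2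
    · have hback : ∀ x : V, g x ∈ D j → x ∈ (D j).map g := by
        intro x hx
        refine ⟨z⁻¹ • g x, Submodule.smul_mem _ _ hx, ?_⟩
        rw [map_smul, hz, smul_smul, inv_mul_cancel₀ hz0, one_smul]
      have hτi : ∀ i ∈ Q j, g (e (τ i)) ∈ D j ∧ g (f (τ i)) ∈ D j := by
        intro i hi
        have h := hge (τ i)
        rw [hτ i] at h
        exact ⟨hplane j i hi h.1, hplane j i hi h.2⟩
      rw [hDdef (σ j), span_le]
      rintro _ ⟨p, hp, rfl⟩
      rcases p with i' | i'
      · have hi' : i' ∈ Q (σ j) := (hRl (σ j) i').mp (Finset.mem_coe.mp hp)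
        rw [hQσ j] at hi'
        obtain ⟨i, hi, rfl⟩ := Finset.mem_image.mp hi'
        rw [hbl]
        exact hback _ (hτi i hi).1
      · have hi' : i' ∈ Q (σ j) := (hRr (σ j) i').mp (Finset.mem_coe.mp hp)
        rw [hQσ j] at hi'
        obtain ⟨i, hi, rfl⟩ := Finset.mem_image.mp hi'
        rw [hbr]
        exact hback _ (hτi i hi).2

end Decomp

end Cfsg.Agent.Lib.Helper23
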