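/-
helper23: module REED-[NONTRIV] of helper20's sheet (S2343): an irreducible representation of
degree at least two of a simple group is not trivial on any non-trivial subgroup.
-/
import Mathlib
import Cfsg.Agent.Lib.Helper20.ReeD.Defs

set_option autoImplicit false

namespace Cfsg.Agent.Lib.Helper23.ReeD

open Cfsg.Agent.Lib.Helper20.ReeD

/-- **REED-[NONTRIV]** -/
theorem not_trivial_on_of_simple {G : Type*} [Group G] [IsSimpleGroup G] {k : ℕ} (hk : 2 ≤ k)
    (ρ : Representation ℂ G (Fin k → ℂ)) (hρ : ρ.IsIrreducible) (A : Subgroup G) (hA : A ≠ ⊥) :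
    ¬ ∀ a ∈ A, ρ a = 1 := by
  intro htriv
  have hker : MonoidHom.ker ρ = ⊤ := by
    rcases (MonoidHom.normal_ker ρ).eq_bot_or_eq_top with h | h
    · exfalso
      apply hA
      rw [eq_bot_iff]
      intro a ha
      rw [← h]
      exact MonoidHom.mem_ker.mpr (htriv a ha)
    · exact h
  have hall : ∀ g, ρ g = 1 := fun g => MonoidHom.mem_ker.mp (hker ▸ Subgroup.mem_top g)
  let i0 : Fin k := ⟨0, by omega⟩
  let i1 : Fin k := ⟨1, by omega⟩
  have h01 : i1 ≠ i0 := by
    intro h
    have := congrArg Fin.val h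
    simp [i0, i1] at this
  let W : Subrepresentation ρ :=
    ⟨Submodule.span ℂ {Pi.single i0 (1 : ℂ)}, by
      intro g v hv
      rw [hall g]
      exact hv⟩
  have he0 : (Pi.single i0 (1 : ℂ) : Fin k → ℂ) ∈ W.toSubmodule := Submodule.subset_span rfl
  rcases hρ.eq_bot_or_eq_top W with h | h
  · rw [h] at he0
    have h0 : (Pi.single i0 (1 : ℂ) : Fin k → ℂ) = 0 := (Submodule.mem_bot ℂ).mp he0
    have := congrFun h0 i0
    simp at this
  · have he1 : (Pi.single i1 (1 : ℂ) : Fin k → ℂ) ∈ W.toSubmodule := by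
      rw [h]
      exact Submodule.mem_top
    obtain ⟨c, hc⟩ := Submodule.mem_span_singleton.mp he1
    have := congrFun hc i1
    simp [Pi.single_apply, h01] at this

end Cfsg.Agent.Lib.Helper23.ReeD
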