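/-
helper23: module REED-[REP] of helper20's sheet (S2343): the character and the dimensions of
invariants of a complex representation on `Fin k → ℂ` form a `CharData`.
-/
import Mathlib
import Cfsg.Agent.Lib.Helper20.ReeD.Defs

set_option autoImplicit false

namespace Cfsg.Agent.Lib.Helper23.ReeD

open Cfsg.Agent.Lib.Helper20.ReeD

/-- the restriction of a representation to a subgroup -/
noncomputable def resRep {G : Type*} [Group G] {k : ℕ} (ρ : Representation ℂ G (Fin k → ℂ))
    (A : Subgroup G) : Representation ℂ ↥A (Fin k → ℂ) := ρ.comp A.subtype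

theorem resRep_apply {G : Type*} [Group G] {k : ℕ} (ρ : Representation ℂ G (Fin k → ℂ))
    (A : Subgroup G) (a : ↥A) : resRep ρ A a = ρ (a : G) := rfl

/-- the sum of the traces over a subgroup is `|A|` times the dimension of the invariants -/
theorem sum_trace_eq {G : Type*} [Group G] {k : ℕ} (ρ : Representation ℂ G (Fin k → ℂ))
    (A : Subgroup G) [Fintype A] :
    ∑ a : A, LinearMap.trace ℂ (Fin k → ℂ) (ρ (a : G)) =
      (Fintype.card A : ℂ) * (Module.finrank ℂ ↥(Representation.invariants (resRep ρ A)) : ℂ) := by
  have hne : (Fintype.card ↥A : ℂ) ≠ 0 := by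
    have : Fintype.card ↥A ≠ 0 := Fintype.card_ne_zero
    exact_mod_cast this
  let _ : Invertible (Fintype.card ↥A : ℂ) := invertibleOfNonzero hne
  have hproj := Representation.isProj_averageMap (resRep ρ A)
  have htr := LinearMap.IsProj.trace hproj
  have havg : (resRep ρ A).averageMap = (⅟(Fintype.card ↥A : ℂ)) • ∑ a : ↥A, ρ (a : G) := by
    simp only [Representation.averageMap, GroupAlgebra.average, map_smul, map_sum,
      Representation.asAlgebraHom_of]
    rfl
  rw [havg, map_smul, map_sum, smul_eq_mul] at htr
  rw [← htr, ← mul_assoc, mul_invOf_self, one_mul]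

/-- **REED-[REP]** -/
theorem exists_charData {G : Type*} [Group G] [Finite G] {k : ℕ}
    (ρ : Representation ℂ G (Fin k → ℂ)) :
    ∃ C : CharData G k, ∀ A : Subgroup G, C.I A = k → ∀ a ∈ A, ρ a = 1 := by
  refine ⟨{ χ := fun g => LinearMap.trace ℂ (Fin k → ℂ) (ρ g)
            I := fun A => Module.finrank ℂ ↥(Representation.invariants (resRep ρ A))
            conj := ?_
            one := ?_
            sum := ?_
            mono := ?_ }, ?_⟩
  · intro g x
    have h1 : ρ (g * x * g⁻¹) = ρ g * (ρ x * ρ g⁻¹) := by rw [map_mul, map_mul, mul_assoc]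
    have h2 : ρ x * ρ g⁻¹ * ρ g = ρ x := by
      rw [mul_assoc, ← map_mul, inv_mul_cancel, map_one, mul_one]
    rw [h1, LinearMap.trace_mul_comm, h2]
  · rw [map_one, LinearMap.trace_one, Module.finrank_fin_fun]
  · intro A _
    exact sum_trace_eq ρ A
  · intro A B hAB
    apply Submodule.finrank_mono
    intro v hv
    rw [Representation.mem_invariants] at hv ⊢
    intro a
    exact hv ⟨a, hAB a.2⟩
  · intro A hA a ha
    simp only at hA
    have htop : Representation.invariants (resRep ρ A) = ⊤ := by
      apply Submodule.eq_top_of_finrank_eq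
      rw [hA, Module.finrank_fin_fun]
    apply LinearMap.ext
    intro v
    have hv : v ∈ Representation.invariants (resRep ρ A) := htop ▸ Submodule.mem_top
    rw [Representation.mem_invariants] at hv
    exact hv ⟨a, ha⟩

end Cfsg.Agent.Lib.Helper23.ReeD
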