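-- helper23: module S2127-[C-PHI] of helper19's `Out(²G₂(q))` project (S2127):
-- a field automorphism of `K` induces (entrywise) an automorphism of `twistedG2 K e`.
import Mathlib
import Cfsg.Agent.S1080

set_option autoImplicit false

namespace Cfsg.Agent.Lib.Helper23.ReeOutPhi

open Cfsg Cfsg.Lie

variable {F : Type*} [Field F]

theorem x_map (D : ChevalleyDatum) (f : F ≃+* F) (r : ℕ) (t : F) :
    (D.x F r t).map f = D.x F r (f t) := by
  unfold ChevalleyDatum.x
  split_ifs with h
  · exact Cfsg.Agent.S1080.xMat_map D f ⟨r, h⟩ t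
  · exact Matrix.map_one f (map_zero f) (map_one f)

/-- the word with all parameters mapped by `f` -/
def mapWord (f : F ≃+* F) (w : List (ℕ × F)) : List (ℕ × F) := w.map fun p => (p.1, f p.2)

theorem wordMat_map (D : ChevalleyDatum) (f : F ≃+* F) (w : List (ℕ × F)) :
    (D.wordMat F w).map f = D.wordMat F (mapWord f w) := by
  unfold ChevalleyDatum.wordMat mapWord
  induction w with
  | nil =>
    simp only [List.map_nil, List.prod_nil]
    exact Matrix.map_one f (map_zero f) (map_one f)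
  | cons p w ih =>
    simp only [List.map_cons, List.prod_cons]
    rw [Matrix.map_mul, x_map, ih]

theorem mapWord_negWord (D : ChevalleyDatum) (f : F ≃+* F) (w : List (ℕ × F)) :
    mapWord f (D.negWord w) = D.negWord (mapWord f w) := by
  unfold mapWord ChevalleyDatum.negWord
  rw [List.map_map, List.map_map]
  apply List.map_congr_left
  intro p _
  simp

theorem mapWord_reeWordU (f : F ≃+* F) (e : ℕ) (t u v : F) :
    mapWord f (reeWordU e t u v) = reeWordU e (f t) (f u) (f v) := by
  unfold mapWord reeWordU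
  simp

theorem mapWord_reeWordV (f : F ≃+* F) (e : ℕ) (t u v : F) :
    mapWord f (reeWordV e t u v) = reeWordV e (f t) (f u) (f v) := by
  unfold reeWordV
  rw [mapWord_negWord, mapWord_reeWordU]

theorem mapWord_mem_g2Words (f : F ≃+* F) (e : ℕ) {w : List (ℕ × F)} (hw : w ∈ g2Words F e) :
    mapWord f w ∈ g2Words F e := by
  obtain ⟨t, u, v, h | h⟩ := hw
  · exact ⟨f t, f u, f v, Or.inl (by rw [h, mapWord_reeWordU])⟩
  · exact ⟨f t, f u, f v, Or.inr (by rw [h, mapWord_reeWordV])⟩

theorem mapWord_symm (f : F ≃+* F) (w : List (ℕ × F)) : mapWord f (mapWord f.symm w) = w := by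
  unfold mapWord
  rw [List.map_map]
  conv_rhs => rw [← List.map_id w]
  apply List.map_congr_left
  intro p _
  simp

theorem map_twistedG2 (e : ℕ) (f : F ≃+* F) :
    (twistedG2 F e).map ((Cfsg.Agent.S1080.glMap chevG2 f : GL chevG2.Idx F ≃* GL chevG2.Idx F) :
      GL chevG2.Idx F →* GL chevG2.Idx F) = twistedG2 F e := by
  unfold twistedG2 ChevalleyDatum.genSubgroup
  rw [MonoidHom.map_closure]
  congr 1
  ext g
  simp only [Set.mem_image, Set.mem_ofPred_eq]
  constructor
  · rintro ⟨g', ⟨w, hw, hg'⟩, rfl⟩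
    refine ⟨mapWord f w, mapWord_mem_g2Words f e hw, ?_⟩
    change ((Cfsg.Agent.S1080.glMap chevG2 f g' : GL chevG2.Idx F) :
      Matrix chevG2.Idx chevG2.Idx F) = _
    rw [Cfsg.Agent.S1080.glMap_coe, hg', wordMat_map]
  · rintro ⟨w, hw, hg⟩
    refine ⟨(Cfsg.Agent.S1080.glMap chevG2 f).symm g,
      ⟨mapWord f.symm w, mapWord_mem_g2Words f.symm e hw, ?_⟩, ?_⟩
    · have h1 : ((Cfsg.Agent.S1080.glMap chevG2 f ((Cfsg.Agent.S1080.glMap chevG2 f).symm g) :
          GL chevG2.Idx F) : Matrix chevG2.Idx chevG2.Idx F)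
          = (((Cfsg.Agent.S1080.glMap chevG2 f).symm g : GL chevG2.Idx F) :
            Matrix chevG2.Idx chevG2.Idx F).map f := Cfsg.Agent.S1080.glMap_coe chevG2 f _
      rw [MulEquiv.apply_symm_apply, hg] at h1
      have h2 := wordMat_map chevG2 f (mapWord f.symm w)
      rw [mapWord_symm] at h2
      have h3 : (((Cfsg.Agent.S1080.glMap chevG2 f).symm g : GL chevG2.Idx F) :
          Matrix chevG2.Idx chevG2.Idx F).map f
          = (chevG2.wordMat F (mapWord f.symm w)).map f := by rw [← h1, h2]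
      have hinj : Function.Injective (fun M : Matrix chevG2.Idx chevG2.Idx F => M.map f) :=
        Matrix.map_injective f.injective
      exact hinj h3
    · exact MulEquiv.apply_symm_apply _ _

/-- **MODULE S2127-[C-PHI]** -/
theorem exists_fieldAut {K : Type*} [Field K] (e : ℕ) (φ : K ≃+* K) :
    ∃ Φ : MulAut ↥(Cfsg.Lie.twistedG2 K e), ∀ g,
      ((Φ g : ↥(Cfsg.Lie.twistedG2 K e)) : GL Cfsg.Lie.chevG2.Idx K) =
        Cfsg.Agent.S1080.glMap Cfsg.Lie.chevG2 φ g := by
  refine ⟨((Cfsg.Agent.S1080.glMap chevG2 φ).subgroupMap (twistedG2 K e)).trans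
    (MulEquiv.subgroupCongr (map_twistedG2 e φ)), ?_⟩
  intro g
  rfl

end Cfsg.Agent.Lib.Helper23.ReeOutPhi
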