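import Mathlib
import Cfsg.Agent.Lib.Helper19.GLBlock

/-!
# Block-diagonal matrices `diag(X, Y)` inside `SL`: the hyperplane involution `diag(-1, 1)`

Matrix-level facts used for the standard subgroup `SL_{n-1}(q)` of `SL_n(q)` (helper23).
-/

set_option autoImplicit false

namespace Cfsg.Agent.Lib.Helper23

open Matrix Cfsg.Agent.Lib.Helper19

section Block

variable {F : Type*} [Field F] {α β γ : Type*} [Fintype α] [DecidableEq α] [Fintype β]
  [DecidableEq β] [Fintype γ] [DecidableEq γ] (e : α ⊕ β ≃ γ)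

/-- the matrix `diag(-1, 1)`. -/
noncomputable def tMat : Matrix γ γ F := blk e ((-1 : Matrix α α F), (1 : Matrix β β F))

theorem tMat_eq_tGL : (tMat e : Matrix γ γ F) = ((tGL (F := F) e : GL γ F) : Matrix γ γ F) := rfl

theorem blk_mul_tMat (p : Matrix α α F × Matrix β β F) :
    blk e p * tMat e = tMat e * blk e p := by
  rw [tMat, ← map_mul, ← map_mul]
  congr 1
  ext <;> simp

theorem det_blk (p : Matrix α α F × Matrix β β F) : (blk e p).det = p.1.det * p.2.det := by
  rw [blk_apply, Matrix.det_reindexAlgEquiv, Matrix.det_fromBlocks_zero₂₁]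

theorem blk_smul_one (a b : F) :
    blk e ((a • (1 : Matrix α α F)), (b • (1 : Matrix β β F))) =
      reindexAlgEquiv F F e (fromBlocks (a • (1 : Matrix α α F)) 0 0 (b • (1 : Matrix β β F))) :=
  rfl

/-- `diag(a, a)` is the scalar matrix `a`. -/
theorem blk_scalar (a : F) :
    blk e ((a • (1 : Matrix α α F)), (a • (1 : Matrix β β F))) = a • (1 : Matrix γ γ F) := by
  have h : fromBlocks (a • (1 : Matrix α α F)) 0 0 (a • (1 : Matrix β β F)) =
      a • (1 : Matrix (α ⊕ β) (α ⊕ β) F) := by
    rw [← fromBlocks_one, fromBlocks_smul]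
    simp
  rw [blk_apply]
  simp only []
  rw [h, map_smul, map_one]

theorem smul_eq_smul_cases {m n : Type*} {a a' : F} {P : Matrix m n F} (h : a • P = a' • P) :
    a = a' ∨ P = 0 := by
  have h1 : (a - a') • P = 0 := by rw [sub_smul, h, sub_self]
  rcases smul_eq_zero.mp h1 with h2 | h2
  · left; exact sub_eq_zero.mp h2
  · right; exact h2

/-- If `z g = g z'` with `z = diag(a, b)`, `a ≠ b`, `z' = diag(a', b')`, `g` invertible, the first block
of size at least two and the second block of size one, then `g` is block diagonal. -/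
theorem exists_blk_of_conj [Unique β] (hα : 1 < Fintype.card α) (g g' : Matrix γ γ F)
    (hgg' : g * g' = 1) (a b a' b' : F) (hab : a ≠ b)
    (h : blk e ((a • (1 : Matrix α α F)), (b • (1 : Matrix β β F))) * g =
      g * blk e ((a' • (1 : Matrix α α F)), (b' • (1 : Matrix β β F)))) :
    ∃ p : Matrix α α F × Matrix β β F, blk e p = g := by
  set R := reindexAlgEquiv F F e with hR
  set g₀ := R.symm g with hg₀
  set g₀' := R.symm g' with hg₀'
  have hg : g = R g₀ := by rw [hg₀, AlgEquiv.apply_symm_apply]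
  have hg' : g' = R g₀' := by rw [hg₀', AlgEquiv.apply_symm_apply]
  have h1 : fromBlocks (a • (1 : Matrix α α F)) 0 0 (b • (1 : Matrix β β F)) * g₀ =
      g₀ * fromBlocks (a' • (1 : Matrix α α F)) 0 0 (b' • (1 : Matrix β β F)) := by
    apply R.injective
    rw [map_mul, map_mul, ← hg]
    exact h
  have h2 : g₀ * g₀' = 1 := by
    apply R.injective
    rw [map_mul, ← hg, ← hg', hgg', map_one]
  set P := g₀.toBlocks₁₁ with hP
  set Q := g₀.toBlocks₁₂ with hQ
  set R' := g₀.toBlocks₂₁ with hR'
  set S := g₀.toBlocks₂₂ with hS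
  have hg₀b : g₀ = fromBlocks P Q R' S := (fromBlocks_toBlocks g₀).symm
  have hg₀'b : g₀' = fromBlocks g₀'.toBlocks₁₁ g₀'.toBlocks₁₂ g₀'.toBlocks₂₁ g₀'.toBlocks₂₂ :=
    (fromBlocks_toBlocks g₀').symm
  rw [hg₀b, fromBlocks_multiply, fromBlocks_multiply, fromBlocks_inj] at h1
  obtain ⟨h11, h12, h21, h22⟩ := h1
  simp only [Matrix.smul_mul, Matrix.one_mul, Matrix.zero_mul, add_zero, zero_add, Matrix.mul_smul,
    Matrix.mul_one, Matrix.mul_zero] at h11 h12 h21 h22
  rw [hg₀b, hg₀'b, fromBlocks_multiply, ← fromBlocks_one, fromBlocks_inj] at h2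
  obtain ⟨k11, -, -, k22⟩ := h2
  -- a = a'
  have haa' : a = a' := by
    rcases smul_eq_smul_cases h11 with h3 | h3
    · exact h3
    · exfalso
      rw [h3, Matrix.zero_mul, zero_add] at k11
      obtain ⟨i, j, hij⟩ := Fintype.one_lt_card_iff.mp hα
      have e1 := congrFun (congrFun k11 i) i
      have e2 := congrFun (congrFun k11 j) j
      have e3 := congrFun (congrFun k11 i) j
      rw [Matrix.mul_apply, Fintype.sum_unique] at e1 e2 e3
      rw [Matrix.one_apply_eq] at e1 e2
      rw [Matrix.one_apply_ne hij] at e3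
      rcases mul_eq_zero.mp e3 with h4 | h4
      · rw [h4, zero_mul] at e1; exact zero_ne_one e1
      · rw [h4, mul_zero] at e2; exact zero_ne_one e2
  have hR'0 : R' = 0 := by
    rcases smul_eq_smul_cases h21 with h3 | h3
    · exact absurd (h3.trans haa'.symm).symm hab
    · exact h3
  have hbb' : b = b' := by
    rcases smul_eq_smul_cases h22 with h3 | h3
    · exact h3
    · exfalso
      rw [h3, hR'0, Matrix.zero_mul, Matrix.zero_mul, add_zero] at k22
      have e1 := congrFun (congrFun k22 default) default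
      rw [Matrix.one_apply_eq, Matrix.zero_apply] at e1
      exact zero_ne_one e1
  have hQ0 : Q = 0 := by
    rcases smul_eq_smul_cases h12 with h3 | h3
    · exact absurd (h3.trans hbb'.symm) hab
    · exact h3
  refine ⟨(P, S), ?_⟩
  rw [blk_apply, hg, ← hR, hg₀b, hQ0, hR'0]

end Block

end Cfsg.Agent.Lib.Helper23
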