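/-
helper23: project S4538 (helper82), module [M3]: order of the unitriangular group, and the inner
products of a class function vanishing on `U ∖ 1` with the principal series / Gelfand–Graev characters.
All declarations live in `Cfsg.Agent.Lib.Helper23.SLDZM3`.
-/
import Mathlib
import Cfsg.Agent.Lib.Helper82.SLDZ.Defs
import Cfsg.Prelude.Def_Solvable

set_option autoImplicit false

open Cfsg Matrix
open scoped MatrixGroups ComplexConjugate
open Cfsg.Agent.Lib.Helper79.BrauerN (linFun)
open Cfsg.Agent.Lib.Helper5.GLU (permGL)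
open Cfsg.Agent.Lib.Helper82.SLDZ

namespace Cfsg.Agent.Lib.Helper23.SLDZM3

/-! ### Upper triangular matrices with prescribed entries -/

section mats

variable {F : Type*} [Field F] {n : ℕ}

/-- The upper triangular matrix with diagonal `d` and entries `f` above the diagonal. -/
def bMat (d : Fin n → Fˣ) (f : (j : Fin n) → (Fin j → F)) : Matrix (Fin n) (Fin n) F :=
  Matrix.of fun i j => if h : i < j then f j ⟨i, h⟩ else if i = j then (d i : F) else 0

theorem bMat_apply_lt (d : Fin n → Fˣ) (f : (j : Fin n) → (Fin j → F)) {i j : Fin n} (h : i < j) :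
    bMat d f i j = f j ⟨i, h⟩ := by
  rw [bMat, of_apply, dif_pos h]

theorem bMat_apply_self (d : Fin n → Fˣ) (f : (j : Fin n) → (Fin j → F)) (i : Fin n) :
    bMat d f i i = (d i : F) := by
  rw [bMat, of_apply, dif_neg (lt_irrefl i), if_pos rfl]

theorem bMat_apply_gt (d : Fin n → Fˣ) (f : (j : Fin n) → (Fin j → F)) {i j : Fin n} (h : j < i) :
    bMat d f i j = 0 := by
  rw [bMat, of_apply, dif_neg (not_lt.mpr h.le), if_neg (ne_of_gt h)]

theorem bMat_blockTriangular (d : Fin n → Fˣ) (f : (j : Fin n) → (Fin j → F)) :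
    (bMat d f).BlockTriangular id := fun _ _ hji => bMat_apply_gt d f hji

theorem det_bMat (d : Fin n → Fˣ) (f : (j : Fin n) → (Fin j → F)) :
    (bMat d f).det = ∏ i, (d i : F) := by
  rw [det_of_isUpperTriangular (bMat_blockTriangular d f)]
  apply Finset.prod_congr rfl
  intro i _
  exact bMat_apply_self d f i

theorem det_bMat_ne_zero (d : Fin n → Fˣ) (f : (j : Fin n) → (Fin j → F)) :
    (bMat d f).det ≠ 0 := by
  rw [det_bMat]
  exact Finset.prod_ne_zero_iff.2 (fun i _ => (d i).ne_zero)

/-- The same matrix as an element of `GL_n(F)`. -/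
noncomputable def bGL (d : Fin n → Fˣ) (f : (j : Fin n) → (Fin j → F)) : GL (Fin n) F :=
  Matrix.GeneralLinearGroup.mkOfDetNeZero (bMat d f) (det_bMat_ne_zero d f)

theorem coe_bGL (d : Fin n → Fˣ) (f : (j : Fin n) → (Fin j → F)) :
    ((bGL d f : GL (Fin n) F) : Matrix (Fin n) (Fin n) F) = bMat d f := rfl

theorem bGL_mem_borel (d : Fin n → Fˣ) (f : (j : Fin n) → (Fin j → F)) :
    bGL d f ∈ upperTriangularGL n F := bMat_blockTriangular d f

theorem diag_ne_zero {b : GL (Fin n) F} (hb : b ∈ upperTriangularGL n F) (i : Fin n) :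
    (b : Matrix (Fin n) (Fin n) F) i i ≠ 0 := by
  have h1 : (b : Matrix (Fin n) (Fin n) F).det = ∏ i, (b : Matrix (Fin n) (Fin n) F) i i :=
    det_of_isUpperTriangular hb
  have h2 : (b : Matrix (Fin n) (Fin n) F).det ≠ 0 := by
    have := Matrix.GeneralLinearGroup.det b |>.ne_zero
    simpa using this
  rw [h1] at h2
  exact (Finset.prod_ne_zero_iff.1 h2) i (Finset.mem_univ i)

/-- The Borel subgroup is parametrised by its diagonal and its entries above the diagonal. -/
noncomputable def borelEquiv :
    ↥(upperTriangularGL n F) ≃ (Fin n → Fˣ) × ((j : Fin n) → (Fin j → F)) where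
  toFun b := (fun i => Units.mk0 _ (diag_ne_zero b.2 i),
    fun j i => ((b : GL (Fin n) F) : Matrix (Fin n) (Fin n) F) ⟨i, i.2.trans j.2⟩ j)
  invFun p := ⟨bGL p.1 p.2, bGL_mem_borel p.1 p.2⟩
  left_inv b := by
    apply Subtype.ext
    apply Units.ext
    ext i j
    show bMat _ _ i j = ((b : GL (Fin n) F) : Matrix (Fin n) (Fin n) F) i j
    rcases lt_trichotomy i j with h | h | h
    · rw [bMat_apply_lt _ _ h]
    · subst h
      rw [bMat_apply_self, Units.val_mk0]
    · rw [bMat_apply_gt _ _ h]
      exact (b.2 h).symm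
  right_inv p := by
    apply Prod.ext
    · funext i
      apply Units.ext
      show bMat p.1 p.2 i i = _
      rw [bMat_apply_self]
    · funext j i
      show bMat p.1 p.2 ⟨i, i.2.trans j.2⟩ j = p.2 j i
      have h : (⟨i, i.2.trans j.2⟩ : Fin n) < j := i.2
      rw [bMat_apply_lt _ _ h]

theorem bGL_one_mem_unitri (f : (j : Fin n) → (Fin j → F)) :
    bGL (fun _ => (1 : Fˣ)) f ∈ unitriGL n F := by
  intro i j hji
  rw [coe_bGL]
  rcases lt_or_eq_of_le hji with h | h
  · rw [bMat_apply_gt _ _ h, one_apply_ne (ne_of_gt h)]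
  · subst h
    rw [bMat_apply_self, one_apply_eq, Units.val_one]

/-- The unitriangular subgroup is parametrised by its entries above the diagonal. -/
noncomputable def unitriEquiv : ↥(unitriGL n F) ≃ ((j : Fin n) → (Fin j → F)) where
  toFun u := fun j i => ((u : GL (Fin n) F) : Matrix (Fin n) (Fin n) F) ⟨i, i.2.trans j.2⟩ j
  invFun f := ⟨bGL (fun _ => 1) f, bGL_one_mem_unitri f⟩
  left_inv u := by
    apply Subtype.ext
    apply Units.ext
    ext i j
    change bMat (fun _ => (1 : Fˣ)) (fun j i => ((u : GL (Fin n) F) : Matrix (Fin n) (Fin n) F)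
      ⟨i, i.2.trans j.2⟩ j) i j = ((u : GL (Fin n) F) : Matrix (Fin n) (Fin n) F) i j
    rcases lt_trichotomy i j with h | h | h
    · rw [bMat_apply_lt _ _ h]
    · subst h
      rw [bMat_apply_self, Units.val_one, u.2 i i le_rfl, one_apply_eq]
    · rw [bMat_apply_gt _ _ h, u.2 i j h.le, one_apply_ne (ne_of_gt h)]
  right_inv f := by
    funext j i
    show bMat _ f ⟨i, i.2.trans j.2⟩ j = f j i
    have h : (⟨i, i.2.trans j.2⟩ : Fin n) < j := i.2
    rw [bMat_apply_lt _ _ h]

theorem mem_unitri_iff_diag {b : GL (Fin n) F} (hb : b ∈ upperTriangularGL n F) :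
    b ∈ unitriGL n F ↔ ∀ i, (b : Matrix (Fin n) (Fin n) F) i i = 1 := by
  constructor
  · intro h i
    rw [h i i le_rfl, one_apply_eq]
  · intro h i j hji
    rcases lt_or_eq_of_le hji with h' | h'
    · rw [one_apply_ne (ne_of_gt h')]
      exact hb h'
    · subst h'
      rw [h, one_apply_eq]

end mats

/-! ### The cardinalities -/

section card

variable {F : Type*} [Field F] [Fintype F] {n : ℕ}

theorem card_upper_entries :
    Nat.card ((j : Fin n) → (Fin j → F)) = ∏ j : Fin n, Fintype.card F ^ (j : ℕ) := by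
  classical
  rw [Nat.card_eq_fintype_card, Fintype.card_pi]
  apply Finset.prod_congr rfl
  intro j _
  rw [Fintype.card_fun, Fintype.card_fin]

theorem card_unitriGL : Nat.card (unitriGL n F) = ∏ j : Fin n, Fintype.card F ^ (j : ℕ) := by
  rw [Nat.card_congr (unitriEquiv (F := F) (n := n)), card_upper_entries]

theorem card_borel : Nat.card (upperTriangularGL n F) =
    (Fintype.card F - 1) ^ n * Nat.card (unitriGL n F) := by
  classical
  rw [Nat.card_congr (borelEquiv (F := F) (n := n)), Nat.card_prod, card_unitriGL,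
    card_upper_entries, Nat.card_eq_fintype_card, Fintype.card_fun, Fintype.card_fin,
    Fintype.card_units]

end card

/-! ### Orthogonality for the multiplicative characters of a finite field -/

section mulchar

variable {F : Type*} [Field F] [Fintype F]

open Classical in
theorem sum_mulChar_apply [Fintype (MulChar F ℂ)] (a : F) (ha : a ≠ 0) :
    ∑ l : MulChar F ℂ, l a = if a = 1 then ((Fintype.card F - 1 : ℕ) : ℂ) else 0 := by
  classical
  by_cases h1 : a = 1
  · rw [if_pos h1, h1]
    simp only [map_one, Finset.sum_const, Finset.card_univ, nsmul_eq_mul, mul_one]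
    have h2 : Fintype.card (MulChar F ℂ) = Fintype.card F - 1 := by
      rw [← Nat.card_eq_fintype_card, MulChar.card_eq_card_units_of_hasEnoughRootsOfUnity F ℂ,
        Nat.card_eq_fintype_card, Fintype.card_units]
    rw [h2]
  · rw [if_neg h1]
    obtain ⟨l₀, hl₀⟩ := MulChar.exists_apply_ne_one_of_hasEnoughRootsOfUnity F ℂ h1
    set T := ∑ l : MulChar F ℂ, l a with hT
    have hshift : T = l₀ a * T := by
      rw [hT, Finset.mul_sum, ← Equiv.sum_comp (Equiv.mulLeft l₀)]
      apply Finset.sum_congr rfl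
      intro l _
      rw [Equiv.coe_mulLeft, MulChar.mul_apply]
    have : (1 - l₀ a) * T = 0 := by linear_combination hshift
    rcases mul_eq_zero.1 this with h | h
    · exact absurd (sub_eq_zero.1 h).symm hl₀
    · exact h

end mulchar

/-! ### Frobenius reciprocity with the induced function on the right -/

section frob

variable {G : Type*} [Group G] [Fintype G]

theorem classInner_indFun_right (H : Subgroup G) [Fintype H] (θ : H → ℂ) {f : G → ℂ}
    (hf : IsClassFunction G f) :
    classInner f (indFun H θ) = (Nat.card H : ℂ)⁻¹ * ∑ h : H, f h * conj (θ h) := by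
  have h1 := Cfsg.Agent.Lib.Helper78.classInner_indFun H θ hf
  have h2 : classInner f (indFun H θ) = conj (classInner (indFun H θ) f) := by
    unfold classInner
    rw [map_mul, map_inv₀, Complex.conj_natCast, map_sum]
    congr 1
    apply Finset.sum_congr rfl
    intro g _
    rw [map_mul, Complex.conj_conj, mul_comm]
  rw [h2, h1]
  unfold classInner
  rw [map_mul, map_inv₀, Complex.conj_natCast, map_sum]
  congr 1
  apply Finset.sum_congr rfl
  intro h _
  rw [map_mul, Complex.conj_conj, mul_comm]

end frob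

/-! ### The module statements -/

variable {F : Type*} [Field F] [Fintype F] {n : ℕ} [Fintype (GL (Fin n) F)]

theorem classInner_indFun_ggFun (f : GL (Fin n) F → ℂ) (hf : IsClassFunction (GL (Fin n) F) f)
    (hvan : ∀ u ∈ unitriGL n F, u ≠ 1 → f u = 0) (ψ₀ : AddChar F ℂ) :
    classInner f (indFun (unitriGL n F) (ggFun ψ₀)) = f 1 / (Nat.card (unitriGL n F) : ℂ) := by
  classical
  haveI : Fintype ↥(unitriGL n F) := Fintype.ofFinite _
  rw [classInner_indFun_right (unitriGL n F) (ggFun ψ₀) hf]
  rw [Finset.sum_eq_single (1 : ↥(unitriGL n F))]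
  · have h1 : ggFun ψ₀ (1 : ↥(unitriGL n F)) = 1 := by
      rw [← linFun_ggHom]
      unfold linFun
      rw [map_one, Units.val_one]
    rw [h1, map_one, mul_one, OneMemClass.coe_one, div_eq_inv_mul]
  · intro u _ hu
    have : ((u : GL (Fin n) F)) ≠ 1 := fun h => hu (Subtype.ext h)
    rw [hvan u u.2 this, zero_mul]
  · intro h
    exact absurd (Finset.mem_univ _) h

open Classical in
theorem sum_borelFun (b : ↥(upperTriangularGL n F)) [Fintype (MulChar F ℂ)] :
    ∑ θ : Fin n → MulChar F ℂ, borelFun θ b =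
      if (b : GL (Fin n) F) ∈ unitriGL n F then (((Fintype.card F - 1) ^ n : ℕ) : ℂ) else 0 := by
  classical
  unfold borelFun
  have h1 := Finset.prod_univ_sum (fun _ : Fin n => (Finset.univ : Finset (MulChar F ℂ)))
    (fun i (l : MulChar F ℂ) => l (((b : GL (Fin n) F) : Matrix (Fin n) (Fin n) F) i i))
  rw [Fintype.piFinset_univ] at h1
  rw [← h1]
  have h2 : ∀ i : Fin n, ∑ l : MulChar F ℂ,
      l (((b : GL (Fin n) F) : Matrix (Fin n) (Fin n) F) i i) =
      if ((b : GL (Fin n) F) : Matrix (Fin n) (Fin n) F) i i = 1 then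
        ((Fintype.card F - 1 : ℕ) : ℂ) else 0 :=
    fun i => sum_mulChar_apply _ (diag_ne_zero b.2 i)
  rw [Finset.prod_congr rfl (fun i _ => h2 i)]
  by_cases hu : (b : GL (Fin n) F) ∈ unitriGL n F
  · rw [if_pos hu]
    have h3 := (mem_unitri_iff_diag b.2).1 hu
    rw [Finset.prod_congr rfl (fun i _ => if_pos (h3 i))]
    rw [Finset.prod_const, Finset.card_univ, Fintype.card_fin]
    push_cast
    rfl
  · rw [if_neg hu]
    have h3 : ¬ ∀ i, ((b : GL (Fin n) F) : Matrix (Fin n) (Fin n) F) i i = 1 :=
      fun h => hu ((mem_unitri_iff_diag b.2).2 h)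
    push_neg at h3
    obtain ⟨i, hi⟩ := h3
    exact Finset.prod_eq_zero (Finset.mem_univ i) (if_neg hi)

theorem sum_classInner_indFun_borelFun (f : GL (Fin n) F → ℂ) (hf : IsClassFunction (GL (Fin n) F) f)
    (hvan : ∀ u ∈ unitriGL n F, u ≠ 1 → f u = 0) :
    ∑ᶠ θ : Fin n → MulChar F ℂ, classInner f (indFun (upperTriangularGL n F) (borelFun θ)) =
      f 1 / (Nat.card (unitriGL n F) : ℂ) := by
  classical
  haveI : Fintype (MulChar F ℂ) := Fintype.ofFinite _
  haveI : Fintype ↥(upperTriangularGL n F) := Fintype.ofFinite _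
  rw [finsum_eq_sum_of_fintype]
  have h1 : ∀ θ : Fin n → MulChar F ℂ,
      classInner f (indFun (upperTriangularGL n F) (borelFun θ)) =
        (Nat.card (upperTriangularGL n F) : ℂ)⁻¹ *
          ∑ b : ↥(upperTriangularGL n F), f b * conj (borelFun θ b) :=
    fun θ => classInner_indFun_right _ _ hf
  rw [Finset.sum_congr rfl (fun θ _ => h1 θ), ← Finset.mul_sum, Finset.sum_comm]
  have h2 : ∀ b : ↥(upperTriangularGL n F),
      ∑ θ : Fin n → MulChar F ℂ, f b * conj (borelFun θ b) =
        f b * (if (b : GL (Fin n) F) ∈ unitriGL n F then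
          (((Fintype.card F - 1) ^ n : ℕ) : ℂ) else 0) := by
    intro b
    rw [← Finset.mul_sum, ← map_sum, sum_borelFun b]
    congr 1
    split_ifs
    · rw [Complex.conj_natCast]
    · simp
  rw [Finset.sum_congr rfl (fun b _ => h2 b)]
  -- only `b = 1` contributes
  rw [Finset.sum_eq_single (1 : ↥(upperTriangularGL n F))]
  · rw [if_pos (by rw [OneMemClass.coe_one]; exact (unitriGL n F).one_mem), OneMemClass.coe_one,
      card_borel]
    have hU : (Nat.card (unitriGL n F) : ℂ) ≠ 0 := by exact_mod_cast Nat.card_pos.ne'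
    have hq : (((Fintype.card F - 1) ^ n : ℕ) : ℂ) ≠ 0 := by
      have h3 : 1 < Fintype.card F := Fintype.one_lt_card
      have h4 : (Fintype.card F - 1) ^ n ≠ 0 := pow_ne_zero _ (by omega)
      exact_mod_cast h4
    push_cast at hq ⊢
    field_simp
  · intro b _ hb
    by_cases hu : (b : GL (Fin n) F) ∈ unitriGL n F
    · have : ((b : GL (Fin n) F)) ≠ 1 := fun h => hb (Subtype.ext h)
      rw [hvan b hu this, zero_mul]
    · rw [if_neg hu, mul_zero]
  · intro h
    exact absurd (Finset.mem_univ _) h

end Cfsg.Agent.Lib.Helper23.SLDZM3
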