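/-
helper23: project S4538 (helper82), module [MACK]: Mackey's intertwining number for two induced
linear characters, `⟨Ind_H α, Ind_K β⟩ = #{compatible double cosets}`.
All declarations live in `Cfsg.Agent.Lib.Helper23.SLDZMack`.
-/
import Mathlib
import Cfsg.Agent.Lib.Helper82.SLDZ.Defs
import Cfsg.Prelude.Def_Solvable

set_option autoImplicit false

open Cfsg Matrix
open scoped MatrixGroups ComplexConjugate
open Cfsg.Agent.Lib.Helper79.BrauerN (linFun)
open Cfsg.Agent.Lib.Helper82.SLDZ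

namespace Cfsg.Agent.Lib.Helper23.SLDZMack

universe u

variable {G : Type u} [Group G] [Fintype G]

/-! ### The inner product of two induced functions -/

theorem classInner_indFun_indFun' (H K : Subgroup G) (θ : H → ℂ) (ψ : K → ℂ) :
    classInner (indFun H θ) (indFun K ψ)
      = (Nat.card H : ℂ)⁻¹ * (Nat.card K : ℂ)⁻¹ *
        ∑ z : G, ∑ h : G, extendByZero H θ h * conj (extendByZero K ψ (z⁻¹ * h * z)) := by
  unfold classInner indFun
  have hG : (Nat.card G : ℂ) ≠ 0 := by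
    have : Nat.card G ≠ 0 := Nat.card_pos.ne'
    exact_mod_cast this
  have step1 : ∀ g : G,
      ((Nat.card H : ℂ)⁻¹ * ∑ x : G, extendByZero H θ (x⁻¹ * g * x)) *
        conj ((Nat.card K : ℂ)⁻¹ * ∑ y : G, extendByZero K ψ (y⁻¹ * g * y))
      = (Nat.card H : ℂ)⁻¹ * (Nat.card K : ℂ)⁻¹ *
        ∑ x : G, ∑ y : G, extendByZero H θ (x⁻¹ * g * x) *
          conj (extendByZero K ψ (y⁻¹ * g * y)) := by
    intro g
    rw [map_mul, map_inv₀, Complex.conj_natCast, map_sum, ← Finset.sum_mul_sum]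
    ring
  simp only [step1]
  rw [← Finset.mul_sum, Finset.sum_comm]
  have step2 : ∀ x : G, ∑ g : G, ∑ y : G, extendByZero H θ (x⁻¹ * g * x) *
          conj (extendByZero K ψ (y⁻¹ * g * y))
      = ∑ z : G, ∑ h : G, extendByZero H θ h *
          conj (extendByZero K ψ (z⁻¹ * h * z)) := by
    intro x
    rw [Finset.sum_comm]
    apply Fintype.sum_equiv (Equiv.mulLeft x⁻¹)
    intro y
    apply Fintype.sum_equiv (MulAut.conj x⁻¹).toEquiv
    intro g
    simp only [Equiv.coe_mulLeft, MulEquiv.toEquiv_eq_coe, MulEquiv.coe_toEquiv,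
      MulAut.conj_apply, inv_inv, _root_.mul_inv_rev]
    congr 2
    congr 1
    group
  simp only [step2]
  rw [Finset.sum_const, Finset.card_univ, nsmul_eq_mul, ← Nat.card_eq_fintype_card]
  field_simp

/-! ### Linear characters: values of modulus one, translation rules -/

theorem conj_linFun {H : Subgroup G} (α : ↥H →* ℂˣ) (h : H) :
    conj (linFun α h) = (linFun α h)⁻¹ := by
  have hpow : (linFun α h) ^ orderOf h = 1 := by
    unfold linFun
    rw [← Units.val_pow_eq_pow_val, ← map_pow, pow_orderOf_eq_one, map_one, Units.val_one]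
  exact (Cfsg.Agent.Lib.Helper80.inv_eq_conj_of_pow_eq_one (orderOf_pos h) hpow).symm

theorem linFun_ne_zero {H : Subgroup G} (α : ↥H →* ℂˣ) (h : H) : linFun α h ≠ 0 :=
  Units.ne_zero _

theorem linFun_mul_conj {H : Subgroup G} (α : ↥H →* ℂˣ) (h : H) :
    linFun α h * conj (linFun α h) = 1 := by
  rw [conj_linFun, mul_inv_cancel₀ (linFun_ne_zero α h)]

theorem ext_mul_left (H : Subgroup G) (α : ↥H →* ℂˣ) {a : G} (ha : a ∈ H) (g : G) :
    extendByZero H (linFun α) (a * g) = linFun α ⟨a, ha⟩ * extendByZero H (linFun α) g := by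
  by_cases hg : g ∈ H
  · rw [Cfsg.Agent.Lib.Helper78.extendByZero_apply_of_mem H _ hg,
      Cfsg.Agent.Lib.Helper78.extendByZero_apply_of_mem H _ (H.mul_mem ha hg)]
    have : (⟨a * g, H.mul_mem ha hg⟩ : H) = ⟨a, ha⟩ * ⟨g, hg⟩ := rfl
    rw [this]
    unfold linFun
    rw [map_mul, Units.val_mul]
  · have hag : a * g ∉ H := fun h => hg ((Subgroup.mul_mem_cancel_left H ha).1 h)
    rw [Cfsg.Agent.Lib.Helper78.extendByZero_apply_not_mem H _ hg,
      Cfsg.Agent.Lib.Helper78.extendByZero_apply_not_mem H _ hag, mul_zero]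

/-- `α` is invariant under conjugation inside `H`. -/
theorem hom_conj {H : Subgroup G} (α : ↥H →* ℂˣ) {a h : G} (ha : a ∈ H) (hh : h ∈ H)
    (hc : a⁻¹ * h * a ∈ H) : α ⟨a⁻¹ * h * a, hc⟩ = α ⟨h, hh⟩ := by
  have : (⟨a⁻¹ * h * a, hc⟩ : H) = (⟨a, ha⟩ : H)⁻¹ * ⟨h, hh⟩ * ⟨a, ha⟩ := rfl
  rw [this, map_mul, map_mul, map_inv, mul_comm, mul_inv_cancel_left]

/-! ### Compatibility is constant on double cosets -/

theorem compat_mul {H K : Subgroup G} {α : ↥H →* ℂˣ} {β : ↥K →* ℂˣ} {z a k : G}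
    (ha : a ∈ H) (hk : k ∈ K) (hz : Compat α β z) : Compat α β (a * z * k) := by
  intro h hh hc
  have hah : a⁻¹ * h * a ∈ H := H.mul_mem (H.mul_mem (H.inv_mem ha) hh) ha
  have e1 : z⁻¹ * (a⁻¹ * h * a) * z = k * ((a * z * k)⁻¹ * h * (a * z * k)) * k⁻¹ := by group
  have hzK : z⁻¹ * (a⁻¹ * h * a) * z ∈ K := by
    rw [e1]; exact K.mul_mem (K.mul_mem hk hc) (K.inv_mem hk)
  have h1 := hz (a⁻¹ * h * a) hah hzK
  rw [hom_conj α ha hh hah] at h1
  rw [h1]
  have e2 : (a * z * k)⁻¹ * h * (a * z * k) = k⁻¹ * (z⁻¹ * (a⁻¹ * h * a) * z) * k := by group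
  have h2 : (⟨(a * z * k)⁻¹ * h * (a * z * k), hc⟩ : K) =
      ⟨k⁻¹ * (z⁻¹ * (a⁻¹ * h * a) * z) * k, e2 ▸ hc⟩ := Subtype.ext e2
  rw [h2, hom_conj β hk hzK]

theorem compat_mul_iff {H K : Subgroup G} {α : ↥H →* ℂˣ} {β : ↥K →* ℂˣ} {z a k : G}
    (ha : a ∈ H) (hk : k ∈ K) : Compat α β (a * z * k) ↔ Compat α β z := by
  constructor
  · intro h
    have := compat_mul (H.inv_mem ha) (K.inv_mem hk) h
    have e : a⁻¹ * (a * z * k) * k⁻¹ = z := by group
    rwa [e] at this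
  · exact compat_mul ha hk

/-! ### The inner sum for a fixed `z` -/

open Classical in
/-- the number of `h ∈ H` with `z⁻¹ h z ∈ K` -/
noncomputable def cnt (H K : Subgroup G) (z : G) : ℕ :=
  (Finset.univ.filter (fun h : G => h ∈ H ∧ z⁻¹ * h * z ∈ K)).card

open Classical in
theorem inner_sum_eq (H K : Subgroup G) (α : ↥H →* ℂˣ) (β : ↥K →* ℂˣ) (z : G) :
    ∑ h : G, extendByZero H (linFun α) h * conj (extendByZero K (linFun β) (z⁻¹ * h * z)) =
      if Compat α β z then (cnt H K z : ℂ) else 0 := by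
  by_cases hc : Compat α β z
  · rw [if_pos hc]
    unfold cnt
    rw [Finset.card_filter, Nat.cast_sum]
    apply Finset.sum_congr rfl
    intro h _
    by_cases hh : h ∈ H
    · by_cases hk : z⁻¹ * h * z ∈ K
      · rw [if_pos ⟨hh, hk⟩, Cfsg.Agent.Lib.Helper78.extendByZero_apply_of_mem H _ hh,
          Cfsg.Agent.Lib.Helper78.extendByZero_apply_of_mem K _ hk]
        have : linFun α ⟨h, hh⟩ = linFun β ⟨z⁻¹ * h * z, hk⟩ := by
          unfold linFun; rw [hc h hh hk]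
        rw [this, linFun_mul_conj]; simp
      · rw [if_neg (fun h' => hk h'.2), Cfsg.Agent.Lib.Helper78.extendByZero_apply_not_mem K _ hk]
        simp
    · rw [if_neg (fun h' => hh h'.1), Cfsg.Agent.Lib.Helper78.extendByZero_apply_not_mem H _ hh]
      simp
  · rw [if_neg hc]
    unfold Compat at hc
    push_neg at hc
    obtain ⟨h₀, hh₀, hk₀, hne⟩ := hc
    set T := ∑ h : G, extendByZero H (linFun α) h *
      conj (extendByZero K (linFun β) (z⁻¹ * h * z)) with hT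
    set c : ℂ := linFun α ⟨h₀, hh₀⟩ * conj (linFun β ⟨z⁻¹ * h₀ * z, hk₀⟩) with hcdef
    have hc1 : c ≠ 1 := by
      intro h1
      apply hne
      rw [hcdef, conj_linFun] at h1
      have h2 : linFun α ⟨h₀, hh₀⟩ = linFun β ⟨z⁻¹ * h₀ * z, hk₀⟩ := by
        have := linFun_ne_zero β ⟨z⁻¹ * h₀ * z, hk₀⟩
        field_simp at h1
        exact h1
      exact Units.ext h2
    have hshift : T = c * T := by
      rw [hT, Finset.mul_sum]
      rw [← Equiv.sum_comp (Equiv.mulLeft h₀)]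
      apply Finset.sum_congr rfl
      intro h _
      have e : z⁻¹ * (h₀ * h) * z = (z⁻¹ * h₀ * z) * (z⁻¹ * h * z) := by group
      rw [Equiv.coe_mulLeft, e, ext_mul_left H α hh₀, ext_mul_left K β hk₀, map_mul, hcdef]
      ring
    have : (1 - c) * T = 0 := by linear_combination hshift
    rcases mul_eq_zero.1 this with h1 | h1
    · exact absurd (sub_eq_zero.1 h1).symm hc1
    · exact h1

/-! ### Counting the fibres of `(r, a, k) ↦ a r k` -/

open Classical in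
theorem fibre_card (H K : Subgroup G) (R : Finset G)
    (hdisj : ∀ r ∈ R, ∀ r' ∈ R, (∃ h ∈ H, ∃ k ∈ K, r' = h * r * k) → r = r')
    (z a₀ r₀ k₀ : G) (hr₀ : r₀ ∈ R) (ha₀ : a₀ ∈ H) (hk₀ : k₀ ∈ K) (hz : z = a₀ * r₀ * k₀) :
    (Finset.univ.filter (fun p : G × G × G =>
      p.1 ∈ R ∧ p.2.1 ∈ H ∧ p.2.2 ∈ K ∧ p.2.1 * p.1 * p.2.2 = z)).card = cnt H K z := by
  unfold cnt
  apply Finset.card_nbij' (fun p => p.2.1 * a₀⁻¹) (fun h => (r₀, h * a₀, k₀ * (z⁻¹ * h * z)⁻¹))
  · rintro ⟨r, a, k⟩ hp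
    simp only [Finset.coe_filter, Finset.mem_univ, true_and, Set.mem_setOf_eq] at hp ⊢
    obtain ⟨hr, ha, hk, hark⟩ := hp
    refine ⟨H.mul_mem ha (H.inv_mem ha₀), ?_⟩
    have hrr : r₀ = r := by
      apply hdisj r₀ hr₀ r hr
      refine ⟨a⁻¹ * a₀, H.mul_mem (H.inv_mem ha) ha₀, k₀ * k⁻¹, K.mul_mem hk₀ (K.inv_mem hk), ?_⟩
      have : a * r * k = a₀ * r₀ * k₀ := hark.trans hz
      have e : r = a⁻¹ * (a * r * k) * k⁻¹ := by group
      rw [e, this]; group
    subst hrr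
    have e : z⁻¹ * (a * a₀⁻¹) * z = k⁻¹ * k₀ := by
      have h1 : z = a * r₀ * k := hark.symm
      calc z⁻¹ * (a * a₀⁻¹) * z = (a * r₀ * k)⁻¹ * (a * a₀⁻¹) * (a₀ * r₀ * k₀) := by
            rw [← h1, ← hz]
        _ = k⁻¹ * k₀ := by group
    rw [e]
    exact K.mul_mem (K.inv_mem hk) hk₀
  · intro h hh
    simp only [Finset.coe_filter, Finset.mem_univ, true_and, Set.mem_setOf_eq] at hh ⊢
    obtain ⟨hhH, hhK⟩ := hh
    refine ⟨hr₀, H.mul_mem hhH ha₀, K.mul_mem hk₀ (K.inv_mem hhK), ?_⟩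
    calc h * a₀ * r₀ * (k₀ * (z⁻¹ * h * z)⁻¹) = h * (a₀ * r₀ * k₀) * (z⁻¹ * h * z)⁻¹ := by group
      _ = h * z * (z⁻¹ * h * z)⁻¹ := by rw [← hz]
      _ = z := by group
  · rintro ⟨r, a, k⟩ hp
    simp only [Finset.coe_filter, Finset.mem_univ, true_and, Set.mem_setOf_eq] at hp
    obtain ⟨hr, ha, hk, hark⟩ := hp
    have hrr : r₀ = r := by
      apply hdisj r₀ hr₀ r hr
      refine ⟨a⁻¹ * a₀, H.mul_mem (H.inv_mem ha) ha₀, k₀ * k⁻¹, K.mul_mem hk₀ (K.inv_mem hk), ?_⟩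
      have : a * r * k = a₀ * r₀ * k₀ := hark.trans hz
      have e : r = a⁻¹ * (a * r * k) * k⁻¹ := by group
      rw [e, this]; group
    subst hrr
    have e : z⁻¹ * (a * a₀⁻¹) * z = k⁻¹ * k₀ := by
      have h1 : z = a * r₀ * k := hark.symm
      calc z⁻¹ * (a * a₀⁻¹) * z = (a * r₀ * k)⁻¹ * (a * a₀⁻¹) * (a₀ * r₀ * k₀) := by
            rw [← h1, ← hz]
        _ = k⁻¹ * k₀ := by group
    simp only [e]
    refine Prod.ext rfl (Prod.ext ?_ ?_)
    · simp
    · simp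
  · intro h _
    simp

/-! ### The main count -/

open Classical in
theorem sum_cnt_eq (H K : Subgroup G) (R : Finset G)
    (hcover : ∀ g : G, ∃ r ∈ R, ∃ h ∈ H, ∃ k ∈ K, g = h * r * k)
    (hdisj : ∀ r ∈ R, ∀ r' ∈ R, (∃ h ∈ H, ∃ k ∈ K, r' = h * r * k) → r = r')
    (g : G → ℂ) :
    ∑ z : G, g z * (cnt H K z : ℂ) =
      ∑ p ∈ Finset.univ.filter (fun p : G × G × G => p.1 ∈ R ∧ p.2.1 ∈ H ∧ p.2.2 ∈ K),
        g (p.2.1 * p.1 * p.2.2) := by
  rw [← Finset.sum_fiberwise (Finset.univ.filter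
    (fun p : G × G × G => p.1 ∈ R ∧ p.2.1 ∈ H ∧ p.2.2 ∈ K)) (fun p => p.2.1 * p.1 * p.2.2)]
  apply Finset.sum_congr rfl
  intro z _
  obtain ⟨r₀, hr₀, a₀, ha₀, k₀, hk₀, hz⟩ := hcover z
  have hfc := fibre_card H K R hdisj z a₀ r₀ k₀ hr₀ ha₀ hk₀ hz
  have h1 : ∀ p ∈ (Finset.univ.filter
      (fun p : G × G × G => p.1 ∈ R ∧ p.2.1 ∈ H ∧ p.2.2 ∈ K)).filter
        (fun p => p.2.1 * p.1 * p.2.2 = z), g (p.2.1 * p.1 * p.2.2) = g z := by
    intro p hp
    rw [(Finset.mem_filter.1 hp).2]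
  have hset : (Finset.univ.filter
      (fun p : G × G × G => p.1 ∈ R ∧ p.2.1 ∈ H ∧ p.2.2 ∈ K)).filter
        (fun p => p.2.1 * p.1 * p.2.2 = z) =
      Finset.univ.filter (fun p : G × G × G =>
        p.1 ∈ R ∧ p.2.1 ∈ H ∧ p.2.2 ∈ K ∧ p.2.1 * p.1 * p.2.2 = z) := by
    rw [Finset.filter_filter]
    apply Finset.filter_congr
    intro p _
    tauto
  rw [Finset.sum_congr rfl h1, Finset.sum_const, nsmul_eq_mul, mul_comm, ← hfc, hset]

open Classical in
theorem mackey_count {G : Type*} [Group G] [Fintype G] (H K : Subgroup G)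
    (α : ↥H →* ℂˣ) (β : ↥K →* ℂˣ) (R : Finset G)
    (hcover : ∀ g : G, ∃ r ∈ R, ∃ h ∈ H, ∃ k ∈ K, g = h * r * k)
    (hdisj : ∀ r ∈ R, ∀ r' ∈ R, (∃ h ∈ H, ∃ k ∈ K, r' = h * r * k) → r = r') :
    classInner (indFun H (linFun α)) (indFun K (linFun β)) =
      ((R.filter (fun r => Compat α β r)).card : ℂ) := by
  rw [classInner_indFun_indFun']
  simp only [inner_sum_eq]
  have h1 : ∀ z : G, (if Compat α β z then (cnt H K z : ℂ) else 0) =
      (if Compat α β z then (1 : ℂ) else 0) * (cnt H K z : ℂ) := by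
    intro z; split_ifs <;> simp
  rw [Finset.sum_congr rfl (fun z _ => h1 z),
    sum_cnt_eq H K R hcover hdisj (fun z => if Compat α β z then (1 : ℂ) else 0)]
  have h2 : ∀ p ∈ Finset.univ.filter (fun p : G × G × G => p.1 ∈ R ∧ p.2.1 ∈ H ∧ p.2.2 ∈ K),
      (if Compat α β (p.2.1 * p.1 * p.2.2) then (1 : ℂ) else 0) =
        if Compat α β p.1 then (1 : ℂ) else 0 := by
    intro p hp
    obtain ⟨-, ha, hk⟩ := (Finset.mem_filter.1 hp).2
    rw [if_congr (compat_mul_iff ha hk) rfl rfl]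
  rw [Finset.sum_congr rfl h2]
  -- the index set is a product
  have h3 : Finset.univ.filter (fun p : G × G × G => p.1 ∈ R ∧ p.2.1 ∈ H ∧ p.2.2 ∈ K) =
      R ×ˢ ((Finset.univ.filter (fun a : G => a ∈ H)) ×ˢ (Finset.univ.filter (fun k : G => k ∈ K))) := by
    ext p
    simp only [Finset.mem_filter, Finset.mem_univ, true_and, Finset.mem_product]
  rw [h3, Finset.sum_product]
  have h5 : ∀ r ∈ R, (∑ _x ∈ (Finset.univ.filter (fun a : G => a ∈ H)) ×ˢ
      (Finset.univ.filter (fun k : G => k ∈ K)), if Compat α β r then (1 : ℂ) else 0) =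
      ((Finset.univ.filter (fun a : G => a ∈ H)).card *
        (Finset.univ.filter (fun k : G => k ∈ K)).card : ℕ) *
        (if Compat α β r then (1 : ℂ) else 0) := by
    intro r _
    rw [Finset.sum_const, Finset.card_product, nsmul_eq_mul]
  rw [Finset.sum_congr rfl h5]
  have hH : (Finset.univ.filter (fun a : G => a ∈ H)).card = Nat.card H := by
    rw [Nat.card_eq_fintype_card, Fintype.card_subtype]
  have hK : (Finset.univ.filter (fun a : G => a ∈ K)).card = Nat.card K := by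
    rw [Nat.card_eq_fintype_card, Fintype.card_subtype]
  rw [hH, hK, ← Finset.mul_sum, Finset.card_filter, Nat.cast_sum]
  have hH0 : (Nat.card H : ℂ) ≠ 0 := by exact_mod_cast Nat.card_pos.ne'
  have hK0 : (Nat.card K : ℂ) ≠ 0 := by exact_mod_cast Nat.card_pos.ne'
  push_cast
  field_simp

/-! ### A covering set: pass to a transversal -/

open Classical in
theorem mackey_le {G : Type*} [Group G] [Fintype G] (H K : Subgroup G)
    (α : ↥H →* ℂˣ) (β : ↥K →* ℂˣ) (R : Finset G)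
    (hcover : ∀ g : G, ∃ r ∈ R, ∃ h ∈ H, ∃ k ∈ K, g = h * r * k) :
    ∃ m : ℕ, m ≤ (R.filter (fun r => Compat α β r)).card ∧
      classInner (indFun H (linFun α)) (indFun K (linFun β)) = (m : ℂ) := by
  -- `D g`: the elements of `R` in the double coset of `g`
  let rel : G → G → Prop := fun g r => ∃ h ∈ H, ∃ k ∈ K, g = h * r * k
  have rel_trans : ∀ {g g' r : G}, rel g' g → rel g r → rel g' r := by
    rintro g g' r ⟨a, ha, b, hb, rfl⟩ ⟨h, hh, k, hk, rfl⟩
    exact ⟨a * h, H.mul_mem ha hh, k * b, K.mul_mem hk hb, by group⟩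
  have rel_symm : ∀ {g r : G}, rel g r → rel r g := by
    rintro g r ⟨h, hh, k, hk, rfl⟩
    exact ⟨h⁻¹, H.inv_mem hh, k⁻¹, K.inv_mem hk, by group⟩
  let D : G → Finset G := fun g => R.filter (fun r => rel g r)
  have hD : ∀ {g g' : G}, rel g' g → D g' = D g := by
    intro g g' hgg'
    apply Finset.filter_congr
    intro r _
    exact ⟨fun h => rel_trans (rel_symm hgg') h, fun h => rel_trans hgg' h⟩
  let f : Finset G → G := fun s => if h : s.Nonempty then h.choose else 1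
  have hf : ∀ s : Finset G, s.Nonempty → f s ∈ s := by
    intro s hs
    simp only [f, dif_pos hs]
    exact hs.choose_spec
  have hDne : ∀ g : G, (D g).Nonempty := by
    intro g
    obtain ⟨r, hr, h, hh, k, hk, hg⟩ := hcover g
    exact ⟨r, Finset.mem_filter.2 ⟨hr, h, hh, k, hk, hg⟩⟩
  let R' : Finset G := R.filter (fun r => f (D r) = r)
  have hcover' : ∀ g : G, ∃ r ∈ R', ∃ h ∈ H, ∃ k ∈ K, g = h * r * k := by
    intro g
    have h1 := hf (D g) (hDne g)
    obtain ⟨hrR, hrel⟩ := Finset.mem_filter.1 h1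
    refine ⟨f (D g), Finset.mem_filter.2 ⟨hrR, ?_⟩, hrel⟩
    rw [hD (rel_symm hrel)]
  have hdisj' : ∀ r ∈ R', ∀ r' ∈ R', (∃ h ∈ H, ∃ k ∈ K, r' = h * r * k) → r = r' := by
    intro r hr r' hr' hrel
    have e1 := (Finset.mem_filter.1 hr).2
    have e2 := (Finset.mem_filter.1 hr').2
    rw [← e1, ← e2, hD hrel]
  refine ⟨(R'.filter (fun r => Compat α β r)).card, ?_, mackey_count H K α β R' hcover' hdisj'⟩
  exact Finset.card_le_card (Finset.filter_subset_filter _ (Finset.filter_subset _ _))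

end Cfsg.Agent.Lib.Helper23.SLDZMack
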