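import Mathlib
import Cfsg.Prelude.Def_Local
import Cfsg.Agent.Lib.Helper21.Quasisimple
import Cfsg.Agent.Lib.Helper29.Iso

/-!
# An abstract criterion for a standard subgroup (helper23)

`L` quasisimple with commutative centralizer `Z = C_G(L)` containing a unique involution `t`,
`t` not central, `C_G(t) ≤ N_G(L)`, and every `g` fusing a non-central element of `Z` into `Z`
lies in `C_G(t)`: then `L` is standard.  Also `E(C) = L` for `L ≤ C ≤ N_G(L)`.
-/

set_option autoImplicit false

namespace Cfsg.Agent.Lib.Helper23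

open Cfsg Cfsg.Agent.Lib.Helper21

universe u

section Criterion

variable {G : Type u} [Group G]

/-- If a quasisimple `L₀ ≤ C` is normalized by `C` and has commutative centralizer, then
`E(C) = L₀`. -/
theorem layer_map_subtype_eq_of_normal_quasisimple [Finite G] (C L₀ : Subgroup G) (hLC : L₀ ≤ C)
    (hCN : C ≤ Subgroup.normalizer (L₀ : Set G)) (hq : IsQuasisimple L₀)
    (hZ : ∀ x ∈ Subgroup.centralizer (L₀ : Set G), ∀ y ∈ Subgroup.centralizer (L₀ : Set G),
      x * y = y * x) :
    (layer ↥C).map C.subtype = L₀ := by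
  have hnorm : (L₀.subgroupOf C).Normal := (Subgroup.normal_subgroupOf_iff_le_normalizer hLC).mpr hCN
  have hcomp : IsComponent (L₀.subgroupOf C) :=
    ⟨hnorm.isSubnormal, Cfsg.Agent.Lib.Helper29.isQuasisimple_of_mulEquiv
      (Subgroup.subgroupOfEquivOfLe hLC).symm hq⟩
  have hlayer : layer ↥C = L₀.subgroupOf C := by
    apply le_antisymm
    · apply sSup_le
      intro K hK
      rcases component_le_or_commutator_eq_bot_of_normal hK hnorm with h | h
      · exact h
      · exfalso
        apply qs_not_isMulCommutative hK.2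
        have hcomm := commutator_eq_bot_iff_commute.mp h
        have hKZ : ∀ k ∈ K, (k : G) ∈ Subgroup.centralizer (L₀ : Set G) := by
          intro k hk
          rw [Subgroup.mem_centralizer_iff]
          intro l hl
          have := hcomm k hk ⟨l, hLC hl⟩ (by simpa [Subgroup.mem_subgroupOf] using hl)
          have h2 := congrArg Subtype.val this
          simpa using h2.symm
        refine ⟨⟨fun a b => ?_⟩⟩
        apply Subtype.ext
        apply Subtype.ext
        exact hZ _ (hKZ a.1 a.2) _ (hKZ b.1 b.2)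
    · exact le_sSup hcomp
  rw [hlayer]
  exact Subgroup.map_subgroupOf_eq_of_le hLC

theorem normalizer_le_normalizer_centralizer' (L : Subgroup G) :
    Subgroup.normalizer (L : Set G) ≤
      Subgroup.normalizer (Subgroup.centralizer (L : Set G) : Set G) := by
  intro g hg
  have key : ∀ g : G, g ∈ Subgroup.normalizer (L : Set G) →
      ∀ x ∈ Subgroup.centralizer (L : Set G), g * x * g⁻¹ ∈ Subgroup.centralizer (L : Set G) := by
    intro g hg x hx
    rw [Subgroup.mem_centralizer_iff]
    intro l hl
    have hl' : g⁻¹ * l * g ∈ L := (Subgroup.mem_normalizer_iff''.mp hg l).mp hl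
    have h1 := Subgroup.mem_centralizer_iff.mp hx _ hl'
    calc l * (g * x * g⁻¹) = g * ((g⁻¹ * l * g) * x) * g⁻¹ := by group
      _ = g * (x * (g⁻¹ * l * g)) * g⁻¹ := by rw [h1]
      _ = g * x * g⁻¹ * l := by group
  rw [Subgroup.mem_normalizer_iff]
  intro x
  constructor
  · exact key g hg x
  · intro hx
    have := key g⁻¹ (Subgroup.inv_mem _ hg) _ hx
    have e : g⁻¹ * (g * x * g⁻¹) * g⁻¹⁻¹ = x := by group
    rwa [e] at this

/-- The abstract criterion. -/
theorem isStandardSubgroup_of_unique_involution [Finite G] (L : Subgroup G) (t : G)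
    (hq : IsQuasisimple L)
    (hZ : ∀ x ∈ Subgroup.centralizer (L : Set G), ∀ y ∈ Subgroup.centralizer (L : Set G),
      x * y = y * x)
    (htZ : t ∈ Subgroup.centralizer (L : Set G)) (htt : t * t = 1)
    (htc : t ∉ Subgroup.center G)
    (hC : Subgroup.centralizer ({t} : Set G) ≤ Subgroup.normalizer (L : Set G))
    (H1 : ∀ x ∈ Subgroup.centralizer (L : Set G), x ∉ Subgroup.center G → ∀ g : G,
      g⁻¹ * x * g ∈ Subgroup.centralizer (L : Set G) → g ∈ Subgroup.centralizer ({t} : Set G))
    (H3 : ∀ x ∈ Subgroup.centralizer (L : Set G), x * x = 1 → x = 1 ∨ x = t) :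
    IsStandardSubgroup L := by
  have ht1 : t ≠ 1 := by
    intro h
    apply htc
    rw [h]
    exact Subgroup.one_mem _
  have hord : orderOf t = 2 := by
    apply orderOf_eq_prime
    · rw [pow_two]; exact htt
    · exact ht1
  set Z := Subgroup.centralizer (L : Set G) with hZdef
  have hNZ := normalizer_le_normalizer_centralizer' L
  refine ⟨hq, ⟨?_, ?_⟩, ?_, ?_⟩
  · -- even order
    have h2 : orderOf (⟨t, htZ⟩ : Z) = 2 := by
      rw [← hord]
      exact (Subgroup.orderOf_mk t htZ)
    rw [even_iff_two_dvd, ← h2]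
    exact orderOf_dvd_natCard _
  · intro g hg
    by_contra hodd
    rw [Nat.not_odd_iff_even, even_iff_two_dvd] at hodd
    obtain ⟨x, hx⟩ := exists_prime_orderOf_dvd_card' (G := ↥(Z ⊓ Z.map (MulAut.conj g).toMonoidHom)) 2 hodd
    have hx1 : (x : G) ∈ Z := x.2.1
    have hx2 : (x : G) ∈ Z.map (MulAut.conj g).toMonoidHom := x.2.2
    have hxo : orderOf (x : G) = 2 := by
      rw [← hx]
      exact (Subgroup.orderOf_coe x)
    have hxx : (x : G) * (x : G) = 1 := by
      rw [← pow_two, ← hxo]
      exact pow_orderOf_eq_one _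
    have hxne : (x : G) ≠ 1 := by
      intro h
      rw [h, orderOf_one] at hxo
      omega
    have hxt : (x : G) = t := by
      rcases H3 _ hx1 hxx with h | h
      · exact absurd h hxne
      · exact h
    obtain ⟨z, hz, hzx⟩ := hx2
    have hzx' : g * z * g⁻¹ = (x : G) := hzx
    have hmem : g⁻¹ * (x : G) * g ∈ Z := by
      rw [← hzx']
      have e : g⁻¹ * (g * z * g⁻¹) * g = z := by group
      rw [e]
      exact hz
    have hgC := H1 _ hx1 (by rw [hxt]; exact htc) g hmem
    exact hg (hNZ (hC hgC))
  · intro g _ hcomm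
    apply qs_not_isMulCommutative hq
    have h1 := commutator_eq_bot_iff_commute.mp hcomm
    have hLg : ∀ l ∈ L, g * l * g⁻¹ ∈ Z := by
      intro l hl
      rw [hZdef, Subgroup.mem_centralizer_iff]
      intro l' hl'
      exact (h1 l' hl' (g * l * g⁻¹) ⟨l, hl, rfl⟩)
    refine ⟨⟨fun a b => ?_⟩⟩
    apply Subtype.ext
    have h2 := hZ _ (hLg a.1 a.2) _ (hLg b.1 b.2)
    have h3 : g * ((a : G) * (b : G)) * g⁻¹ = g * ((b : G) * (a : G)) * g⁻¹ := by
      calc g * ((a : G) * (b : G)) * g⁻¹ = (g * (a : G) * g⁻¹) * (g * (b : G) * g⁻¹) := by group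
        _ = (g * (b : G) * g⁻¹) * (g * (a : G) * g⁻¹) := h2
        _ = g * ((b : G) * (a : G)) * g⁻¹ := by group
    exact mul_left_cancel (mul_right_cancel h3)
  · apply le_antisymm hNZ
    intro g hg
    apply hC
    have h1 : g * t * g⁻¹ ∈ Z := (Subgroup.mem_normalizer_iff.mp hg t).mp htZ
    have h2 : (g * t * g⁻¹) * (g * t * g⁻¹) = 1 := by
      calc (g * t * g⁻¹) * (g * t * g⁻¹) = g * (t * t) * g⁻¹ := by group
        _ = 1 := by rw [htt]; group
    have h3 : g * t * g⁻¹ = t := by
      rcases H3 _ h1 h2 with h | h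
      · exfalso
        apply ht1
        have : t = g⁻¹ * (g * t * g⁻¹) * g := by group
        rw [this, h]
        group
      · exact h
    rw [Subgroup.mem_centralizer_iff]
    intro y hy
    rw [Set.mem_singleton_iff] at hy
    subst hy
    calc y * g = (g * y * g⁻¹) * g := by rw [h3]
      _ = g * y := by group

end Criterion

end Cfsg.Agent.Lib.Helper23
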