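import Mathlib
import Cfsg.Prelude.Def_Local
import Cfsg.Agent.Lib.Helper23.SLBlock
import Cfsg.Agent.Lib.Helper21.Quasisimple
import Cfsg.Agent.Lib.Helper29.Iso
import Cfsg.Agent.Lib.Helper23.StandardCriterion

/-!
# The standard subgroup `SL_{n-1}(q)` of `SL_n(q)` (helper23)
-/

set_option autoImplicit false

namespace Cfsg.Agent.Lib.Helper23

open Matrix Cfsg Cfsg.Agent.Lib.Helper19

section SL

variable {F : Type*} [Field F] {α β γ : Type*} [Fintype α] [DecidableEq α] [Fintype β]
  [DecidableEq β] [Fintype γ] [DecidableEq γ] (e : α ⊕ β ≃ γ)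

/-- the embedding `A ↦ diag(A, 1)` of `SL α` into `SL γ`. -/
noncomputable def phi : SpecialLinearGroup α F →* SpecialLinearGroup γ F where
  toFun A := ⟨blk e ((A : Matrix α α F), (1 : Matrix β β F)), by
    rw [det_blk]; simp⟩
  map_one' := by
    apply Subtype.ext
    show blk e ((1 : Matrix α α F), (1 : Matrix β β F)) = 1
    exact map_one (blk e)
  map_mul' A B := by
    apply Subtype.ext
    show blk e (((A * B : SpecialLinearGroup α F) : Matrix α α F), (1 : Matrix β β F)) =
      blk e ((A : Matrix α α F), (1 : Matrix β β F)) * blk e ((B : Matrix α α F), (1 : Matrix β β F))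
    rw [← map_mul]
    congr 1
    ext <;> simp

theorem phi_coe (A : SpecialLinearGroup α F) :
    ((phi (β := β) e A : SpecialLinearGroup γ F) : Matrix γ γ F) =
      blk e ((A : Matrix α α F), (1 : Matrix β β F)) := rfl

theorem phi_injective : Function.Injective (phi (F := F) (β := β) e) := by
  intro A B h
  have h1 : blk e ((A : Matrix α α F), (1 : Matrix β β F)) =
      blk e ((B : Matrix α α F), (1 : Matrix β β F)) := congrArg Subtype.val h
  have h2 := blk_injective (F := F) e h1
  exact Subtype.ext (congrArg Prod.fst h2)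

variable (t : SpecialLinearGroup γ F) (ht : (t : Matrix γ γ F) = tMat e)

include ht in
theorem mem_centralizer_t_iff (h2 : (2 : F) ≠ 0) (g : SpecialLinearGroup γ F) :
    g ∈ Subgroup.centralizer ({t} : Set (SpecialLinearGroup γ F)) ↔
      ∃ p : Matrix α α F × Matrix β β F, blk e p = (g : Matrix γ γ F) := by
  constructor
  · intro hg
    have h1 : t * g = g * t := Subgroup.mem_centralizer_iff.mp hg t rfl
    have h3 : (g : Matrix γ γ F) * (t : Matrix γ γ F) = (t : Matrix γ γ F) * (g : Matrix γ γ F) := by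
      have := congrArg (fun x : SpecialLinearGroup γ F => (x : Matrix γ γ F)) h1
      simpa using this.symm
    rw [ht, tMat_eq_tGL] at h3
    exact exists_blk_of_commute e h2 _ h3
  · rintro ⟨p, hp⟩
    rw [Subgroup.mem_centralizer_iff]
    intro y hy
    rw [Set.mem_singleton_iff] at hy
    subst hy
    apply Subtype.ext
    show (y : Matrix γ γ F) * (g : Matrix γ γ F) = (g : Matrix γ γ F) * (y : Matrix γ γ F)
    rw [ht, ← hp]
    exact (blk_mul_tMat e p).symm

theorem coe_mul_inv_cancel (g : SpecialLinearGroup γ F) :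
    (g : Matrix γ γ F) * ((g⁻¹ : SpecialLinearGroup γ F) : Matrix γ γ F) = 1 := by
  have h : ((g * g⁻¹ : SpecialLinearGroup γ F) : Matrix γ γ F) =
      ((1 : SpecialLinearGroup γ F) : Matrix γ γ F) := by rw [mul_inv_cancel]
  exact h

include ht in
theorem conj_phi_mem_range (h2 : (2 : F) ≠ 0) (g : SpecialLinearGroup γ F)
    (hg : g ∈ Subgroup.centralizer ({t} : Set (SpecialLinearGroup γ F)))
    (A : SpecialLinearGroup α F) :
    g * phi (β := β) e A * g⁻¹ ∈ (phi (F := F) (β := β) e).range := by
  obtain ⟨p, hp⟩ := (mem_centralizer_t_iff e t ht h2 g).mp hg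
  obtain ⟨q, hq⟩ := (mem_centralizer_t_iff e t ht h2 g⁻¹).mp (Subgroup.inv_mem _ hg)
  have hpq : p * q = 1 := by
    apply blk_injective (F := F) e
    rw [map_mul, hp, hq, map_one]
    exact coe_mul_inv_cancel g
  have hpq1 : p.1 * q.1 = 1 := congrArg Prod.fst hpq
  have hpq2 : p.2 * q.2 = 1 := congrArg Prod.snd hpq
  have hdet : (p.1 * (A : Matrix α α F) * q.1).det = 1 := by
    rw [det_mul, det_mul, A.det_coe, mul_one, ← det_mul, hpq1, det_one]
  refine ⟨⟨p.1 * (A : Matrix α α F) * q.1, hdet⟩, ?_⟩
  apply Subtype.ext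
  show blk e (p.1 * (A : Matrix α α F) * q.1, (1 : Matrix β β F)) =
    (g : Matrix γ γ F) * blk e ((A : Matrix α α F), (1 : Matrix β β F)) *
      ((g⁻¹ : SpecialLinearGroup γ F) : Matrix γ γ F)
  rw [← hp, ← hq, ← map_mul, ← map_mul]
  congr 1
  refine Prod.ext ?_ ?_
  · simp
  · simp [hpq2]

include ht in
theorem phi_mem_centralizer (A : SpecialLinearGroup α F) :
    phi (β := β) e A ∈ Subgroup.centralizer ({t} : Set (SpecialLinearGroup γ F)) := by
  rw [Subgroup.mem_centralizer_iff]
  intro y hy
  rw [Set.mem_singleton_iff] at hy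
  subst hy
  apply Subtype.ext
  show (y : Matrix γ γ F) * blk e ((A : Matrix α α F), (1 : Matrix β β F)) =
    blk e ((A : Matrix α α F), (1 : Matrix β β F)) * (y : Matrix γ γ F)
  rw [ht]
  exact (blk_mul_tMat e _).symm

include ht in
theorem t_mem_range (hα : Even (Fintype.card α)) : t ∈ (phi (F := F) (β := β) e).range := by
  have hdet : (-1 : Matrix α α F).det = 1 := by
    rw [Matrix.det_neg, Matrix.det_one, mul_one]
    exact hα.neg_one_pow
  refine ⟨⟨-1, hdet⟩, ?_⟩
  apply Subtype.ext
  rw [ht]
  rfl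

theorem eq_smul_one_of_unique [Unique β] (Y : Matrix β β F) :
    Y = (Y default default) • (1 : Matrix β β F) := by
  ext i j
  rw [Subsingleton.elim i default, Subsingleton.elim j default]
  simp

include ht in
/-- elements centralizing the block `SL α` are of the form `diag(a, b)`. -/
theorem centralizer_range_form [Unique β] (h2 : (2 : F) ≠ 0) (hα : Even (Fintype.card α))
    (x : SpecialLinearGroup γ F)
    (hx : x ∈ Subgroup.centralizer ((phi (F := F) (β := β) e).range : Set (SpecialLinearGroup γ F))) :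
    ∃ a b : F, (x : Matrix γ γ F) = blk e ((a • (1 : Matrix α α F)), (b • (1 : Matrix β β F))) := by
  have hxt : x ∈ Subgroup.centralizer ({t} : Set (SpecialLinearGroup γ F)) := by
    rw [Subgroup.mem_centralizer_iff]
    intro y hy
    rw [Set.mem_singleton_iff] at hy
    subst hy
    exact Subgroup.mem_centralizer_iff.mp hx y (t_mem_range e y ht hα)
  obtain ⟨p, hp⟩ := (mem_centralizer_t_iff e t ht h2 x).mp hxt
  have hcomm : ∀ A : SpecialLinearGroup α F, (A : Matrix α α F) * p.1 = p.1 * (A : Matrix α α F) := by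
    intro A
    have h1 := Subgroup.mem_centralizer_iff.mp hx (phi (β := β) e A) ⟨A, rfl⟩
    have h3 : blk e ((A : Matrix α α F), (1 : Matrix β β F)) * (x : Matrix γ γ F) =
        (x : Matrix γ γ F) * blk e ((A : Matrix α α F), (1 : Matrix β β F)) :=
      congrArg Subtype.val h1
    rw [← hp, ← map_mul, ← map_mul] at h3
    exact congrArg Prod.fst (blk_injective (F := F) e h3)
  have hsc : p.1 ∈ Set.range (Matrix.scalar α) := by
    apply Matrix.mem_range_scalar_of_commute_transvectionStruct
    intro ts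
    exact hcomm ⟨ts.toMatrix, ts.det⟩
  obtain ⟨a, ha⟩ := hsc
  refine ⟨a, p.2 default default, ?_⟩
  rw [← hp]
  congr 1
  refine Prod.ext ?_ ?_
  · rw [← ha]
    simp [Matrix.smul_one_eq_diagonal]
  · exact eq_smul_one_of_unique p.2

theorem blk_apply_apply (p : Matrix α α F × Matrix β β F) (i j : α ⊕ β) :
    blk e p (e i) (e j) = fromBlocks p.1 0 0 p.2 i j := by
  rw [blk_apply, Matrix.coe_reindexAlgEquiv, reindex_apply, submatrix_apply, Equiv.symm_apply_apply,
    Equiv.symm_apply_apply]

theorem smul_one_mul_smul_one {m : Type*} [Fintype m] [DecidableEq m] (a b : F) :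
    (a • (1 : Matrix m m F)) * (b • (1 : Matrix m m F)) = (a * b) • (1 : Matrix m m F) := by
  rw [smul_mul_assoc, one_mul, smul_smul]

theorem smul_one_eq_one_imp {m : Type*} [Fintype m] [DecidableEq m] [Nonempty m] (a : F)
    (h : a • (1 : Matrix m m F) = 1) : a = 1 := by
  obtain ⟨i⟩ := ‹Nonempty m›
  have := congrFun (congrFun h i) i
  simpa using this

include ht in
theorem centralizer_range_comm [Unique β] (h2 : (2 : F) ≠ 0) (hα : Even (Fintype.card α))
    (x y : SpecialLinearGroup γ F)
    (hx : x ∈ Subgroup.centralizer ((phi (F := F) (β := β) e).range : Set (SpecialLinearGroup γ F)))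
    (hy : y ∈ Subgroup.centralizer ((phi (F := F) (β := β) e).range : Set (SpecialLinearGroup γ F))) :
    x * y = y * x := by
  obtain ⟨a, b, hab⟩ := centralizer_range_form e t ht h2 hα x hx
  obtain ⟨a', b', hab'⟩ := centralizer_range_form e t ht h2 hα y hy
  apply Subtype.ext
  show (x : Matrix γ γ F) * (y : Matrix γ γ F) = (y : Matrix γ γ F) * (x : Matrix γ γ F)
  rw [hab, hab', ← map_mul, ← map_mul]
  congr 1
  refine Prod.ext ?_ ?_
  · show (a • (1 : Matrix α α F)) * (a' • (1 : Matrix α α F)) =
      (a' • (1 : Matrix α α F)) * (a • (1 : Matrix α α F))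
    rw [smul_one_mul_smul_one, smul_one_mul_smul_one, mul_comm]
  · show (b • (1 : Matrix β β F)) * (b' • (1 : Matrix β β F)) =
      (b' • (1 : Matrix β β F)) * (b • (1 : Matrix β β F))
    rw [smul_one_mul_smul_one, smul_one_mul_smul_one, mul_comm]

include ht in
theorem t_mem_centralizer_range :
    t ∈ Subgroup.centralizer ((phi (F := F) (β := β) e).range : Set (SpecialLinearGroup γ F)) := by
  rw [Subgroup.mem_centralizer_iff]
  rintro y ⟨A, rfl⟩
  have := phi_mem_centralizer e t ht A
  exact (Subgroup.mem_centralizer_iff.mp this t rfl).symm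

include ht in
theorem t_mul_t : t * t = 1 := by
  apply Subtype.ext
  show (t : Matrix γ γ F) * (t : Matrix γ γ F) = 1
  rw [ht, tMat, ← map_mul]
  have : ((-1 : Matrix α α F), (1 : Matrix β β F)) * ((-1 : Matrix α α F), (1 : Matrix β β F)) = 1 := by
    refine Prod.ext ?_ ?_ <;> simp
  rw [this, map_one]

include ht in
theorem t_not_mem_center [Nonempty α] [Nonempty β] (h2 : (2 : F) ≠ 0) :
    t ∉ Subgroup.center (SpecialLinearGroup γ F) := by
  rw [Matrix.SpecialLinearGroup.mem_center_iff]
  rintro ⟨r, -, hr⟩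
  obtain ⟨i⟩ := ‹Nonempty α›
  obtain ⟨j⟩ := ‹Nonempty β›
  have h : Matrix.scalar γ r = blk e ((-1 : Matrix α α F), (1 : Matrix β β F)) := by
    rw [hr, ht]; rfl
  have e1 := congrFun (congrFun h (e (Sum.inl i))) (e (Sum.inl i))
  have e2 := congrFun (congrFun h (e (Sum.inr j))) (e (Sum.inr j))
  rw [blk_apply_apply] at e1 e2
  simp at e1 e2
  apply h2
  have : (1 : F) + 1 = 0 := by
    nth_rewrite 1 [← e2]
    rw [e1]
    simp
  rw [← this]
  norm_num

include ht in
theorem mem_centralizer_t_of_fuse [Unique β] (h2 : (2 : F) ≠ 0) (hα : Even (Fintype.card α))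
    (hα2 : 1 < Fintype.card α) (x : SpecialLinearGroup γ F)
    (hx : x ∈ Subgroup.centralizer ((phi (F := F) (β := β) e).range : Set (SpecialLinearGroup γ F)))
    (hxc : x ∉ Subgroup.center (SpecialLinearGroup γ F)) (g : SpecialLinearGroup γ F)
    (hg : g⁻¹ * x * g ∈
      Subgroup.centralizer ((phi (F := F) (β := β) e).range : Set (SpecialLinearGroup γ F))) :
    g ∈ Subgroup.centralizer ({t} : Set (SpecialLinearGroup γ F)) := by
  obtain ⟨a, b, hab⟩ := centralizer_range_form e t ht h2 hα x hx
  obtain ⟨a', b', hab'⟩ := centralizer_range_form e t ht h2 hα _ hg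
  have hne : a ≠ b := by
    intro h
    apply hxc
    rw [Matrix.SpecialLinearGroup.mem_center_iff]
    rw [← h, blk_scalar] at hab
    refine ⟨a, ?_, ?_⟩
    · have hdet := x.det_coe
      rw [hab, Matrix.det_smul, Matrix.det_one, mul_one] at hdet
      exact hdet
    · rw [hab, Matrix.scalar_apply, Matrix.smul_one_eq_diagonal]
  rw [mem_centralizer_t_iff e t ht h2]
  apply exists_blk_of_conj e hα2 (g : Matrix γ γ F) ((g⁻¹ : SpecialLinearGroup γ F) : Matrix γ γ F)
    (coe_mul_inv_cancel g) a b a' b' hne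
  rw [← hab, ← hab']
  have : x * g = g * (g⁻¹ * x * g) := by group
  exact congrArg Subtype.val this

include ht in
theorem involution_centralizer_range [Unique β] [Nonempty α] (h2 : (2 : F) ≠ 0)
    (hα : Even (Fintype.card α)) (x : SpecialLinearGroup γ F)
    (hx : x ∈ Subgroup.centralizer ((phi (F := F) (β := β) e).range : Set (SpecialLinearGroup γ F)))
    (hxx : x * x = 1) : x = 1 ∨ x = t := by
  obtain ⟨a, b, hab⟩ := centralizer_range_form e t ht h2 hα x hx
  have h1 : (x : Matrix γ γ F) * (x : Matrix γ γ F) = 1 := congrArg Subtype.val hxx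
  rw [hab, ← map_mul, ← map_one (blk (F := F) e)] at h1
  have h3 := blk_injective (F := F) e h1
  have h4 : (a • (1 : Matrix α α F)) * (a • (1 : Matrix α α F)) = 1 := congrArg Prod.fst h3
  have h5 : (b • (1 : Matrix β β F)) * (b • (1 : Matrix β β F)) = 1 := congrArg Prod.snd h3
  rw [smul_one_mul_smul_one] at h4 h5
  have ha : a * a = 1 := smul_one_eq_one_imp _ h4
  have hdet := x.det_coe
  rw [hab, det_blk] at hdet
  simp only [Matrix.det_smul, Matrix.det_one, mul_one, Fintype.card_unique, pow_one] at hdet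
  obtain ⟨r, hr⟩ := hα
  rw [hr, pow_add, ← mul_pow, ha, one_pow, one_mul] at hdet
  rcases mul_self_eq_one_iff.mp ha with h | h
  · left
    apply Subtype.ext
    show (x : Matrix γ γ F) = 1
    rw [hab, h, hdet, one_smul, one_smul]
    exact map_one (blk e)
  · right
    apply Subtype.ext
    rw [hab, ht, h, hdet, one_smul, neg_smul, one_smul]
    rfl

include ht in
theorem centralizer_t_le_normalizer (h2 : (2 : F) ≠ 0) :
    Subgroup.centralizer ({t} : Set (SpecialLinearGroup γ F)) ≤
      Subgroup.normalizer ((phi (F := F) (β := β) e).range : Set (SpecialLinearGroup γ F)) := by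
  intro g hg
  rw [Subgroup.mem_normalizer_iff]
  intro h
  constructor
  · rintro ⟨A, rfl⟩
    exact conj_phi_mem_range e t ht h2 g hg A
  · rintro ⟨A, hA⟩
    have := conj_phi_mem_range e t ht h2 g⁻¹ (Subgroup.inv_mem _ hg) A
    rw [hA] at this
    have e1 : g⁻¹ * (g * h * g⁻¹) * g⁻¹⁻¹ = h := by group
    rwa [e1] at this

include ht in
/-- **The standard subgroup `SL(α)` of `SL(α ⊕ 1)`**. -/
theorem isStandardSubgroup_layer_centralizer [Unique β] [Finite F] (h2 : (2 : F) ≠ 0)
    (hα : Even (Fintype.card α)) (hα2 : 1 < Fintype.card α)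
    (hq : IsQuasisimple (SpecialLinearGroup α F)) :
    IsStandardSubgroup
      ((layer ↥(Subgroup.centralizer ({t} : Set (SpecialLinearGroup γ F)))).map
        (Subgroup.centralizer ({t} : Set (SpecialLinearGroup γ F))).subtype) := by
  classical
  have : Fintype F := Fintype.ofFinite F
  have hne : Nonempty α := by
    rw [← Fintype.card_pos_iff]; omega
  have hq₀ : IsQuasisimple ↥(phi (F := F) (β := β) e).range :=
    Cfsg.Agent.Lib.Helper29.isQuasisimple_of_mulEquiv
      (MonoidHom.ofInjective (phi_injective (F := F) (β := β) e)) hq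
  have hLC : (phi (F := F) (β := β) e).range ≤
      Subgroup.centralizer ({t} : Set (SpecialLinearGroup γ F)) := by
    rintro _ ⟨A, rfl⟩
    exact phi_mem_centralizer e t ht A
  have hCN := centralizer_t_le_normalizer e t ht h2
  have hZ := fun x hx y hy => centralizer_range_comm e t ht h2 hα x y hx hy
  rw [layer_map_subtype_eq_of_normal_quasisimple _ _ hLC hCN hq₀ hZ]
  exact isStandardSubgroup_of_unique_involution _ t hq₀ hZ (t_mem_centralizer_range e t ht)
    (t_mul_t e t ht) (t_not_mem_center e t ht h2) hCN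
    (fun x hx hxc g hg => mem_centralizer_t_of_fuse e t ht h2 hα hα2 x hx hxc g hg)
    (fun x hx hxx => involution_centralizer_range e t ht h2 hα x hx hxx)

end SL

end Cfsg.Agent.Lib.Helper23
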