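/-
helper23: hedge of module SAF-[AFF2] of helper2's sheet (S4025): the affine package of
`Q = V : C`, from the complement and action provided by SAF-[AFF1].
-/
import Mathlib
import Cfsg.Prelude.Def_Transfer
import Cfsg.Prelude.Def_CaseTheorems
import Cfsg.Prelude.Def_Perm
import Cfsg.Agent.Lib.Helper2.SafDefs

set_option autoImplicit false
set_option linter.unusedSectionVars false

namespace Cfsg.Agent.Lib.Helper23.SafAff2

open Cfsg Cfsg.Agent.Lib.Helper2.Saf

universe u

variable {Q : Type u} [Group Q] {p n : ℕ} [Fact p.Prime]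

/-- the commutative group structure on `V` -/
@[reducible] def commV (V : Subgroup Q) (h : NormalEA p n V) : CommGroup ↥V :=
  { (inferInstance : Group ↥V) with mul_comm := fun a b => Subtype.ext (h.comm a a.2 b b.2) }

/-- `V` written additively -/
def WV (V : Subgroup Q) (_h : NormalEA p n V) : Type u := Additive ↥V

instance instAddCommGroupWV (V : Subgroup Q) (h : NormalEA p n V) : AddCommGroup (WV V h) :=
  @Additive.addCommGroup ↥V (commV V h)

/-- `V ≃ W` -/
def toW (V : Subgroup Q) (h : NormalEA p n V) : ↥V ≃ WV V h := Additive.ofMul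

variable {V : Subgroup Q} {h : NormalEA p n V}

theorem toW_mul (a b : ↥V) : toW V h (a * b) = toW V h a + toW V h b := rfl

theorem toW_one : toW V h 1 = 0 := rfl

theorem toW_symm_add (x y : WV V h) :
    (toW V h).symm (x + y) = (toW V h).symm x * (toW V h).symm y := rfl

theorem toW_symm_zero : (toW V h).symm (0 : WV V h) = 1 := rfl

theorem toW_pow (a : ↥V) (k : ℕ) : toW V h (a ^ k) = k • toW V h a := by
  induction k with
  | zero => simp [toW_one]
  | succ k ih => rw [pow_succ, toW_mul, ih, succ_nsmul]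

theorem nsmul_eq_zero (x : WV V h) : p • x = 0 := by
  obtain ⟨a, rfl⟩ := (toW V h).surjective x
  rw [← toW_pow]
  have : a ^ p = 1 := Subtype.ext (by simpa using h.exp a a.2)
  rw [this, toW_one]

instance instModuleWV (V : Subgroup Q) (h : NormalEA p n V) : Module (ZMod p) (WV V h) :=
  AddCommGroup.zmodModule (n := p) (fun x => nsmul_eq_zero x)

/-- conjugation by `c` on `W` -/
def conjW (V : Subgroup Q) (h : NormalEA p n V) (c : Q) : WV V h ≃+ WV V h where
  toFun x := toW V h ⟨c * ((toW V h).symm x : Q) * c⁻¹,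
    h.normal.conj_mem _ ((toW V h).symm x).2 c⟩
  invFun x := toW V h ⟨c⁻¹ * ((toW V h).symm x : Q) * c⁻¹⁻¹,
    h.normal.conj_mem _ ((toW V h).symm x).2 c⁻¹⟩
  left_inv x := by
    apply (toW V h).symm.injective
    apply Subtype.ext
    simp only [Equiv.symm_apply_apply]
    group
  right_inv x := by
    apply (toW V h).symm.injective
    apply Subtype.ext
    simp only [Equiv.symm_apply_apply]
    group
  map_add' x y := by
    rw [← toW_mul]
    congr 1
    apply Subtype.ext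
    rw [toW_symm_add]
    simp only [Subgroup.coe_mul]
    group

theorem conjW_apply (c : Q) (x : WV V h) :
    (((toW V h).symm (conjW V h c x) : ↥V) : Q) = c * ((toW V h).symm x : Q) * c⁻¹ := rfl

/-- conjugation by `c` as a linear automorphism of `W` -/
def rhoW (V : Subgroup Q) (h : NormalEA p n V) (c : Q) : WV V h ≃ₗ[ZMod p] WV V h :=
  (conjW V h c).toLinearEquiv (fun r x => ZMod.map_smul (conjW V h c) r x)

theorem rhoW_apply (c : Q) (x : WV V h) :
    (((toW V h).symm (rhoW V h c x) : ↥V) : Q) = c * ((toW V h).symm x : Q) * c⁻¹ := rfl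

/-- the linear action of a subgroup `C` of `Q` on `W` -/
def rhoHom (V : Subgroup Q) (h : NormalEA p n V) (C : Subgroup Q) :
    ↥C →* (WV V h ≃ₗ[ZMod p] WV V h) where
  toFun c := rhoW V h (c : Q)
  map_one' := by
    ext x
    apply (toW V h).symm.injective
    apply Subtype.ext
    rw [rhoW_apply]
    simp
  map_mul' c c' := by
    ext x
    apply (toW V h).symm.injective
    apply Subtype.ext
    rw [LinearEquiv.mul_apply, rhoW_apply, rhoW_apply, rhoW_apply]
    simp only [Subgroup.coe_mul]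
    group

theorem rhoHom_apply (C : Subgroup Q) (c : ↥C) (x : WV V h) :
    (((toW V h).symm (rhoHom V h C c x) : ↥V) : Q) = (c : Q) * ((toW V h).symm x : Q) * (c : Q)⁻¹ :=
  rfl

theorem rhoHom_injective (C : Subgroup Q) (hCV : C ⊓ V = ⊥) :
    Function.Injective (rhoHom V h C) := by
  rw [injective_iff_map_eq_one]
  intro c hc
  have hcent : (c : Q) ∈ Subgroup.centralizer (V : Set Q) := by
    rw [Subgroup.mem_centralizer_iff]
    intro v hv
    have h1 := rhoHom_apply C c (toW V h ⟨v, hv⟩)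
    rw [hc] at h1
    simp only [LinearEquiv.coe_one, id_eq, Equiv.symm_apply_apply] at h1
    calc v * (c : Q) = ((c : Q) * v * (c : Q)⁻¹) * (c : Q) := by rw [← h1]
      _ = (c : Q) * v := by group
  have hcV : (c : Q) ∈ V := h.cent hcent
  have : (c : Q) ∈ C ⊓ V := ⟨c.2, hcV⟩
  rw [hCV, Subgroup.mem_bot] at this
  exact Subtype.ext this

/-- the action of `Q` on the set `W`, transported from an action on `V` -/
def piW (V : Subgroup Q) (h : NormalEA p n V) (π : Q →* Equiv.Perm ↥V) :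
    Q →* Equiv.Perm (WV V h) :=
  ((toW V h).permCongrHom).toMonoidHom.comp π

theorem piW_apply (π : Q →* Equiv.Perm ↥V) (q : Q) (x : WV V h) :
    piW V h π q x = toW V h (π q ((toW V h).symm x)) := rfl

theorem piW_injective (π : Q →* Equiv.Perm ↥V) (hπ : Function.Injective π) :
    Function.Injective (piW V h π) :=
  ((toW V h).permCongrHom).injective.comp hπ

theorem piW_formula (C : Subgroup Q) (π : Q →* Equiv.Perm ↥V)
    (hπ : ∀ (v : V) (c : Q), c ∈ C → ∀ y : V, ((π ((v : Q) * c) y : V) : Q) = v * (c * y * c⁻¹))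
    (v : ↥V) (c : ↥C) (x : WV V h) :
    piW V h π ((v : Q) * (c : Q)) x = rhoHom V h C c x + toW V h v := by
  rw [piW_apply]
  apply (toW V h).symm.injective
  apply Subtype.ext
  rw [Equiv.symm_apply_apply, hπ v c c.2, toW_symm_add, Equiv.symm_apply_apply,
    Subgroup.coe_mul, rhoHom_apply]
  exact h.comm _ v.2 _ (h.normal.conj_mem _ ((toW V h).symm x).2 c)

/-- the subgroup of `Q` (inside `V`) attached to a subspace of `W` -/
def subOf (V : Subgroup Q) (h : NormalEA p n V) (U : Submodule (ZMod p) (WV V h)) :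
    Subgroup Q where
  carrier := {g | ∃ hg : g ∈ V, toW V h ⟨g, hg⟩ ∈ U}
  one_mem' := ⟨V.one_mem, U.zero_mem⟩
  mul_mem' := by
    rintro a b ⟨ha, ha'⟩ ⟨hb, hb'⟩
    exact ⟨V.mul_mem ha hb, U.add_mem ha' hb'⟩
  inv_mem' := by
    rintro a ⟨ha, ha'⟩
    exact ⟨V.inv_mem ha, U.neg_mem ha'⟩

theorem mem_subOf (U : Submodule (ZMod p) (WV V h)) (g : Q) :
    g ∈ subOf V h U ↔ ∃ hg : g ∈ V, toW V h ⟨g, hg⟩ ∈ U := Iff.rfl

theorem subOf_le (U : Submodule (ZMod p) (WV V h)) : subOf V h U ≤ V := fun _ hg => hg.1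

theorem coe_mem_subOf (U : Submodule (ZMod p) (WV V h)) (x : WV V h) :
    (((toW V h).symm x : ↥V) : Q) ∈ subOf V h U ↔ x ∈ U := by
  rw [mem_subOf]
  constructor
  · rintro ⟨_, hx⟩
    exact hx
  · intro hx
    exact ⟨((toW V h).symm x).2, hx⟩

theorem card_subOf (U : Submodule (ZMod p) (WV V h)) :
    Nat.card (subOf V h U) = Nat.card U := by
  apply Nat.card_congr
  refine Equiv.ofBijective
    (fun g : subOf V h U => (⟨toW V h ⟨(g : Q), g.2.1⟩, g.2.2⟩ : U)) ⟨?_, ?_⟩
  · intro a b hab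
    have h1 := congrArg (fun x : U => (((toW V h).symm (x : WV V h) : ↥V) : Q)) hab
    simp only [Equiv.symm_apply_apply] at h1
    exact Subtype.ext h1
  · intro x
    refine ⟨⟨(((toW V h).symm (x : WV V h) : ↥V) : Q), (coe_mem_subOf U _).mpr x.2⟩, ?_⟩
    apply Subtype.ext
    simp

/-- transitivity on subspaces of equal cardinality -/
theorem trans_sub [Finite Q] (C : Subgroup Q)
    (hfac : ∀ q : Q, ∃ v ∈ V, ∃ c ∈ C, q = v * c)
    (U₁ U₂ : Submodule (ZMod p) (WV V h)) (hU : Nat.card U₁ = Nat.card U₂) :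
    ∃ a : ↥C, U₂ = U₁.map (rhoHom V h C a).toLinearMap := by
  obtain ⟨q, hq⟩ := h.trans (subOf V h U₁) (subOf V h U₂) (subOf_le U₁) (subOf_le U₂)
    (by rw [card_subOf, card_subOf, hU])
  obtain ⟨v, hv, c, hc, rfl⟩ := hfac q
  refine ⟨⟨c, hc⟩, ?_⟩
  -- conjugation by `v * c` agrees with conjugation by `c` on `V`
  have hconj : ∀ y ∈ V, (v * c) * y * (v * c)⁻¹ = c * y * c⁻¹ := by
    intro y hy
    have hcy : c * y * c⁻¹ ∈ V := h.normal.conj_mem y hy c
    have := h.comm v hv (c * y * c⁻¹) hcy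
    calc (v * c) * y * (v * c)⁻¹ = v * (c * y * c⁻¹) * v⁻¹ := by group
      _ = (c * y * c⁻¹) * v * v⁻¹ := by rw [this]
      _ = c * y * c⁻¹ := by group
  ext x
  rw [← coe_mem_subOf U₂ x, hq, Subgroup.mem_map, Submodule.mem_map]
  constructor
  · rintro ⟨y, hy, hyx⟩
    obtain ⟨hyV, hyU⟩ := hy
    refine ⟨toW V h ⟨y, hyV⟩, hyU, ?_⟩
    apply (toW V h).symm.injective
    apply Subtype.ext
    change (((toW V h).symm (rhoHom V h C ⟨c, hc⟩ (toW V h ⟨y, hyV⟩)) : ↥V) : Q) = _
    rw [rhoHom_apply, Equiv.symm_apply_apply, ← hyx]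
    simp only [MulEquiv.coe_toMonoidHom, MulAut.conj_apply]
    exact (hconj y hyV).symm
  · rintro ⟨y, hy, hyx⟩
    refine ⟨(((toW V h).symm y : ↥V) : Q), (coe_mem_subOf U₁ y).mpr hy, ?_⟩
    simp only [MulEquiv.coe_toMonoidHom, MulAut.conj_apply]
    rw [hconj _ ((toW V h).symm y).2, ← hyx]
    exact (rhoHom_apply C ⟨c, hc⟩ y).symm

/-- **SAF-[AFF2]** (with the conclusion of SAF-[AFF1] as a hypothesis) -/
theorem exists_affPkg_of {Q : Type u} [Group Q] [Finite Q] {p n : ℕ} [Fact p.Prime]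
    (V : Subgroup Q) (h : NormalEA p n V) (hsol : Group.IsSolvable Q)
    (haff1 : ∃ (C : Subgroup Q) (π : Q →* Equiv.Perm V),
      (∀ q : Q, ∃ v ∈ V, ∃ c ∈ C, q = v * c) ∧ C ⊓ V = ⊥ ∧ Function.Injective π ∧
      (∀ (v : V) (c : Q), c ∈ C → ∀ y : V, ((π ((v : Q) * c) y : V) : Q) = v * (c * y * c⁻¹))) :
    ∃ (W : Type u) (_ : AddCommGroup W) (_ : Module (ZMod p) W) (_ : Finite W)
      (A : Type u) (_ : Group A) (_ : Finite A) (pk : AffPkg p Q W A),
      Nat.card W = p ^ n ∧ Nat.card Q = Nat.card W * Nat.card A ∧ Group.IsSolvable A ∧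
      ¬ p ∣ Nat.card A ∧
      (∀ U₁ U₂ : Submodule (ZMod p) W, Nat.card U₁ = Nat.card U₂ →
        ∃ a : A, U₂ = U₁.map (pk.ρ a).toLinearMap) := by
  obtain ⟨C, π, hfac, hCV, hπinj, hπ⟩ := haff1
  have hfinW : Finite (WV V h) := Finite.of_equiv _ (toW V h)
  have hcardW : Nat.card (WV V h) = Nat.card ↥V := Nat.card_congr (toW V h).symm
  let pk : AffPkg p Q (WV V h) ↥C :=
    { ρ := rhoHom V h C
      ρ_inj := rhoHom_injective C hCV
      π := piW V h π
      π_inj := piW_injective π hπinj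
      π_mem := by
        intro q
        obtain ⟨v, hv, c, hc, rfl⟩ := hfac q
        exact ⟨⟨c, hc⟩, toW V h ⟨v, hv⟩, fun x => piW_formula C π hπ ⟨v, hv⟩ ⟨c, hc⟩ x⟩
      π_surj := by
        intro a w
        exact ⟨(((toW V h).symm w : ↥V) : Q) * (a : Q), fun x => by
          rw [piW_formula C π hπ ((toW V h).symm w) a x, Equiv.apply_symm_apply]⟩ }
  -- `Q = V × C` as a set
  have hcardQ : Nat.card Q = Nat.card ↥V * Nat.card ↥C := by
    rw [← Nat.card_prod]
    apply Nat.card_congr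
    symm
    refine Equiv.ofBijective (fun x : ↥V × ↥C => (x.1 : Q) * (x.2 : Q)) ⟨?_, ?_⟩
    · rintro ⟨v, c⟩ ⟨v', c'⟩ hvc
      simp only at hvc
      have h1 : (v' : Q)⁻¹ * (v : Q) = (c' : Q) * (c : Q)⁻¹ := by
        calc (v' : Q)⁻¹ * (v : Q) = (v' : Q)⁻¹ * ((v : Q) * (c : Q)) * (c : Q)⁻¹ := by group
          _ = (v' : Q)⁻¹ * ((v' : Q) * (c' : Q)) * (c : Q)⁻¹ := by rw [hvc]
          _ = (c' : Q) * (c : Q)⁻¹ := by group
      have h2 : (v' : Q)⁻¹ * (v : Q) ∈ C ⊓ V := by
        refine ⟨?_, V.mul_mem (V.inv_mem v'.2) v.2⟩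
        rw [h1]
        exact C.mul_mem c'.2 (C.inv_mem c.2)
      rw [hCV, Subgroup.mem_bot] at h2
      have hv : (v : Q) = v' := by
        have := inv_mul_eq_one.mp h2
        exact this.symm
      have hc : (c : Q) = c' := by
        rw [hv] at hvc
        exact mul_left_cancel hvc
      rw [Prod.mk.injEq]
      exact ⟨Subtype.ext hv, Subtype.ext hc⟩
    · intro q
      obtain ⟨v, hv, c, hc, rfl⟩ := hfac q
      exact ⟨(⟨v, hv⟩, ⟨c, hc⟩), rfl⟩
  have hVpos : 0 < Nat.card ↥V := Nat.card_pos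
  have hCidx : Nat.card ↥C = V.index := by
    have h1 := Subgroup.card_mul_index V
    rw [hcardQ] at h1
    exact (Nat.eq_of_mul_eq_mul_left hVpos h1).symm
  refine ⟨WV V h, inferInstance, inferInstance, hfinW, ↥C, inferInstance, inferInstance, pk,
    ?_, ?_, ?_, ?_, ?_⟩
  · rw [hcardW, h.card]
  · rw [hcardW, hcardQ]
  · exact inferInstance
  · rw [hCidx]
    exact h.cop
  · intro U₁ U₂ hU
    exact trans_sub C hfac U₁ U₂ hU

end Cfsg.Agent.Lib.Helper23.SafAff2
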