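-- helper23: shared instance for my modules of helper72's order-5400 project (S0983).
import Mathlib

set_option autoImplicit false

namespace Cfsg.Agent.Lib.Helper23.Simple5400

theorem fact5 : Fact (Nat.Prime 5) := ⟨by norm_num⟩

end Cfsg.Agent.Lib.Helper23.Simple5400
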