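-- helper23: module S0983-[5400-M1] of helper72's order-5400 project: basic Sylow 5 facts.
import Mathlib
import Cfsg.Agent.Lib.Helper9.SmallOrderSieveA
import Cfsg.Agent.Lib.Helper72.Simple5400Defs
import Cfsg.Agent.Lib.Helper23.Simple5400Base

set_option autoImplicit false
set_option linter.unusedSectionVars false

namespace Cfsg.Agent.Lib.Helper23.Simple5400

open Subgroup Cfsg.Agent.Lib.Helper17 Cfsg.Agent.Lib.Helper9.Sieve

variable {G : Type*} [Group G] [Finite G] [IsSimpleGroup G]

attribute [local instance] fact5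

theorem not_comm (h : Nat.card G = 5400) : ¬ IsMulCommutative G :=
  not_comm_of_simple_of_not_prime (by rw [h]; norm_num)

theorem card_eq_aux (h : Nat.card G = 5400) : Nat.card G = 5 ^ 2 * 216 := by
  rw [h]
  norm_num

theorem card_sylow5 (h : Nat.card G = 5400) (P : Sylow 5 G) : Nat.card (P : Subgroup G) = 25 := by
  have h1 := sylow_card_of_card_eq P (card_eq_aux h) (by norm_num)
  rw [h1]
  norm_num

theorem sylow5_comm (h : Nat.card G = 5400) (P : Sylow 5 G) :
    ∀ x ∈ (P : Subgroup G), ∀ y ∈ (P : Subgroup G), x * y = y * x := by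
  intro x hx y hy
  have h1 : Nat.card (P : Subgroup G) = 5 ^ 2 := by rw [card_sylow5 h P]; norm_num
  have h2 := (IsPGroup.isMulCommutative_of_card_eq_prime_sq h1).is_comm.comm
    (⟨x, hx⟩ : ↥(P : Subgroup G)) ⟨y, hy⟩
  exact congrArg Subtype.val h2

theorem index_ge_ten (h : Nat.card G = 5400) (H : Subgroup G) (hH : H ≠ ⊤) : 10 ≤ H.index := by
  have h1 := idxExcl_sound (not_comm h) H hH
  rw [h] at h1
  by_contra hlt
  push Not at hlt
  interval_cases H.index <;> revert h1 <;> decide

theorem card_sylow_five (h : Nat.card G = 5400) : Nat.card (Sylow 5 G) = 36 := by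
  have hG := not_comm h
  obtain ⟨hdvd, hmod, hne1⟩ := sylow_facts (p := 5) hG h (by norm_num : 5400 = 5 ^ 2 * 216)
    (by norm_num) (by norm_num) (by norm_num)
  have hidx := idxExcl_card_sylow (p := 5) hG hne1
  rw [h] at hidx
  obtain ⟨P⟩ := (Sylow.nonempty : Nonempty (Sylow 5 G))
  have hle : Nat.card (Sylow 5 G) ≤ 216 := Nat.le_of_dvd (by norm_num) hdvd
  set n := Nat.card (Sylow 5 G) with hn
  obtain ⟨k, hk⟩ : ∃ k, n = 5 * k + 1 := ⟨n / 5, by omega⟩
  have hk43 : k ≤ 43 := by omega
  have hcases : n = 1 ∨ n = 6 ∨ n = 36 ∨ n = 216 := by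
    rw [hk] at hdvd ⊢
    interval_cases k <;> omega
  rcases hcases with h1 | h6 | h36 | h216
  · exact absurd h1 hne1
  · exfalso
    rw [h6] at hidx
    revert hidx
    decide
  · exact h36
  · exfalso
    have hN : Nat.card (normalizer ((P : Subgroup G) : Set G)) = 5 ^ 2 * (216 / n) :=
      card_normalizer_eq h (by norm_num : 5400 = 5 ^ 2 * 216) hdvd P
    rw [h216] at hN
    have hN25 : Nat.card (normalizer ((P : Subgroup G) : Set G)) = 25 := by rw [hN]; norm_num
    have hPN : (P : Subgroup G) = normalizer ((P : Subgroup G) : Set G) := by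
      apply Subgroup.eq_of_le_of_card_ge le_normalizer
      rw [hN25, card_sylow5 h P]
    apply not_normalizer_le_centralizer_of_simple hG P (by rw [h]; norm_num)
    intro x hx
    rw [← hPN] at hx
    rw [Subgroup.mem_centralizer_iff]
    intro y hy
    exact sylow5_comm h P y hy x hx

theorem card_normalizer_sylow5 (h : Nat.card G = 5400) (P : Sylow 5 G) :
    Nat.card (normalizer ((P : Subgroup G) : Set G)) = 150 := by
  have hdvd : Nat.card (Sylow 5 G) ∣ 216 := by rw [card_sylow_five h]; norm_num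
  have hN := card_normalizer_eq h (by norm_num : 5400 = 5 ^ 2 * 216) hdvd P
  rw [hN, card_sylow_five h]
  norm_num

end Cfsg.Agent.Lib.Helper23.Simple5400
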