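-- helper23: module S0983-[5400-M3a] of helper72's order-5400 project:
-- a group of order 25 has at most 6 subgroups of order 5.
import Mathlib
import Cfsg.Agent.Lib.Helper23.Simple5400Base

set_option autoImplicit false
set_option linter.unusedSectionVars false

namespace Cfsg.Agent.Lib.Helper23.Simple5400

open Subgroup

variable {G : Type*} [Group G] [Finite G] [IsSimpleGroup G]

attribute [local instance] fact5

/-- a subgroup of order 5 is generated by each of its non-identity elements -/
theorem eq_zpowers_of_card_five {G : Type*} [Group G] (D : Subgroup G) (hD : Nat.card D = 5) {x : G}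
    (hx : x ∈ D) (hx1 : x ≠ 1) : D = Subgroup.zpowers x := by
  have h1 : Subgroup.zpowers (⟨x, hx⟩ : ↥D) = ⊤ :=
    zpowers_eq_top_of_prime_card hD (fun hc => hx1 (congrArg Subtype.val hc))
  have h2 := congrArg (Subgroup.map D.subtype) h1
  rw [MonoidHom.map_zpowers, ← MonoidHom.range_eq_map, Subgroup.range_subtype] at h2
  exact h2.symm

theorem card_order_five_le (P : Sylow 5 G) (hP : Nat.card (P : Subgroup G) = 25) :
    Nat.card {D : Subgroup G // Nat.card D = 5 ∧ D ≤ (P : Subgroup G)} ≤ 6 := by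
  classical
  have : Fintype {D : Subgroup G // Nat.card D = 5 ∧ D ≤ (P : Subgroup G)} := Fintype.ofFinite _
  let β : {D : Subgroup G // Nat.card D = 5 ∧ D ≤ (P : Subgroup G)} → Type _ :=
    fun D => ↥(((D.1 : Subgroup G) : Set G) \ {1})
  have hβ : ∀ D, Nat.card (β D) = 4 := by
    intro D
    show Nat.card ↥(((D.1 : Subgroup G) : Set G) \ {1}) = 4
    rw [Nat.card_coe_set_eq, Set.ncard_sdiff_singleton_of_mem (D.1.one_mem),
      ← Nat.card_coe_set_eq]
    have h5 : Nat.card ↥((D.1 : Subgroup G) : Set G) = 5 := D.2.1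
    rw [h5]
  let f : (Σ D, β D) → ↥(((P : Subgroup G) : Set G) \ {1}) :=
    fun z => ⟨z.2.1, z.1.2.2 z.2.2.1, z.2.2.2⟩
  have hf : Function.Injective f := by
    rintro ⟨D, x⟩ ⟨D', x'⟩ hxx
    have hx : x.1 = x'.1 := congrArg Subtype.val hxx
    have hx1 : x.1 ≠ 1 := fun hc => x.2.2 (Set.mem_singleton_iff.mpr hc)
    have hx'1 : x'.1 ≠ 1 := fun hc => x'.2.2 (Set.mem_singleton_iff.mpr hc)
    have hD : D.1 = D'.1 := by
      rw [eq_zpowers_of_card_five D.1 D.2.1 x.2.1 hx1,
        eq_zpowers_of_card_five D'.1 D'.2.1 x'.2.1 hx'1, hx]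
    have hDD : D = D' := Subtype.ext hD
    subst hDD
    have hxx' : x = x' := Subtype.ext hx
    rw [hxx']
  have h1 : Nat.card (Σ D, β D) = 4 * Nat.card {D : Subgroup G // Nat.card D = 5 ∧
      D ≤ (P : Subgroup G)} := by
    rw [Nat.card_sigma]
    simp only [hβ, Finset.sum_const, Finset.card_univ, smul_eq_mul, Nat.card_eq_fintype_card]
    ring
  have h2 : Nat.card ↥(((P : Subgroup G) : Set G) \ {1}) = 24 := by
    rw [Nat.card_coe_set_eq, Set.ncard_sdiff_singleton_of_mem ((P : Subgroup G).one_mem),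
      ← Nat.card_coe_set_eq]
    have h25 : Nat.card ↥(((P : Subgroup G)) : Set G) = 25 := hP
    rw [h25]
  have h3 := Nat.card_le_card_of_injective f hf
  omega

end Cfsg.Agent.Lib.Helper23.Simple5400
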