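-- helper23: module S0983-[5400-M3b] of helper72's order-5400 project:
-- a Sylow 5-subgroup `P` of order 25 acts freely by conjugation on the Sylow 5-subgroups meeting it
-- trivially, so their number is divisible by 25.
import Mathlib
import Cfsg.Agent.Lib.Helper23.Simple5400Base

set_option autoImplicit false
set_option linter.unusedSectionVars false

namespace Cfsg.Agent.Lib.Helper23.Simple5400

open Subgroup MulAction
open scoped Pointwise

attribute [local instance] fact5

/-- a finite group acting freely on a finite type: the order of the group divides the cardinality -/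
theorem card_dvd_of_free {M α : Type*} [Group M] [MulAction M α] [Finite M] [Finite α]
    (hfree : ∀ a : α, stabilizer M a = ⊥) : Nat.card M ∣ Nat.card α := by
  classical
  have : Fintype (orbitRel.Quotient M α) := Fintype.ofFinite _
  have h1 : Nat.card α = Nat.card (Σ ω : orbitRel.Quotient M α, orbit M ω.out) :=
    Nat.card_congr (selfEquivSigmaOrbits M α)
  have h2 : ∀ ω : orbitRel.Quotient M α, Nat.card (orbit M ω.out) = Nat.card M := by
    intro ω
    rw [Nat.card_congr (orbitEquivQuotientStabilizer M ω.out), hfree]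
    exact Subgroup.index_bot
  rw [h1, Nat.card_sigma]
  simp only [h2, Finset.sum_const, smul_eq_mul]
  exact Dvd.intro_left _ rfl

variable {G : Type*} [Group G] [Finite G] [IsSimpleGroup G]

theorem dvd_card_disjoint (P : Sylow 5 G) (hP : Nat.card (P : Subgroup G) = 25) :
    25 ∣ Nat.card {R : Sylow 5 G // (P : Subgroup G) ⊓ (R : Subgroup G) = ⊥} := by
  classical
  -- the invariant subset
  let B : SubMulAction ↥(P : Subgroup G) (Sylow 5 G) :=
    { carrier := {R : Sylow 5 G | (P : Subgroup G) ⊓ (R : Subgroup G) = ⊥}
      smul_mem' := by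
        intro x R hR
        show (P : Subgroup G) ⊓ ((x • R : Sylow 5 G) : Subgroup G) = ⊥
        rw [Subgroup.eq_bot_iff_forall]
        intro y hy
        obtain ⟨hyP, hyR⟩ := hy
        have hyR' : y ∈ (MulAut.conj (x : G) • (R : Subgroup G)) := by
          rw [← Sylow.coe_subgroup_smul]
          exact hyR
        rw [Subgroup.mem_pointwise_smul_iff_inv_smul_mem, MulAut.smul_def,
          MulAut.conj_inv_apply] at hyR'
        have hmem : (x : G)⁻¹ * y * (x : G) ∈ (P : Subgroup G) ⊓ (R : Subgroup G) :=
          ⟨Subgroup.mul_mem _ (Subgroup.mul_mem _ (Subgroup.inv_mem _ x.2) hyP) x.2, hyR'⟩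
        rw [hR, Subgroup.mem_bot] at hmem
        have : y = (x : G) * ((x : G)⁻¹ * y * (x : G)) * (x : G)⁻¹ := by group
        rw [this, hmem]
        group }
  have hfree : ∀ R : ↥B, stabilizer ↥(P : Subgroup G) R = ⊥ := by
    intro R
    rw [Subgroup.eq_bot_iff_forall]
    intro x hx
    have hx' : x • R = R := hx
    have hx2 : (x : G) • (R.1 : Sylow 5 G) = R.1 := congrArg Subtype.val hx'
    rw [Sylow.smul_eq_iff_mem_normalizer] at hx2
    have hmem : (x : G) ∈ (P : Subgroup G) ⊓ ((R.1 : Sylow 5 G) : Subgroup G) := by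
      rw [← IsPGroup.inf_normalizer_sylow P.isPGroup' R.1]
      exact ⟨x.2, hx2⟩
    have hR : (P : Subgroup G) ⊓ ((R.1 : Sylow 5 G) : Subgroup G) = ⊥ := R.2
    rw [hR, Subgroup.mem_bot] at hmem
    exact Subtype.ext hmem
  have h1 := card_dvd_of_free hfree
  rw [hP] at h1
  exact h1

end Cfsg.Agent.Lib.Helper23.Simple5400
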