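import Mathlib
import Cfsg.Agent.Lib.Helper23.MonomialBasis
import Cfsg.Agent.Lib.Helper23.InvolutionPartition

/-!
# An endomorphism with scalar square permutes some equidimensional decomposition (helper23)
-/

set_option autoImplicit false

namespace Cfsg.Agent.Lib.Helper23

open Module Submodule

section Decomp

variable {F : Type*} [Field F] {V : Type*} [AddCommGroup V] [Module F V] [FiniteDimensional F V]

theorem exists_decomposition_of_sq_scalar (f : V →ₗ[F] V) (z : F) (hz : z ≠ 0)
    (hf : ∀ w, f (f w) = z • w) (a t : ℕ) (ha : 0 < a) (hdim : finrank F V = a * t) :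
    ∃ D : Fin t → Submodule F V, (∀ j, finrank F (D j) = a) ∧ iSupIndep D ∧ iSup D = ⊤ ∧
      ∃ σ : Equiv.Perm (Fin t), ∀ j, (D j).map f = D (σ j) := by
  classical
  obtain ⟨b, τ, c, hτ, hc0, hc⟩ := exists_monomial_basis z hz V f hf
  obtain ⟨P, hP⟩ := exists_invPartition τ hτ a ha t Finset.univ (fun i _ => Finset.mem_univ _)
    (by rw [Finset.card_univ, Fintype.card_fin]; exact hdim)
  have hPc : P.card = t := invPartition_card τ a ha t Finset.univ
    (by rw [Finset.card_univ, Fintype.card_fin]; exact hdim) P hP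
  obtain ⟨h1, h2, h3, h4⟩ := hP
  let e : ↥P ≃ Fin t := Fintype.equivFinOfCardEq (by rw [Fintype.card_coe]; exact hPc)
  let Q : Fin t → Finset (Fin (finrank F V)) := fun j => ((e.symm j : ↥P) : Finset _)
  have hQmem : ∀ j, Q j ∈ P := fun j => (e.symm j).2
  have hQe : ∀ (S : Finset (Fin (finrank F V))) (hS : S ∈ P), Q (e ⟨S, hS⟩) = S := by
    intro S hS
    show ((e.symm (e ⟨S, hS⟩) : ↥P) : Finset _) = S
    rw [Equiv.symm_apply_apply]
  have hQdis : ∀ j k, j ≠ k → Disjoint (Q j) (Q k) := by
    intro j k hjk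
    apply h2 _ (hQmem j) _ (hQmem k)
    intro h
    apply hjk
    have : (e.symm j : ↥P) = e.symm k := Subtype.ext h
    exact e.symm.injective this
  let D : Fin t → Submodule F V := fun j => span F (b '' (Q j : Set (Fin (finrank F V))))
  refine ⟨D, ?_, ?_, ?_, ?_⟩
  · intro j
    have hr : b '' (Q j : Set (Fin (finrank F V))) =
        Set.range (b ∘ (Subtype.val : ↥(Q j) → Fin (finrank F V))) := by
      ext y
      simp only [Set.mem_image, Finset.mem_coe, Set.mem_range, Function.comp_apply,
        Subtype.exists, exists_prop]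
    show finrank F (span F (b '' (Q j : Set (Fin (finrank F V))))) = a
    rw [hr, finrank_span_eq_card (b.linearIndependent.comp _ Subtype.val_injective),
      Fintype.card_coe]
    exact h1 _ (hQmem j)
  · intro j
    show Disjoint (span F (b '' (Q j : Set (Fin (finrank F V)))))
      (⨆ (k) (_ : k ≠ j), span F (b '' (Q k : Set (Fin (finrank F V)))))
    rw [← Submodule.span_iUnion₂, ← Set.image_iUnion₂]
    apply b.linearIndependent.disjoint_span_image
    rw [Set.disjoint_iUnion₂_right]
    intro k hk
    rw [Finset.disjoint_coe]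
    exact hQdis j k (Ne.symm hk)
  · show (⨆ j, span F (b '' (Q j : Set (Fin (finrank F V))))) = ⊤
    rw [← Submodule.span_iUnion, ← Set.image_iUnion]
    have hU : (⋃ j, (Q j : Set (Fin (finrank F V)))) = Set.univ := by
      rw [Set.eq_univ_iff_forall]
      intro i
      obtain ⟨S, hS, hi⟩ := (h3 i).mp (Finset.mem_univ i)
      rw [Set.mem_iUnion]
      refine ⟨e ⟨S, hS⟩, ?_⟩
      rw [hQe S hS]
      exact hi
    rw [hU, Set.image_univ, b.span_eq]
  · -- the permutation
    let σ' : ↥P → ↥P := fun S => ⟨(S : Finset _).image τ, h4 _ S.2⟩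
    have hinv : Function.Involutive σ' := by
      intro S
      apply Subtype.ext
      show ((S : Finset _).image τ).image τ = S
      rw [Finset.image_image]
      have : τ ∘ τ = id := funext hτ
      rw [this, Finset.image_id]
    let σ : Equiv.Perm (Fin t) := (e.symm.trans (hinv.toPerm σ')).trans e
    have hQσ : ∀ j, Q (σ j) = (Q j).image τ := by
      intro j
      show ((e.symm (e (σ' (e.symm j))) : ↥P) : Finset (Fin (finrank F V))) = _
      rw [Equiv.symm_apply_apply]
    refine ⟨σ, fun j => ?_⟩
    show (span F (b '' (Q j : Set (Fin (finrank F V))))).map f =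
      span F (b '' (Q (σ j) : Set (Fin (finrank F V))))
    rw [hQσ j, Submodule.map_span, Finset.coe_image]
    apply le_antisymm
    · rw [Submodule.span_le]
      rintro _ ⟨_, ⟨i, hi, rfl⟩, rfl⟩
      rw [hc i]
      apply Submodule.smul_mem
      apply subset_span
      exact ⟨τ i, ⟨i, hi, rfl⟩, rfl⟩
    · rw [Submodule.span_le]
      rintro _ ⟨_, ⟨i, hi, rfl⟩, rfl⟩
      have : b (τ i) = (c i)⁻¹ • f (b i) := by
        rw [hc i, smul_smul, inv_mul_cancel₀ (hc0 i), one_smul]
      rw [this]
      apply Submodule.smul_mem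
      apply subset_span
      exact ⟨b i, ⟨i, hi, rfl⟩, rfl⟩

end Decomp

end Cfsg.Agent.Lib.Helper23
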