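/-
helper23 shared library: Aschbacher's trichotomy for a standard subgroup `A` of a core-free group
and an involution `t ∈ C_G(A)` (S1347), deduced from the component trichotomy for involution
centralizers (the literal statement of S1322, taken here as a hypothesis `CompTrichotomy`).
All declarations live in `Cfsg.Agent.Lib.Helper23`.
-/
import Mathlib
import Cfsg.Prelude.Def_Local
import Cfsg.Agent.Lib.Helper21.Components
import Cfsg.Agent.Lib.Helper21.Quasisimple
import Cfsg.Agent.Lib.Helper21.LayerSubnormal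
import Cfsg.Agent.Lib.Helper22.Components
import Cfsg.Agent.Lib.Helper22.ComponentsMap
import Cfsg.Agent.Lib.Helper22.PPrimeCore
import Cfsg.Agent.Lib.Helper97.Cores

set_option autoImplicit false

namespace Cfsg.Agent.Lib.Helper23

open Cfsg

universe u

section PLayerLayer

variable {G : Type*} [Group G]

/-- When `O_{p'}(G) = 1`, the `p`-layer is the layer. -/
theorem pLayer_eq_layer_of_pPrimeCore_eq_bot [Finite G] {p : ℕ} [Fact p.Prime]
    (h : pPrimeCore p G = ⊥) : pLayer p G = layer G := by
  have hinj : Function.Injective (QuotientGroup.mk' (pPrimeCore p G)) := by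
    intro a b hab
    have h1 : a⁻¹ * b ∈ pPrimeCore p G := QuotientGroup.eq.mp hab
    rw [h, Subgroup.mem_bot] at h1
    exact (inv_mul_eq_one.mp h1)
  have hsurj : Function.Surjective (QuotientGroup.mk' (pPrimeCore p G)) :=
    QuotientGroup.mk'_surjective _
  let e : G ≃* G ⧸ pPrimeCore p G :=
    MulEquiv.ofBijective (QuotientGroup.mk' (pPrimeCore p G)) ⟨hinj, hsurj⟩
  have hmap := Cfsg.Agent.Lib.Helper22.pLayer_map_eq_layer (G := G) p
  ext x
  constructor
  · intro hx
    have h1 : QuotientGroup.mk' (pPrimeCore p G) x ∈ layer (G ⧸ pPrimeCore p G) := by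
      rw [← hmap]; exact Subgroup.mem_map_of_mem _ hx
    have h2 := Cfsg.Agent.Lib.Helper22.layer_map_le_of_surjective
      (f := e.symm.toMonoidHom) e.symm.surjective (Subgroup.mem_map_of_mem _ h1)
    have h3 : e.symm.toMonoidHom (QuotientGroup.mk' (pPrimeCore p G) x) = x :=
      e.symm_apply_apply x
    rwa [h3] at h2
  · intro hx
    have h1 : QuotientGroup.mk' (pPrimeCore p G) x ∈ layer (G ⧸ pPrimeCore p G) :=
      Cfsg.Agent.Lib.Helper22.layer_map_le_of_surjective hsurj (Subgroup.mem_map_of_mem _ hx)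
    rw [← hmap] at h1
    obtain ⟨y, hy, hyx⟩ := h1
    rwa [← hinj hyx]

end PLayerLayer

section General

variable {G : Type u} [Group G]

theorem mem_map_conj_iff {H : Subgroup G} {g x : G} :
    x ∈ H.map (MulAut.conj g).toMonoidHom ↔ g⁻¹ * x * g ∈ H := by
  constructor
  · rintro ⟨y, hy, rfl⟩
    have : g⁻¹ * ((MulAut.conj g).toMonoidHom y) * g = y := by
      simp [MulAut.conj_apply, mul_assoc]
    rw [this]; exact hy
  · intro h
    exact ⟨g⁻¹ * x * g, h, by simp [MulAut.conj_apply, mul_assoc]⟩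

theorem conj_mem_map_conj {H : Subgroup G} (g : G) {x : G} (hx : x ∈ H) :
    g * x * g⁻¹ ∈ H.map (MulAut.conj g).toMonoidHom :=
  ⟨x, hx, by simp [MulAut.conj_apply]⟩

/-- A quasisimple group with trivial centre is simple. -/
theorem isSimpleGroup_of_isQuasisimple_of_center_eq_bot {Q : Type*} [Group Q]
    (h : IsQuasisimple Q) (hc : Subgroup.center Q = ⊥) : IsSimpleGroup Q := by
  have hinj : Function.Injective (QuotientGroup.mk' (Subgroup.center Q)) := by
    intro a b hab
    have h1 : a⁻¹ * b ∈ Subgroup.center Q := QuotientGroup.eq.mp hab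
    rw [hc, Subgroup.mem_bot] at h1
    exact (inv_mul_eq_one.mp h1)
  let e : Q ≃* Q ⧸ Subgroup.center Q :=
    MulEquiv.ofBijective (QuotientGroup.mk' (Subgroup.center Q))
      ⟨hinj, QuotientGroup.mk'_surjective _⟩
  have := h.2
  exact e.isSimpleGroup

variable [Finite G]

/-- A subnormal subgroup of a tightly embedded subgroup `K` of a core-free group which is
normalized by some element outside `N_G(K)` is trivial. -/
theorem eq_bot_of_le_tightlyEmbedded {K M : Subgroup G} (hK : IsTightlyEmbedded K)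
    (hO : oddCore G = ⊥) (hMs : M.IsSubnormal) (hMK : M ≤ K) {g : G}
    (hg : g ∉ Subgroup.normalizer (K : Set G)) (hgM : ∀ x ∈ M, g⁻¹ * x * g ∈ M) : M = ⊥ := by
  have hodd := hK.2 g hg
  have hle : M ≤ K ⊓ K.map (MulAut.conj g).toMonoidHom := by
    intro x hx
    exact ⟨hMK hx, mem_map_conj_iff.mpr (hMK (hgM x hx))⟩
  have hMo : Odd (Nat.card M) := Odd.of_dvd_nat hodd (Subgroup.card_dvd_of_le hle)
  have h1 := Cfsg.Agent.Lib.Helper22.le_pPrimeCore_of_isSubnormal_of_coprime 2 hMs
    hMo.coprime_two_right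
  rw [eq_bot_iff]
  calc M ≤ pPrimeCore 2 G := h1
    _ = ⊥ := hO

omit [Finite G] in
theorem le_centralizer_involution {A : Subgroup G} {t : G}
    (htA : t ∈ Subgroup.centralizer (A : Set G)) :
    A ≤ Subgroup.centralizer ({t} : Set G) := by
  intro a ha
  rw [Subgroup.mem_centralizer_iff]
  intro h hh
  rw [Set.mem_singleton_iff] at hh
  subst hh
  exact (Subgroup.mem_centralizer_iff.mp htA a ha).symm

omit [Finite G] in
/-- For a standard subgroup `A` and an involution `t ∈ C_G(A)`: `C_G(t) ≤ N_G(A)`. -/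
theorem centralizer_involution_le_normalizer {A : Subgroup G} (hA : IsStandardSubgroup A) {t : G}
    (ht : orderOf t = 2) (htA : t ∈ Subgroup.centralizer (A : Set G)) :
    Subgroup.centralizer ({t} : Set G) ≤ Subgroup.normalizer (A : Set G) := by
  intro g hg
  rw [hA.2.2.2]
  by_contra hgn
  have hodd := hA.2.1.2 g hgn
  have hgt : t * g = g * t := Subgroup.mem_centralizer_iff.mp hg t rfl
  have htmem : t ∈ Subgroup.centralizer (A : Set G) ⊓
      (Subgroup.centralizer (A : Set G)).map (MulAut.conj g).toMonoidHom := by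
    refine ⟨htA, mem_map_conj_iff.mpr ?_⟩
    have : g⁻¹ * t * g = t := by rw [mul_assoc, hgt, inv_mul_cancel_left]
    rw [this]; exact htA
  have h2 : 2 ∣ Nat.card ↥(Subgroup.centralizer (A : Set G) ⊓
      (Subgroup.centralizer (A : Set G)).map (MulAut.conj g).toMonoidHom) := by
    have h3 := orderOf_dvd_natCard (⟨t, htmem⟩ : ↥(Subgroup.centralizer (A : Set G) ⊓
      (Subgroup.centralizer (A : Set G)).map (MulAut.conj g).toMonoidHom))
    rwa [Subgroup.orderOf_mk, ht] at h3
  exact (Nat.not_even_iff_odd.mpr hodd) (even_iff_two_dvd.mpr h2)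

omit [Finite G] in
/-- For a standard subgroup `A` and an involution `t ∈ C_G(A)`, `A` is a component of `C_G(t)`. -/
theorem isComponent_subgroupOf_centralizer_involution {A : Subgroup G}
    (hA : IsStandardSubgroup A) {t : G} (ht : orderOf t = 2)
    (htA : t ∈ Subgroup.centralizer (A : Set G)) :
    IsComponent (A.subgroupOf (Subgroup.centralizer ({t} : Set G))) := by
  have hle := le_centralizer_involution htA
  have hn : (A.subgroupOf (Subgroup.centralizer ({t} : Set G))).Normal :=
    (Subgroup.normal_subgroupOf_iff_le_normalizer hle).mpr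
      (centralizer_involution_le_normalizer hA ht htA)
  exact ⟨hn.isSubnormal,
    Cfsg.Agent.Lib.Helper29.isQuasisimple_of_mulEquiv (Subgroup.subgroupOfEquivOfLe hle).symm hA.1⟩

/-- A standard subgroup which is a component is normal. -/
theorem normal_of_isComponent_of_standard {A : Subgroup G} (hA : IsStandardSubgroup A)
    (hc : IsComponent A) : A.Normal := by
  have key : ∀ g : G, A.map (MulAut.conj g).toMonoidHom = A := by
    intro g
    by_contra hne
    exact hA.2.2.1 g hne (Cfsg.Agent.Lib.Helper21.component_commutator_eq_bot_of_ne hc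
      (Cfsg.Agent.Lib.Helper21.isComponent_map_conj hc g) (Ne.symm hne))
  constructor
  intro a ha g
  have := conj_mem_map_conj (H := A) g ha
  rwa [key g] at this

omit [Finite G] in
/-- A quasisimple subgroup of the layer which is not a component is not normalized by the layer. -/
theorem exists_mem_layer_not_mem_normalizer {A : Subgroup G} (hq : IsQuasisimple A)
    (hAl : A ≤ layer G) (hnc : ¬ IsComponent A) :
    ∃ g ∈ layer G, g ∉ Subgroup.normalizer (A : Set G) := by
  by_contra hcon
  push Not at hcon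
  apply hnc
  refine ⟨?_, hq⟩
  have hn : (A.subgroupOf (layer G)).Normal :=
    (Subgroup.normal_subgroupOf_iff_le_normalizer hAl).mpr hcon
  exact Subgroup.IsSubnormal.trans hAl hn.isSubnormal
    (Cfsg.Agent.Lib.Helper29.layer_normal G).isSubnormal

/-- Case `A ≤ D`, `D` a component: if `C_G(E(G)) = 1` and no component centralizes `A`,
then `E(G) = D` is simple. -/
theorem layer_eq_and_simple_of_le_component {A D : Subgroup G} (hD : IsComponent D) (hAD : A ≤ D)
    (hcent : Subgroup.centralizer (layer G : Set G) = ⊥)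
    (hnocomp : ∀ D' : Subgroup G, IsComponent D' → ¬ D' ≤ Subgroup.centralizer (A : Set G)) :
    layer G = D ∧ IsSimpleGroup D := by
  have hlayer : layer G = D := by
    apply le_antisymm
    · apply sSup_le
      intro D' hD'
      by_contra hle
      have hne : D' ≠ D := fun h => hle (h ▸ le_rfl)
      have h1 := Cfsg.Agent.Lib.Helper21.component_commutator_eq_bot_of_ne hD' hD hne
      rw [Subgroup.commutator_eq_bot_iff_le_centralizer] at h1
      exact hnocomp D' hD' (h1.trans (Subgroup.centralizer_le (by exact_mod_cast hAD)))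
    · exact Cfsg.Agent.Lib.Helper21.component_le_layer hD
  refine ⟨hlayer, ?_⟩
  apply isSimpleGroup_of_isQuasisimple_of_center_eq_bot hD.2
  rw [eq_bot_iff]
  intro x hx
  have h1 : (x : G) ∈ Subgroup.centralizer (layer G : Set G) := by
    rw [hlayer, Subgroup.mem_centralizer_iff]
    intro d hd
    have := Subgroup.mem_center_iff.mp hx ⟨d, hd⟩
    exact congrArg Subtype.val this
  rw [hcent, Subgroup.mem_bot] at h1
  rw [Subgroup.mem_bot]
  exact Subtype.ext h1

end General

section Swap

variable {G : Type u} [Group G]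

/-- If no component centralizes `A ≤ D·Dᵗ`, every component is `D` or `Dᵗ`. -/
theorem swap_component_eq_or [Finite G] {A D : Subgroup G} {t : G} (hD : IsComponent D)
    (hAle : A ≤ D ⊔ D.map (MulAut.conj t).toMonoidHom)
    (hnocomp : ∀ D' : Subgroup G, IsComponent D' → ¬ D' ≤ Subgroup.centralizer (A : Set G))
    {D' : Subgroup G} (hD' : IsComponent D') :
    D' = D ∨ D' = D.map (MulAut.conj t).toMonoidHom := by
  by_contra hcon
  push Not at hcon
  have hDt := Cfsg.Agent.Lib.Helper21.isComponent_map_conj hD t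
  have h1 := Cfsg.Agent.Lib.Helper21.component_commutator_eq_bot_of_ne hD hD' (Ne.symm hcon.1)
  have h2 := Cfsg.Agent.Lib.Helper21.component_commutator_eq_bot_of_ne hDt hD' (Ne.symm hcon.2)
  rw [Subgroup.commutator_eq_bot_iff_le_centralizer] at h1 h2
  have h3 : A ≤ Subgroup.centralizer (D' : Set G) := hAle.trans (sup_le h1 h2)
  exact hnocomp D' hD' (Subgroup.le_centralizer_iff.mp h3)

theorem swap_sup_eq_layer [Finite G] {A D : Subgroup G} {t : G} (hD : IsComponent D)
    (hAle : A ≤ D ⊔ D.map (MulAut.conj t).toMonoidHom)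
    (hnocomp : ∀ D' : Subgroup G, IsComponent D' → ¬ D' ≤ Subgroup.centralizer (A : Set G)) :
    D ⊔ D.map (MulAut.conj t).toMonoidHom = layer G := by
  have hDt := Cfsg.Agent.Lib.Helper21.isComponent_map_conj hD t
  apply le_antisymm
  · exact sup_le (Cfsg.Agent.Lib.Helper21.component_le_layer hD)
      (Cfsg.Agent.Lib.Helper21.component_le_layer hDt)
  · apply sSup_le
    intro D' hD'
    rcases swap_component_eq_or hD hAle hnocomp hD' with h | h
    · rw [h]; exact le_sup_left
    · rw [h]; exact le_sup_right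

/-- Elements lying in both of two commuting subgroups centralize their join. -/
theorem mem_centralizer_sup_of_mem_inf {D E : Subgroup G} (hcomm : ⁅D, E⁆ = ⊥) {x : G}
    (hxD : x ∈ D) (hxc : ∀ d ∈ D, d * x = x * d) :
    x ∈ Subgroup.centralizer ((D ⊔ E : Subgroup G) : Set G) := by
  have hDE : D ≤ Subgroup.centralizer (E : Set G) :=
    Subgroup.commutator_eq_bot_iff_le_centralizer.mp hcomm
  have hED : E ≤ Subgroup.centralizer (D : Set G) := Subgroup.le_centralizer_iff.mp hDE
  have h1 : D ≤ Subgroup.centralizer ({x} : Set G) := by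
    intro d hd
    rw [Subgroup.mem_centralizer_iff]
    intro h hh
    rw [Set.mem_singleton_iff] at hh
    subst hh
    exact (hxc d hd).symm
  have h2 : E ≤ Subgroup.centralizer ({x} : Set G) := by
    intro b hb
    rw [Subgroup.mem_centralizer_iff]
    intro h hh
    rw [Set.mem_singleton_iff] at hh
    subst hh
    exact Subgroup.mem_centralizer_iff.mp (hED hb) h hxD
  rw [Subgroup.mem_centralizer_iff]
  intro h hh
  have := Subgroup.mem_centralizer_iff.mp (sup_le h1 h2 hh) x rfl
  exact this.symm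

/-- The diagonal map `d ↦ d · t d t⁻¹` of a subgroup commuting with its `t`-conjugate. -/
def diagHom (D : Subgroup G) (t : G)
    (hcomm : ∀ a ∈ D, ∀ b ∈ D, a * (t * b * t⁻¹) = (t * b * t⁻¹) * a) : D →* G :=
  MonoidHom.mk' (fun d : D => (d : G) * (t * d * t⁻¹)) (by
    intro a b
    have hc := hcomm b b.2 a a.2
    calc ((a * b : D) : G) * (t * ((a * b : D) : G) * t⁻¹)
        = (a : G) * ((b : G) * (t * a * t⁻¹)) * (t * b * t⁻¹) := by
          rw [Subgroup.coe_mul]; group
      _ = (a : G) * ((t * a * t⁻¹) * (b : G)) * (t * b * t⁻¹) := by rw [hc]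
      _ = _ := by group)

theorem diagHom_apply (D : Subgroup G) (t : G)
    (hcomm : ∀ a ∈ D, ∀ b ∈ D, a * (t * b * t⁻¹) = (t * b * t⁻¹) * a) (d : D) :
    diagHom D t hcomm d = (d : G) * (t * d * t⁻¹) := rfl

theorem diagHom_injective {D : Subgroup G} {t : G}
    (hcomm : ∀ a ∈ D, ∀ b ∈ D, a * (t * b * t⁻¹) = (t * b * t⁻¹) * a)
    (hinf : D ⊓ D.map (MulAut.conj t).toMonoidHom = ⊥) :
    Function.Injective (diagHom D t hcomm) := by
  rw [injective_iff_map_eq_one]
  intro d hd
  rw [diagHom_apply] at hd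
  have h1 : (d : G) = (t * (d : G)⁻¹ * t⁻¹) := by
    have h0 : (d : G) = (t * d * t⁻¹)⁻¹ := eq_inv_of_mul_eq_one_left hd
    have h00 : (t * (d : G) * t⁻¹)⁻¹ = t * (d : G)⁻¹ * t⁻¹ := by group
    rw [← h00]; exact h0
  have h2 : (d : G) ∈ D ⊓ D.map (MulAut.conj t).toMonoidHom := by
    refine ⟨d.2, ?_⟩
    rw [h1]
    exact conj_mem_map_conj t (D.inv_mem d.2)
  rw [hinf, Subgroup.mem_bot] at h2
  exact Subtype.ext h2

theorem swap_inf_centralizer_eq_range {D : Subgroup G} {t : G} (htt : t * t = 1)
    (hcomm : ∀ a ∈ D, ∀ b ∈ D, a * (t * b * t⁻¹) = (t * b * t⁻¹) * a)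
    (hinf : D ⊓ D.map (MulAut.conj t).toMonoidHom = ⊥) :
    (D ⊔ D.map (MulAut.conj t).toMonoidHom) ⊓ Subgroup.centralizer ({t} : Set G)
      = (diagHom D t hcomm).range := by
  have htinv : t⁻¹ = t := inv_eq_of_mul_eq_one_left htt
  apply le_antisymm
  · rintro x ⟨hx1, hx2⟩
    -- write `x = a * (t c t⁻¹)`
    have hcomm' : ∀ (m : D) (n : D.map (MulAut.conj t).toMonoidHom),
        Commute (D.subtype m) ((D.map (MulAut.conj t).toMonoidHom).subtype n) := by
      intro m n
      obtain ⟨c, hc, hcn⟩ := n.2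
      have : ((D.map (MulAut.conj t).toMonoidHom).subtype n) = t * c * t⁻¹ := by
        rw [Subgroup.coe_subtype, ← hcn]; simp [MulAut.conj_apply]
      rw [this]
      exact hcomm m m.2 c hc
    have hrange := MonoidHom.noncommCoprod_range D.subtype
      (D.map (MulAut.conj t).toMonoidHom).subtype hcomm'
    rw [Subgroup.range_subtype, Subgroup.range_subtype] at hrange
    rw [← hrange] at hx1
    obtain ⟨⟨a, b⟩, hab⟩ := hx1
    rw [MonoidHom.noncommCoprod_apply] at hab
    obtain ⟨c, hc, hcb⟩ := b.2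
    have hb : (b : G) = t * c * t⁻¹ := by rw [← hcb]; simp [MulAut.conj_apply]
    have hx : x = (a : G) * (t * c * t⁻¹) := by
      rw [← hab, ← hb]; rfl
    have hxt : t * x = x * t := Subgroup.mem_centralizer_iff.mp hx2 t rfl
    have e1 : t * x * t⁻¹ = x := by rw [hxt, mul_inv_cancel_right]
    have e2 : t * ((a : G) * (t * c * t⁻¹)) * t⁻¹ = (t * a * t⁻¹) * c := by
      have : t * ((a : G) * (t * c * t⁻¹)) * t⁻¹
          = (t * a * t⁻¹) * ((t * t) * c * (t * t)⁻¹) := by group
      rw [this, htt]; group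
    have e3 : (a : G) * (t * c * t⁻¹) = c * (t * a * t⁻¹) := by
      rw [hcomm c hc a a.2, ← e2, ← hx, e1]
    have e4 : c⁻¹ * (a : G) = t * ((a : G) * c⁻¹) * t⁻¹ := by
      have : c⁻¹ * (a : G) = (t * a * t⁻¹) * (t * c * t⁻¹)⁻¹ := by
        rw [eq_mul_inv_iff_mul_eq, mul_assoc, e3, inv_mul_cancel_left]
      rw [this]; group
    have h5 : c⁻¹ * (a : G) ∈ D ⊓ D.map (MulAut.conj t).toMonoidHom := by
      refine ⟨D.mul_mem (D.inv_mem hc) a.2, ?_⟩
      rw [e4]
      exact conj_mem_map_conj t (D.mul_mem a.2 (D.inv_mem hc))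
    rw [hinf, Subgroup.mem_bot] at h5
    have hca : c = (a : G) := by
      have := inv_mul_eq_one.mp h5
      exact this
    refine ⟨a, ?_⟩
    rw [diagHom_apply, hx, hca]
  · rintro _ ⟨d, rfl⟩
    rw [diagHom_apply]
    refine ⟨Subgroup.mul_mem _ (Subgroup.mem_sup_left d.2)
      (Subgroup.mem_sup_right (conj_mem_map_conj t d.2)), ?_⟩
    show _ ∈ Subgroup.centralizer _
    rw [Subgroup.mem_centralizer_iff]
    intro h hh
    rw [Set.mem_singleton_iff] at hh
    subst hh
    have hc := hcomm d d.2 d d.2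
    calc h * ((d : G) * (h * d * h⁻¹))
        = (h * d * h⁻¹) * ((h * h) * d) * h⁻¹ := by group
      _ = (h * d * h⁻¹) * (d : G) * h⁻¹ := by rw [htt, one_mul]
      _ = (d : G) * (h * d * h⁻¹) * h⁻¹ := by rw [hc]
      _ = (d : G) * (h * d * h⁻¹) * h := by rw [htinv]

theorem map_conj_mul (D : Subgroup G) (a b : G) :
    D.map (MulAut.conj (a * b)).toMonoidHom
      = (D.map (MulAut.conj b).toMonoidHom).map (MulAut.conj a).toMonoidHom := by
  ext x
  rw [mem_map_conj_iff, mem_map_conj_iff, mem_map_conj_iff]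
  have : (a * b)⁻¹ * x * (a * b) = b⁻¹ * (a⁻¹ * x * a) * b := by group
  rw [this]

theorem map_conj_one (D : Subgroup G) : D.map (MulAut.conj (1 : G)).toMonoidHom = D := by
  ext x
  rw [mem_map_conj_iff]
  simp

/-- The swap case of the trichotomy. -/
theorem swap_case [Finite G] {A D : Subgroup G} {t : G} (ht : orderOf t = 2)
    (hA : IsStandardSubgroup A) (htA : t ∈ Subgroup.centralizer (A : Set G))
    (hD : IsComponent D) (hDt : D.map (MulAut.conj t).toMonoidHom ≠ D)
    (hAle : A ≤ (D ⊔ D.map (MulAut.conj t).toMonoidHom) ⊓ Subgroup.centralizer ({t} : Set G))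
    (hcent : Subgroup.centralizer (layer G : Set G) = ⊥)
    (hnocomp : ∀ D' : Subgroup G, IsComponent D' → ¬ D' ≤ Subgroup.centralizer (A : Set G)) :
    IsSimpleGroup D ∧ ¬ IsMulCommutative D ∧ Nonempty (D ≃* A) ∧
      (∀ a ∈ D, ∀ b ∈ D.map (MulAut.conj t).toMonoidHom, a * b = b * a) ∧
      D ⊓ D.map (MulAut.conj t).toMonoidHom = ⊥ ∧
      D ⊔ D.map (MulAut.conj t).toMonoidHom = layer G ∧
      Subgroup.centralizer (A : Set G) = Subgroup.zpowers t := by
  have hDtc : IsComponent (D.map (MulAut.conj t).toMonoidHom) :=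
    Cfsg.Agent.Lib.Helper21.isComponent_map_conj hD t
  have htt : t * t = 1 := by
    have := pow_orderOf_eq_one t
    rwa [ht, pow_two] at this
  have hAle1 : A ≤ D ⊔ D.map (MulAut.conj t).toMonoidHom := hAle.trans inf_le_left
  have hlayer : D ⊔ D.map (MulAut.conj t).toMonoidHom = layer G :=
    swap_sup_eq_layer hD hAle1 hnocomp
  have hcomm0 : ⁅D, D.map (MulAut.conj t).toMonoidHom⁆ = ⊥ :=
    Cfsg.Agent.Lib.Helper21.component_commutator_eq_bot_of_ne hD hDtc (Ne.symm hDt)
  have hDDt : D ≤ Subgroup.centralizer ((D.map (MulAut.conj t).toMonoidHom : Subgroup G) : Set G) :=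
    Subgroup.commutator_eq_bot_iff_le_centralizer.mp hcomm0
  have hcommel : ∀ a ∈ D, ∀ b ∈ D.map (MulAut.conj t).toMonoidHom, a * b = b * a := by
    intro a ha b hb
    exact (Subgroup.mem_centralizer_iff.mp (hDDt ha) b hb).symm
  have hcomm : ∀ a ∈ D, ∀ b ∈ D, a * (t * b * t⁻¹) = (t * b * t⁻¹) * a :=
    fun a ha b hb => hcommel a ha _ (conj_mem_map_conj t hb)
  have hcent' : ∀ x : G, x ∈ Subgroup.centralizer
      ((D ⊔ D.map (MulAut.conj t).toMonoidHom : Subgroup G) : Set G) → x = 1 := by
    intro x hx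
    rw [hlayer, hcent, Subgroup.mem_bot] at hx
    exact hx
  have hinf : D ⊓ D.map (MulAut.conj t).toMonoidHom = ⊥ := by
    rw [eq_bot_iff]
    rintro x ⟨hxD, hxDt⟩
    rw [Subgroup.mem_bot]
    apply hcent'
    apply mem_centralizer_sup_of_mem_inf hcomm0 hxD
    intro d hd
    exact hcommel d hd x hxDt
  have hcenterD : Subgroup.center D = ⊥ := by
    rw [eq_bot_iff]
    intro x hx
    have h1 : (x : G) = 1 := by
      apply hcent'
      apply mem_centralizer_sup_of_mem_inf hcomm0 x.2
      intro d hd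
      exact congrArg Subtype.val (Subgroup.mem_center_iff.mp hx ⟨d, hd⟩)
    rw [Subgroup.mem_bot]
    exact Subtype.ext h1
  have hDsimple : IsSimpleGroup D :=
    isSimpleGroup_of_isQuasisimple_of_center_eq_bot hD.2 hcenterD
  -- the diagonal
  have hδinj := diagHom_injective hcomm hinf
  have hrange := swap_inf_centralizer_eq_range htt hcomm hinf
  have hAr : A ≤ (diagHom D t hcomm).range := by rw [← hrange]; exact hAle
  have hCN := centralizer_involution_le_normalizer hA ht htA
  have hδC : ∀ d, diagHom D t hcomm d ∈ Subgroup.centralizer ({t} : Set G) := fun d => by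
    have : diagHom D t hcomm d ∈ (diagHom D t hcomm).range := ⟨d, rfl⟩
    rw [← hrange] at this
    exact this.2
  have hnorm : (A.comap (diagHom D t hcomm)).Normal := by
    constructor
    intro x hx d
    rw [Subgroup.mem_comap] at hx ⊢
    rw [map_mul, map_mul, map_inv]
    exact (Subgroup.mem_normalizer_iff.mp (hCN (hδC d)) _).mp hx
  have hAeq : A = (diagHom D t hcomm).range := by
    rcases hnorm.eq_bot_or_eq_top with h | h
    · exfalso
      have hbot : A = ⊥ := by
        rw [eq_bot_iff]
        intro a ha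
        obtain ⟨d, rfl⟩ := hAr ha
        have hd : d ∈ A.comap (diagHom D t hcomm) := ha
        rw [h, Subgroup.mem_bot] at hd
        rw [hd, map_one]
        exact Subgroup.mem_bot.mpr rfl
      have hnt := Cfsg.Agent.Lib.Helper21.qs_nontrivial hA.1
      rw [hbot] at hnt
      exact not_nontrivial _ hnt
    · apply le_antisymm hAr
      rintro _ ⟨d, rfl⟩
      have : d ∈ A.comap (diagHom D t hcomm) := by rw [h]; trivial
      exact this
  have hiso : Nonempty (D ≃* A) :=
    ⟨(MonoidHom.ofInjective hδinj).trans (MulEquiv.subgroupCongr hAeq.symm)⟩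
  have hcomp2 : ∀ D' : Subgroup G, IsComponent D' →
      D' = D ∨ D' = D.map (MulAut.conj t).toMonoidHom :=
    fun D' h => swap_component_eq_or hD hAle1 hnocomp h
  -- an element of `C_G(A)` normalizing `D` is trivial
  have hkey : ∀ k ∈ Subgroup.centralizer (A : Set G),
      D.map (MulAut.conj k).toMonoidHom = D → k = 1 := by
    intro k hk hkD
    have hkDt : (D.map (MulAut.conj t).toMonoidHom).map (MulAut.conj k).toMonoidHom
        = D.map (MulAut.conj t).toMonoidHom := by
      rcases hcomp2 _ (Cfsg.Agent.Lib.Helper21.isComponent_map_conj hDtc k) with h | h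
      · exfalso
        have h' : (D.map (MulAut.conj t).toMonoidHom).map (MulAut.conj k).toMonoidHom
            = D.map (MulAut.conj k).toMonoidHom := by rw [h, hkD]
        exact hDt (Subgroup.map_injective (MulAut.conj k).injective h')
      · exact h
    have hcd : ∀ d ∈ D, k * d * k⁻¹ = d ∧ k * (t * d * t⁻¹) * k⁻¹ = t * d * t⁻¹ := by
      intro d hd
      have ha : d * (t * d * t⁻¹) ∈ A := by
        rw [hAeq]; exact ⟨⟨d, hd⟩, rfl⟩
      have hka : (d * (t * d * t⁻¹)) * k = k * (d * (t * d * t⁻¹)) :=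
        Subgroup.mem_centralizer_iff.mp hk _ ha
      have hd' : k * d * k⁻¹ ∈ D := by
        have := conj_mem_map_conj (H := D) k hd
        rwa [hkD] at this
      have he : t * d * t⁻¹ ∈ D.map (MulAut.conj t).toMonoidHom := conj_mem_map_conj t hd
      have he' : k * (t * d * t⁻¹) * k⁻¹ ∈ D.map (MulAut.conj t).toMonoidHom := by
        have := conj_mem_map_conj (H := D.map (MulAut.conj t).toMonoidHom) k he
        rwa [hkDt] at this
      have h1 : (k * d * k⁻¹) * (k * (t * d * t⁻¹) * k⁻¹) = d * (t * d * t⁻¹) := by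
        calc (k * d * k⁻¹) * (k * (t * d * t⁻¹) * k⁻¹)
            = k * (d * (t * d * t⁻¹)) * k⁻¹ := by group
          _ = d * (t * d * t⁻¹) := by rw [← hka, mul_inv_cancel_right]
      have h2 : d⁻¹ * (k * d * k⁻¹) = (t * d * t⁻¹) * (k * (t * d * t⁻¹) * k⁻¹)⁻¹ := by
        rw [eq_mul_inv_iff_mul_eq, mul_assoc, h1, inv_mul_cancel_left]
      have h3 : d⁻¹ * (k * d * k⁻¹) ∈ D ⊓ D.map (MulAut.conj t).toMonoidHom := by
        refine ⟨D.mul_mem (D.inv_mem hd) hd', ?_⟩
        rw [h2]
        exact Subgroup.mul_mem _ he (Subgroup.inv_mem _ he')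
      rw [hinf, Subgroup.mem_bot] at h3
      have h4 : k * d * k⁻¹ = d := (inv_mul_eq_one.mp h3).symm
      refine ⟨h4, ?_⟩
      rw [h4] at h1
      exact mul_left_cancel h1
    apply hcent'
    have h1 : D ≤ Subgroup.centralizer ({k} : Set G) := by
      intro d hd
      rw [Subgroup.mem_centralizer_iff]
      intro h hh
      rw [Set.mem_singleton_iff] at hh
      subst hh
      exact mul_inv_eq_iff_eq_mul.mp (hcd d hd).1
    have h2 : D.map (MulAut.conj t).toMonoidHom ≤ Subgroup.centralizer ({k} : Set G) := by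
      rintro _ ⟨d, hd, rfl⟩
      rw [Subgroup.mem_centralizer_iff]
      intro h hh
      rw [Set.mem_singleton_iff] at hh
      subst hh
      have := (hcd d hd).2
      have h3 : (MulAut.conj t).toMonoidHom d = t * d * t⁻¹ := by simp [MulAut.conj_apply]
      rw [h3]
      exact mul_inv_eq_iff_eq_mul.mp this
    rw [Subgroup.mem_centralizer_iff]
    intro h hh
    exact (Subgroup.mem_centralizer_iff.mp (sup_le h1 h2 hh) k rfl).symm
  have hK : Subgroup.centralizer (A : Set G) = Subgroup.zpowers t := by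
    apply le_antisymm
    · intro k hk
      rcases hcomp2 _ (Cfsg.Agent.Lib.Helper21.isComponent_map_conj hD k) with h | h
      · rw [hkey k hk h]; exact one_mem _
      · have htk : t * k ∈ Subgroup.centralizer (A : Set G) := Subgroup.mul_mem _ htA hk
        have h2 : D.map (MulAut.conj (t * k)).toMonoidHom = D := by
          rw [map_conj_mul, h, ← map_conj_mul, htt, map_conj_one]
        have h3 := hkey _ htk h2
        have hk' : k = t⁻¹ := eq_inv_of_mul_eq_one_right h3
        rw [hk']
        exact Subgroup.inv_mem _ (Subgroup.mem_zpowers t)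
    · rw [Subgroup.zpowers_le]; exact htA
  exact ⟨hDsimple, Cfsg.Agent.Lib.Helper21.qs_not_isMulCommutative hD.2, hiso, hcommel, hinf,
    hlayer, hK⟩

end Swap

section Main

/-- The literal statement of S1322 (component trichotomy for involution centralizers),
as a proposition. -/
def CompTrichotomy.{v} : Prop :=
  ∀ {G : Type v} [Group G] [Finite G] (_hL2 : Cfsg.pLayer 2 G = Cfsg.layer G) (t : G)
    (_ht : orderOf t = 2) (L : Subgroup G) (_hLt : L ≤ Subgroup.centralizer ({t} : Set G))
    (_hL : Cfsg.IsComponent (L.subgroupOf (Subgroup.centralizer ({t} : Set G)))),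
    ∃ D : Subgroup G, Cfsg.IsComponent D ∧ (L = D ∨ (L < D ∧ D = ⁅D, Subgroup.zpowers t⁆) ∨
      (D.map (MulAut.conj t).toMonoidHom ≠ D ∧
        L = (Cfsg.layer ↥((D ⊔ D.map (MulAut.conj t).toMonoidHom) ⊓
          Subgroup.centralizer ({t} : Set G))).map
            ((D ⊔ D.map (MulAut.conj t).toMonoidHom) ⊓
              Subgroup.centralizer ({t} : Set G)).subtype))

/-- Aschbacher's trichotomy for a standard subgroup of a core-free group (S1347), from the
component trichotomy S1322. -/
theorem standard_trichotomy_of (h1322 : CompTrichotomy.{u}) {G : Type u} [Group G] [Finite G]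
    (A : Subgroup G) (hA : Cfsg.IsStandardSubgroup A) (hO : Cfsg.oddCore G = ⊥) (t : G)
    (ht : orderOf t = 2) (htA : t ∈ Subgroup.centralizer (A : Set G)) :
    A.Normal ∨ (∃ X : Subgroup G, IsSimpleGroup ↥X ∧ ¬ IsMulCommutative ↥X ∧
      Nonempty (↥X ≃* ↥A) ∧ (∀ a ∈ X, ∀ b ∈ X.map (MulAut.conj t).toMonoidHom, a * b = b * a) ∧
      X ⊓ X.map (MulAut.conj t).toMonoidHom = ⊥ ∧
      X ⊔ X.map (MulAut.conj t).toMonoidHom = Cfsg.layer G ∧
      Subgroup.centralizer (A : Set G) = Subgroup.zpowers t) ∨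
    (A ≤ Cfsg.layer G ∧ IsSimpleGroup ↥(Cfsg.layer G) ∧ ¬ IsMulCommutative ↥(Cfsg.layer G)) := by
  have : Fact (Nat.Prime 2) := ⟨Nat.prime_two⟩
  have hL2 : pLayer 2 G = layer G := pLayer_eq_layer_of_pPrimeCore_eq_bot hO
  obtain ⟨D, hD, hcase⟩ := h1322 hL2 t ht A (le_centralizer_involution htA)
    (isComponent_subgroupOf_centralizer_involution hA ht htA)
  by_cases hAc : IsComponent A
  · left; exact normal_of_isComponent_of_standard hA hAc
  have hDl : D ≤ layer G := Cfsg.Agent.Lib.Helper21.component_le_layer hD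
  have hDtl : D.map (MulAut.conj t).toMonoidHom ≤ layer G :=
    Cfsg.Agent.Lib.Helper21.component_le_layer
      (Cfsg.Agent.Lib.Helper21.isComponent_map_conj hD t)
  have hAl : A ≤ layer G := by
    rcases hcase with h | ⟨h, _⟩ | ⟨_, h⟩
    · rw [h]; exact hDl
    · exact h.le.trans hDl
    · rw [h]
      exact (Subgroup.map_subtype_le _).trans (inf_le_left.trans (sup_le hDl hDtl))
  obtain ⟨g, hgl, hgn⟩ := exists_mem_layer_not_mem_normalizer hA.1 hAl hAc
  have hgK : g ∉ Subgroup.normalizer ((Subgroup.centralizer (A : Set G) : Subgroup G) : Set G) := by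
    rwa [← hA.2.2.2]
  have hln := Cfsg.Agent.Lib.Helper29.layer_normal G
  have hcent : Subgroup.centralizer (layer G : Set G) = ⊥ := by
    apply eq_bot_of_le_tightlyEmbedded hA.2.1 hO _ _ hgK
    · intro x hx
      have hn : (Subgroup.centralizer (layer G : Set G)).Normal := inferInstance
      have := hn.conj_mem x hx g⁻¹
      rwa [inv_inv] at this
    · have hn : (Subgroup.centralizer (layer G : Set G)).Normal := inferInstance
      exact hn.isSubnormal
    · exact Subgroup.centralizer_le (by exact_mod_cast hAl)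
  have hnocomp : ∀ D' : Subgroup G, IsComponent D' →
      ¬ D' ≤ Subgroup.centralizer (A : Set G) := by
    intro D' hD' hle
    apply Cfsg.Agent.Lib.Helper22.component_ne_bot hD'
    apply eq_bot_of_le_tightlyEmbedded hA.2.1 hO hD'.1 hle hgK
    intro x hx
    have hgn' : g⁻¹ ∈ Subgroup.normalizer (D' : Set G) :=
      Subgroup.inv_mem _ (Cfsg.Agent.Lib.Helper21.layer_le_normalizer_component hD' hgl)
    have := (Subgroup.mem_normalizer_iff.mp hgn' x).mp hx
    rwa [inv_inv] at this
  rcases hcase with h | ⟨h, _⟩ | ⟨hDt, h⟩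
  · exact absurd (h ▸ hD) hAc
  · right; right
    obtain ⟨hlayer, hsimple⟩ := layer_eq_and_simple_of_le_component hD h.le hcent hnocomp
    refine ⟨hAl, ?_, ?_⟩
    · rw [hlayer]; exact hsimple
    · rw [hlayer]; exact Cfsg.Agent.Lib.Helper21.qs_not_isMulCommutative hD.2
  · right; left
    have hAle : A ≤ (D ⊔ D.map (MulAut.conj t).toMonoidHom) ⊓
        Subgroup.centralizer ({t} : Set G) := by
      conv_lhs => rw [h]
      exact Subgroup.map_subtype_le _
    exact ⟨D, swap_case ht hA htA hD hDt hAle hcent hnocomp⟩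

end Main

end Cfsg.Agent.Lib.Helper23
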