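import Mathlib
import Cfsg.Prelude.Def_GeometricClasses
import Cfsg.Agent.Lib.Helper99.TWDefs
import Cfsg.Agent.Lib.Helper9.TWUniq

/-!
# S5707 module [PERM] (helper99 #4584): a permutation element of `Ω(Q)`

Permutation matrices of permutations of the multi-indices commuting with `bar` are isometries (by
helper9's `[UNIQ] mem_isometryGroup_of`); the commutator of two of them sends `e_a` to `e_(bar a)` and
fixes `e_y'`.
-/

set_option autoImplicit false

namespace Cfsg.Agent.Lib.Helper23.TW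

open Cfsg.Agent.Lib.Helper99.TW
open scoped Matrix

section
variable {F : Type*} [Field F] {k t : ℕ}

/-- local copy of `[GRAM] gram_apply` -/
theorem gram_apply_aux (c : F) (a b : Idx k t) :
    gram k t c a b = if b = bar a then c else 0 := by
  unfold gram Jm
  rw [Finset.prod_ite_zero]
  simp only [Finset.mem_univ, forall_true_left, Finset.prod_const_one, mul_ite, mul_one, mul_zero]
  congr 1
  apply propext
  constructor
  · intro h; funext i; exact h i
  · intro h i; rw [h]; rfl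

/-- the permutation matrix of `π` as an element of `GL`: `pmGL π *ᵥ v = v ∘ π⁻¹`. -/
noncomputable def pmGL (π : Equiv.Perm (Idx k t)) : GL (Idx k t) F :=
  (Units.map (Matrix.permMatrixHom (n := Idx k t) (R := F))) (toUnits π)

theorem pmGL_mul (π π' : Equiv.Perm (Idx k t)) :
    (pmGL (π * π') : GL (Idx k t) F) = pmGL π * pmGL π' := by
  unfold pmGL
  rw [map_mul, map_mul]

theorem pmGL_inv (π : Equiv.Perm (Idx k t)) :
    (pmGL π⁻¹ : GL (Idx k t) F) = (pmGL π)⁻¹ := by
  unfold pmGL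
  rw [map_inv, map_inv]

theorem pmGL_val (π : Equiv.Perm (Idx k t)) :
    ((pmGL π : GL (Idx k t) F) : Matrix (Idx k t) (Idx k t) F) = (π⁻¹).permMatrix F := rfl

theorem pmGL_mulVec_single (π : Equiv.Perm (Idx k t)) (y : Idx k t) :
    ((pmGL π : GL (Idx k t) F) : Matrix (Idx k t) (Idx k t) F) *ᵥ Pi.single y 1 =
      Pi.single (π y) 1 := by
  rw [pmGL_val, Matrix.permMatrix_mulVec]
  ext x
  simp only [Function.comp_apply, Pi.single_apply]
  congr 1
  apply propext
  rw [Equiv.Perm.inv_eq_iff_eq]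

end

end Cfsg.Agent.Lib.Helper23.TW

namespace Cfsg.Agent.Lib.Helper23.TW

open Cfsg.Agent.Lib.Helper99.TW
open scoped Matrix

section
variable {F : Type*} [Field F] {k t : ℕ}

theorem bar_bar (a : Idx k t) : bar (bar a) = a := by
  funext i
  simp [bar]

theorem bar_injective : Function.Injective (bar : Idx k t → Idx k t) := by
  intro a b h
  have := congrArg bar h
  rwa [bar_bar, bar_bar] at this

/-- a permutation commuting with `bar` gives an isometry -/
theorem pmGL_mem_isometryGroup (Q : (Idx k t → F) → F)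
    (hsm : ∀ (c : F) (v : Idx k t → F), Q (c • v) = c ^ 2 * Q v) (c : F)
    (hpol : ∀ x y, QuadraticMap.polar Q x y = x ⬝ᵥ (gram k t c *ᵥ y))
    (hb : ∀ a : Idx k t, Q (Pi.single a 1) = 0) (π : Equiv.Perm (Idx k t))
    (hπ : ∀ x, π (bar x) = bar (π x)) :
    (pmGL π : GL (Idx k t) F) ∈ Cfsg.isometryGroup F Q := by
  apply Cfsg.Agent.Lib.Helper9.TW.mem_isometryGroup_of Q hsm c hpol hb
  · rw [pmGL_val, Matrix.transpose_permMatrix, inv_inv]
    ext x y
    rw [Equiv.Perm.permMatrix, Equiv.Perm.permMatrix, PEquiv.toMatrix_toPEquiv_mul,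
      PEquiv.mul_toMatrix_toPEquiv]
    simp only [Matrix.submatrix_apply, id_eq]
    rw [gram_apply_aux, gram_apply_aux]
    congr 1
    apply propext
    rw [Equiv.Perm.inv_def, Equiv.symm_symm, ← hπ]
    exact π.injective.eq_iff
  · intro a
    rw [pmGL_mulVec_single]
    exact hb _

end

end Cfsg.Agent.Lib.Helper23.TW

namespace Cfsg.Agent.Lib.Helper23.TW

open Cfsg.Agent.Lib.Helper99.TW
open scoped Matrix

section
variable {F : Type*} [Field F] {k t : ℕ}

theorem perm_inv_fix {α : Type*} (σ : Equiv.Perm α) {y : α} (h : σ y = y) : σ⁻¹ y = y := by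
  rw [Equiv.Perm.inv_eq_iff_eq, h]

open scoped commutatorElement in
/-- **S5707-[PERM]** -/
theorem exists_omega (hrev : ∀ l : Fin k, Fin.rev l ≠ l) (Q : (Idx k t → F) → F)
    (hsm : ∀ (c : F) (v : Idx k t → F), Q (c • v) = c ^ 2 * Q v) (c : F)
    (hpol : ∀ x y, QuadraticMap.polar Q x y = x ⬝ᵥ (gram k t c *ᵥ y))
    (hb : ∀ a : Idx k t, Q (Pi.single a 1) = 0) (a b y' : Idx k t)
    (hab : a ≠ b) (hab' : a ≠ bar b) (hy1 : y' ≠ a) (hy2 : y' ≠ bar a) (hy3 : y' ≠ b)
    (hy4 : y' ≠ bar b) :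
    ∃ ω : GL (Idx k t) F, ω ∈ Cfsg.Geo.omegaGL Q ∧
      (ω : Matrix (Idx k t) (Idx k t) F) *ᵥ Pi.single a 1 = Pi.single (bar a) 1 ∧
      ((ω⁻¹ : GL (Idx k t) F) : Matrix (Idx k t) (Idx k t) F) *ᵥ Pi.single y' 1 =
        Pi.single y' 1 := by
  have hbar : ∀ x : Idx k t, bar x ≠ x := by
    intro x h
    have hi : ∃ i : Fin t, True := by
      by_contra hcon
      apply hab
      funext i
      exact absurd ⟨i, trivial⟩ hcon
    obtain ⟨i, -⟩ := hi
    exact hrev (x i) (congrFun h i)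
  have h1 : bar a ≠ a := hbar a
  have h2 : bar a ≠ b := by
    intro h
    apply hab'
    rw [← h, bar_bar]
  have h3 : bar b ≠ a := fun h => hab' h.symm
  have h4 : bar b ≠ bar a := fun h => hab (bar_injective h).symm
  have h5 : bar b ≠ b := hbar b
  have hbinj : Function.Injective (bar : Idx k t → Idx k t) := bar_injective
  set πr : Equiv.Perm (Idx k t) := Equiv.swap a (bar a) with hπr_def
  set πs : Equiv.Perm (Idx k t) := Equiv.swap a b * Equiv.swap (bar a) (bar b) with hπs_def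
  have hπr : ∀ x, πr (bar x) = bar (πr x) := by
    intro x
    rw [hπr_def, ← hbinj.swap_apply, bar_bar, Equiv.swap_comm]
  have hdisj : Equiv.swap a b * Equiv.swap (bar a) (bar b) =
      Equiv.swap (bar a) (bar b) * Equiv.swap a b := by
    apply (Equiv.Perm.disjoint_swap_swap _).commute.eq
    simp [hab, h1.symm, h2.symm, h3.symm, h4.symm, h5.symm]
  have hπs : ∀ x, πs (bar x) = bar (πs x) := by
    intro x
    rw [hπs_def]
    simp only [Equiv.Perm.mul_apply]
    rw [← hbinj.swap_apply, ← hbinj.swap_apply, bar_bar, bar_bar]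
    have := congrArg (fun σ : Equiv.Perm (Idx k t) => σ (bar x)) hdisj
    simpa only [Equiv.Perm.mul_apply] using this
  have hS := pmGL_mem_isometryGroup Q hsm c hpol hb πs hπs
  have hR := pmGL_mem_isometryGroup Q hsm c hpol hb πr hπr
  -- values
  have hr_a : πr a = bar a := Equiv.swap_apply_left _ _
  have hr_bb : πr (bar b) = bar b := Equiv.swap_apply_of_ne_of_ne h3 h4
  have hs_ba : πs (bar a) = bar b := by
    rw [hπs_def, Equiv.Perm.mul_apply, Equiv.swap_apply_left,
      Equiv.swap_apply_of_ne_of_ne h3 h5]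
  have hs_bb : πs (bar b) = bar a := by
    rw [hπs_def, Equiv.Perm.mul_apply, Equiv.swap_apply_right,
      Equiv.swap_apply_of_ne_of_ne h1 h2]
  have hr_y : πr y' = y' := Equiv.swap_apply_of_ne_of_ne hy1 hy2
  have hs_y : πs y' = y' := by
    rw [hπs_def, Equiv.Perm.mul_apply, Equiv.swap_apply_of_ne_of_ne hy2 hy4,
      Equiv.swap_apply_of_ne_of_ne hy1 hy3]
  have hrinv_a : πr⁻¹ a = bar a := by
    rw [hπr_def, Equiv.swap_inv]; exact hr_a
  have hsinv_ba : πs⁻¹ (bar a) = bar b := by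
    rw [Equiv.Perm.inv_eq_iff_eq, hs_bb]
  refine ⟨pmGL (πs * πr * πs⁻¹ * πr⁻¹), ?_, ?_, ?_⟩
  · unfold Cfsg.Geo.omegaGL
    refine ⟨⁅(⟨pmGL πs, hS⟩ : Cfsg.isometryGroup F Q), ⟨pmGL πr, hR⟩⁆, ?_, ?_⟩
    · exact Subgroup.commutator_mem_commutator (Subgroup.mem_top _) (Subgroup.mem_top _)
    · rw [commutatorElement_def]
      simp [pmGL_mul, pmGL_inv]
  · rw [pmGL_mulVec_single]
    congr 1
    rw [Equiv.Perm.mul_apply, Equiv.Perm.mul_apply, Equiv.Perm.mul_apply, hrinv_a, hsinv_ba,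
      hr_bb, hs_bb]
  · rw [← pmGL_inv, pmGL_mulVec_single]
    congr 1
    apply perm_inv_fix
    rw [Equiv.Perm.mul_apply, Equiv.Perm.mul_apply, Equiv.Perm.mul_apply, perm_inv_fix _ hr_y,
      perm_inv_fix _ hs_y, hr_y, hs_y]

end

end Cfsg.Agent.Lib.Helper23.TW
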