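-- helper23: modules TWOUT-[A-RANK1], [A-RANK1H], [A-PAIR] of helper91's project TWOUT (S2129/S2130):
-- an automorphism preserving the two root subgroups of a rank one subgroup `Φ(SL₂(F))` acts on it by
-- `x(t) ↦ x(c τ t)`, `y(t) ↦ y(c⁻¹ τ t)`, `h(t) ↦ h(τ t)` with `τ` a field automorphism.
import Mathlib
import Cfsg.Agent.Lib.Helper91.TwOut.Defs
import Cfsg.Agent.Lib.Helper87.AutField

set_option autoImplicit false

namespace Cfsg.Agent.Lib.Helper23.TwOut

open Cfsg Cfsg.Agent.Lib.Helper91.TwOut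

variable {Γ : Type*} [Group Γ]

section SL2

variable {F : Type*} [Field F]

theorem sx_zero : sx (0 : F) = 1 := by
  apply Subtype.ext
  rw [coe_sx, Matrix.SpecialLinearGroup.coe_one, Matrix.one_fin_two]

theorem sy_zero : sy (0 : F) = 1 := by
  apply Subtype.ext
  rw [coe_sy, Matrix.SpecialLinearGroup.coe_one, Matrix.one_fin_two]

theorem sx_add (a b : F) : sx a * sx b = sx (a + b) := by
  apply Subtype.ext
  simp only [Matrix.SpecialLinearGroup.coe_mul, coe_sx, Matrix.mul_fin_two]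
  congr 1
  ext i j
  fin_cases i <;> fin_cases j <;> simp [add_comm]

theorem sy_add (a b : F) : sy a * sy b = sy (a + b) := by
  apply Subtype.ext
  simp only [Matrix.SpecialLinearGroup.coe_mul, coe_sy, Matrix.mul_fin_two]
  congr 1
  ext i j
  fin_cases i <;> fin_cases j <;> simp

theorem sl2_rel_one' (t : F) (ht : t ≠ 0) :
    (sx t * sy (-t⁻¹) * sx t) * sx 1 = sy (-(t⁻¹) ^ 2) * (sx t * sy (-t⁻¹) * sx t) := by
  apply Subtype.ext
  simp only [Matrix.SpecialLinearGroup.coe_mul, coe_sx, coe_sy, Matrix.mul_fin_two]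
  congr 1
  ext i j
  fin_cases i <;> fin_cases j <;>
    simp only [Matrix.cons_val', Matrix.cons_val_zero, Matrix.cons_val_one, Matrix.empty_val',
      Matrix.cons_val_fin_one, Fin.zero_eta, Fin.mk_one, Fin.isValue] <;> field_simp <;> ring

theorem sl2_rel_two' (a b c : F) (hs : 1 + a * b ≠ 0) :
    (sx a * sy b * sx a) * sx c =
      (sy (b / (1 + a * b)) * sx ((1 + a * b) ^ 2 * c) * sy (-(b / (1 + a * b)))) *
        (sx a * sy b * sx a) := by
  have hs' : 1 + b * a ≠ 0 := by rwa [mul_comm b a]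
  apply Subtype.ext
  simp only [Matrix.SpecialLinearGroup.coe_mul, coe_sx, coe_sy, Matrix.mul_fin_two]
  congr 1
  ext i j
  fin_cases i <;> fin_cases j <;>
    simp only [Matrix.cons_val', Matrix.cons_val_zero, Matrix.cons_val_one, Matrix.empty_val',
      Matrix.cons_val_fin_one, Fin.zero_eta, Fin.mk_one, Fin.isValue] <;> field_simp <;> ring

theorem wn_eq (t : Fˣ) : sx (t : F) * sy (-((t⁻¹ : Fˣ) : F)) * sx (t : F) = wn t := by
  have ht : (t : F) ≠ 0 := t.ne_zero
  apply Subtype.ext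
  simp only [Matrix.SpecialLinearGroup.coe_mul, coe_sx, coe_sy, coe_wn, Matrix.mul_fin_two,
    Units.val_inv_eq_inv_val]
  congr 1
  ext i j
  fin_cases i <;> fin_cases j <;>
    simp only [Matrix.cons_val', Matrix.cons_val_zero, Matrix.cons_val_one, Matrix.empty_val',
      Matrix.cons_val_fin_one, Fin.zero_eta, Fin.mk_one, Fin.isValue] <;> field_simp <;> ring

theorem wn_eq_hd_mul (a b : Fˣ) : wn a = hd (a / b) * wn b := by
  have ha : (a : F) ≠ 0 := a.ne_zero
  have hb : (b : F) ≠ 0 := b.ne_zero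
  apply Subtype.ext
  simp only [Matrix.SpecialLinearGroup.coe_mul, coe_hd, coe_wn, Matrix.mul_fin_two,
    Units.val_inv_eq_inv_val, Units.val_div_eq_div_val]
  congr 1
  ext i j
  fin_cases i <;> fin_cases j <;>
    simp only [Matrix.cons_val', Matrix.cons_val_zero, Matrix.cons_val_one, Matrix.empty_val',
      Matrix.cons_val_fin_one, Fin.zero_eta, Fin.mk_one, Fin.isValue] <;> field_simp <;> ring

theorem wn_mul_inv (a b : Fˣ) : wn a * (wn b)⁻¹ = hd (a / b) := by
  rw [mul_inv_eq_iff_eq_mul]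
  exact wn_eq_hd_mul a b

theorem hd_eq (t : Fˣ) : hd t = wn t * (wn (1 : Fˣ))⁻¹ := by
  rw [wn_mul_inv, div_one]

theorem hd_mul_sx (t : Fˣ) (u : F) : hd t * sx u = sx ((t : F) ^ 2 * u) * hd t := by
  have ht : (t : F) ≠ 0 := t.ne_zero
  apply Subtype.ext
  simp only [Matrix.SpecialLinearGroup.coe_mul, coe_hd, coe_sx, Matrix.mul_fin_two,
    Units.val_inv_eq_inv_val]
  congr 1
  ext i j
  fin_cases i <;> fin_cases j <;>
    simp only [Matrix.cons_val', Matrix.cons_val_zero, Matrix.cons_val_one, Matrix.empty_val',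
      Matrix.cons_val_fin_one, Fin.zero_eta, Fin.mk_one, Fin.isValue] <;> field_simp <;> ring

theorem hd_conj_sx (t : Fˣ) (u : F) : hd t * sx u * (hd t)⁻¹ = sx ((t : F) ^ 2 * u) := by
  rw [mul_inv_eq_iff_eq_mul]
  exact hd_mul_sx t u

end SL2


section PartII

variable {F : Type*} [Field F]

/-- **[A-RANK1]** -/
theorem rank_one_abs (Φ : Matrix.SpecialLinearGroup (Fin 2) F →* Γ)
    (hinj : Function.Injective fun t : F => Φ (sx t))
    (hxy : ∀ t u : F, t ≠ 0 → Φ (sx t) ≠ Φ (sy u))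
    (θ : Γ ≃* Γ) (f g : F → F) (hf : ∀ t, θ (Φ (sx t)) = Φ (sx (f t)))
    (hg : ∀ t, θ (Φ (sy t)) = Φ (sy (g t))) :
    ∀ t : F, t ≠ 0 → f t ≠ 0 ∧ g (-t⁻¹) = -(f t)⁻¹ := by
  -- `f` kills only `0`
  have hf0 : ∀ t, f t = 0 → t = 0 := by
    intro t h0
    have h1 : θ (Φ (sx t)) = 1 := by rw [hf, h0, sx_zero, map_one]
    have h2 : Φ (sx t) = 1 := θ.injective (h1.trans (map_one θ).symm)
    have h3 : Φ (sx t) = Φ (sx 0) := by rw [h2, sx_zero, map_one]
    exact hinj h3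
  intro t ht
  have hft : f t ≠ 0 := fun h0 => ht (hf0 t h0)
  refine ⟨hft, ?_⟩
  have hc : f 1 ≠ 0 := fun h0 => one_ne_zero (hf0 1 h0)
  have hrel1 : (Φ (sx t) * Φ (sy (-t⁻¹)) * Φ (sx t)) * Φ (sx 1) =
      Φ (sy (-(t⁻¹) ^ 2)) * (Φ (sx t) * Φ (sy (-t⁻¹)) * Φ (sx t)) := by
    have := congrArg Φ (sl2_rel_one' t ht)
    simpa only [map_mul] using this
  have hrel2 : (Φ (sx (f t)) * Φ (sy (g (-t⁻¹))) * Φ (sx (f t))) * Φ (sx (f 1)) =
      Φ (sy (g (-(t⁻¹) ^ 2))) * (Φ (sx (f t)) * Φ (sy (g (-t⁻¹))) * Φ (sx (f t))) := by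
    have := congrArg θ hrel1
    simpa only [map_mul, hf, hg] using this
  by_contra hne
  have hs : 1 + f t * g (-t⁻¹) ≠ 0 := by
    intro hs
    apply hne
    have h1 : f t * g (-t⁻¹) = -1 := by linear_combination hs
    calc g (-t⁻¹) = (f t)⁻¹ * (f t * g (-t⁻¹)) := by field_simp
      _ = -(f t)⁻¹ := by rw [h1]; ring
  have hrel3 := congrArg Φ (sl2_rel_two' (f t) (g (-t⁻¹)) (f 1) hs)
  simp only [map_mul] at hrel3
  rw [hrel2] at hrel3
  have hrel4 := mul_right_cancel hrel3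
  set β := g (-t⁻¹) / (1 + f t * g (-t⁻¹)) with hβ
  set γ := (1 + f t * g (-t⁻¹)) ^ 2 * f 1 with hγ
  have hγ0 : γ ≠ 0 := mul_ne_zero (pow_ne_zero 2 hs) hc
  have hfin : Φ (sx γ) = Φ (sy (g (-(t⁻¹) ^ 2))) := by
    have e1 : Φ (sy (-β)) * Φ (sy β) = 1 := by
      rw [← map_mul, sy_add, neg_add_cancel, sy_zero, map_one]
    have h1 : Φ (sx γ) = Φ (sy (-β)) *
        (Φ (sy β) * Φ (sx γ) * Φ (sy (-β))) * Φ (sy β) := by
      calc Φ (sx γ) = (Φ (sy (-β)) * Φ (sy β)) * Φ (sx γ) * (Φ (sy (-β)) * Φ (sy β)) := by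
            rw [e1, one_mul, mul_one]
        _ = _ := by group
    rw [h1, ← hrel4, ← map_mul, ← map_mul, sy_add, sy_add]
    congr 2
    ring
  exact hxy γ _ hγ0 hfin

/-- **[A-RANK1H]** -/
theorem rank_one_torus (Φ : Matrix.SpecialLinearGroup (Fin 2) F →* Γ)
    (hinj : Function.Injective fun t : F => Φ (sx t))
    (hxy : ∀ t u : F, t ≠ 0 → Φ (sx t) ≠ Φ (sy u))
    (θ : Γ ≃* Γ) (f g : F → F) (hf : ∀ t, θ (Φ (sx t)) = Φ (sx (f t)))
    (hg : ∀ t, θ (Φ (sy t)) = Φ (sy (g t)))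
    (t a b : Fˣ) (ha : f (t : F) = a) (hb : f 1 = b) : θ (Φ (hd t)) = Φ (hd (a / b)) := by
  have key : ∀ (s c : Fˣ), f (s : F) = c → θ (Φ (wn s)) = Φ (wn c) := by
    intro s c hc
    have h1 := (rank_one_abs Φ hinj hxy θ f g hf hg (s : F) s.ne_zero).2
    rw [← wn_eq s, ← wn_eq c, map_mul, map_mul, map_mul, map_mul, hf, hg,
      Units.val_inv_eq_inv_val, h1, hc, map_mul, map_mul, Units.val_inv_eq_inv_val]
  have h1 := key t a ha
  have h2 := key 1 b (by rw [Units.val_one]; exact hb)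
  rw [hd_eq t, map_mul, map_mul, map_inv, map_inv, h1, h2, ← map_inv, ← map_mul, wn_mul_inv]

/-- [A-FIELD], local copy (helper1 has the module): an additive injective map with
`f (t² u) (f 1)² = (f t)² f u` is a field automorphism up to the factor `f 1`. -/
theorem field_of_sq_rel' [Finite F] (f : F → F) (hadd : ∀ a b, f (a + b) = f a + f b)
    (hinj : Function.Injective f)
    (hsq : ∀ t u : F, t ≠ 0 → f (t ^ 2 * u) * (f 1) ^ 2 = (f t) ^ 2 * f u) :
    ∃ τ : F ≃+* F, ∀ t, f t = f 1 * τ t := by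
  have h0 : f 0 = 0 := by
    have := hadd 0 0
    rw [add_zero] at this
    exact left_eq_add.mp this
  have hc : f 1 ≠ 0 := by
    intro h1
    exact one_ne_zero (hinj (h1.trans h0.symm))
  have hmul := Cfsg.Agent.Lib.Helper87.Aut.mul_of_sq_rel (fun t => f t / f 1)
    (fun a b => by
      show f (a + b) / f 1 = f a / f 1 + f b / f 1
      rw [hadd, add_div])
    (div_self hc)
    (fun t u ht => by
      show f (t ^ 2 * u) / f 1 = (f t / f 1) ^ 2 * (f u / f 1)
      have := hsq t u ht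
      field_simp
      linear_combination this)
  let τ₀ : F →+* F :=
    { toFun := fun t => f t / f 1
      map_one' := div_self hc
      map_mul' := hmul
      map_zero' := by
        show f 0 / f 1 = 0
        rw [h0, zero_div]
      map_add' := fun a b => by
        show f (a + b) / f 1 = f a / f 1 + f b / f 1
        rw [hadd, add_div] }
  have hτinj : Function.Injective τ₀ := τ₀.injective
  have hτbij : Function.Bijective τ₀ := ⟨hτinj, Finite.injective_iff_surjective.mp hτinj⟩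
  refine ⟨RingEquiv.ofBijective τ₀ hτbij, ?_⟩
  intro t
  show f t = f 1 * (f t / f 1)
  field_simp

/-- **[A-PAIR]** the normal form of an automorphism on a rank one subgroup. -/
theorem pair_nf [Finite F] (Φ : Matrix.SpecialLinearGroup (Fin 2) F →* Γ)
    (hinj : Function.Injective fun t : F => Φ (sx t))
    (hinjy : Function.Injective fun t : F => Φ (sy t))
    (hxy : ∀ t u : F, t ≠ 0 → Φ (sx t) ≠ Φ (sy u))
    (θ : Γ ≃* Γ) (hX : ∀ t, ∃ t', θ (Φ (sx t)) = Φ (sx t'))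
    (hY : ∀ t, ∃ t', θ (Φ (sy t)) = Φ (sy t')) :
    ∃ (c : Fˣ) (τ : F ≃+* F), (∀ t, θ (Φ (sx t)) = Φ (sx ((c : F) * τ t))) ∧
      (∀ t, θ (Φ (sy t)) = Φ (sy (((c⁻¹ : Fˣ) : F) * τ t))) ∧
      ∀ t : Fˣ, θ (Φ (hd t)) = Φ (hd (Units.map (τ : F →* F) t)) := by
  choose f hf using hX
  choose g hg using hY
  have hadd : ∀ a b, f (a + b) = f a + f b := by
    intro a b
    apply hinj
    show Φ (sx (f (a + b))) = Φ (sx (f a + f b))
    rw [← hf, ← sx_add, map_mul, map_mul, hf, hf, ← map_mul, sx_add]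
  have hfinj : Function.Injective f := by
    intro a b hab
    apply hinj
    show Φ (sx a) = Φ (sx b)
    apply θ.injective
    rw [hf, hf, hab]
  have hr1 := rank_one_abs Φ hinj hxy θ f g hf hg
  have hc : f 1 ≠ 0 := (hr1 1 one_ne_zero).1
  have hsq : ∀ t u : F, t ≠ 0 → f (t ^ 2 * u) * (f 1) ^ 2 = (f t) ^ 2 * f u := by
    intro t u ht
    have hft : f t ≠ 0 := (hr1 t ht).1
    have h1 := rank_one_torus Φ hinj hxy θ f g hf hg (Units.mk0 t ht) (Units.mk0 (f t) hft)
      (Units.mk0 (f 1) hc) rfl rfl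
    have h2 := congrArg (fun x => θ (Φ x)) (hd_conj_sx (Units.mk0 t ht) u)
    simp only [map_mul, map_inv, h1, hf] at h2
    rw [← map_inv, ← map_mul, ← map_mul, hd_conj_sx] at h2
    have h3 := hinj h2
    simp only [Units.val_div_eq_div_val, Units.val_mk0] at h3
    rw [← h3]
    field_simp
  obtain ⟨τ, hτ⟩ := field_of_sq_rel' f hadd hfinj hsq
  have hg0 : g 0 = 0 := by
    apply hinjy
    show Φ (sy (g 0)) = Φ (sy 0)
    rw [← hg, sy_zero, map_one, map_one]
  refine ⟨Units.mk0 (f 1) hc, τ, ?_, ?_, ?_⟩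
  · intro t
    rw [hf, Units.val_mk0, ← hτ]
  · intro s
    rw [hg, Units.val_inv_eq_inv_val, Units.val_mk0]
    by_cases hs : s = 0
    · rw [hs, hg0, map_zero, mul_zero]
    · have hs' : -s⁻¹ ≠ 0 := neg_ne_zero.mpr (inv_ne_zero hs)
      have h1 := (hr1 (-s⁻¹) hs').2
      have h2 : -(-s⁻¹)⁻¹ = s := by
        rw [inv_neg, inv_inv, neg_neg]
      rw [h2] at h1
      rw [h1, hτ, map_neg, map_inv₀]
      have hτs : τ s ≠ 0 := fun h0 => hs ((map_eq_zero τ).mp h0)
      field_simp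
  · intro t
    have hft : f (t : F) ≠ 0 := (hr1 (t : F) t.ne_zero).1
    have h1 := rank_one_torus Φ hinj hxy θ f g hf hg t (Units.mk0 (f (t : F)) hft)
      (Units.mk0 (f 1) hc) rfl rfl
    rw [h1]
    congr 2
    apply Units.ext
    rw [Units.val_div_eq_div_val, Units.val_mk0, Units.val_mk0, hτ (t : F)]
    show f 1 * τ (t : F) / f 1 = τ (t : F)
    field_simp

end PartII

end Cfsg.Agent.Lib.Helper23.TwOut
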