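/-
helper23 shared library: the Brauer–Wielandt counting formula for a noncyclic elementary abelian
`p`-group `A` acting on a `p'`-group `Q`:
  `∏_{B hyperplane of A} |C_Q(B)| * |C_Q(A)| = |Q| * |C_Q(A)| ^ (number of hyperplanes)`.
All declarations live in `Cfsg.Agent.Lib.Helper23`.
-/
import Mathlib
import Cfsg.Prelude.Def_Transfer
import Cfsg.Agent.S0023
import Cfsg.Agent.S0024
import Cfsg.Agent.S0025
import Cfsg.Agent.S0026
import Cfsg.Agent.S1324
import Cfsg.Agent.Lib.Helper50.ChermakDelgado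
import Cfsg.Agent.Lib.Helper23.TypeP
import Cfsg.Agent.Lib.Helper23.FaithfulAbelian

set_option autoImplicit false

namespace Cfsg.Agent.Lib.Helper23

open scoped Pointwise commutatorElement

section Basics

variable {H : Type*} [Group H]

/-- The hyperplanes of `A`: subgroups of index `p`. -/
abbrev Hyp (p : ℕ) (A : Subgroup H) : Type _ :=
  {B : Subgroup H // B ≤ A ∧ B.relIndex A = p}

noncomputable instance instFintypeHyp [Finite H] (p : ℕ) (A : Subgroup H) : Fintype (Hyp p A) :=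
  Fintype.ofFinite _

/-- `A` normalizes `U ⊓ V` when it normalizes both. -/
theorem le_normalizer_inf' {A U V : Subgroup H} (hU : A ≤ Subgroup.normalizer (U : Set H))
    (hV : A ≤ Subgroup.normalizer (V : Set H)) :
    A ≤ Subgroup.normalizer ((U ⊓ V : Subgroup H) : Set H) := by
  intro a ha
  have h1 := hU ha
  have h2 := hV ha
  rw [Subgroup.mem_normalizer_iff] at h1 h2 ⊢
  intro h
  rw [Subgroup.mem_inf, Subgroup.mem_inf, ← h1 h, ← h2 h]

/-- `A` normalizes `U ⊔ V` when it normalizes both. -/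
theorem le_normalizer_sup' {A U V : Subgroup H} (hU : A ≤ Subgroup.normalizer (U : Set H))
    (hV : A ≤ Subgroup.normalizer (V : Set H)) :
    A ≤ Subgroup.normalizer ((U ⊔ V : Subgroup H) : Set H) := by
  intro a ha
  rw [Subgroup.mem_normalizer_iff_map_conj_eq, Subgroup.map_sup,
    Subgroup.mem_normalizer_iff_map_conj_eq.mp (hU ha),
    Subgroup.mem_normalizer_iff_map_conj_eq.mp (hV ha)]

/-- A commutative group normalizes the centralizer of each of its subgroups. -/
theorem le_normalizer_centralizer_of_comm {A B : Subgroup H}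
    (hAc : ∀ a ∈ A, ∀ b ∈ A, a * b = b * a) (hBA : B ≤ A) :
    A ≤ Subgroup.normalizer ((Subgroup.centralizer (B : Set H) : Subgroup H) : Set H) := by
  intro a ha
  apply Subgroup.le_normalizer
  rw [Subgroup.mem_centralizer_iff]
  intro b hb
  exact hAc b (hBA hb) a ha

/-- `A` normalizes `C_Q(B)`. -/
theorem wld_le_normalizer_inf_centralizer {A B Q : Subgroup H}
    (hAc : ∀ a ∈ A, ∀ b ∈ A, a * b = b * a) (hBA : B ≤ A)
    (hAQ : A ≤ Subgroup.normalizer (Q : Set H)) :
    A ≤ Subgroup.normalizer ((Q ⊓ Subgroup.centralizer (B : Set H) : Subgroup H) : Set H) :=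
  le_normalizer_inf' hAQ (le_normalizer_centralizer_of_comm hAc hBA)

end Basics

section Formula

variable {H : Type*} [Group H] [Finite H]

/-- Two distinct hyperplanes generate `A`. -/
theorem hyp_sup_eq {p : ℕ} [hp : Fact p.Prime] {A : Subgroup H} (B₁ B₂ : Hyp p A)
    (hne : B₁ ≠ B₂) : (B₁ : Subgroup H) ⊔ (B₂ : Subgroup H) = A := by
  obtain ⟨B₁, h₁A, h₁p⟩ := B₁
  obtain ⟨B₂, h₂A, h₂p⟩ := B₂
  have hne' : B₁ ≠ B₂ := fun h => hne (Subtype.ext h)
  have c1 := card_mul_relIndex_of_le h₁A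
  have c2 := card_mul_relIndex_of_le h₂A
  rw [h₁p] at c1
  rw [h₂p] at c2
  have hcard : Nat.card ↥B₁ = Nat.card ↥B₂ :=
    Nat.eq_of_mul_eq_mul_right hp.out.pos (c1.trans c2.symm)
  have h21 : ¬ B₂ ≤ B₁ := by
    intro hle
    exact hne' (Subgroup.eq_of_le_of_card_ge hle (le_of_eq hcard)).symm
  show B₁ ⊔ B₂ = A
  have hSA : B₁ ⊔ B₂ ≤ A := sup_le h₁A h₂A
  obtain ⟨m, hm⟩ := Subgroup.card_dvd_of_le (le_sup_left : B₁ ≤ B₁ ⊔ B₂)
  have hdvd : Nat.card ↥(B₁ ⊔ B₂ : Subgroup H) ∣ Nat.card ↥B₁ * p := by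
    rw [c1]; exact Subgroup.card_dvd_of_le hSA
  rw [hm] at hdvd
  have hB₁pos : 0 < Nat.card ↥B₁ := Nat.card_pos
  have hmp : m ∣ p := Nat.dvd_of_mul_dvd_mul_left hB₁pos hdvd
  rcases (Nat.dvd_prime hp.out).mp hmp with h1 | h1
  · exfalso
    apply h21
    rw [h1, mul_one] at hm
    have := Subgroup.eq_of_le_of_card_ge (le_sup_left : B₁ ≤ B₁ ⊔ B₂) (le_of_eq hm)
    rw [this]
    exact le_sup_right
  · apply Subgroup.eq_of_le_of_card_ge hSA
    rw [hm, h1, c1]

/-- A maximal `A`-invariant subgroup of the nontrivial `q`-group `Q` containing `Q'`. -/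
theorem exists_max_invariant {q : ℕ} [hq : Fact q.Prime] {A Q : Subgroup H} (hQ : IsPGroup q ↥Q)
    (hQbot : Q ≠ ⊥) (hAQ : A ≤ Subgroup.normalizer (Q : Set H)) :
    ∃ N : Subgroup H, ⁅Q, Q⁆ ≤ N ∧ N ≤ Q ∧ N ≠ Q ∧ A ≤ Subgroup.normalizer (N : Set H) ∧
      ∀ X : Subgroup H, N ≤ X → X ≤ Q → A ≤ Subgroup.normalizer (X : Set H) → X = N ∨ X = Q := by
  classical
  have hcomm_ne : ⁅Q, Q⁆ ≠ Q := by
    intro h
    have : Nontrivial ↥Q := (Subgroup.nontrivial_iff_ne_bot Q).mpr hQbot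
    have hnil : Group.IsNilpotent ↥Q := hQ.isNilpotent
    have hsol : Group.IsSolvable ↥Q := inferInstance
    have hlt := Group.IsSolvable.commutator_lt_top_of_nontrivial ↥Q
    apply hlt.ne
    apply Subgroup.map_injective Q.subtype_injective
    rw [Subgroup.map_subtype_commutator, h, ← MonoidHom.range_eq_map, Q.range_subtype]
  have hAcomm : A ≤ Subgroup.normalizer ((⁅Q, Q⁆ : Subgroup H) : Set H) := by
    intro a ha
    have h1 := hAQ ha
    rw [Subgroup.mem_normalizer_iff_map_conj_eq] at h1 ⊢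
    rw [Subgroup.map_commutator, h1]
  obtain ⟨N, hN, hNmax⟩ := exists_maximal_of_wellFoundedGT
    (fun X : Subgroup H => ⁅Q, Q⁆ ≤ X ∧ X ≤ Q ∧ X ≠ Q ∧ A ≤ Subgroup.normalizer (X : Set H))
    ⟨⁅Q, Q⁆, le_rfl, Subgroup.commutator_le_self Q, hcomm_ne, hAcomm⟩
  refine ⟨N, hN.1, hN.2.1, hN.2.2.1, hN.2.2.2, ?_⟩
  intro X hNX hXQ hAX
  by_cases hXeq : X = Q
  · exact Or.inr hXeq
  · left
    exact le_antisymm (hNmax ⟨hN.1.trans hNX, hXQ, hXeq, hAX⟩ hNX) hNX

omit [Finite H] in
/-- A subgroup between `Q'` and `Q` is normalized by `Q`. -/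
theorem le_normalizer_of_commutator_le {Q N : Subgroup H} (h1 : ⁅Q, Q⁆ ≤ N) (h2 : N ≤ Q) :
    Q ≤ Subgroup.normalizer (N : Set H) := by
  apply le_normalizer_of_forall_conj_mem
  intro x hx n hn
  have h3 : x * n * x⁻¹ = ⁅x, n⁆ * n := by
    rw [commutatorElement_def]; group
  rw [h3]
  exact N.mul_mem (h1 (Subgroup.commutator_mem_commutator hx (h2 hn))) hn

/-- The order relation between `C_Q(B)`, `C_N(B)` and `C_Q(B) N`. -/
theorem card_centralizer_mul {Q N C : Subgroup H} (hNQ : N ≤ Q)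
    (hQN : Q ≤ Subgroup.normalizer (N : Set H)) :
    Nat.card ↥(Q ⊓ C : Subgroup H) * Nat.card ↥N =
      Nat.card ↥(N ⊓ C : Subgroup H) * Nat.card ↥((Q ⊓ C) ⊔ N : Subgroup H) := by
  have h1 := Cfsg.Agent.Lib.Helper50.card_mul_card_eq_card_inf_mul_card_mul (Q ⊓ C) N
  have h2 : (((Q ⊓ C) ⊔ N : Subgroup H) : Set H) = ((Q ⊓ C : Subgroup H) : Set H) * (N : Set H) :=
    Subgroup.coe_mul_of_left_le_normalizer_right _ _ (inf_le_left.trans hQN)
  have h3 : (Q ⊓ C) ⊓ N = N ⊓ C := by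
    ext x
    simp only [Subgroup.mem_inf]
    constructor
    · rintro ⟨⟨_, hc⟩, hn⟩
      exact ⟨hn, hc⟩
    · rintro ⟨hn, hc⟩
      exact ⟨⟨hNQ hn, hc⟩, hn⟩
  rw [h3] at h1
  rw [h1]
  congr 1
  exact (Nat.card_congr (Equiv.setCongr h2)).symm

/-- Coprimality of an elementary abelian `p`-group and a `q`-group, `q ≠ p`. -/
theorem coprime_card_of_elemAb_of_pgroup {p : ℕ} [hp : Fact p.Prime] {q : ℕ} [hq : Fact q.Prime]
    (hqp : q ≠ p) {A Q : Subgroup H} (hA : Cfsg.IsElementaryAbelian p A) (hQ : IsPGroup q ↥Q) :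
    (Nat.card ↥A).Coprime (Nat.card ↥Q) := by
  obtain ⟨k, hk⟩ := Cfsg.Agent.S1324.card_eq_pow (p := p) hA
  obtain ⟨j, hj⟩ := IsPGroup.iff_card.mp hQ
  rw [hk, hj]
  exact Nat.Coprime.pow _ _ ((Nat.coprime_primes hp.out hq.out).mpr (Ne.symm hqp))

/-- If two distinct hyperplanes `B₁, B₂` satisfy `C_Q(Bᵢ) N = Q`, then `C_Q(A) N = Q`. -/
theorem sup_centralizer_eq_of_two {p : ℕ} [hp : Fact p.Prime] {q : ℕ} [hq : Fact q.Prime]
    (hqp : q ≠ p) {A Q N : Subgroup H} (hA : Cfsg.IsElementaryAbelian p A) (hQ : IsPGroup q ↥Q)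
    (hAQ : A ≤ Subgroup.normalizer (Q : Set H)) (hNQ : N ≤ Q)
    (hQN : Q ≤ Subgroup.normalizer (N : Set H)) (hAN : A ≤ Subgroup.normalizer (N : Set H))
    (B₁ B₂ : Hyp p A) (hne : B₁ ≠ B₂)
    (h₁ : (Q ⊓ Subgroup.centralizer ((B₁ : Subgroup H) : Set H)) ⊔ N = Q)
    (h₂ : (Q ⊓ Subgroup.centralizer ((B₂ : Subgroup H) : Set H)) ⊔ N = Q) :
    (Q ⊓ Subgroup.centralizer (A : Set H)) ⊔ N = Q := by
  classical
  let T : Subgroup H :=
    { carrier := {a | a ∈ A ∧ ∀ x ∈ Q, x * a * x⁻¹ * a⁻¹ ∈ N}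
      one_mem' := ⟨A.one_mem, fun x _ => by simp⟩
      mul_mem' := by
        rintro a b ⟨ha, ha'⟩ ⟨hb, hb'⟩
        refine ⟨A.mul_mem ha hb, fun x hx => ?_⟩
        have e : x * (a * b) * x⁻¹ * (a * b)⁻¹ =
            (x * a * x⁻¹ * a⁻¹) * (a * (x * b * x⁻¹ * b⁻¹) * a⁻¹) := by group
        rw [e]
        exact N.mul_mem (ha' x hx) (conj_mem_of_le_normalizer' hAN ha (hb' x hx))
      inv_mem' := by
        rintro a ⟨ha, ha'⟩
        refine ⟨A.inv_mem ha, fun x hx => ?_⟩
        have e : x * a⁻¹ * x⁻¹ * a⁻¹⁻¹ = a⁻¹ * (x * a * x⁻¹ * a⁻¹)⁻¹ * a⁻¹⁻¹ := by group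
        rw [e]
        exact conj_mem_of_le_normalizer' hAN (A.inv_mem ha) (N.inv_mem (ha' x hx)) }
  have hBT : ∀ B : Hyp p A, (Q ⊓ Subgroup.centralizer ((B : Subgroup H) : Set H)) ⊔ N = Q →
      (B : Subgroup H) ≤ T := by
    intro B hB b hb
    refine ⟨B.2.1 hb, fun x hx => ?_⟩
    have hx' : x ∈ (((Q ⊓ Subgroup.centralizer ((B : Subgroup H) : Set H)) ⊔ N : Subgroup H) :
        Set H) := by
      rw [hB]; exact hx
    rw [Subgroup.coe_mul_of_left_le_normalizer_right _ _ (inf_le_left.trans hQN)] at hx'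
    obtain ⟨u, hu, n, hn, rfl⟩ := hx'
    have hub : b * u = u * b := (Subgroup.mem_centralizer_iff.mp hu.2) b hb
    have hub' : u⁻¹ * b⁻¹ = b⁻¹ * u⁻¹ := by
      rw [← mul_inv_rev, ← mul_inv_rev, hub]
    have e : u * n * b * (u * n)⁻¹ * b⁻¹ = u * (n * (b * n⁻¹ * b⁻¹)) * u⁻¹ := by
      calc u * n * b * (u * n)⁻¹ * b⁻¹ = u * n * b * n⁻¹ * (u⁻¹ * b⁻¹) := by group
        _ = u * n * b * n⁻¹ * (b⁻¹ * u⁻¹) := by rw [hub']
        _ = u * (n * (b * n⁻¹ * b⁻¹)) * u⁻¹ := by group
    rw [e]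
    exact conj_mem_of_le_normalizer' hQN hu.1
      (N.mul_mem hn (conj_mem_of_le_normalizer' hAN (B.2.1 hb) (N.inv_mem hn)))
  have hTA : A ≤ T := by
    rw [← hyp_sup_eq B₁ B₂ hne]
    exact sup_le (hBT B₁ h₁) (hBT B₂ h₂)
  have hcomm : ⁅Q, A⁆ ≤ N := by
    rw [Subgroup.commutator_le]
    intro x hx a ha
    rw [commutatorElement_def]
    exact (hTA ha).2 x hx
  have hnil : Group.IsNilpotent ↥Q := hQ.isNilpotent
  have hsol : Group.IsSolvable ↥Q := inferInstance
  have h26 := Cfsg.Agent.S0026.result A Q hAQ (coprime_card_of_elemAb_of_pgroup hqp hA hQ)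
    (Or.inr hsol)
  apply le_antisymm (sup_le inf_le_left hNQ)
  calc Q = ⁅Q, A⁆ ⊔ (Q ⊓ Subgroup.centralizer (A : Set H)) := h26.symm
    _ ≤ N ⊔ (Q ⊓ Subgroup.centralizer (A : Set H)) := sup_le_sup_right hcomm _
    _ = (Q ⊓ Subgroup.centralizer (A : Set H)) ⊔ N := sup_comm _ _

/-- `p` does not divide the order of a `q`-group, `q ≠ p`. -/
theorem not_dvd_card_of_pgroup {p : ℕ} [hp : Fact p.Prime] {q : ℕ} [hq : Fact q.Prime]
    (hqp : q ≠ p) {Q : Subgroup H} (hQ : IsPGroup q ↥Q) : ¬ p ∣ Nat.card ↥Q := by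
  obtain ⟨j, hj⟩ := IsPGroup.iff_card.mp hQ
  rw [hj]
  intro h
  exact hqp ((Nat.prime_dvd_prime_iff_eq hp.out hq.out).mp (hp.out.dvd_of_dvd_pow h)).symm

/-- **Brauer–Wielandt formula** for an `A`-invariant `q`-group `Q`, `A` noncyclic elementary
abelian of exponent `p ≠ q`. -/
theorem wielandt_pgroup (p : ℕ) [hp : Fact p.Prime] (A : Subgroup H)
    (hA : Cfsg.IsElementaryAbelian p A) (hA2 : p ^ 2 ≤ Nat.card ↥A) (q : ℕ) [hq : Fact q.Prime]
    (hqp : q ≠ p) :
    ∀ (n : ℕ) (Q : Subgroup H), Nat.card ↥Q = n → IsPGroup q ↥Q →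
      A ≤ Subgroup.normalizer (Q : Set H) →
      (∏ B : Hyp p A, Nat.card ↥(Q ⊓ Subgroup.centralizer ((B : Subgroup H) : Set H))) *
          Nat.card ↥(Q ⊓ Subgroup.centralizer (A : Set H)) =
        Nat.card ↥Q * Nat.card ↥(Q ⊓ Subgroup.centralizer (A : Set H)) ^
          Fintype.card (Hyp p A) := by
  classical
  have hAc := Cfsg.Agent.S1324.comm_of_mem hA
  intro n
  induction n using Nat.strong_induction_on with
  | _ n ih =>
    intro Q hcard hQ hAQ
    by_cases hQbot : Q = ⊥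
    · subst hQbot
      simp
    obtain ⟨N, hN1, hNQ, hNne, hAN, hNmax⟩ := exists_max_invariant hQ hQbot hAQ
    have hQN : Q ≤ Subgroup.normalizer (N : Set H) := le_normalizer_of_commutator_le hN1 hNQ
    have hNlt : Nat.card ↥N < n := by
      rw [← hcard]
      by_contra hge
      exact hNne (Subgroup.eq_of_le_of_card_ge hNQ (not_lt.mp hge))
    have hIH := ih _ hNlt N rfl (hQ.to_le hNQ) hAN
    have hNm : Nat.card ↥N * N.relIndex Q = Nat.card ↥Q := card_mul_relIndex_of_le hNQ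
    have hNpos : 0 < Nat.card ↥N := Nat.card_pos
    -- dichotomy for subgroups `B ≤ A`
    have hdich : ∀ B : Subgroup H, B ≤ A →
        ((Q ⊓ Subgroup.centralizer (B : Set H)) ⊔ N = N ∧
          Nat.card ↥(Q ⊓ Subgroup.centralizer (B : Set H)) =
            Nat.card ↥(N ⊓ Subgroup.centralizer (B : Set H))) ∨
        ((Q ⊓ Subgroup.centralizer (B : Set H)) ⊔ N = Q ∧
          Nat.card ↥(Q ⊓ Subgroup.centralizer (B : Set H)) =
            Nat.card ↥(N ⊓ Subgroup.centralizer (B : Set H)) * N.relIndex Q) := by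
      intro B hBA
      have hAX : A ≤ Subgroup.normalizer
          (((Q ⊓ Subgroup.centralizer (B : Set H)) ⊔ N : Subgroup H) : Set H) :=
        le_normalizer_sup' (wld_le_normalizer_inf_centralizer hAc hBA hAQ) hAN
      have hrel := card_centralizer_mul (C := Subgroup.centralizer (B : Set H)) hNQ hQN
      rcases hNmax _ le_sup_right (sup_le inf_le_left hNQ) hAX with h | h
      · left
        refine ⟨h, ?_⟩
        rw [h] at hrel
        exact Nat.eq_of_mul_eq_mul_right hNpos hrel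
      · right
        refine ⟨h, ?_⟩
        rw [h, ← hNm] at hrel
        have h2 : Nat.card ↥(Q ⊓ Subgroup.centralizer (B : Set H)) * Nat.card ↥N =
            (Nat.card ↥(N ⊓ Subgroup.centralizer (B : Set H)) * N.relIndex Q) * Nat.card ↥N := by
          rw [hrel]; ring
        exact Nat.eq_of_mul_eq_mul_right hNpos h2
    rcases hdich A le_rfl with ⟨hXA, hcA⟩ | ⟨hXA, hcA⟩
    · -- Case II: `C_Q(A) ≤ N`
      have hex : ∃ B₀ : Hyp p A,
          (Q ⊓ Subgroup.centralizer ((B₀ : Subgroup H) : Set H)) ⊔ N = Q := by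
        by_contra hcon
        push Not at hcon
        apply hNne
        apply le_antisymm hNQ
        have hgen := Cfsg.Agent.S1324.result p A Q hA hA2 (not_dvd_card_of_pgroup hqp hQ) hAQ
        rw [hgen]
        apply iSup_le
        rintro ⟨B, hBA, hBp⟩
        show Q ⊓ Subgroup.centralizer (B : Set H) ≤ N
        obtain ⟨k, hk⟩ := Cfsg.Agent.S1324.card_eq_pow (p := p) hA
        have hdvd : B.relIndex A ∣ p ^ k := by
          rw [← hk]; exact Subgroup.relIndex_dvd_card B A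
        obtain ⟨j, -, hj⟩ := (Nat.dvd_prime_pow hp.out).mp hdvd
        rcases j with _ | _ | j
        · -- relIndex = 1
          rw [pow_zero] at hj
          have hAB : A ≤ B := Subgroup.relIndex_eq_one.mp hj
          calc Q ⊓ Subgroup.centralizer (B : Set H)
              ≤ Q ⊓ Subgroup.centralizer (A : Set H) :=
                inf_le_inf_left _ (Subgroup.centralizer_le hAB)
            _ ≤ (Q ⊓ Subgroup.centralizer (A : Set H)) ⊔ N := le_sup_left
            _ = N := hXA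
        · rw [zero_add, pow_one] at hj
          rcases hdich B hBA with ⟨h, -⟩ | ⟨h, -⟩
          · rw [← h]; exact le_sup_left
          · exact absurd h (hcon ⟨B, hBA, hj⟩)
        · exfalso
          rw [hj] at hBp
          have h2 : p ^ 2 ≤ p ^ (j + 1 + 1) := Nat.pow_le_pow_right hp.out.pos (by omega)
          have h3 := hp.out.two_le
          nlinarith
      obtain ⟨B₀, hB₀⟩ := hex
      have huniq : ∀ B : Hyp p A,
          (Q ⊓ Subgroup.centralizer ((B : Subgroup H) : Set H)) ⊔ N = Q → B = B₀ := by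
        intro B hB
        by_contra hne
        have := sup_centralizer_eq_of_two hqp hA hQ hAQ hNQ hQN hAN B B₀ hne hB hB₀
        rw [hXA] at this
        exact hNne this
      have hc : ∀ B : Hyp p A,
          Nat.card ↥(Q ⊓ Subgroup.centralizer ((B : Subgroup H) : Set H)) =
            Nat.card ↥(N ⊓ Subgroup.centralizer ((B : Subgroup H) : Set H)) *
              (if B = B₀ then N.relIndex Q else 1) := by
        intro B
        by_cases hB : B = B₀
        · rw [if_pos hB]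
          rcases hdich B B.2.1 with ⟨h, -⟩ | ⟨-, h⟩
          · exfalso
            rw [hB, hB₀] at h
            exact hNne h.symm
          · exact h
        · rw [if_neg hB, mul_one]
          rcases hdich B B.2.1 with ⟨-, h⟩ | ⟨h, -⟩
          · exact h
          · exact absurd (huniq B h) hB
      rw [Finset.prod_congr rfl (fun B _ => hc B), Finset.prod_mul_distrib,
        Finset.prod_ite_eq' Finset.univ B₀ (fun _ => N.relIndex Q), if_pos (Finset.mem_univ _),
        hcA, ← hNm]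
      calc (∏ B : Hyp p A, Nat.card ↥(N ⊓ Subgroup.centralizer ((B : Subgroup H) : Set H))) *
            N.relIndex Q * Nat.card ↥(N ⊓ Subgroup.centralizer (A : Set H))
          = ((∏ B : Hyp p A, Nat.card ↥(N ⊓ Subgroup.centralizer ((B : Subgroup H) : Set H))) *
            Nat.card ↥(N ⊓ Subgroup.centralizer (A : Set H))) * N.relIndex Q := by ring
        _ = (Nat.card ↥N * Nat.card ↥(N ⊓ Subgroup.centralizer (A : Set H)) ^
            Fintype.card (Hyp p A)) * N.relIndex Q := by rw [hIH]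
        _ = Nat.card ↥N * N.relIndex Q * Nat.card ↥(N ⊓ Subgroup.centralizer (A : Set H)) ^
            Fintype.card (Hyp p A) := by ring
    · -- Case I: `C_Q(A) N = Q`
      have hc : ∀ B : Hyp p A,
          Nat.card ↥(Q ⊓ Subgroup.centralizer ((B : Subgroup H) : Set H)) =
            Nat.card ↥(N ⊓ Subgroup.centralizer ((B : Subgroup H) : Set H)) * N.relIndex Q := by
        intro B
        have hXB : (Q ⊓ Subgroup.centralizer ((B : Subgroup H) : Set H)) ⊔ N = Q := by
          apply le_antisymm (sup_le inf_le_left hNQ)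
          calc Q = (Q ⊓ Subgroup.centralizer (A : Set H)) ⊔ N := hXA.symm
            _ ≤ (Q ⊓ Subgroup.centralizer ((B : Subgroup H) : Set H)) ⊔ N :=
              sup_le_sup_right (inf_le_inf_left _ (Subgroup.centralizer_le B.2.1)) _
        rcases hdich B B.2.1 with ⟨h, -⟩ | ⟨-, h⟩
        · exfalso
          rw [hXB] at h
          exact hNne h.symm
        · exact h
      rw [Finset.prod_congr rfl (fun B _ => hc B), Finset.prod_mul_distrib, Finset.prod_const,
        Finset.card_univ, hcA, ← hNm, mul_pow]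
      calc (∏ B : Hyp p A, Nat.card ↥(N ⊓ Subgroup.centralizer ((B : Subgroup H) : Set H))) *
            N.relIndex Q ^ Fintype.card (Hyp p A) *
            (Nat.card ↥(N ⊓ Subgroup.centralizer (A : Set H)) * N.relIndex Q)
          = ((∏ B : Hyp p A, Nat.card ↥(N ⊓ Subgroup.centralizer ((B : Subgroup H) : Set H))) *
            Nat.card ↥(N ⊓ Subgroup.centralizer (A : Set H))) *
            (N.relIndex Q ^ Fintype.card (Hyp p A) * N.relIndex Q) := by ring
        _ = (Nat.card ↥N * Nat.card ↥(N ⊓ Subgroup.centralizer (A : Set H)) ^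
            Fintype.card (Hyp p A)) *
            (N.relIndex Q ^ Fintype.card (Hyp p A) * N.relIndex Q) := by rw [hIH]
        _ = Nat.card ↥N * N.relIndex Q *
            (Nat.card ↥(N ⊓ Subgroup.centralizer (A : Set H)) ^ Fintype.card (Hyp p A) *
              N.relIndex Q ^ Fintype.card (Hyp p A)) := by ring

/-- For an `A`-invariant Sylow `q`-subgroup `P` of `K` (coprime action, `A` commutative) and
`B ≤ A`, the group `C_P(B)` has the same `q`-part as `C_K(B)`. -/
theorem factorization_inf_centralizer_sylow {q : ℕ} [hq : Fact q.Prime] {A K : Subgroup H}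
    (hAc : ∀ a ∈ A, ∀ b ∈ A, a * b = b * a)
    (hAK : A ≤ Subgroup.normalizer (K : Set H)) (hcop : (Nat.card ↥A).Coprime (Nat.card ↥K))
    (hAsolv : Group.IsSolvable ↥A) (P : Sylow q ↥K)
    (hP : A ≤ Subgroup.normalizer (((P : Subgroup ↥K).map K.subtype : Subgroup H) : Set H))
    {B : Subgroup H} (hBA : B ≤ A) :
    Nat.card ↥((P : Subgroup ↥K).map K.subtype ⊓ Subgroup.centralizer (B : Set H) : Subgroup H) =
      q ^ (Nat.card ↥(K ⊓ Subgroup.centralizer (B : Set H) : Subgroup H)).factorization q := by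
  classical
  set KB : Subgroup H := K ⊓ Subgroup.centralizer (B : Set H) with hKB
  have hAKB : A ≤ Subgroup.normalizer (KB : Set H) := wld_le_normalizer_inf_centralizer hAc hBA hAK
  have hcopB : (Nat.card ↥A).Coprime (Nat.card ↥KB) :=
    hcop.coprime_dvd_right (Subgroup.card_dvd_of_le inf_le_left)
  obtain ⟨T, hT⟩ := Cfsg.Agent.S0023.result A KB hAKB hcopB (Or.inl hAsolv) q
  set T' : Subgroup H := (T : Subgroup ↥KB).map KB.subtype with hT'
  have hT'KB : T' ≤ KB := Subgroup.map_subtype_le _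
  have hT'card : Nat.card ↥T' = q ^ (Nat.card ↥KB).factorization q := by
    rw [hT', Subgroup.card_map_of_injective (Subgroup.subtype_injective KB),
      T.card_eq_multiplicity]
  have hT'q : IsPGroup q ↥T' := T.isPGroup'.map _
  obtain ⟨P', hTP', hP'⟩ := Cfsg.Agent.S0025.result A K hAK hcop (Or.inl hAsolv) q T'
    (hT'KB.trans inf_le_left) hT'q hT
  obtain ⟨c, hcA, hc⟩ := Cfsg.Agent.S0024.result A K hAK hcop (Or.inl hAsolv) q P' P hP' hP
  set SB : Subgroup H := (P : Subgroup ↥K).map K.subtype ⊓ Subgroup.centralizer (B : Set H)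
    with hSB
  have hconj : T'.map (MulAut.conj (c : H)).toMonoidHom ≤ SB := by
    rintro _ ⟨x, hx, rfl⟩
    obtain ⟨y, hy, rfl⟩ := hTP' hx
    refine ⟨?_, ?_⟩
    · refine ⟨c * y * c⁻¹, ?_, rfl⟩
      have h1 : MulAut.conj c • y ∈ MulAut.conj c • (P' : Subgroup ↥K) :=
        Subgroup.smul_mem_pointwise_smul _ _ _ hy
      have h2 : MulAut.conj c • (P' : Subgroup ↥K) = (P : Subgroup ↥K) := by
        rw [← hc]; rfl
      rw [h2] at h1
      exact h1
    · show (c : H) * (y : H) * (c : H)⁻¹ ∈ Subgroup.centralizer (B : Set H)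
      have hyB : (y : H) ∈ Subgroup.centralizer (B : Set H) := (hT'KB hx).2
      rw [Subgroup.mem_centralizer_iff] at hyB hcA ⊢
      intro b hb
      have h1 := hyB b hb
      have h2 := hcA b (hBA hb)
      have h2' : (c : H)⁻¹ * b = b * (c : H)⁻¹ := by
        calc (c : H)⁻¹ * b = (c : H)⁻¹ * (b * (c : H)) * (c : H)⁻¹ := by group
          _ = (c : H)⁻¹ * ((c : H) * b) * (c : H)⁻¹ := by rw [h2]
          _ = b * (c : H)⁻¹ := by group
      calc b * ((c : H) * (y : H) * (c : H)⁻¹) = (b * (c : H)) * (y : H) * (c : H)⁻¹ := by group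
        _ = ((c : H) * b) * (y : H) * (c : H)⁻¹ := by rw [h2]
        _ = (c : H) * (b * (y : H)) * (c : H)⁻¹ := by group
        _ = (c : H) * ((y : H) * b) * (c : H)⁻¹ := by rw [h1]
        _ = (c : H) * (y : H) * (b * (c : H)⁻¹) := by group
        _ = (c : H) * (y : H) * ((c : H)⁻¹ * b) := by rw [h2']
        _ = (c : H) * (y : H) * (c : H)⁻¹ * b := by group
  have hcard_conj : Nat.card ↥(T'.map (MulAut.conj (c : H)).toMonoidHom) = Nat.card ↥T' :=
    Subgroup.card_map_of_injective (MulAut.conj (c : H)).injective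
  have hSBq : IsPGroup q ↥SB := (P.isPGroup'.map K.subtype).to_le inf_le_left
  obtain ⟨j, hj⟩ := IsPGroup.iff_card.mp hSBq
  have hSBKB : SB ≤ KB := by
    intro x hx
    exact ⟨Subgroup.map_subtype_le _ hx.1, hx.2⟩
  have h1 : q ^ (Nat.card ↥KB).factorization q ∣ q ^ j := by
    rw [← hj, ← hT'card, ← hcard_conj]
    exact Subgroup.card_dvd_of_le hconj
  have h2 : q ^ j ∣ Nat.card ↥KB := by
    rw [← hj]; exact Subgroup.card_dvd_of_le hSBKB
  have hKBne : Nat.card ↥KB ≠ 0 := Nat.card_pos.ne'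
  have h3 : j ≤ (Nat.card ↥KB).factorization q :=
    (hq.out.pow_dvd_iff_le_factorization hKBne).mp h2
  have h4 : (Nat.card ↥KB).factorization q ≤ j :=
    (Nat.pow_dvd_pow_iff_le_right hq.out.one_lt).mp h1
  rw [hj, le_antisymm h3 h4]

/-- **Brauer–Wielandt formula** for an `A`-invariant `p'`-group `K`, `A` noncyclic elementary
abelian of exponent `p`:
`∏_{B hyperplane} |C_K(B)| * |C_K(A)| = |K| * |C_K(A)| ^ (number of hyperplanes)`. -/
theorem wielandt_formula (p : ℕ) [hp : Fact p.Prime] (A : Subgroup H)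
    (hA : Cfsg.IsElementaryAbelian p A) (hA2 : p ^ 2 ≤ Nat.card ↥A) (K : Subgroup H)
    (hK : ¬ p ∣ Nat.card ↥K) (hAK : A ≤ Subgroup.normalizer (K : Set H)) :
    (∏ B : Hyp p A, Nat.card ↥(K ⊓ Subgroup.centralizer ((B : Subgroup H) : Set H))) *
        Nat.card ↥(K ⊓ Subgroup.centralizer (A : Set H)) =
      Nat.card ↥K * Nat.card ↥(K ⊓ Subgroup.centralizer (A : Set H)) ^
        Fintype.card (Hyp p A) := by
  classical
  have hAc := Cfsg.Agent.S1324.comm_of_mem hA
  have hcpos : ∀ B : Subgroup H, 0 < Nat.card ↥(K ⊓ Subgroup.centralizer (B : Set H)) :=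
    fun _ => Nat.card_pos
  have hK0 : Nat.card ↥K ≠ 0 := Nat.card_pos.ne'
  have hterm0 : ∀ B ∈ (Finset.univ : Finset (Hyp p A)),
      Nat.card ↥(K ⊓ Subgroup.centralizer ((B : Subgroup H) : Set H)) ≠ 0 :=
    fun B _ => (hcpos (B : Subgroup H)).ne'
  have hprod0 : (∏ B : Hyp p A,
      Nat.card ↥(K ⊓ Subgroup.centralizer ((B : Subgroup H) : Set H))) ≠ 0 :=
    Finset.prod_ne_zero_iff.mpr hterm0
  have hlhs0 : (∏ B : Hyp p A, Nat.card ↥(K ⊓ Subgroup.centralizer ((B : Subgroup H) : Set H))) *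
      Nat.card ↥(K ⊓ Subgroup.centralizer (A : Set H)) ≠ 0 :=
    mul_ne_zero hprod0 (hcpos A).ne'
  have hrhs0 : Nat.card ↥K * Nat.card ↥(K ⊓ Subgroup.centralizer (A : Set H)) ^
      Fintype.card (Hyp p A) ≠ 0 := mul_ne_zero hK0 (pow_ne_zero _ (hcpos A).ne')
  apply Nat.eq_of_factorization_eq hlhs0 hrhs0
  intro q
  by_cases hqprime : q.Prime
  swap
  · rw [Nat.factorization_eq_zero_of_not_prime _ hqprime,
      Nat.factorization_eq_zero_of_not_prime _ hqprime]
  have : Fact q.Prime := ⟨hqprime⟩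
  rw [Nat.factorization_mul hprod0 (hcpos A).ne',
    Finsupp.add_apply, Nat.factorization_prod hterm0,
    Finsupp.finsetSum_apply,
    Nat.factorization_mul hK0 (pow_ne_zero _ (hcpos A).ne'), Nat.factorization_pow,
    Finsupp.add_apply, Finsupp.smul_apply, smul_eq_mul]
  by_cases hqp : q = p
  · subst hqp
    have hz : ∀ B : Subgroup H,
        (Nat.card ↥(K ⊓ Subgroup.centralizer (B : Set H))).factorization q = 0 := by
      intro B
      apply Nat.factorization_eq_zero_of_not_dvd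
      intro h
      exact hK (h.trans (Subgroup.card_dvd_of_le inf_le_left))
    rw [Finset.sum_eq_zero (fun (B : Hyp q A) _ => hz (B : Subgroup H)), hz A,
      Nat.factorization_eq_zero_of_not_dvd hK]
    simp
  · obtain ⟨k, hk⟩ := Cfsg.Agent.S1324.card_eq_pow (p := p) hA
    have hcop : (Nat.card ↥A).Coprime (Nat.card ↥K) := by
      rw [hk]
      exact Nat.Coprime.pow_left k ((Nat.Prime.coprime_iff_not_dvd hp.out).mpr hK)
    have hAsolv : Group.IsSolvable ↥A :=
      Group.isSolvable_of_comm (fun a b => Subtype.ext (hAc a a.2 b b.2))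
    obtain ⟨P, hP⟩ := Cfsg.Agent.S0023.result A K hAK hcop (Or.inl hAsolv) q
    have hPq : IsPGroup q ↥((P : Subgroup ↥K).map K.subtype : Subgroup H) :=
      P.isPGroup'.map K.subtype
    have hW := wielandt_pgroup p A hA hA2 q hqp _ _ rfl hPq hP
    have hkey : ∀ B : Subgroup H, B ≤ A →
        Nat.card ↥((P : Subgroup ↥K).map K.subtype ⊓ Subgroup.centralizer (B : Set H) :
          Subgroup H) =
        q ^ (Nat.card ↥(K ⊓ Subgroup.centralizer (B : Set H) : Subgroup H)).factorization q :=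
      fun B hBA => factorization_inf_centralizer_sylow hAc hAK hcop hAsolv P hP hBA
    have hPcard : Nat.card ↥((P : Subgroup ↥K).map K.subtype : Subgroup H) =
        q ^ (Nat.card ↥K).factorization q := by
      rw [Subgroup.card_map_of_injective (Subgroup.subtype_injective K), P.card_eq_multiplicity]
    rw [Finset.prod_congr rfl (fun (B : Hyp p A) _ => hkey B B.2.1), hkey A le_rfl, hPcard,
      Finset.prod_pow_eq_pow_sum, ← pow_add, ← pow_mul, ← pow_add] at hW
    have := Nat.pow_right_injective hqprime.two_le hW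
    rw [this, mul_comm]

end Formula

end Cfsg.Agent.Lib.Helper23
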